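import Cfsg.Agent.Chev.Inst
import Cfsg.Agent.Chev.GraphAut

/-!
# The graph symmetries of E₆ and D₄
-/

set_option autoImplicit false
set_option maxRecDepth 100000

namespace CfsgLib.Chev

open Cfsg.Lie

/-- A diagram symmetry of E6 on the roots. -/
def graphE6 : Twisted.Graph chevE6 where
  tau i := [5, 1, 4, 3, 2, 0].getD i 0
  rho r := [0, 1, 2, 5, 16, 3, 6, 17, 8, 19, 22, 11, 26, 30, 33, 35, 4, 7, 18, 9, 20, 23, 10, 21, 24, 25, 12, 27, 31, 34, 13, 28, 32, 14, 29, 15, 56, 42, 57, 39, 43, 58, 37, 40, 44, 59, 46, 47, 50, 61, 48, 51, 62, 53, 64, 67, 36, 38, 41, 45, 60, 49, 52, 63, 54, 65, 68, 55, 66, 69, 70, 71].getD r 0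
  eps r := ([1, 1, 1, 1, -1, 1, 1, -1, 1, -1, -1, 1, -1, 1, -1, 1, -1, -1, 1, -1, 1, 1, -1, 1, 1, 1, -1, 1, -1, 1, 1, -1, 1, -1, 1, 1, 1, 1, -1, 1, -1, 1, 1, -1, 1, -1, 1, 1, 1, -1, 1, 1, -1, 1, -1, -1, 1, -1, 1, -1, 1, -1, -1, 1, -1, 1, 1, -1, 1, 1, 1, 1] : List ℤ).getD r 0
  tau_lt := by decide +kernel
  tau_inj := by decide +kernel
  rho_lt := by decide +kernel
  rho_inj := by decide +kernel
  rho_pos := by decide +kernel
  rho_neg := by decide +kernel
  rho_simple := by decide +kernel
  eps_unit := by decide +kernel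
  eps_neg := by decide +kernel
  eps_simple := by decide +kernel
  cartan_tau := by decide +kernel
  cor_tau := by decide +kernel
  chain_rho := by decide +kernel

/-- A diagram symmetry of D4 on the roots. -/
def graphD4Cyc : Twisted.Graph chevD4 where
  tau i := [2, 1, 3, 0].getD i 0
  rho r := [0, 1, 6, 2, 7, 10, 3, 8, 4, 9, 11, 5, 18, 12, 14, 19, 15, 20, 13, 16, 21, 17, 22, 23].getD r 0
  eps r := ([1, 1, -1, 1, -1, 1, -1, 1, -1, 1, 1, 1, 1, 1, 1, -1, 1, -1, 1, -1, 1, -1, 1, 1] : List ℤ).getD r 0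
  tau_lt := by decide +kernel
  tau_inj := by decide +kernel
  rho_lt := by decide +kernel
  rho_inj := by decide +kernel
  rho_pos := by decide +kernel
  rho_neg := by decide +kernel
  rho_simple := by decide +kernel
  eps_unit := by decide +kernel
  eps_neg := by decide +kernel
  eps_simple := by decide +kernel
  cartan_tau := by decide +kernel
  cor_tau := by decide +kernel
  chain_rho := by decide +kernel

/-- A diagram symmetry of D4 on the roots. -/
def graphD4CycInv : Twisted.Graph chevD4 where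
  tau i := [3, 1, 0, 2].getD i 0
  rho r := [0, 1, 3, 6, 8, 11, 2, 4, 7, 9, 5, 10, 13, 18, 14, 16, 19, 21, 12, 15, 17, 20, 22, 23].getD r 0
  eps r := ([1, 1, 1, -1, -1, 1, -1, -1, 1, 1, 1, 1, 1, 1, 1, 1, -1, -1, 1, -1, -1, 1, 1, 1] : List ℤ).getD r 0
  tau_lt := by decide +kernel
  tau_inj := by decide +kernel
  rho_lt := by decide +kernel
  rho_inj := by decide +kernel
  rho_pos := by decide +kernel
  rho_neg := by decide +kernel
  rho_simple := by decide +kernel
  eps_unit := by decide +kernel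
  eps_neg := by decide +kernel
  eps_simple := by decide +kernel
  cartan_tau := by decide +kernel
  cor_tau := by decide +kernel
  chain_rho := by decide +kernel

theorem simplyLaced_D4 : simplyLaced chevD4 = true := by decide +kernel
theorem simplyLaced_E6 : simplyLaced chevE6 = true := by decide +kernel

end CfsgLib.Chev
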