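import Cfsg.Agent.Chev.DataE6
import Cfsg.Agent.Chev.Checks
import Cfsg.Prelude.Def_ChevE6

/-! Kernel verification of the tables of type E6. -/

set_option autoImplicit false
set_option maxRecDepth 100000

namespace CfsgLib.Chev.DataE6

open CfsgLib.Chev Cfsg.Lie

theorem linked : tbl.Linked chevE6 where
  rank := by decide +kernel
  nroots := by decide +kernel
  simple := by decide +kernel
  neg := by decide +kernel
  cor := by decide +kernel
  car := by decide +kernel
  chain := by decide +kernel

theorem roots_ok : tbl.rootsOK = true := by decide +kernel
theorem pi_ok : tbl.piOK = true := by decide +kernel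
theorem desc_ok : tbl.descOK = true := by decide +kernel
theorem chain_ok : tbl.chainOK = true := by decide +kernel
theorem equiv_ok0 : tbl.equivOK 0 = true := by decide +kernel
theorem equiv_ok1 : tbl.equivOK 1 = true := by decide +kernel
theorem equiv_ok2 : tbl.equivOK 2 = true := by decide +kernel
theorem equiv_ok3 : tbl.equivOK 3 = true := by decide +kernel
theorem equiv_ok4 : tbl.equivOK 4 = true := by decide +kernel
theorem equiv_ok5 : tbl.equivOK 5 = true := by decide +kernel
theorem nmat_ok : tbl.nOK = true := by decide +kernel
theorem add_ok : tbl.addOK = true := by decide +kernel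
theorem comm_ok : tbl.commOK = true := by decide +kernel
theorem cert_ok : tbl.certOK = true := by decide +kernel

theorem valid : tbl.Valid chevE6 where
  linked := linked
  roots := roots_ok
  piok := pi_ok
  desc := desc_ok
  chain := chain_ok
  equiv := by
    intro q hq
    match q, hq with
    | 0, _ => exact equiv_ok0
    | 1, _ => exact equiv_ok1
    | 2, _ => exact equiv_ok2
    | 3, _ => exact equiv_ok3
    | 4, _ => exact equiv_ok4
    | 5, _ => exact equiv_ok5
    | q + 6, hq => exact absurd hq (Nat.not_lt.2 (Nat.le_add_left 6 q))
  nmat := nmat_ok
  add := add_ok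
  comm := comm_ok
  cert := cert_ok

end CfsgLib.Chev.DataE6
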