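import Cfsg.Agent.Chev.Torus
import Cfsg.Agent.Chev.Inst

/-! Smith forms of the seven Cartan matrices and the orders of the diagonal subgroups. -/

set_option autoImplicit false
set_option maxRecDepth 100000

namespace CfsgLib.Chev

open Cfsg.Lie

universe u

/-- An integer matrix from rows. -/
def lmat {l : ℕ} (L : List (List ℤ)) : Matrix (Fin l) (Fin l) ℤ :=
  Matrix.of fun i j => (L.getD (i : ℕ) []).getD (j : ℕ) 0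

/-- A Smith form of the Cartan matrix of a datum. -/
structure TorusCert (D : ChevalleyDatum) where
  d : Fin D.rank → ℕ
  U : Matrix (Fin D.rank) (Fin D.rank) ℤ
  U' : Matrix (Fin D.rank) (Fin D.rank) ℤ
  V : Matrix (Fin D.rank) (Fin D.rank) ℤ
  V' : Matrix (Fin D.rank) (Fin D.rank) ℤ
  hU : U' * U = 1
  hV : V * V' = 1
  hM : U * Matrix.of (fun (i j : Fin D.rank) => D.cartan (j : ℕ) (D.simple (i : ℕ))) * V =
    Matrix.diagonal fun i => (d i : ℤ)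

/-- `(∏ gcd(d i, q - 1)) |H| = (q - 1) ^ l`. -/
theorem TorusCert.card_diagonal {D : ChevalleyDatum} (C : TorusCert D) (S : Sys.{u} D)
    (F : Type u) [Field F] [Finite F] :
    (∏ i, (Nat.card F - 1).gcd (C.d i)) * Nat.card (D.diagonalSubgroup F) =
      (Nat.card F - 1) ^ D.rank := by
  rw [S.card_diag, ← Nat.card_units F]
  exact card_range_smith C.d C.hU C.hV C.hM

noncomputable def torG2 : TorusCert chevG2 where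
  d := fun i => ([1, 1] : List ℕ).getD i 0
  U := lmat [[-1, 0], [2, 1]]
  U' := lmat [[-1, 0], [2, 1]]
  V := lmat [[0, 1], [1, 2]]
  V' := lmat [[-2, 1], [1, 0]]
  hU := by decide +kernel
  hV := by decide +kernel
  hM := by decide +kernel

noncomputable def torB2 : TorusCert chevB2 where
  d := fun i => ([1, 2] : List ℕ).getD i 0
  U := lmat [[-1, 0], [2, 1]]
  U' := lmat [[-1, 0], [2, 1]]
  V := lmat [[0, 1], [1, 2]]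
  V' := lmat [[-2, 1], [1, 0]]
  hU := by decide +kernel
  hV := by decide +kernel
  hM := by decide +kernel

noncomputable def torD4 : TorusCert chevD4 where
  d := fun i => ([1, 1, 2, 2] : List ℕ).getD i 0
  U := lmat [[-1, 0, 0, 0], [-2, -1, 0, 0], [-3, -2, -1, 0], [2, 2, 1, 1]]
  U' := lmat [[-1, 0, 0, 0], [2, -1, 0, 0], [-1, 2, -1, 0], [-1, 0, 1, 1]]
  V := lmat [[0, 0, 0, 1], [1, 0, 0, 2], [0, 1, -1, 1], [0, 0, 1, 2]]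
  V' := lmat [[-2, 1, 0, 0], [-3, 0, 1, 1], [-2, 0, 0, 1], [1, 0, 0, 0]]
  hU := by decide +kernel
  hV := by decide +kernel
  hM := by decide +kernel

noncomputable def torF4 : TorusCert chevF4 where
  d := fun i => ([1, 1, 1, 1] : List ℕ).getD i 0
  U := lmat [[-1, 0, 0, 0], [-2, -1, 0, 0], [-2, -2, -1, 0], [2, 3, 2, 1]]
  U' := lmat [[-1, 0, 0, 0], [2, -1, 0, 0], [-2, 2, -1, 0], [0, -1, 2, 1]]
  V := lmat [[0, 0, 0, 1], [1, 0, 0, 2], [0, 1, 0, 3], [0, 0, 1, 2]]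
  V' := lmat [[-2, 1, 0, 0], [-3, 0, 1, 0], [-2, 0, 0, 1], [1, 0, 0, 0]]
  hU := by decide +kernel
  hV := by decide +kernel
  hM := by decide +kernel

noncomputable def torE6 : TorusCert chevE6 where
  d := fun i => ([1, 1, 1, 1, 1, 3] : List ℕ).getD i 0
  U := lmat [[-1, 0, 0, 0, 0, 0], [0, -1, 0, 0, 0, 0], [1, -2, 0, -1, 0, 0], [2, -3, 0, -2, -1, 0], [-2, 1, -1, 0, 0, 0], [-5, 0, -4, -3, -2, -1]]
  U' := lmat [[-1, 0, 0, 0, 0, 0], [0, -1, 0, 0, 0, 0], [2, -1, 0, 0, -1, 0], [-1, 2, -1, 0, 0, 0], [0, -1, 2, -1, 0, 0], [0, 0, -1, 2, 4, -1]]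
  V := lmat [[0, 0, 0, 0, 1, -2], [0, 0, 0, 0, 2, -3], [1, 0, 0, 0, 2, -4], [0, 1, 0, 0, 4, -6], [0, 0, 1, 0, 4, -5], [0, 0, 0, 1, 4, -4]]
  V' := lmat [[-2, 0, 1, 0, 0, 0], [0, -2, 0, 1, 0, 0], [2, -3, 0, 0, 1, 0], [4, -4, 0, 0, 0, 1], [-3, 2, 0, 0, 0, 0], [-2, 1, 0, 0, 0, 0]]
  hU := by decide +kernel
  hV := by decide +kernel
  hM := by decide +kernel

noncomputable def torE7 : TorusCert chevE7 where
  d := fun i => ([1, 1, 1, 1, 1, 1, 2] : List ℕ).getD i 0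
  U := lmat [[-1, 0, 0, 0, 0, 0, 0], [0, -1, 0, 0, 0, 0, 0], [1, -2, 0, -1, 0, 0, 0], [2, -3, 0, -2, -1, 0, 0], [3, -4, 0, -3, -2, -1, 0], [-2, 1, -1, 0, 0, 0, 0], [-4, -1, -4, -4, -3, -2, -1]]
  U' := lmat [[-1, 0, 0, 0, 0, 0, 0], [0, -1, 0, 0, 0, 0, 0], [2, -1, 0, 0, 0, -1, 0], [-1, 2, -1, 0, 0, 0, 0], [0, -1, 2, -1, 0, 0, 0], [0, 0, -1, 2, -1, 0, 0], [0, 0, 0, -1, 2, 4, -1]]
  V := lmat [[0, 0, 0, 0, 0, 1, -2], [0, 0, 0, 0, 0, 2, -3], [1, 0, 0, 0, 0, 2, -4], [0, 1, 0, 0, 0, 4, -6], [0, 0, 1, 0, 0, 4, -5], [0, 0, 0, 1, 0, 4, -4], [0, 0, 0, 0, 1, 4, -3]]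
  V' := lmat [[-2, 0, 1, 0, 0, 0, 0], [0, -2, 0, 1, 0, 0, 0], [2, -3, 0, 0, 1, 0, 0], [4, -4, 0, 0, 0, 1, 0], [6, -5, 0, 0, 0, 0, 1], [-3, 2, 0, 0, 0, 0, 0], [-2, 1, 0, 0, 0, 0, 0]]
  hU := by decide +kernel
  hV := by decide +kernel
  hM := by decide +kernel

noncomputable def torE8 : TorusCert chevE8 where
  d := fun i => ([1, 1, 1, 1, 1, 1, 1, 1] : List ℕ).getD i 0
  U := lmat [[-1, 0, 0, 0, 0, 0, 0, 0], [0, -1, 0, 0, 0, 0, 0, 0], [1, -2, 0, -1, 0, 0, 0, 0], [2, -3, 0, -2, -1, 0, 0, 0], [3, -4, 0, -3, -2, -1, 0, 0], [4, -5, 0, -4, -3, -2, -1, 0], [-2, 1, -1, 0, 0, 0, 0, 0], [-3, -2, -4, -5, -4, -3, -2, -1]]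
  U' := lmat [[-1, 0, 0, 0, 0, 0, 0, 0], [0, -1, 0, 0, 0, 0, 0, 0], [2, -1, 0, 0, 0, 0, -1, 0], [-1, 2, -1, 0, 0, 0, 0, 0], [0, -1, 2, -1, 0, 0, 0, 0], [0, 0, -1, 2, -1, 0, 0, 0], [0, 0, 0, -1, 2, -1, 0, 0], [0, 0, 0, 0, -1, 2, 4, -1]]
  V := lmat [[0, 0, 0, 0, 0, 0, 1, -2], [0, 0, 0, 0, 0, 0, 2, -3], [1, 0, 0, 0, 0, 0, 2, -4], [0, 1, 0, 0, 0, 0, 4, -6], [0, 0, 1, 0, 0, 0, 4, -5], [0, 0, 0, 1, 0, 0, 4, -4], [0, 0, 0, 0, 1, 0, 4, -3], [0, 0, 0, 0, 0, 1, 4, -2]]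
  V' := lmat [[-2, 0, 1, 0, 0, 0, 0, 0], [0, -2, 0, 1, 0, 0, 0, 0], [2, -3, 0, 0, 1, 0, 0, 0], [4, -4, 0, 0, 0, 1, 0, 0], [6, -5, 0, 0, 0, 0, 1, 0], [8, -6, 0, 0, 0, 0, 0, 1], [-3, 2, 0, 0, 0, 0, 0, 0], [-2, 1, 0, 0, 0, 0, 0, 0]]
  hU := by decide +kernel
  hV := by decide +kernel
  hM := by decide +kernel

end CfsgLib.Chev
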