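import Cfsg.Agent.Chev.Engine

/-! Tables of the datum of type F4, generated from the definition; verified in `Chev.InstF4`. -/

set_option autoImplicit false
set_option maxRecDepth 100000
set_option linter.style.longLine false

namespace CfsgLib.Chev.DataF4

open CfsgLib.Chev

noncomputable def vec : Trie (List ℤ) := .node (.node (.node (.node (.node (.node (.leaf [-2, -4, -3, -2]) (.leaf [0, 2, 2, 1])) (.node (.leaf [0, -2, -1, -1]) (.leaf [2, 4, 3, 2]))) (.node (.node (.leaf [-1, -2, -2, -1]) (.leaf [1, 3, 2, 1])) (.node (.leaf [0, 0, 0, 1]) (.leaf [2, 4, 3, 2])))) (.node (.node (.node (.leaf [-2, -2, -2, -1]) (.leaf [1, 1, 1, 1])) (.node (.leaf [0, -1, 0, 0]) (.leaf [2, 4, 3, 2]))) (.node (.node (.leaf [-1, -1, -1, 0]) (.leaf [2, 3, 2, 1])) (.node (.leaf [0, 1, 1, 0]) (.leaf [2, 4, 3, 2]))))) (.node (.node (.node (.node (.leaf [-2, -4, -2, -1]) (.leaf [1, 1, 0, 0])) (.node (.leaf [0, -1, -1,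 -1]) (.leaf [2, 4, 3, 2]))) (.node (.node (.leaf [-1, -2, -1, 0]) (.leaf [2, 2, 1, 1])) (.node (.leaf [0, 0, 1, 1]) (.leaf [2, 4, 3, 2])))) (.node (.node (.node (.leaf [-2, -2, -1, 0]) (.leaf [1, 2, 1, 1])) (.node (.leaf [0, 0, -1, 0]) (.leaf [2, 4, 3, 2]))) (.node (.node (.leaf [-1, 0, 0, 0]) (.leaf [2, 4, 3, 1])) (.node (.leaf [0, 2, 1, 0]) (.leaf [2, 4, 3, 2])))))) (.node (.node (.node (.node (.node (.leaf [-2, -4, -3, -1]) (.leaf [1, 0, 0, 0])) (.node (.leaf [0, -2, -1, 0]) (.leaf [2, 4, 3, 2]))) (.node (.node (.leaf [-1, -2, -1, -1]) (.leaf [2, 2, 1, 0])) (.node (.leaf [0, 0, 1, 0]) (.leaf [2, 4, 3, 2])))) (.node (.node (.node (.leaf [-2, -2, -1, -1]) (.leaf [1, 2, 1, 0])) (.node (.leaf [0, 0, -1, -1]) (.leaf [2, 4, 3, 2]))) (.node (.node (.leaf [-1, -1, 0, 0]) (.leaf [2, 4, 2, 1])) (.node (.leaf [0, 1, 1, 1]) (.leaf [2, 4, 3, 2]))))) (.node (.node (.node (.node (.leaf [-2, -3, -2, -1]) (.leaf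 [1, 1, 1, 0])) (.node (.leaf [0, -1, -1, 0]) (.leaf [2, 4, 3, 2]))) (.node (.node (.leaf [-1, -1, -1, -1]) (.leaf [2, 2, 2, 1])) (.node (.leaf [0, 1, 0, 0]) (.leaf [2, 4, 3, 2])))) (.node (.node (.node (.leaf [-1, -3, -2, -1]) (.leaf [1, 2, 2, 1])) (.node (.leaf [0, 0, 0, -1]) (.leaf [2, 4, 3, 2]))) (.node (.node (.leaf [0, -2, -2, -1]) (.leaf [2, 4, 3, 2])) (.node (.leaf [0, 2, 1, 1]) (.leaf [2, 4, 3, 2]))))))

noncomputable def rows : Trie (List (ℕ × List (ℕ × ℤ))) := .node (.node (.node (.node (.node (.node (.leaf [(24, [(1, 1)]), (26, [(2, 1)]), (29, [(3, 1)]), (31, [(4, -1)]), (32, [(5, 1)]), (36, [(7, 1)]), (38, [(8, -1)]), (39, [(9, 1)]), (40, [(11, -1)]), (42, [(15, -1)]), (43, [(16, 1)]), (44, [(18, -1)]), (45, [(21, -1)]), (46, [(23, -1)])]) (.leaf [(0, [(5, -1)]), (1, [(6, -1)]), (7, [(13, -1)]), (8, [(14, -1)]), (16, [(25, 1)]), (17, [(26, -1)]), (18, [(28, 1)]), (19, [(29, -1)]),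 (21, [(30, 1)]), (22, [(31, -1)]), (33, [(39, 1)]), (34, [(40, 1)]), (41, [(46, 1)]), (42, [(47, 1)])])) (.node (.leaf [(4, [(0, 1)]), (6, [(2, -1)]), (12, [(7, 1)]), (14, [(9, -1)]), (22, [(15, 1)]), (24, [(17, 1)]), (27, [(18, 1)]), (29, [(20, -1)]), (30, [(23, -1)]), (32, [(25, -1)]), (38, [(33, 1)]), (40, [(35, -1)]), (45, [(41, 1)]), (47, [(43, -1)])]) (.leaf [(1, [(24, 1)]), (2, [(26, 1)]), (3, [(29, 1)]), (4, [(31, -1)]), (5, [(32, 1)]), (7, [(36, 1)]), (8, [(38, -1)]), (9, [(39, 1)]), (11, [(40, -1)]), (15, [(42, -1)]), (16, [(43, 1)]), (18, [(44, -1)]), (21, [(45, -1)]), (23, [(46, -1)])]))) (.node (.node (.leaf [(9, [(0, -2)]), (10, [(1, -2)]), (13, [(3, 1)]), (14, [(4, 2)]), (20, [(7, 1)]), (25, [(9, 1), (0, -1)]), (26, [(10, -1), (1, 1)]), (28, [(11, 1)]), (29, [(12, -1)]), (32, [(14, 1), (4, 1)]), (33, [(15, -2)]), (35, [(18, 1)]), (36, [(19, -1)]), (37, [(21, 2)]), (38, [(22, -2)]),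 (40, [(27, -1)]), (43, [(33, -1), (15, 1)]), (44, [(34, -1)]), (46, [(37, 1), (21, 1)]), (47, [(38, 1), (22, -1)])]) (.leaf [(0, [(11, 1), (30, 1)]), (1, [(12, 1), (31, -1)]), (2, [(13, 1), (32, 1)]), (3, [(14, 1)]), (8, [(27, 1)]), (9, [(28, -1)]), (10, [(29, 1)]), (11, [(30, 2)]), (12, [(31, -2)]), (13, [(32, 2)]), (15, [(34, -1), (45, 1)]), (16, [(35, 1), (46, -1)]), (17, [(36, -1), (47, 1)]), (18, [(37, -1)]), (19, [(38, 1)]), (20, [(39, -1)]), (33, [(44, -1)]), (34, [(45, -2)]), (35, [(46, -2)]), (36, [(47, -2)])])) (.node (.leaf [(0, [(1, -1)]), (5, [(6, -1)]), (9, [(10, -1)]), (11, [(12, -1)]), (16, [(17, -1)]), (18, [(19, -1)]), (21, [(22, -1)]), (25, [(26, 1)]), (28, [(29, 1)]), (30, [(31, 1)]), (35, [(36, 1)]), (37, [(38, 1)]), (41, [(42, 1)]), (46, [(47, 1)])]) (.leaf [(1, [(24, 1)]), (2, [(26, 1)]), (3, [(29, 1)]), (4, [(31, -1)]), (5, [(32, 1)]), (7, [(36, 1)]), (8, [(38, -1)]), (9,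 [(39, 1)]), (11, [(40, -1)]), (15, [(42, -1)]), (16, [(43, 1)]), (18, [(44, -1)]), (21, [(45, -1)]), (23, [(46, -1)])])))) (.node (.node (.node (.leaf [(16, [(0, -1)]), (17, [(1, -1)]), (20, [(3, 1)]), (25, [(5, 1)]), (26, [(6, -1)]), (33, [(8, 1)]), (35, [(11, -1)]), (36, [(12, 1)]), (39, [(14, -1)]), (41, [(21, 1)]), (42, [(22, -1)]), (44, [(27, -1)]), (46, [(30, 1)]), (47, [(31, 1)])]) (.leaf [(0, [(7, -1), (17, -1)]), (3, [(10, -1)]), (4, [(12, -1), (24, -1)]), (5, [(13, -1), (26, -1)]), (7, [(17, 2)]), (8, [(19, 1)]), (9, [(20, 1)]), (12, [(24, 2)]), (13, [(26, 2)]), (14, [(29, 1)]), (18, [(33, -1)]), (21, [(34, -1), (42, -1)]), (23, [(35, -1), (43, -1)]), (27, [(38, -1)]), (28, [(39, -1)]), (30, [(40, -1), (47, -1)]), (34, [(42, 2)]), (35, [(43, 2)]), (37, [(44, 1)]), (40, [(47, 2)])])) (.node (.leaf [(3, [(2, -2)]), (4, [(3, -1), (2, 1)]), (8, [(7, -1)]), (11, [(9, -1)]), (12, [(10, -1)]),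 (14, [(13, -1)]), (18, [(16, -2)]), (19, [(17, -2)]), (21, [(18, 1), (16, -1)]), (22, [(19, 1), (17, -1)]), (28, [(25, -2)]), (29, [(26, -2)]), (30, [(28, 1), (25, -1)]), (31, [(29, 1), (26, -1)]), (34, [(33, 1)]), (37, [(35, 1)]), (38, [(36, 1)]), (40, [(39, 1)]), (44, [(43, 2)]), (45, [(44, 1), (43, 1)])]) (.leaf [(1, [(24, 1)]), (2, [(26, 1)]), (3, [(29, 1)]), (4, [(31, -1)]), (5, [(32, 1)]), (7, [(36, 1)]), (8, [(38, -1)]), (9, [(39, 1)]), (11, [(40, -1)]), (15, [(42, -1)]), (16, [(43, 1)]), (18, [(44, -1)]), (21, [(45, -1)]), (23, [(46, -1)])]))) (.node (.node (.leaf [(7, [(1, -2)]), (9, [(3, 1)]), (11, [(4, 2)]), (13, [(6, -2)]), (16, [(7, -1), (1, 1)]), (18, [(8, -1)]), (20, [(10, 1)]), (23, [(11, 1), (4, 1)]), (25, [(13, 1), (6, -1)]), (28, [(14, 1)]), (33, [(19, -1)]), (34, [(22, -2)]), (36, [(24, -2)]), (37, [(27, -1)]), (39, [(29, 1)]), (40, [(31, 2)]), (41, [(34, 1), (22, -1)]), (43,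 [(36, -1), (24, 1)]), (44, [(38, -1)]), (46, [(40, 1), (31, 1)])]) (.leaf [(0, [(18, 1), (41, -1)]), (1, [(19, 1), (42, 1)]), (2, [(20, 1), (43, -1)]), (4, [(27, 1), (45, -1)]), (5, [(28, -1), (46, 1)]), (6, [(29, 1), (47, -1)]), (7, [(33, 1)]), (8, [(34, 1)]), (9, [(35, -1)]), (10, [(36, 1)]), (11, [(37, -1)]), (12, [(38, 1)]), (13, [(39, -1)]), (14, [(40, -1)]), (18, [(41, -2)]), (19, [(42, 2)]), (20, [(43, -2)]), (27, [(45, -2)]), (28, [(46, -2)]), (29, [(47, -2)])])) (.node (.leaf [(1, [(3, -1), (5, -1)]), (3, [(5, 2)]), (7, [(9, 1)]), (8, [(11, -1)]), (10, [(13, 1)]), (12, [(14, -1)]), (15, [(18, -1), (23, -1)]), (17, [(20, 1), (25, 1)]), (18, [(23, 2)]), (20, [(25, 2)]), (22, [(27, -1), (30, 1)]), (24, [(29, -1), (32, -1)]), (27, [(30, -2)]), (29, [(32, 2)]), (33, [(35, 1)]), (34, [(37, -1)]), (36, [(39, 1)]), (38, [(40, -1)]), (42, [(44, -1), (46, -1)]), (44, [(46, 2)])]) (.leaf [(1, [(24,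 1)]), (2, [(26, 1)]), (3, [(29, 1)]), (4, [(31, -1)]), (5, [(32, 1)]), (7, [(36, 1)]), (8, [(38, -1)]), (9, [(39, 1)]), (11, [(40, -1)]), (15, [(42, -1)]), (16, [(43, 1)]), (18, [(44, -1)]), (21, [(45, -1)]), (23, [(46, -1)])]))))) (.node (.node (.node (.node (.leaf [(21, [(0, 1)]), (22, [(1, 1)]), (27, [(3, 1)]), (30, [(5, -1)]), (31, [(6, 1)]), (34, [(7, 1)]), (37, [(9, -1)]), (38, [(10, 1)]), (40, [(13, -1)]), (41, [(16, -1)]), (42, [(17, 1)]), (44, [(20, -1)]), (46, [(25, -1)]), (47, [(26, -1)])]) (.leaf [(2, [(7, -1), (15, -1)]), (3, [(8, -1)]), (5, [(11, 1), (21, 1)]), (6, [(12, 1), (22, 1)]), (7, [(15, 2)]), (9, [(18, -1)]), (10, [(19, -1)]), (11, [(21, 2)]), (12, [(22, 2)]), (14, [(27, 1)]), (20, [(33, -1)]), (25, [(35, -1), (41, 1)]), (26, [(36, -1), (42, 1)]), (28, [(37, 1)]), (29, [(38, 1)]), (32, [(40, -1), (45, -1)]), (35, [(41, -2)]), (36, [(42, -2)]), (39, [(44, 1)]), (40, [(45,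 2)])])) (.node (.leaf [(3, [(0, -2)]), (6, [(3, -1), (0, 1)]), (10, [(7, -1)]), (12, [(8, 1)]), (13, [(9, 1)]), (14, [(11, -1)]), (19, [(15, 2)]), (20, [(16, 2)]), (24, [(19, 1), (15, 1)]), (26, [(20, 1), (16, 1)]), (27, [(21, -2)]), (28, [(23, -2)]), (31, [(27, -1), (21, 1)]), (32, [(28, -1), (23, 1)]), (36, [(33, 1)]), (38, [(34, -1)]), (39, [(35, -1)]), (40, [(37, 1)]), (44, [(41, 2)]), (47, [(44, 1), (41, 1)])]) (.leaf [(1, [(24, 1)]), (2, [(26, 1)]), (3, [(29, 1)]), (4, [(31, -1)]), (5, [(32, 1)]), (7, [(36, 1)]), (8, [(38, -1)]), (9, [(39, 1)]), (11, [(40, -1)]), (15, [(42, -1)]), (16, [(43, 1)]), (18, [(44, -1)]), (21, [(45, -1)]), (23, [(46, -1)])]))) (.node (.node (.leaf [(8, [(1, 2)]), (9, [(2, 2)]), (11, [(3, 1)]), (14, [(6, 2)]), (18, [(7, 1)]), (21, [(8, -1), (1, -1)]), (23, [(9, 1), (2, 1)]), (27, [(12, 1)]), (28, [(13, -1)]), (30, [(14, 1), (6, 1)]), (33, [(17, -2)]), (34, [(19,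 1)]), (35, [(20, -1)]), (38, [(24, -2)]), (39, [(26, 2)]), (40, [(29, -1)]), (41, [(33, -1), (17, 1)]), (44, [(36, -1)]), (45, [(38, -1), (24, 1)]), (46, [(39, -1), (26, -1)])]) (.leaf [(0, [(15, 1)]), (2, [(17, -1)]), (3, [(19, -1)]), (4, [(22, 1)]), (6, [(24, 1)]), (9, [(33, 1)]), (11, [(34, -1)]), (13, [(36, 1)]), (14, [(38, -1)]), (23, [(41, -1)]), (25, [(43, -1)]), (28, [(44, 1)]), (30, [(45, 1)]), (32, [(47, -1)])])) (.node (.leaf [(0, [(2, -1)]), (4, [(6, 1)]), (8, [(10, 1)]), (11, [(13, -1)]), (15, [(17, 1)]), (18, [(20, -1)]), (22, [(24, 1)]), (23, [(25, -1)]), (27, [(29, 1)]), (30, [(32, -1)]), (34, [(36, 1)]), (37, [(39, -1)]), (41, [(43, -1)]), (45, [(47, 1)])]) (.leaf [(1, [(24, 1)]), (2, [(26, 1)]), (3, [(29, 1)]), (4, [(31, -1)]), (5, [(32, 1)]), (7, [(36, 1)]), (8, [(38, -1)]), (9, [(39, 1)]), (11, [(40, -1)]), (15, [(42, -1)]), (16, [(43, 1)]), (18, [(44, -1)]), (21, [(45, -1)]),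 (23, [(46, -1)])])))) (.node (.node (.node (.leaf [(15, [(1, 1)]), (16, [(2, 1)]), (18, [(3, 1)]), (21, [(4, -1)]), (23, [(5, 1)]), (33, [(10, 1)]), (34, [(12, -1)]), (35, [(13, 1)]), (37, [(14, -1)]), (42, [(24, -1)]), (43, [(26, 1)]), (44, [(29, -1)]), (45, [(31, -1)]), (46, [(32, -1)])]) (.leaf [(0, [(8, 1), (22, 1)]), (2, [(10, -1), (24, -1)]), (3, [(12, -1)]), (5, [(14, 1), (31, 1)]), (7, [(19, -1)]), (8, [(22, 2)]), (10, [(24, 2)]), (11, [(27, 1)]), (13, [(29, -1)]), (14, [(31, 2)]), (16, [(33, -1), (42, 1)]), (18, [(34, 1)]), (20, [(36, -1)]), (23, [(37, -1), (45, -1)]), (25, [(39, -1), (47, 1)]), (28, [(40, 1)]), (33, [(42, -2)]), (35, [(44, 1)]), (37, [(45, 2)]), (39, [(47, -2)])])) (.node (.leaf [(2, [(1, -1)]), (5, [(4, -1)]), (9, [(8, -1)]), (13, [(12, -1)]), (16, [(15, -1)]), (20, [(19, -1)]), (23, [(21, 1)]), (26, [(24, -1)]), (28, [(27, 1)]), (32, [(31, 1)]), (35, [(34, 1)]), (39,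 [(38, 1)]), (43, [(42, 1)]), (46, [(45, 1)])]) (.leaf [(1, [(24, 1)]), (2, [(26, 1)]), (3, [(29, 1)]), (4, [(31, -1)]), (5, [(32, 1)]), (7, [(36, 1)]), (8, [(38, -1)]), (9, [(39, 1)]), (11, [(40, -1)]), (15, [(42, -1)]), (16, [(43, 1)]), (18, [(44, -1)]), (21, [(45, -1)]), (23, [(46, -1)])]))) (.node (.node (.leaf [(7, [(3, -1)]), (8, [(4, -2)]), (9, [(5, -2)]), (10, [(6, -2)]), (15, [(8, 1), (4, -1)]), (16, [(9, 1), (5, -1)]), (17, [(10, 1), (6, -1)]), (18, [(11, 1)]), (19, [(12, 1)]), (20, [(13, 1)]), (34, [(27, -1)]), (35, [(28, -1)]), (36, [(29, -1)]), (37, [(30, -2)]), (38, [(31, -2)]), (39, [(32, -2)]), (41, [(37, 1), (30, -1)]), (42, [(38, 1), (31, -1)]), (43, [(39, 1), (32, -1)]), (44, [(40, 1)])]) (.leaf [(0, [(23, 1)]), (2, [(25, 1)]), (3, [(28, 1)]), (4, [(30, -1)]), (6, [(32, 1)]), (7, [(35, 1)]), (8, [(37, -1)]), (10, [(39, 1)]), (12, [(40, -1)]), (15, [(41, -1)]), (17, [(43, 1)]),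 (19, [(44, -1)]), (22, [(45, -1)]), (24, [(47, -1)])])) (.node (.leaf [(1, [(4, 1)]), (2, [(5, 1)]), (7, [(11, -1)]), (10, [(14, -1)]), (15, [(21, -1)]), (16, [(23, 1)]), (19, [(27, 1)]), (20, [(28, -1)]), (24, [(31, -1)]), (26, [(32, 1)]), (33, [(37, 1)]), (36, [(40, 1)]), (42, [(45, -1)]), (43, [(46, -1)])]) (.leaf [(1, [(24, 1)]), (2, [(26, 1)]), (3, [(29, 1)]), (4, [(31, -1)]), (5, [(32, 1)]), (7, [(36, 1)]), (8, [(38, -1)]), (9, [(39, 1)]), (11, [(40, -1)]), (15, [(42, -1)]), (16, [(43, 1)]), (18, [(44, -1)]), (21, [(45, -1)]), (23, [(46, -1)])])))))) (.node (.node (.node (.node (.node (.leaf [(23, [(0, 1)]), (25, [(2, 1)]), (28, [(3, 1)]), (30, [(4, -1)]), (32, [(6, 1)]), (35, [(7, 1)]), (37, [(8, -1)]), (39, [(10, 1)]), (40, [(12, -1)]), (41, [(15, -1)]), (43, [(17, 1)]), (44, [(19, -1)]), (45, [(22, -1)]), (47, [(24, -1)])]) (.leaf [(3, [(7, -1)]), (4, [(8, -1), (15, -1)]), (5, [(9, -1),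 (16, -1)]), (6, [(10, -1), (17, -1)]), (8, [(15, 2)]), (9, [(16, 2)]), (10, [(17, 2)]), (11, [(18, 1)]), (12, [(19, 1)]), (13, [(20, 1)]), (27, [(34, -1)]), (28, [(35, -1)]), (29, [(36, -1)]), (30, [(37, -1), (41, -1)]), (31, [(38, -1), (42, -1)]), (32, [(39, -1), (43, -1)]), (37, [(41, 2)]), (38, [(42, 2)]), (39, [(43, 2)]), (40, [(44, 1)])])) (.node (.leaf [(4, [(1, 1)]), (5, [(2, 1)]), (11, [(7, -1)]), (14, [(10, -1)]), (21, [(15, -1)]), (23, [(16, 1)]), (27, [(19, 1)]), (28, [(20, -1)]), (31, [(24, -1)]), (32, [(26, 1)]), (37, [(33, 1)]), (40, [(36, 1)]), (45, [(42, -1)]), (46, [(43, -1)])]) (.leaf [(1, [(24, 1)]), (2, [(26, 1)]), (3, [(29, 1)]), (4, [(31, -1)]), (5, [(32, 1)]), (7, [(36, 1)]), (8, [(38, -1)]), (9, [(39, 1)]), (11, [(40, -1)]), (15, [(42, -1)]), (16, [(43, 1)]), (18, [(44, -1)]), (21, [(45, -1)]), (23, [(46, -1)])]))) (.node (.node (.leaf [(8, [(0, 2)]), (10, [(2, -2)]), (12,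 [(3, -1)]), (14, [(5, 2)]), (19, [(7, -1)]), (22, [(8, 1), (0, 1)]), (24, [(10, 1), (2, -1)]), (27, [(11, 1)]), (29, [(13, -1)]), (31, [(14, 1), (5, 1)]), (33, [(16, -2)]), (34, [(18, 1)]), (36, [(20, -1)]), (37, [(23, -2)]), (39, [(25, -2)]), (40, [(28, 1)]), (42, [(33, -1), (16, 1)]), (44, [(35, 1)]), (45, [(37, 1), (23, -1)]), (47, [(39, -1), (25, 1)])]) (.leaf [(1, [(15, 1)]), (2, [(16, 1)]), (3, [(18, 1)]), (4, [(21, -1)]), (5, [(23, 1)]), (10, [(33, 1)]), (12, [(34, -1)]), (13, [(35, 1)]), (14, [(37, -1)]), (24, [(42, -1)]), (26, [(43, 1)]), (29, [(44, -1)]), (31, [(45, -1)]), (32, [(46, -1)])])) (.node (.leaf [(1, [(2, -1)]), (4, [(5, -1)]), (8, [(9, -1)]), (12, [(13, -1)]), (15, [(16, -1)]), (19, [(20, -1)]), (21, [(23, 1)]), (24, [(26, -1)]), (27, [(28, 1)]), (31, [(32, 1)]), (34, [(35, 1)]), (38, [(39, 1)]), (42, [(43, 1)]), (45, [(46, 1)])]) (.leaf [(1, [(24, 1)]), (2, [(26, 1)]), (3,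 [(29, 1)]), (4, [(31, -1)]), (5, [(32, 1)]), (7, [(36, 1)]), (8, [(38, -1)]), (9, [(39, 1)]), (11, [(40, -1)]), (15, [(42, -1)]), (16, [(43, 1)]), (18, [(44, -1)]), (21, [(45, -1)]), (23, [(46, -1)])])))) (.node (.node (.node (.leaf [(15, [(0, 1)]), (17, [(2, -1)]), (19, [(3, -1)]), (22, [(4, 1)]), (24, [(6, 1)]), (33, [(9, 1)]), (34, [(11, -1)]), (36, [(13, 1)]), (38, [(14, -1)]), (41, [(23, -1)]), (43, [(25, -1)]), (44, [(28, 1)]), (45, [(30, 1)]), (47, [(32, -1)])]) (.leaf [(1, [(8, 1), (21, -1)]), (2, [(9, 1), (23, 1)]), (3, [(11, 1)]), (6, [(14, 1), (30, 1)]), (7, [(18, 1)]), (8, [(21, -2)]), (9, [(23, 2)]), (12, [(27, 1)]), (13, [(28, -1)]), (14, [(30, 2)]), (17, [(33, -1), (41, 1)]), (19, [(34, 1)]), (20, [(35, -1)]), (24, [(38, -1), (45, 1)]), (26, [(39, 1), (46, -1)]), (29, [(40, -1)]), (33, [(41, -2)]), (36, [(44, -1)]), (38, [(45, -2)]), (39, [(46, -2)])])) (.node (.leaf [(2, [(0, -1)]),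 (6, [(4, 1)]), (10, [(8, 1)]), (13, [(11, -1)]), (17, [(15, 1)]), (20, [(18, -1)]), (24, [(22, 1)]), (25, [(23, -1)]), (29, [(27, 1)]), (32, [(30, -1)]), (36, [(34, 1)]), (39, [(37, -1)]), (43, [(41, -1)]), (47, [(45, 1)])]) (.leaf [(1, [(24, 1)]), (2, [(26, 1)]), (3, [(29, 1)]), (4, [(31, -1)]), (5, [(32, 1)]), (7, [(36, 1)]), (8, [(38, -1)]), (9, [(39, 1)]), (11, [(40, -1)]), (15, [(42, -1)]), (16, [(43, 1)]), (18, [(44, -1)]), (21, [(45, -1)]), (23, [(46, -1)])]))) (.node (.node (.leaf [(7, [(2, -2)]), (8, [(3, -1)]), (11, [(5, 2)]), (12, [(6, 2)]), (15, [(7, 1), (2, -1)]), (18, [(9, -1)]), (19, [(10, -1)]), (21, [(11, 1), (5, 1)]), (22, [(12, 1), (6, 1)]), (27, [(14, 1)]), (33, [(20, -1)]), (35, [(25, -2)]), (36, [(26, -2)]), (37, [(28, 1)]), (38, [(29, 1)]), (40, [(32, -2)]), (41, [(35, -1), (25, 1)]), (42, [(36, -1), (26, 1)]), (44, [(39, 1)]), (45, [(40, 1), (32, -1)])]) (.leaf [(0, [(21,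 1)]), (1, [(22, 1)]), (3, [(27, 1)]), (5, [(30, -1)]), (6, [(31, 1)]), (7, [(34, 1)]), (9, [(37, -1)]), (10, [(38, 1)]), (13, [(40, -1)]), (16, [(41, -1)]), (17, [(42, 1)]), (20, [(44, -1)]), (25, [(46, -1)]), (26, [(47, -1)])])) (.node (.leaf [(0, [(3, -1), (6, 1)]), (3, [(6, -2)]), (7, [(10, -1)]), (8, [(12, 1)]), (9, [(13, 1)]), (11, [(14, -1)]), (15, [(19, 1), (24, 1)]), (16, [(20, 1), (26, 1)]), (19, [(24, 2)]), (20, [(26, 2)]), (21, [(27, -1), (31, 1)]), (23, [(28, -1), (32, 1)]), (27, [(31, -2)]), (28, [(32, -2)]), (33, [(36, 1)]), (34, [(38, -1)]), (35, [(39, -1)]), (37, [(40, 1)]), (41, [(44, 1), (47, 1)]), (44, [(47, 2)])]) (.leaf [(1, [(24, 1)]), (2, [(26, 1)]), (3, [(29, 1)]), (4, [(31, -1)]), (5, [(32, 1)]), (7, [(36, 1)]), (8, [(38, -1)]), (9, [(39, 1)]), (11, [(40, -1)]), (15, [(42, -1)]), (16, [(43, 1)]), (18, [(44, -1)]), (21, [(45, -1)]), (23, [(46, -1)])]))))) (.node (.node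 (.node (.node (.leaf [(18, [(0, 2)]), (19, [(1, 2)]), (20, [(2, 2)]), (27, [(4, 2)]), (28, [(5, -2)]), (29, [(6, 2)]), (33, [(7, 1)]), (34, [(8, 1)]), (35, [(9, -1)]), (36, [(10, 1)]), (37, [(11, -1)]), (38, [(12, 1)]), (39, [(13, -1)]), (40, [(14, -1)]), (41, [(18, -1), (0, -1)]), (42, [(19, 1), (1, 1)]), (43, [(20, -1), (2, -1)]), (45, [(27, -1), (4, -1)]), (46, [(28, -1), (5, 1)]), (47, [(29, -1), (6, -1)])]) (.leaf [(1, [(7, -1), (16, 1)]), (3, [(9, 1)]), (4, [(11, 1), (23, 1)]), (6, [(13, -1), (25, -1)]), (7, [(16, -2)]), (8, [(18, -1)]), (10, [(20, 1)]), (11, [(23, 2)]), (13, [(25, 2)]), (14, [(28, 1)]), (19, [(33, -1)]), (22, [(34, -1), (41, -1)]), (24, [(36, -1), (43, 1)]), (27, [(37, -1)]), (29, [(39, 1)]), (31, [(40, 1), (46, 1)]), (34, [(41, 2)]), (36, [(43, -2)]), (38, [(44, -1)]), (40, [(46, 2)])])) (.node (.leaf [(3, [(1, -2)]), (5, [(3, 1), (1, -1)]), (9, [(7, 1)]), (11, [(8, -1)]),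 (13, [(10, 1)]), (14, [(12, -1)]), (18, [(15, -2)]), (20, [(17, 2)]), (23, [(18, 1), (15, -1)]), (25, [(20, 1), (17, 1)]), (27, [(22, -2)]), (29, [(24, -2)]), (30, [(27, -1), (22, 1)]), (32, [(29, 1), (24, -1)]), (35, [(33, 1)]), (37, [(34, -1)]), (39, [(36, 1)]), (40, [(38, -1)]), (44, [(42, -2)]), (46, [(44, 1), (42, -1)])]) (.leaf [(1, [(24, 1)]), (2, [(26, 1)]), (3, [(29, 1)]), (4, [(31, -1)]), (5, [(32, 1)]), (7, [(36, 1)]), (8, [(38, -1)]), (9, [(39, 1)]), (11, [(40, -1)]), (15, [(42, -1)]), (16, [(43, 1)]), (18, [(44, -1)]), (21, [(45, -1)]), (23, [(46, -1)])]))) (.node (.node (.leaf [(7, [(0, -2)]), (10, [(3, -1)]), (12, [(4, -2)]), (13, [(5, -2)]), (17, [(7, 1), (0, -1)]), (19, [(8, 1)]), (20, [(9, 1)]), (24, [(12, 1), (4, -1)]), (26, [(13, 1), (5, -1)]), (29, [(14, 1)]), (33, [(18, -1)]), (34, [(21, -2)]), (35, [(23, -2)]), (38, [(27, -1)]), (39, [(28, -1)]), (40, [(30, -2)]), (42, [(34,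 1), (21, -1)]), (43, [(35, 1), (23, -1)]), (44, [(37, 1)]), (47, [(40, 1), (30, -1)])]) (.leaf [(0, [(16, -1)]), (1, [(17, -1)]), (3, [(20, 1)]), (5, [(25, 1)]), (6, [(26, -1)]), (8, [(33, 1)]), (11, [(35, -1)]), (12, [(36, 1)]), (14, [(39, -1)]), (21, [(41, 1)]), (22, [(42, -1)]), (27, [(44, -1)]), (30, [(46, 1)]), (31, [(47, 1)])])) (.node (.leaf [(2, [(3, -1), (4, 1)]), (3, [(4, -2)]), (7, [(8, -1)]), (9, [(11, -1)]), (10, [(12, -1)]), (13, [(14, -1)]), (16, [(18, -1), (21, -1)]), (17, [(19, -1), (22, -1)]), (18, [(21, 2)]), (19, [(22, 2)]), (25, [(28, -1), (30, -1)]), (26, [(29, -1), (31, -1)]), (28, [(30, 2)]), (29, [(31, 2)]), (33, [(34, 1)]), (35, [(37, 1)]), (36, [(38, 1)]), (39, [(40, 1)]), (43, [(44, 1), (45, 1)]), (44, [(45, 2)])]) (.leaf [(1, [(24, 1)]), (2, [(26, 1)]), (3, [(29, 1)]), (4, [(31, -1)]), (5, [(32, 1)]), (7, [(36, 1)]), (8, [(38, -1)]), (9, [(39, 1)]), (11, [(40, -1)]),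 (15, [(42, -1)]), (16, [(43, 1)]), (18, [(44, -1)]), (21, [(45, -1)]), (23, [(46, -1)])])))) (.node (.node (.node (.leaf [(11, [(0, 2)]), (12, [(1, 2)]), (13, [(2, 2)]), (14, [(3, 1)]), (27, [(8, 1)]), (28, [(9, -1)]), (29, [(10, 1)]), (30, [(11, 1), (0, 1)]), (31, [(12, -1), (1, -1)]), (32, [(13, 1), (2, 1)]), (34, [(15, -2)]), (35, [(16, 2)]), (36, [(17, -2)]), (37, [(18, -1)]), (38, [(19, 1)]), (39, [(20, -1)]), (44, [(33, -1)]), (45, [(34, -1), (15, 1)]), (46, [(35, -1), (16, -1)]), (47, [(36, -1), (17, 1)])]) (.leaf [(0, [(9, -1), (25, -1)]), (1, [(10, -1), (26, 1)]), (3, [(13, 1)]), (4, [(14, 1), (32, 1)]), (7, [(20, 1)]), (9, [(25, 2)]), (10, [(26, -2)]), (11, [(28, 1)]), (12, [(29, -1)]), (14, [(32, 2)]), (15, [(33, -1), (43, 1)]), (18, [(35, 1)]), (19, [(36, -1)]), (21, [(37, 1), (46, 1)]), (22, [(38, -1), (47, -1)]), (27, [(40, -1)]), (33, [(43, -2)]), (34, [(44, -1)]), (37, [(46, 2)]),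 (38, [(47, 2)])])) (.node (.leaf [(1, [(0, -1)]), (6, [(5, -1)]), (10, [(9, -1)]), (12, [(11, -1)]), (17, [(16, -1)]), (19, [(18, -1)]), (22, [(21, -1)]), (26, [(25, 1)]), (29, [(28, 1)]), (31, [(30, 1)]), (36, [(35, 1)]), (38, [(37, 1)]), (42, [(41, 1)]), (47, [(46, 1)])]) (.leaf [(1, [(24, 1)]), (2, [(26, 1)]), (3, [(29, 1)]), (4, [(31, -1)]), (5, [(32, 1)]), (7, [(36, 1)]), (8, [(38, -1)]), (9, [(39, 1)]), (11, [(40, -1)]), (15, [(42, -1)]), (16, [(43, 1)]), (18, [(44, -1)]), (21, [(45, -1)]), (23, [(46, -1)])]))) (.node (.node (.leaf [(5, [(0, -1)]), (6, [(1, -1)]), (13, [(7, -1)]), (14, [(8, -1)]), (25, [(16, 1)]), (26, [(17, -1)]), (28, [(18, 1)]), (29, [(19, -1)]), (30, [(21, 1)]), (31, [(22, -1)]), (39, [(33, 1)]), (40, [(34, 1)]), (46, [(41, 1)]), (47, [(42, 1)])]) (.leaf [(1, [(24, 1)]), (2, [(26, 1)]), (3, [(29, 1)]), (4, [(31, -1)]), (5, [(32, 1)]), (7, [(36, 1)]), (8, [(38, -1)]),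 (9, [(39, 1)]), (11, [(40, -1)]), (15, [(42, -1)]), (16, [(43, 1)]), (18, [(44, -1)]), (21, [(45, -1)]), (23, [(46, -1)])])) (.node (.leaf [(0, [(4, 1)]), (2, [(6, -1)]), (7, [(12, 1)]), (9, [(14, -1)]), (15, [(22, 1)]), (17, [(24, 1)]), (18, [(27, 1)]), (20, [(29, -1)]), (23, [(30, -1)]), (25, [(32, -1)]), (33, [(38, 1)]), (35, [(40, -1)]), (41, [(45, 1)]), (43, [(47, -1)])]) (.leaf [(1, [(24, 1)]), (2, [(26, 1)]), (3, [(29, 1)]), (4, [(31, -1)]), (5, [(32, 1)]), (7, [(36, 1)]), (8, [(38, -1)]), (9, [(39, 1)]), (11, [(40, -1)]), (15, [(42, -1)]), (16, [(43, 1)]), (18, [(44, -1)]), (21, [(45, -1)]), (23, [(46, -1)])]))))))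

noncomputable def cor : Trie (List ℤ) := .node (.node (.node (.node (.node (.node (.leaf [-1, -2, -3, -2]) (.leaf [0, 1, 2, 1])) (.node (.leaf [0, -1, -1, -1]) (.leaf [1, 2, 3, 2]))) (.node (.node (.leaf [-1, -2, -4, -2]) (.leaf [1, 3, 4, 2])) (.node (.leaf [0, 0, 0, 1]) (.leaf [1, 2, 3, 2])))) (.node (.node (.node (.leaf [-1, -1, -2, -1]) (.leaf [1, 1, 2, 2])) (.node (.leaf [0, -1, 0, 0]) (.leaf [1, 2, 3, 2]))) (.node (.node (.leaf [-1, -1, -2, 0]) (.leaf [2, 3, 4, 2])) (.node (.leaf [0, 1, 2, 0]) (.leaf [1, 2, 3, 2]))))) (.node (.node (.node (.node (.leaf [-1, -2, -2, -1]) (.leaf [1, 1, 0, 0])) (.node (.leaf [0, -1, -2, -2]) (.leaf [1, 2, 3, 2]))) (.node (.node (.leaf [-1, -2, -2, 0]) (.leaf [1, 1, 1, 1])) (.node (.leaf [0, 0, 1, 1]) (.leaf [1, 2, 3, 2])))) (.node (.node (.node (.leaf [-1, -1, -1, 0]) (.leaf [1, 2, 2, 2])) (.node (.leaf [0, 0, -1, 0]) (.leaf [1, 2, 3, 2]))) (.node (.node (.leaf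 [-1, 0, 0, 0]) (.leaf [1, 2, 3, 1])) (.node (.leaf [0, 1, 1, 0]) (.leaf [1, 2, 3, 2])))))) (.node (.node (.node (.node (.node (.leaf [-1, -2, -3, -1]) (.leaf [1, 0, 0, 0])) (.node (.leaf [0, -1, -1, 0]) (.leaf [1, 2, 3, 2]))) (.node (.node (.leaf [-1, -2, -2, -2]) (.leaf [1, 1, 1, 0])) (.node (.leaf [0, 0, 1, 0]) (.leaf [1, 2, 3, 2])))) (.node (.node (.node (.leaf [-1, -1, -1, -1]) (.leaf [1, 2, 2, 0])) (.node (.leaf [0, 0, -1, -1]) (.leaf [1, 2, 3, 2]))) (.node (.node (.leaf [-1, -1, 0, 0]) (.leaf [1, 2, 2, 1])) (.node (.leaf [0, 1, 2, 2]) (.leaf [1, 2, 3, 2]))))) (.node (.node (.node (.node (.leaf [-2, -3, -4, -2]) (.leaf [1, 1, 2, 0])) (.node (.leaf [0, -1, -2, 0]) (.leaf [1, 2, 3, 2]))) (.node (.node (.leaf [-1, -1, -2, -2]) (.leaf [1, 1, 2, 1])) (.node (.leaf [0, 1, 0, 0]) (.leaf [1, 2, 3, 2])))) (.node (.node (.node (.leaf [-1, -3, -4, -2]) (.leaf [1, 2, 4, 2])) (.node (.leaf [0, 0, 0, -1])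 (.leaf [1, 2, 3, 2]))) (.node (.node (.leaf [0, -1, -2, -1]) (.leaf [1, 2, 3, 2])) (.node (.leaf [0, 1, 1, 1]) (.leaf [1, 2, 3, 2]))))))

noncomputable def bez : Trie (List ℤ) := .node (.node (.node (.node (.node (.node (.leaf [-1, 1, 0, -1]) (.leaf [0, 0, 0, 1])) (.node (.leaf [0, 0, 0, -1]) (.leaf [1, 0, 0, 0]))) (.node (.node (.leaf [-1, 1, 0, -1]) (.leaf [1, 0, 0, 0])) (.node (.leaf [0, 0, 0, 1]) (.leaf [1, 0, 0, 0])))) (.node (.node (.node (.leaf [0, 0, 0, -1]) (.leaf [0, 1, 0, 0])) (.node (.leaf [0, -1, 0, 0]) (.leaf [1, 0, 0, 0]))) (.node (.node (.leaf [0, 1, -1, 0]) (.leaf [-1, 1, 0, 0])) (.node (.leaf [0, 1, 0, 0]) (.leaf [1, 0, 0, 0]))))) (.node (.node (.node (.node (.leaf [0, 0, 0, -1]) (.leaf [0, 1, 0, 0])) (.node (.leaf [0, -1, 1, -1]) (.leaf [1, 0, 0, 0]))) (.node (.node (.leaf [-1, 1, -1, 0]) (.leaf [0, 0, 0, 1])) (.node (.leaf [0, 0, 0, 1]) (.leaf [1, 0, 0, 0])))) (.node (.node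 (.node (.leaf [0, 0, -1, 0]) (.leaf [1, 0, 0, 0])) (.node (.leaf [0, 0, -1, 0]) (.leaf [1, 0, 0, 0]))) (.node (.node (.leaf [-1, 0, 0, 0]) (.leaf [0, 0, 0, 1])) (.node (.leaf [0, 0, 1, 0]) (.leaf [1, 0, 0, 0])))))) (.node (.node (.node (.node (.node (.leaf [0, 0, 0, -1]) (.leaf [1, 0, 0, 0])) (.node (.leaf [0, 0, -1, 0]) (.leaf [1, 0, 0, 0]))) (.node (.node (.leaf [1, -1, 1, -1]) (.leaf [0, 0, 1, 0])) (.node (.leaf [0, 0, 1, 0]) (.leaf [1, 0, 0, 0])))) (.node (.node (.node (.leaf [0, 0, 0, -1]) (.leaf [1, 0, 0, 0])) (.node (.leaf [0, 0, 0, -1]) (.leaf [1, 0, 0, 0]))) (.node (.node (.leaf [0, -1, 0, 0]) (.leaf [0, 0, 0, 1])) (.node (.leaf [0, 1, 0, 0]) (.leaf [1, 0, 0, 0]))))) (.node (.node (.node (.node (.leaf [-1, 1, 0, -1]) (.leaf [0, 1, 0, 0])) (.node (.leaf [0, 1, -1, 0]) (.leaf [1, 0, 0, 0]))) (.node (.node (.leaf [0, -1, 1, -1]) (.leaf [0, 0, 0, 1])) (.node (.leaf [0, 1, 0, 0]) (.leaf [1,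 0, 0, 0])))) (.node (.node (.node (.leaf [1, 0, 0, -1]) (.leaf [1, 0, 0, 0])) (.node (.leaf [0, 0, 0, -1]) (.leaf [1, 0, 0, 0]))) (.node (.node (.leaf [0, 0, 0, -1]) (.leaf [1, 0, 0, 0])) (.node (.leaf [0, 0, 0, 1]) (.leaf [1, 0, 0, 0]))))))

noncomputable def dsc : Trie (ℕ) := .node (.node (.node (.node (.node (.node (.leaf 3) (.leaf 2)) (.node (.leaf 1) (.leaf 3))) (.node (.node (.leaf 2) (.leaf 1)) (.node (.leaf 0) (.leaf 3)))) (.node (.node (.node (.leaf 0) (.leaf 0)) (.node (.leaf 1) (.leaf 3))) (.node (.node (.leaf 0) (.leaf 0)) (.node (.leaf 2) (.leaf 3))))) (.node (.node (.node (.node (.leaf 1) (.leaf 0)) (.node (.leaf 3) (.leaf 3))) (.node (.node (.leaf 1) (.leaf 0)) (.node (.leaf 2) (.leaf 3)))) (.node (.node (.node (.leaf 0) (.leaf 1)) (.node (.leaf 2) (.leaf 3))) (.node (.node (.leaf 0) (.leaf 2)) (.node (.leaf 1) (.leaf 3)))))) (.node (.node (.node (.node (.node (.leaf 2) (.leaf 0))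 (.node (.leaf 1) (.leaf 3))) (.node (.node (.leaf 1) (.leaf 0)) (.node (.leaf 0) (.leaf 3)))) (.node (.node (.node (.leaf 0) (.leaf 1)) (.node (.leaf 2) (.leaf 3))) (.node (.node (.leaf 0) (.leaf 1)) (.node (.leaf 3) (.leaf 3))))) (.node (.node (.node (.node (.leaf 0) (.leaf 0)) (.node (.leaf 2) (.leaf 3))) (.node (.node (.leaf 0) (.leaf 0)) (.node (.leaf 0) (.leaf 3)))) (.node (.node (.node (.leaf 1) (.leaf 2)) (.node (.leaf 3) (.leaf 3))) (.node (.node (.leaf 2) (.leaf 3)) (.node (.leaf 1) (.leaf 3))))))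

noncomputable def cert : Trie (ℕ × ℕ × List ℕ × ℕ) := .node (.node (.node (.node (.node (.node (.node (.node (.leaf (33, 0, [], 0)) (.leaf (25, 23, [1, 2, 1], 123))) (.node (.leaf (33, 35, [1, 0], 61)) (.leaf (25, 39, [3, 2], 182)))) (.node (.node (.leaf (27, 13, [2, 1, 2], 27)) (.leaf (25, 8, [], 0))) (.node (.leaf (25, 6, [3, 2], 94)) (.leaf (25, 39, [3, 2], 182))))) (.node (.node (.node (.leaf (27, 41, [0, 1], 14)) (.leaf (25, 18, [0], 142))) (.node (.leaf (33, 15, [], 0)) (.leaf (25, 39, [3, 2], 182)))) (.node (.node (.leaf (33, 30, [1, 0], 46)) (.leaf (25, 13, [3, 2], 174))) (.node (.leaf (25, 21, [1, 2, 1], 107)) (.leaf (25, 39, [3, 2], 182)))))) (.node (.node (.node (.node (.leaf (27, 6, [3], 6)) (.leaf (25, 3, [], 0))) (.node (.leaf (27, 18, [0, 1], 69)) (.leaf (25, 39, [3, 2], 182)))) (.node (.node (.leaf (33, 4, [], 0)) (.leaf (24, 28, [2, 3], 166))) (.node (.leaf (25, 1, [], 0)) (.leaf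 (25, 39, [3, 2], 182))))) (.node (.node (.node (.leaf (33, 3, [], 0)) (.leaf (25, 29, [3, 2], 150))) (.node (.leaf (33, 41, [1, 0], 86)) (.leaf (25, 39, [3, 2], 182)))) (.node (.node (.leaf (33, 18, [1, 0], 54)) (.leaf (25, 39, [3, 2], 182))) (.node (.leaf (25, 2, [], 0)) (.leaf (25, 39, [3, 2], 182))))))) (.node (.node (.node (.node (.node (.leaf (27, 1, [0, 1], 1)) (.leaf (24, 31, [2, 3], 129))) (.node (.leaf (33, 8, [], 0)) (.leaf (25, 39, [3, 2], 182)))) (.node (.node (.leaf (33, 28, [1, 0], 33)) (.leaf (25, 12, [3, 2], 162))) (.node (.leaf (24, 32, [2, 3], 98)) (.leaf (25, 39, [3, 2], 182))))) (.node (.node (.node (.leaf (27, 47, [3], 19)) (.leaf (24, 20, [2, 3], 144))) (.node (.leaf (27, 21, [0, 1], 81)) (.leaf (25, 39, [3, 2], 182)))) (.node (.node (.leaf (33, 7, [], 0)) (.leaf (24, 29, [2, 3], 178))) (.node (.leaf (24, 30, [2, 3], 113)) (.leaf (25, 39, [3, 2], 182)))))) (.node (.node (.node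 (.node (.leaf (33, 22, [1, 0], 8)) (.leaf (24, 8, [1], 139))) (.node (.leaf (33, 37, [1, 0], 74)) (.leaf (25, 39, [3, 2], 182)))) (.node (.node (.leaf (27, 16, [0, 1], 41)) (.leaf (25, 9, [], 0))) (.node (.leaf (24, 5, [2, 3], 106)) (.leaf (25, 39, [3, 2], 182))))) (.node (.node (.node (.leaf (33, 11, [1, 0], 26)) (.leaf (25, 44, [0], 155))) (.node (.leaf (25, 0, [], 0)) (.leaf (25, 39, [3, 2], 182)))) (.node (.node (.leaf (27, 14, [2, 1, 2], 55)) (.leaf (25, 39, [3, 2], 182))) (.node (.leaf (24, 6, [2, 3], 122)) (.leaf (25, 39, [3, 2], 182)))))))) (.node (.node (.node (.node (.node (.node (.leaf (33, 2, [2], 1)) (.leaf (25, 43, [0], 129))) (.node (.leaf (27, 40, [2, 1, 2], 62)) (.leaf (25, 39, [3, 2], 182)))) (.node (.node (.leaf (27, 36, [3], 33)) (.leaf (24, 11, [1], 161))) (.node (.leaf (25, 30, [1, 2, 1], 97)) (.leaf (25, 39, [3, 2], 182))))) (.node (.node (.node (.leaf (27, 32, [2, 1, 2],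 9)) (.leaf (24, 13, [2, 3], 142))) (.node (.leaf (33, 17, [3], 81)) (.leaf (25, 39, [3, 2], 182)))) (.node (.node (.leaf (33, 32, [2], 49)) (.leaf (25, 28, [1, 2, 1], 177))) (.node (.leaf (25, 42, [0], 113)) (.leaf (25, 39, [3, 2], 182)))))) (.node (.node (.node (.node (.leaf (33, 21, [1, 0], 6)) (.leaf (24, 3, [2, 3], 136))) (.node (.leaf (27, 28, [2, 1, 2], 73)) (.leaf (25, 39, [3, 2], 182)))) (.node (.node (.leaf (33, 6, [3], 41)) (.leaf (24, 37, [1], 169))) (.node (.leaf (25, 4, [1, 2, 1], 104)) (.leaf (25, 39, [3, 2], 182))))) (.node (.node (.node (.leaf (27, 9, [2, 1, 2], 25)) (.leaf (25, 37, [1, 2, 1], 145))) (.node (.leaf (33, 43, [2], 89)) (.leaf (25, 39, [3, 2], 182)))) (.node (.node (.leaf (33, 20, [2], 57)) (.leaf (25, 39, [3, 2], 182))) (.node (.leaf (25, 5, [1, 2, 1], 120)) (.leaf (25, 39, [3, 2], 182))))))) (.node (.node (.node (.node (.node (.leaf (27, 5, [2, 1, 2], 4)) (.leaf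 (25, 46, [1, 2, 1], 130))) (.node (.leaf (33, 10, [3], 69)) (.leaf (25, 39, [3, 2], 182)))) (.node (.node (.leaf (27, 39, [2, 1, 2], 34)) (.leaf (25, 27, [1, 2, 1], 165))) (.node (.leaf (24, 45, [1], 101)) (.leaf (25, 39, [3, 2], 182))))) (.node (.node (.node (.leaf (33, 46, [1, 0], 19)) (.leaf (24, 27, [1], 148))) (.node (.leaf (27, 30, [2, 1, 2], 85)) (.leaf (25, 39, [3, 2], 182)))) (.node (.node (.leaf (27, 11, [2, 1, 2], 53)) (.leaf (24, 38, [1], 181))) (.node (.leaf (25, 45, [1, 2, 1], 114)) (.leaf (25, 39, [3, 2], 182)))))) (.node (.node (.node (.node (.leaf (33, 25, [2], 12)) (.leaf (25, 11, [1, 2, 1], 137))) (.node (.leaf (33, 39, [2], 77)) (.leaf (25, 39, [3, 2], 182)))) (.node (.node (.leaf (27, 25, [2, 1, 2], 45)) (.leaf (24, 12, [1], 173))) (.node (.leaf (24, 21, [1], 109)) (.leaf (25, 39, [3, 2], 182))))) (.node (.node (.node (.leaf (33, 13, [2], 29)) (.leaf (24, 40, [2, 3], 155)))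 (.node (.leaf (24, 4, [1], 93)) (.leaf (25, 39, [3, 2], 182)))) (.node (.node (.leaf (27, 38, [3], 61)) (.leaf (25, 39, [3, 2], 182))) (.node (.leaf (24, 22, [1], 125)) (.leaf (25, 39, [3, 2], 182))))))))) (.node (.node (.node (.node (.node (.node (.node (.leaf (33, 1, [3], 0)) (.leaf (25, 32, [1, 2, 1], 127))) (.node (.leaf (33, 36, [1, 0], 62)) (.leaf (25, 39, [3, 2], 182)))) (.node (.node (.leaf (27, 35, [2, 1, 2], 31)) (.leaf (24, 9, [2, 3], 160))) (.node (.leaf (25, 17, [3, 2], 95)) (.leaf (25, 39, [3, 2], 182))))) (.node (.node (.node (.leaf (27, 42, [0, 1], 15)) (.leaf (25, 33, [0], 143))) (.node (.leaf (33, 16, [2], 80)) (.leaf (25, 39, [3, 2], 182)))) (.node (.node (.leaf (33, 31, [1, 0], 47)) (.leaf (25, 20, [3, 2], 175))) (.node (.leaf (25, 31, [1, 2, 1], 111)) (.leaf (25, 39, [3, 2], 182)))))) (.node (.node (.node (.node (.leaf (27, 24, [3], 7)) (.leaf (25, 7, [0], 136))) (.node (.leaf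 (27, 19, [0, 1], 70)) (.leaf (25, 39, [3, 2], 182)))) (.node (.node (.leaf (33, 5, [2], 40)) (.leaf (24, 35, [2, 3], 167))) (.node (.leaf (24, 0, [2, 3], 104)) (.leaf (25, 39, [3, 2], 182))))) (.node (.node (.node (.leaf (27, 7, [0, 1], 24)) (.leaf (25, 36, [3, 2], 151))) (.node (.leaf (33, 42, [1, 0], 87)) (.leaf (25, 39, [3, 2], 182)))) (.node (.node (.leaf (33, 19, [1, 0], 55)) (.leaf (25, 39, [3, 2], 182))) (.node (.leaf (24, 1, [2, 3], 120)) (.leaf (25, 39, [3, 2], 182))))))) (.node (.node (.node (.node (.node (.leaf (27, 15, [0, 1], 2)) (.leaf (24, 42, [2, 3], 130))) (.node (.leaf (33, 9, [2], 68)) (.leaf (25, 39, [3, 2], 182)))) (.node (.node (.leaf (33, 29, [1, 0], 34)) (.leaf (25, 19, [3, 2], 163))) (.node (.leaf (24, 43, [2, 3], 99)) (.leaf (25, 39, [3, 2], 182))))) (.node (.node (.node (.leaf (33, 45, [1, 0], 18)) (.leaf (24, 33, [2, 3], 145))) (.node (.leaf (27, 22, [0, 1], 82)) (.leaf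 (25, 39, [3, 2], 182)))) (.node (.node (.leaf (27, 8, [0, 1], 52)) (.leaf (24, 36, [2, 3], 179))) (.node (.leaf (24, 41, [2, 3], 114)) (.leaf (25, 39, [3, 2], 182)))))) (.node (.node (.node (.node (.leaf (33, 24, [1, 0], 9)) (.leaf (25, 10, [3, 2], 140))) (.node (.leaf (33, 38, [1, 0], 75)) (.leaf (25, 39, [3, 2], 182)))) (.node (.node (.leaf (27, 17, [0, 1], 42)) (.leaf (24, 10, [2, 3], 172))) (.node (.leaf (24, 16, [2, 3], 107)) (.leaf (25, 39, [3, 2], 182))))) (.node (.node (.node (.leaf (33, 12, [1, 0], 27)) (.leaf (24, 39, [2, 3], 154))) (.node (.leaf (24, 2, [2, 3], 92)) (.leaf (25, 39, [3, 2], 182)))) (.node (.node (.leaf (27, 37, [2, 1, 2], 59)) (.leaf (25, 39, [3, 2], 182))) (.node (.leaf (24, 17, [2, 3], 123)) (.leaf (25, 39, [3, 2], 182)))))))) (.node (.node (.node (.node (.node (.node (.leaf (27, 0, [0, 1], 0)) (.leaf (24, 26, [2, 3], 128))) (.node (.leaf (33, 44, [1, 0], 66)) (.leaf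 (25, 39, [3, 2], 182)))) (.node (.node (.leaf (33, 27, [1, 0], 32)) (.leaf (24, 18, [0], 162))) (.node (.leaf (25, 41, [0], 98)) (.leaf (25, 39, [3, 2], 182))))) (.node (.node (.node (.leaf (27, 46, [2, 1, 2], 17)) (.leaf (24, 14, [2, 3], 143))) (.node (.leaf (27, 4, [0, 1], 80)) (.leaf (25, 39, [3, 2], 182)))) (.node (.node (.leaf (27, 43, [0, 1], 50)) (.leaf (25, 35, [0], 178))) (.node (.leaf (24, 25, [2, 3], 112)) (.leaf (25, 39, [3, 2], 182)))))) (.node (.node (.node (.node (.leaf (33, 23, [1, 0], 7)) (.leaf (24, 7, [2, 3], 137))) (.node (.leaf (27, 29, [3], 74)) (.leaf (25, 39, [3, 2], 182)))) (.node (.node (.leaf (27, 2, [0, 1], 40)) (.leaf (25, 38, [3, 2], 170))) (.node (.leaf (25, 15, [0], 106)) (.leaf (25, 39, [3, 2], 182))))) (.node (.node (.node (.leaf (27, 10, [3], 26)) (.leaf (25, 40, [1, 2, 1], 153))) (.node (.leaf (27, 45, [0, 1], 90)) (.leaf (25, 39, [3, 2], 182)))) (.node (.node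 (.leaf (27, 34, [0, 1], 58)) (.leaf (25, 39, [3, 2], 182))) (.node (.leaf (25, 16, [0], 122)) (.leaf (25, 39, [3, 2], 182))))))) (.node (.node (.node (.node (.node (.leaf (27, 23, [2, 1, 2], 5)) (.leaf (24, 47, [2, 3], 134))) (.node (.leaf (27, 3, [0, 1], 68)) (.leaf (25, 39, [3, 2], 182)))) (.node (.node (.leaf (33, 40, [1, 0], 38)) (.leaf (25, 34, [0], 166))) (.node (.leaf (25, 47, [3, 2], 102)) (.leaf (25, 39, [3, 2], 182))))) (.node (.node (.node (.leaf (33, 47, [1, 0], 20)) (.leaf (24, 34, [1], 149))) (.node (.leaf (27, 31, [3], 86)) (.leaf (25, 39, [3, 2], 182)))) (.node (.node (.leaf (27, 12, [3], 54)) (.leaf (25, 39, [3, 2], 182))) (.node (.leaf (24, 46, [2, 3], 118)) (.leaf (25, 39, [3, 2], 182)))))) (.node (.node (.node (.node (.leaf (33, 26, [2], 13)) (.leaf (25, 14, [1, 2, 1], 141))) (.node (.leaf (27, 44, [0, 1], 78)) (.leaf (25, 39, [3, 2], 182)))) (.node (.node (.leaf (27, 26, [3],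 46)) (.leaf (24, 19, [0], 174))) (.node (.leaf (25, 24, [3, 2], 110)) (.leaf (25, 39, [3, 2], 182))))) (.node (.node (.node (.leaf (27, 33, [0, 1], 30)) (.leaf (24, 44, [2, 3], 156))) (.node (.leaf (24, 15, [0], 94)) (.leaf (25, 39, [3, 2], 182)))) (.node (.node (.leaf (33, 34, [1, 0], 60)) (.leaf (25, 39, [3, 2], 182))) (.node (.leaf (25, 26, [3, 2], 126)) (.leaf (25, 39, [3, 2], 182)))))))))

noncomputable def pi0 : Trie (ℕ) := .node (.node (.node (.node (.node (.node (.leaf 0) (.leaf 43)) (.node (.leaf 5) (.leaf 47))) (.node (.node (.leaf 8) (.leaf 44)) (.node (.leaf 24) (.leaf 47)))) (.node (.node (.node (.leaf 15) (.leaf 29)) (.node (.leaf 13) (.leaf 47))) (.node (.node (.leaf 19) (.leaf 40)) (.node (.leaf 35) (.leaf 47))))) (.node (.node (.node (.node (.leaf 2) (.leaf 27)) (.node (.leaf 11) (.leaf 47))) (.node (.node (.leaf 10) (.leaf 31)) (.node (.leaf 26) (.leaf 47)))) (.node (.node (.node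 (.leaf 17) (.leaf 38)) (.node (.leaf 22) (.leaf 47))) (.node (.node (.leaf 33) (.leaf 46)) (.node (.leaf 41) (.leaf 47)))))) (.node (.node (.node (.node (.node (.leaf 1) (.leaf 14)) (.node (.leaf 6) (.leaf 47))) (.node (.node (.leaf 9) (.leaf 30)) (.node (.leaf 25) (.leaf 47)))) (.node (.node (.node (.leaf 16) (.leaf 37)) (.node (.leaf 21) (.leaf 47))) (.node (.node (.leaf 20) (.leaf 45)) (.node (.leaf 36) (.leaf 47))))) (.node (.node (.node (.node (.leaf 7) (.leaf 28)) (.node (.leaf 12) (.leaf 47))) (.node (.node (.leaf 18) (.leaf 32)) (.node (.leaf 34) (.leaf 47)))) (.node (.node (.node (.leaf 3) (.leaf 39)) (.node (.leaf 23) (.leaf 47))) (.node (.node (.leaf 4) (.leaf 47)) (.node (.leaf 42) (.leaf 47))))))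

noncomputable def eta0 : Trie (ℤ) := .node (.node (.node (.node (.node (.node (.leaf 1) (.leaf (-1))) (.node (.leaf (-1)) (.leaf 1))) (.node (.node (.leaf (-1)) (.leaf 1)) (.node (.leaf 1) (.leaf 1)))) (.node (.node (.node (.leaf (-1)) (.leaf 1)) (.node (.leaf (-1)) (.leaf 1))) (.node (.node (.leaf 1) (.leaf (-1))) (.node (.leaf (-1)) (.leaf 1))))) (.node (.node (.node (.node (.leaf 1) (.leaf 1)) (.node (.leaf (-1)) (.leaf 1))) (.node (.node (.leaf (-1)) (.leaf (-1))) (.node (.leaf 1) (.leaf 1)))) (.node (.node (.node (.leaf (-1)) (.leaf (-1))) (.node (.leaf 1) (.leaf 1))) (.node (.node (.leaf (-1)) (.leaf 1)) (.node (.leaf (-1)) (.leaf 1)))))) (.node (.node (.node (.node (.node (.leaf 1) (.leaf (-1))) (.node (.leaf (-1)) (.leaf 1))) (.node (.node (.leaf (-1)) (.leaf (-1))) (.node (.leaf 1) (.leaf 1)))) (.node (.node (.node (.leaf (-1)) (.leaf (-1))) (.node (.leaf 1) (.leaf 1))) (.node (.node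 (.leaf 1) (.leaf 1)) (.node (.leaf (-1)) (.leaf 1))))) (.node (.node (.node (.node (.leaf (-1)) (.leaf 1)) (.node (.leaf (-1)) (.leaf 1))) (.node (.node (.leaf 1) (.leaf (-1))) (.node (.leaf (-1)) (.leaf 1)))) (.node (.node (.node (.leaf 1) (.leaf (-1))) (.node (.leaf 1) (.leaf 1))) (.node (.node (.leaf (-1)) (.leaf 1)) (.node (.leaf (-1)) (.leaf 1))))))

noncomputable def car0 : Trie (ℤ) := .node (.node (.node (.node (.node (.node (.leaf 0) (.leaf (-2))) (.node (.leaf 2) (.leaf 0))) (.node (.node (.leaf 0) (.leaf (-1))) (.node (.leaf 0) (.leaf 0)))) (.node (.node (.node (.leaf (-2)) (.leaf 1)) (.node (.leaf 1) (.leaf 0))) (.node (.node (.leaf (-1)) (.leaf 1)) (.node (.leaf (-1)) (.leaf 0))))) (.node (.node (.node (.node (.leaf 0) (.leaf 1)) (.node (.leaf 1) (.leaf 0))) (.node (.node (.leaf 0) (.leaf 2)) (.node (.leaf 0) (.leaf 0)))) (.node (.node (.node (.leaf (-2)) (.leaf 0)) (.node (.leaf 0)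 (.leaf 0))) (.node (.node (.leaf (-2)) (.leaf 0)) (.node (.leaf (-2)) (.leaf 0)))))) (.node (.node (.node (.node (.node (.leaf 0) (.leaf 2)) (.node (.leaf 2) (.leaf 0))) (.node (.node (.leaf 0) (.leaf 2)) (.node (.leaf 0) (.leaf 0)))) (.node (.node (.node (.leaf (-2)) (.leaf 0)) (.node (.leaf 0) (.leaf 0))) (.node (.node (.leaf (-1)) (.leaf 0)) (.node (.leaf (-1)) (.leaf 0))))) (.node (.node (.node (.node (.leaf (-1)) (.leaf 1)) (.node (.leaf 1) (.leaf 0))) (.node (.node (.leaf (-1)) (.leaf 2)) (.node (.leaf (-1)) (.leaf 0)))) (.node (.node (.node (.leaf 1) (.leaf 0)) (.node (.leaf 0) (.leaf 0))) (.node (.node (.leaf 2) (.leaf 0)) (.node (.leaf (-2)) (.leaf 0))))))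

noncomputable def pos0 : Trie (ℕ) := .node (.node (.node (.node (.node (.node (.leaf 0) (.leaf 50)) (.node (.leaf 81) (.leaf 23))) (.node (.node (.leaf 68) (.leaf 39)) (.node (.leaf 13) (.leaf 23)))) (.node (.node (.node (.leaf 40) (.leaf 65)) (.node (.leaf 58) (.leaf 23))) (.node (.node (.leaf 29) (.leaf 67)) (.node (.leaf 36) (.leaf 23))))) (.node (.node (.node (.node (.leaf 2) (.leaf 63)) (.node (.leaf 56) (.leaf 23))) (.node (.node (.leaf 70) (.leaf 89)) (.node (.leaf 15) (.leaf 23)))) (.node (.node (.node (.leaf 42) (.leaf 77)) (.node (.leaf 12) (.leaf 23))) (.node (.node (.leaf 0) (.leaf 22)) (.node (.leaf 48) (.leaf 23)))))) (.node (.node (.node (.node (.node (.leaf 1) (.leaf 0)) (.node (.leaf 82) (.leaf 23))) (.node (.node (.leaf 69) (.leaf 88)) (.node (.leaf 14) (.leaf 23)))) (.node (.node (.node (.leaf 41) (.leaf 76)) (.node (.leaf 10) (.leaf 23))) (.node (.node (.leaf 30) (.leaf 21))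 (.node (.leaf 37) (.leaf 23))))) (.node (.node (.node (.node (.leaf 24) (.leaf 64)) (.node (.leaf 57) (.leaf 23))) (.node (.node (.leaf 28) (.leaf 90)) (.node (.leaf 35) (.leaf 23)))) (.node (.node (.node (.leaf 52) (.leaf 78)) (.node (.leaf 11) (.leaf 23))) (.node (.node (.leaf 80) (.leaf 23)) (.node (.leaf 49) (.leaf 23))))))

noncomputable def pi1 : Trie (ℕ) := .node (.node (.node (.node (.node (.node (.leaf 0) (.leaf 32)) (.node (.leaf 21) (.leaf 47))) (.node (.node (.leaf 7) (.leaf 39)) (.node (.leaf 24) (.leaf 47)))) (.node (.node (.node (.leaf 2) (.leaf 38)) (.node (.leaf 27) (.leaf 47))) (.node (.node (.leaf 10) (.leaf 44)) (.node (.leaf 28) (.leaf 47))))) (.node (.node (.node (.node (.leaf 4) (.leaf 33)) (.node (.leaf 18) (.leaf 47))) (.node (.node (.leaf 12) (.leaf 42)) (.node (.leaf 31) (.leaf 47)))) (.node (.node (.node (.leaf 6) (.leaf 36)) (.node (.leaf 17) (.leaf 47))) (.node (.node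 (.leaf 13) (.leaf 46)) (.node (.leaf 25) (.leaf 47)))))) (.node (.node (.node (.node (.node (.leaf 1) (.leaf 34)) (.node (.leaf 22) (.leaf 47))) (.node (.node (.leaf 11) (.leaf 41)) (.node (.leaf 30) (.leaf 47)))) (.node (.node (.node (.leaf 5) (.leaf 35)) (.node (.leaf 16) (.leaf 47))) (.node (.node (.leaf 14) (.leaf 43)) (.node (.leaf 29) (.leaf 47))))) (.node (.node (.node (.node (.leaf 3) (.leaf 37)) (.node (.leaf 19) (.leaf 47))) (.node (.node (.leaf 9) (.leaf 45)) (.node (.leaf 20) (.leaf 47)))) (.node (.node (.node (.leaf 8) (.leaf 40)) (.node (.leaf 23) (.leaf 47))) (.node (.node (.leaf 15) (.leaf 47)) (.node (.leaf 26) (.leaf 47))))))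

noncomputable def eta1 : Trie (ℤ) := .node (.node (.node (.node (.node (.node (.leaf 1) (.leaf 1)) (.node (.leaf (-1)) (.leaf 1))) (.node (.node (.leaf 1) (.leaf (-1))) (.node (.leaf 1) (.leaf 1)))) (.node (.node (.node (.leaf 1) (.leaf 1)) (.node (.leaf (-1)) (.leaf 1))) (.node (.node (.leaf 1) (.leaf (-1))) (.node (.leaf (-1)) (.leaf 1))))) (.node (.node (.node (.node (.leaf 1) (.leaf (-1))) (.node (.leaf (-1)) (.leaf 1))) (.node (.node (.leaf (-1)) (.leaf 1)) (.node (.leaf (-1)) (.leaf 1)))) (.node (.node (.node (.leaf 1) (.leaf (-1))) (.node (.leaf (-1)) (.leaf 1))) (.node (.node (.leaf 1) (.leaf 1)) (.node (.leaf (-1)) (.leaf 1)))))) (.node (.node (.node (.node (.node (.leaf 1) (.leaf 1)) (.node (.leaf (-1)) (.leaf 1))) (.node (.node (.leaf (-1)) (.leaf 1)) (.node (.leaf (-1)) (.leaf 1)))) (.node (.node (.node (.leaf 1) (.leaf (-1))) (.node (.leaf (-1)) (.leaf 1))) (.node (.node (.leaf (-1))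 (.leaf 1)) (.node (.leaf (-1)) (.leaf 1))))) (.node (.node (.node (.node (.leaf (-1)) (.leaf 1)) (.node (.leaf (-1)) (.leaf 1))) (.node (.node (.leaf 1) (.leaf 1)) (.node (.leaf (-1)) (.leaf 1)))) (.node (.node (.node (.leaf (-1)) (.leaf 1)) (.node (.leaf 1) (.leaf 1))) (.node (.node (.leaf 1) (.leaf 1)) (.node (.leaf (-1)) (.leaf 1))))))

noncomputable def car1 : Trie (ℤ) := .node (.node (.node (.node (.node (.node (.leaf 0) (.leaf 0)) (.node (.leaf (-2)) (.leaf 0))) (.node (.node (.leaf 1) (.leaf 1)) (.node (.leaf 0) (.leaf 0)))) (.node (.node (.node (.leaf 2) (.leaf (-1))) (.node (.leaf (-2)) (.leaf 0))) (.node (.node (.leaf 1) (.leaf 0)) (.node (.leaf 0) (.leaf 0))))) (.node (.node (.node (.node (.leaf (-2)) (.leaf 1)) (.node (.leaf 0) (.leaf 0))) (.node (.node (.leaf (-1)) (.leaf 0)) (.node (.leaf (-2)) (.leaf 0)))) (.node (.node (.node (.leaf 0) (.leaf 1)) (.node (.leaf 2) (.leaf 0))) (.node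 (.node (.leaf 1) (.leaf 0)) (.node (.leaf 2) (.leaf 0)))))) (.node (.node (.node (.node (.node (.leaf 0) (.leaf (-1))) (.node (.leaf (-2)) (.leaf 0))) (.node (.node (.leaf (-1)) (.leaf 0)) (.node (.leaf (-2)) (.leaf 0)))) (.node (.node (.node (.leaf 0) (.leaf 1)) (.node (.leaf 2) (.leaf 0))) (.node (.node (.leaf (-1)) (.leaf 2)) (.node (.leaf 0) (.leaf 0))))) (.node (.node (.node (.node (.leaf 0) (.leaf (-1))) (.node (.leaf 0) (.leaf 0))) (.node (.node (.leaf 1) (.leaf (-2))) (.node (.leaf 2) (.leaf 0)))) (.node (.node (.node (.leaf (-1)) (.leaf (-1))) (.node (.leaf 0) (.leaf 0))) (.node (.node (.leaf 0) (.leaf 0)) (.node (.leaf 2) (.leaf 0))))))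

noncomputable def pos1 : Trie (ℕ) := .node (.node (.node (.node (.node (.node (.leaf 3) (.leaf 18)) (.node (.leaf 44) (.leaf 20))) (.node (.node (.leaf 53) (.leaf 66)) (.node (.leaf 9) (.leaf 20)))) (.node (.node (.node (.leaf 83) (.leaf 34)) (.node (.leaf 0) (.leaf 20))) (.node (.node (.leaf 55) (.leaf 79)) (.node (.leaf 74) (.leaf 20))))) (.node (.node (.node (.node (.leaf 43) (.leaf 59)) (.node (.leaf 72) (.leaf 20))) (.node (.node (.leaf 27) (.leaf 17)) (.node (.leaf 47) (.leaf 20)))) (.node (.node (.node (.leaf 8) (.leaf 62)) (.node (.leaf 85) (.leaf 20))) (.node (.node (.leaf 60) (.leaf 19)) (.node (.leaf 86) (.leaf 20)))))) (.node (.node (.node (.node (.node (.leaf 4) (.leaf 31)) (.node (.leaf 45) (.leaf 20))) (.node (.node (.leaf 26) (.leaf 16)) (.node (.leaf 46) (.leaf 20)))) (.node (.node (.node (.leaf 6) (.leaf 61)) (.node (.leaf 84) (.leaf 20))) (.node (.node (.leaf 32) (.leaf 91))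 (.node (.leaf 75) (.leaf 20))))) (.node (.node (.node (.node (.leaf 71) (.leaf 33)) (.node (.leaf 73) (.leaf 20))) (.node (.node (.leaf 54) (.leaf 51)) (.node (.leaf 0) (.leaf 20)))) (.node (.node (.node (.leaf 25) (.leaf 38)) (.node (.leaf 7) (.leaf 20))) (.node (.node (.leaf 5) (.leaf 20)) (.node (.leaf 87) (.leaf 20))))))

noncomputable def pi2 : Trie (ℕ) := .node (.node (.node (.node (.node (.node (.leaf 0) (.leaf 31)) (.node (.leaf 15) (.leaf 47))) (.node (.node (.leaf 9) (.leaf 40)) (.node (.leaf 26) (.leaf 47)))) (.node (.node (.node (.leaf 5) (.leaf 36)) (.node (.leaf 19) (.leaf 47))) (.node (.node (.leaf 13) (.leaf 44)) (.node (.leaf 27) (.leaf 47))))) (.node (.node (.node (.node (.leaf 1) (.leaf 35)) (.node (.leaf 18) (.leaf 47))) (.node (.node (.leaf 10) (.leaf 43)) (.node (.leaf 24) (.leaf 47)))) (.node (.node (.node (.leaf 6) (.leaf 39)) (.node (.leaf 25) (.leaf 47))) (.node (.node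 (.leaf 14) (.leaf 45)) (.node (.leaf 30) (.leaf 47)))))) (.node (.node (.node (.node (.node (.leaf 2) (.leaf 33)) (.node (.leaf 17) (.leaf 47))) (.node (.node (.leaf 8) (.leaf 41)) (.node (.leaf 22) (.leaf 47)))) (.node (.node (.node (.leaf 4) (.leaf 37)) (.node (.leaf 23) (.leaf 47))) (.node (.node (.leaf 12) (.leaf 46)) (.node (.leaf 29) (.leaf 47))))) (.node (.node (.node (.node (.leaf 3) (.leaf 34)) (.node (.leaf 20) (.leaf 47))) (.node (.node (.leaf 11) (.leaf 42)) (.node (.leaf 28) (.leaf 47)))) (.node (.node (.node (.leaf 7) (.leaf 38)) (.node (.leaf 21) (.leaf 47))) (.node (.node (.leaf 16) (.leaf 47)) (.node (.leaf 32) (.leaf 47))))))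

noncomputable def eta2 : Trie (ℤ) := .node (.node (.node (.node (.node (.node (.leaf 1) (.leaf (-1))) (.node (.leaf 1) (.leaf 1))) (.node (.node (.leaf (-1)) (.leaf 1)) (.node (.leaf (-1)) (.leaf 1)))) (.node (.node (.node (.leaf (-1)) (.leaf 1)) (.node (.leaf 1) (.leaf 1))) (.node (.node (.leaf (-1)) (.leaf 1)) (.node (.leaf (-1)) (.leaf 1))))) (.node (.node (.node (.node (.leaf 1) (.leaf 1)) (.node (.leaf 1) (.leaf 1))) (.node (.node (.leaf 1) (.leaf 1)) (.node (.leaf 1) (.leaf 1)))) (.node (.node (.node (.leaf 1) (.leaf 1)) (.node (.leaf (-1)) (.leaf 1))) (.node (.node (.leaf 1) (.leaf (-1))) (.node (.leaf 1) (.leaf 1)))))) (.node (.node (.node (.node (.node (.leaf (-1)) (.leaf 1)) (.node (.leaf 1) (.leaf 1))) (.node (.node (.leaf 1) (.leaf 1)) (.node (.leaf (-1)) (.leaf 1)))) (.node (.node (.node (.leaf 1) (.leaf 1)) (.node (.leaf 1) (.leaf 1))) (.node (.node (.leaf 1) (.leaf 1)) (.node (.leaf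 1) (.leaf 1))))) (.node (.node (.node (.node (.leaf 1) (.leaf (-1))) (.node (.leaf (-1)) (.leaf 1))) (.node (.node (.leaf 1) (.leaf (-1))) (.node (.leaf 1) (.leaf 1)))) (.node (.node (.node (.leaf 1) (.leaf (-1))) (.node (.leaf (-1)) (.leaf 1))) (.node (.node (.leaf (-1)) (.leaf 1)) (.node (.leaf 1) (.leaf 1))))))

noncomputable def car2 : Trie (ℤ) := .node (.node (.node (.node (.node (.node (.leaf 0) (.leaf 1)) (.node (.leaf 1) (.leaf 0))) (.node (.node (.leaf (-1)) (.leaf 0)) (.node (.leaf (-1)) (.leaf 0)))) (.node (.node (.node (.leaf (-1)) (.leaf 0)) (.node (.leaf 1) (.leaf 0))) (.node (.node (.leaf (-1)) (.leaf 0)) (.node (.leaf 1) (.leaf 0))))) (.node (.node (.node (.node (.leaf 1) (.leaf (-1))) (.node (.leaf 0) (.leaf 0))) (.node (.node (.leaf 0) (.leaf (-1))) (.node (.leaf 1) (.leaf 0)))) (.node (.node (.node (.leaf 0) (.leaf (-1))) (.node (.leaf (-2)) (.leaf 0))) (.node (.node (.leaf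 0) (.leaf 1)) (.node (.leaf 0) (.leaf 0)))))) (.node (.node (.node (.node (.node (.leaf (-1)) (.leaf 0)) (.node (.leaf 0) (.leaf 0))) (.node (.node (.leaf 1) (.leaf 0)) (.node (.leaf 2) (.leaf 0)))) (.node (.node (.node (.leaf 1) (.leaf 0)) (.node (.leaf (-1)) (.leaf 0))) (.node (.node (.leaf 1) (.leaf (-1))) (.node (.leaf 0) (.leaf 0))))) (.node (.node (.node (.node (.leaf 0) (.leaf 1)) (.node (.leaf (-1)) (.leaf 0))) (.node (.node (.leaf 0) (.leaf 1)) (.node (.leaf (-1)) (.leaf 0)))) (.node (.node (.node (.leaf 0) (.leaf 1)) (.node (.leaf 1) (.leaf 0))) (.node (.node (.leaf (-1)) (.leaf 0)) (.node (.leaf (-1)) (.leaf 0))))))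

noncomputable def pos2 : Trie (ℕ) := .node (.node (.node (.node (.node (.node (.leaf 92) (.leaf 129)) (.node (.leaf 123) (.leaf 103))) (.node (.node (.leaf 160) (.leaf 155)) (.node (.leaf 111) (.leaf 103)))) (.node (.node (.node (.leaf 106) (.leaf 153)) (.node (.leaf 177) (.leaf 103))) (.node (.node (.leaf 164) (.leaf 156)) (.node (.leaf 178) (.leaf 103))))) (.node (.node (.node (.node (.leaf 120) (.leaf 167)) (.node (.leaf 144) (.leaf 103))) (.node (.node (.leaf 141) (.leaf 114)) (.node (.leaf 127) (.leaf 103)))) (.node (.node (.node (.leaf 96) (.leaf 171)) (.node (.leaf 0) (.leaf 103))) (.node (.node (.leaf 143) (.leaf 134)) (.node (.leaf 98) (.leaf 103)))))) (.node (.node (.node (.node (.node (.leaf 104) (.leaf 145)) (.node (.leaf 97) (.leaf 103))) (.node (.node (.leaf 172) (.leaf 99)) (.node (.leaf 0) (.leaf 103)))) (.node (.node (.node (.leaf 122) (.leaf 154)) (.node (.leaf 112) (.leaf 103)))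 (.node (.node (.leaf 176) (.leaf 118)) (.node (.leaf 152) (.leaf 103))))) (.node (.node (.node (.node (.leaf 136) (.leaf 179)) (.node (.leaf 165) (.leaf 103))) (.node (.node (.leaf 142) (.leaf 130)) (.node (.leaf 166) (.leaf 103)))) (.node (.node (.node (.leaf 137) (.leaf 183)) (.node (.leaf 128) (.leaf 103))) (.node (.node (.leaf 107) (.leaf 103)) (.node (.leaf 113) (.leaf 103))))))

noncomputable def pi3 : Trie (ℕ) := .node (.node (.node (.node (.node (.node (.leaf 1) (.leaf 32)) (.node (.leaf 17) (.leaf 46))) (.node (.node (.leaf 8) (.leaf 40)) (.node (.leaf 23) (.leaf 46)))) (.node (.node (.node (.leaf 4) (.leaf 35)) (.node (.leaf 20) (.leaf 46))) (.node (.node (.leaf 11) (.leaf 44)) (.node (.leaf 29) (.leaf 46))))) (.node (.node (.node (.node (.leaf 2) (.leaf 34)) (.node (.leaf 19) (.leaf 46))) (.node (.node (.leaf 9) (.leaf 41)) (.node (.leaf 25) (.leaf 46)))) (.node (.node (.node (.leaf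 5) (.leaf 37)) (.node (.leaf 21) (.leaf 46))) (.node (.node (.leaf 14) (.leaf 47)) (.node (.leaf 31) (.leaf 46)))))) (.node (.node (.node (.node (.node (.leaf 0) (.leaf 33)) (.node (.leaf 16) (.leaf 46))) (.node (.node (.leaf 10) (.leaf 42)) (.node (.leaf 26) (.leaf 46)))) (.node (.node (.node (.leaf 6) (.leaf 38)) (.node (.leaf 22) (.leaf 46))) (.node (.node (.leaf 13) (.leaf 45)) (.node (.leaf 28) (.leaf 46))))) (.node (.node (.node (.node (.leaf 3) (.leaf 36)) (.node (.leaf 18) (.leaf 46))) (.node (.node (.leaf 12) (.leaf 43)) (.node (.leaf 27) (.leaf 46)))) (.node (.node (.node (.leaf 7) (.leaf 39)) (.node (.leaf 24) (.leaf 46))) (.node (.node (.leaf 15) (.leaf 46)) (.node (.leaf 30) (.leaf 46))))))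

noncomputable def eta3 : Trie (ℤ) := .node (.node (.node (.node (.node (.node (.leaf (-1)) (.leaf 1)) (.node (.leaf (-1)) (.leaf (-1)))) (.node (.node (.leaf 1) (.leaf 1)) (.node (.leaf (-1)) (.leaf (-1))))) (.node (.node (.node (.leaf 1) (.leaf (-1))) (.node (.leaf 1) (.leaf (-1)))) (.node (.node (.leaf 1) (.leaf 1)) (.node (.leaf 1) (.leaf (-1)))))) (.node (.node (.node (.node (.leaf 1) (.leaf 1)) (.node (.leaf (-1)) (.leaf (-1)))) (.node (.node (.leaf 1) (.leaf (-1))) (.node (.leaf (-1)) (.leaf (-1))))) (.node (.node (.node (.leaf 1) (.leaf (-1))) (.node (.leaf 1) (.leaf (-1)))) (.node (.node (.leaf 1) (.leaf 1)) (.node (.leaf 1) (.leaf (-1))))))) (.node (.node (.node (.node (.node (.leaf 1) (.leaf 1)) (.node (.leaf 1) (.leaf (-1)))) (.node (.node (.leaf (-1)) (.leaf 1)) (.node (.leaf 1) (.leaf (-1))))) (.node (.node (.node (.leaf (-1)) (.leaf 1)) (.node (.leaf (-1)) (.leaf (-1)))) (.node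 (.node (.leaf 1) (.leaf 1)) (.node (.leaf (-1)) (.leaf (-1)))))) (.node (.node (.node (.node (.leaf 1) (.leaf 1)) (.node (.leaf 1) (.leaf (-1)))) (.node (.node (.leaf (-1)) (.leaf 1)) (.node (.leaf 1) (.leaf (-1))))) (.node (.node (.node (.leaf 1) (.leaf 1)) (.node (.leaf (-1)) (.leaf (-1)))) (.node (.node (.leaf 1) (.leaf (-1))) (.node (.leaf (-1)) (.leaf (-1)))))))

noncomputable def car3 : Trie (ℤ) := .node (.node (.node (.node (.node (.node (.leaf (-1)) (.leaf 0)) (.node (.leaf (-1)) (.leaf 1))) (.node (.node (.leaf 0) (.leaf 0)) (.node (.leaf 2) (.leaf 1)))) (.node (.node (.node (.leaf 0) (.leaf 1)) (.node (.leaf 0) (.leaf 1))) (.node (.node (.leaf 1) (.leaf 0)) (.node (.leaf (-1)) (.leaf 1))))) (.node (.node (.node (.node (.leaf 0) (.leaf 0)) (.node (.leaf (-1)) (.leaf 1))) (.node (.node (.leaf 1) (.leaf 1)) (.node (.leaf 1) (.leaf 1)))) (.node (.node (.node (.leaf 1) (.leaf 1)) (.node (.leaf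 1) (.leaf 1))) (.node (.node (.leaf 0) (.leaf (-1))) (.node (.leaf (-1)) (.leaf 1)))))) (.node (.node (.node (.node (.node (.leaf 1) (.leaf 0)) (.node (.leaf 1) (.leaf 1))) (.node (.node (.leaf (-1)) (.leaf (-1))) (.node (.leaf (-1)) (.leaf 1)))) (.node (.node (.node (.leaf (-1)) (.leaf (-1))) (.node (.leaf (-1)) (.leaf 1))) (.node (.node (.leaf 0) (.leaf 0)) (.node (.leaf 1) (.leaf 1))))) (.node (.node (.node (.node (.leaf 0) (.leaf (-1))) (.node (.leaf 1) (.leaf 1))) (.node (.node (.leaf (-1)) (.leaf 0)) (.node (.leaf 0) (.leaf 1)))) (.node (.node (.node (.leaf 0) (.leaf 0)) (.node (.leaf (-2)) (.leaf 1))) (.node (.node (.leaf 0) (.leaf 1)) (.node (.leaf 1) (.leaf 1))))))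

noncomputable def pos3 : Trie (ℕ) := .node (.node (.node (.node (.node (.node (.leaf 105) (.leaf 100)) (.node (.leaf 109) (.leaf 135))) (.node (.node (.leaf 140) (.leaf 158)) (.node (.leaf 0) (.leaf 135)))) (.node (.node (.node (.leaf 94) (.leaf 181)) (.node (.leaf 148) (.leaf 135))) (.node (.node (.leaf 174) (.leaf 159)) (.node (.leaf 168) (.leaf 135))))) (.node (.node (.node (.node (.leaf 93) (.leaf 151)) (.node (.leaf 163) (.leaf 135))) (.node (.node (.leaf 173) (.leaf 133)) (.node (.leaf 131) (.leaf 135)))) (.node (.node (.node (.leaf 124) (.leaf 182)) (.node (.leaf 126) (.leaf 135))) (.node (.node (.leaf 147) (.leaf 119)) (.node (.leaf 116) (.leaf 135)))))) (.node (.node (.node (.node (.node (.leaf 121) (.leaf 149)) (.node (.leaf 125) (.leaf 135))) (.node (.node (.leaf 161) (.leaf 117)) (.node (.leaf 115) (.leaf 135)))) (.node (.node (.node (.leaf 108) (.leaf 170)) (.node (.leaf 110) (.leaf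 135))) (.node (.node (.leaf 146) (.leaf 102)) (.node (.leaf 180) (.leaf 135))))) (.node (.node (.node (.node (.leaf 138) (.leaf 169)) (.node (.leaf 175) (.leaf 135))) (.node (.node (.leaf 162) (.leaf 101)) (.node (.leaf 150) (.leaf 135)))) (.node (.node (.node (.leaf 139) (.leaf 157)) (.node (.leaf 0) (.leaf 135))) (.node (.node (.leaf 95) (.leaf 135)) (.node (.leaf 132) (.leaf 135))))))

/-- The tables. -/
noncomputable def tbl : Tbl where
  l := 4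
  n := 48
  vec := vec
  wt := [2197, 169, 13, 1]
  pi := [pi0, pi1, pi2, pi3]
  eta := [eta0, eta1, eta2, eta3]
  rows := rows
  cor := cor
  car := [car0, car1, car2, car3]
  simple := [33, 27, 25, 24]
  bez := bez
  dsc := dsc
  reps := [(33, 0), (33, 3), (33, 4), (33, 7), (33, 8), (33, 15), (25, 0), (25, 1), (25, 2), (25, 3), (25, 8), (25, 9)]
  cert := cert
  ncert := 184
  pos := [pos0, pos1, pos2, pos3]

end CfsgLib.Chev.DataF4
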