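import Cfsg.Agent.Chev.Bruhat
import Cfsg.Agent.Chev.WeylPoincare
import Cfsg.Agent.Chev.TorusCert

/-!
# The order of the Chevalley groups from the Poincaré polynomial and the torus
-/

set_option autoImplicit false

namespace CfsgLib.Chev

open Cfsg.Lie

universe u

namespace Sys

variable {D : ChevalleyDatum} (S : Sys.{u} D) {F : Type u} [Field F] [Finite F]

include S

/-- `(∏ gcd(q-1, d_i)) |G| = q^N ∏ (q^d - 1)`. -/
theorem card_group_formula (C : TorusCert D) {degs : List ℕ}
    (hP : ∀ x : ℤ, (x - 1) ^ D.rank * ∑ w ∈ S.wfin D.rank, x ^ wlen w =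
      (degs.map fun d => x ^ d - 1).prod) :
    (∏ i, (Nat.card F - 1).gcd (C.d i)) * Nat.card (D.group F) =
      Nat.card F ^ (D.nroots / 2) * (degs.map fun d => Nat.card F ^ d - 1).prod := by
  have hset : S.wfin D.rank = S.weylSet := by
    ext w
    rw [S.mem_wfin, S.wsub_rank, S.mem_weylSet]
  have hq : 1 ≤ Nat.card F := Nat.card_pos
  set q := Nat.card F with hqdef
  have h := C.card_diagonal S F
  rw [← hqdef] at h
  rw [S.card_group, ← hqdef, ← mul_assoc, ← mul_assoc, h, mul_right_comm, mul_comm _ (q ^ _)]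
  congr 1
  have hz := hP (q : ℤ)
  rw [hset] at hz
  have hcast : ∀ l : List ℕ, (((l.map fun d => q ^ d - 1).prod : ℕ) : ℤ) =
      (l.map fun d => (q : ℤ) ^ d - 1).prod := by
    intro l
    induction l with
    | nil => simp
    | cons a l ih =>
      rw [List.map_cons, List.map_cons, List.prod_cons, List.prod_cons, Nat.cast_mul, ih,
        Nat.cast_sub (Nat.one_le_pow _ _ hq)]
      simp
  apply Nat.cast_injective (R := ℤ)
  rw [hcast, ← hz]
  push_cast [Nat.cast_sub hq]
  ring

end Sys

end CfsgLib.Chev
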