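import Cfsg.Agent.Chev.Engine

/-! Tables of the datum of type B2, generated from the definition; verified in `Chev.InstB2`. -/

set_option autoImplicit false
set_option maxRecDepth 100000
set_option linter.style.longLine false

namespace CfsgLib.Chev.DataB2

open CfsgLib.Chev

noncomputable def vec : Trie (List ℤ) := .node (.node (.node (.leaf [-2, -1]) (.leaf [0, 1])) (.node (.leaf [-1, 0]) (.leaf [1, 1]))) (.node (.node (.leaf [-1, -1]) (.leaf [1, 0])) (.node (.leaf [0, -1]) (.leaf [2, 1])))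

noncomputable def rows : Trie (List (ℕ × List (ℕ × ℤ))) := .node (.node (.node (.leaf [(5, [(1, 1)]), (6, [(2, -1)])]) (.leaf [(1, [(2, -1)]), (5, [(6, 1)])])) (.node (.leaf [(1, [(0, -2)]), (3, [(1, 1), (0, -1)]), (6, [(4, -2)]), (7, [(6, 1), (4, -1)])]) (.leaf [(0, [(2, 1), (4, 1)]), (2, [(4, 2)]), (3, [(5, -1), (7, 1)]), (5, [(7, -2)])]))) (.node (.node (.leaf [(2, [(0, 2)]), (4, [(2, 1), (0, 1)]), (5, [(3, -2)]), (7, [(5, -1), (3, 1)])]) (.leaf [(0, [(1, -1), (3, -1)]), (1, [(3, 2)]), (4, [(6, -1), (7, -1)]), (6, [(7, 2)])])) (.node (.leaf [(2, [(1, -1)]), (6, [(5, 1)])]) (.leaf [(1, [(5, 1)]), (2, [(6, -1)])])))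

noncomputable def cor : Trie (List ℤ) := .node (.node (.node (.leaf [-1, -1]) (.leaf [0, 1])) (.node (.leaf [-1, 0]) (.leaf [1, 2]))) (.node (.node (.leaf [-1, -2]) (.leaf [1, 0])) (.node (.leaf [0, -1]) (.leaf [1, 1])))

noncomputable def bez : Trie (List ℤ) := .node (.node (.node (.leaf [0, -1]) (.leaf [0, 1])) (.node (.leaf [-1, 0]) (.leaf [1, 0]))) (.node (.node (.leaf [1, -1]) (.leaf [1, 0])) (.node (.leaf [0, -1]) (.leaf [0, 1])))

noncomputable def dsc : Trie (ℕ) := .node (.node (.node (.leaf 0) (.leaf 0)) (.node (.leaf 0) (.leaf 1))) (.node (.node (.leaf 1) (.leaf 0)) (.node (.leaf 1) (.leaf 0)))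

noncomputable def cert : Trie (ℕ × ℕ × List ℕ × ℕ) := .node (.node (.node (.node (.leaf (5, 0, [], 0)) (.leaf (4, 1, [], 0))) (.node (.leaf (5, 3, [], 0)) (.leaf (4, 6, [0, 1, 0], 10)))) (.node (.node (.leaf (5, 1, [], 0)) (.leaf (4, 2, [], 0))) (.node (.leaf (4, 0, [], 0)) (.leaf (4, 6, [0, 1, 0], 10))))) (.node (.node (.node (.leaf (5, 4, [1, 0, 1], 0)) (.leaf (4, 5, [0, 1, 0], 8))) (.node (.leaf (5, 7, [1, 0, 1], 4)) (.leaf (4, 6, [0, 1, 0], 10)))) (.node (.node (.leaf (5, 6, [1, 0, 1], 2)) (.leaf (4, 6, [0, 1, 0], 10))) (.node (.leaf (4, 7, [0, 1, 0], 6)) (.leaf (4, 6, [0, 1, 0], 10)))))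

noncomputable def pi0 : Trie (ℕ) := .node (.node (.node (.leaf 3) (.leaf 7)) (.node (.leaf 5) (.leaf 6))) (.node (.node (.leaf 1) (.leaf 2)) (.node (.leaf 0) (.leaf 4)))

noncomputable def eta0 : Trie (ℤ) := .node (.node (.node (.leaf (-1)) (.leaf (-1))) (.node (.leaf (-1)) (.leaf (-1)))) (.node (.node (.leaf (-1)) (.leaf (-1))) (.node (.leaf (-1)) (.leaf (-1))))

noncomputable def car0 : Trie (ℤ) := .node (.node (.node (.leaf (-2)) (.leaf (-2))) (.node (.leaf (-2)) (.leaf 0))) (.node (.node (.leaf 0) (.leaf 2)) (.node (.leaf 2) (.leaf 2)))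

noncomputable def pos0 : Trie (ℕ) := .node (.node (.node (.leaf 0) (.leaf 1)) (.node (.leaf 0) (.leaf 3))) (.node (.node (.leaf 2) (.leaf 0)) (.node (.leaf 4) (.leaf 5)))

noncomputable def pi1 : Trie (ℕ) := .node (.node (.node (.leaf 0) (.leaf 3)) (.node (.leaf 1) (.leaf 5))) (.node (.node (.leaf 2) (.leaf 6)) (.node (.leaf 4) (.leaf 7)))

noncomputable def eta1 : Trie (ℤ) := .node (.node (.node (.leaf 1) (.leaf (-1))) (.node (.leaf 1) (.leaf (-1)))) (.node (.node (.leaf (-1)) (.leaf 1)) (.node (.leaf (-1)) (.leaf 1)))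

noncomputable def car1 : Trie (ℤ) := .node (.node (.node (.leaf 0) (.leaf 2)) (.node (.leaf 1) (.leaf 1))) (.node (.node (.leaf (-1)) (.leaf (-1))) (.node (.leaf (-2)) (.leaf 0)))

noncomputable def pos1 : Trie (ℕ) := .node (.node (.node (.leaf 6) (.leaf 0)) (.node (.leaf 10) (.leaf 11))) (.node (.node (.leaf 8) (.leaf 9)) (.node (.leaf 0) (.leaf 7)))

/-- The tables. -/
noncomputable def tbl : Tbl where
  l := 2
  n := 8
  vec := vec
  wt := [13, 1]
  pi := [pi0, pi1]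
  eta := [eta0, eta1]
  rows := rows
  cor := cor
  car := [car0, car1]
  simple := [5, 4]
  bez := bez
  dsc := dsc
  reps := [(5, 0), (5, 1), (5, 3), (4, 0), (4, 1), (4, 2)]
  cert := cert
  ncert := 12
  pos := [pos0, pos1]

end CfsgLib.Chev.DataB2
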