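import Cfsg.Agent.Chev.Engine

/-! Tables of the datum of type D4, generated from the definition; verified in `Chev.InstD4`. -/

set_option autoImplicit false
set_option maxRecDepth 100000
set_option linter.style.longLine false

namespace CfsgLib.Chev.DataD4

open CfsgLib.Chev

noncomputable def vec : Trie (List ℤ) := .node (.node (.node (.node (.node (.leaf [-1, -2, -1, -1]) (.leaf [0, 1, 1, 0])) (.node (.leaf [0, -1, 0, -1]) (.leaf [1, 2, 1, 1]))) (.node (.node (.leaf [-1, -1, 0, 0]) (.leaf [1, 1, 0, 1])) (.node (.leaf [0, 0, 0, 1]) (.leaf [1, 2, 1, 1])))) (.node (.node (.node (.leaf [-1, -1, -1, 0]) (.leaf [1, 0, 0, 0])) (.node (.leaf [0, 0, -1, 0]) (.leaf [1, 2, 1, 1]))) (.node (.node (.leaf [0, -1, -1, -1]) (.leaf [1, 1, 1, 1])) (.node (.leaf [0, 1, 0, 0]) (.leaf [1, 2, 1, 1]))))) (.node (.node (.node (.node (.leaf [-1, -1, -1, -1]) (.leaf [0, 1, 1, 1])) (.node (.leaf [0, -1, 0, 0]) (.leaf [1,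 2, 1, 1]))) (.node (.node (.leaf [-1, 0, 0, 0]) (.leaf [1, 1, 1, 0])) (.node (.leaf [0, 0, 1, 0]) (.leaf [1, 2, 1, 1])))) (.node (.node (.node (.leaf [-1, -1, 0, -1]) (.leaf [1, 1, 0, 0])) (.node (.leaf [0, 0, 0, -1]) (.leaf [1, 2, 1, 1]))) (.node (.node (.leaf [0, -1, -1, 0]) (.leaf [1, 2, 1, 1])) (.node (.leaf [0, 1, 0, 1]) (.leaf [1, 2, 1, 1])))))

noncomputable def rows : Trie (List (ℕ × List (ℕ × ℤ))) := .node (.node (.node (.node (.node (.leaf [(14, [(1, 1)]), (15, [(2, -1)]), (16, [(3, -1)]), (17, [(4, 1)]), (19, [(6, -1)]), (20, [(7, 1)]), (21, [(8, 1)]), (22, [(9, -1)])]) (.leaf [(0, [(3, 1)]), (2, [(5, -1)]), (6, [(11, 1)]), (9, [(13, 1)]), (10, [(14, -1)]), (12, [(17, -1)]), (18, [(21, 1)]), (20, [(23, -1)])])) (.node (.leaf [(2, [(0, 1)]), (5, [(3, -1)]), (10, [(6, 1)]), (12, [(9, 1)]), (14, [(11, -1)]), (17, [(13, -1)]), (20, [(18, 1)]), (23, [(21, -1)])]) (.leaf [(1, [(14, 1)]), (2,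 [(15, -1)]), (3, [(16, -1)]), (4, [(17, 1)]), (6, [(19, -1)]), (7, [(20, 1)]), (8, [(21, 1)]), (9, [(22, -1)])]))) (.node (.node (.leaf [(6, [(0, 1)]), (10, [(2, 1)]), (11, [(3, 1)]), (14, [(5, 1)]), (18, [(9, -1)]), (20, [(12, -1)]), (21, [(13, -1)]), (23, [(17, -1)])]) (.leaf [(0, [(7, -1)]), (1, [(10, 1)]), (4, [(12, 1)]), (5, [(15, 1)]), (8, [(18, -1)]), (11, [(19, -1)]), (13, [(22, -1)]), (16, [(23, 1)])])) (.node (.leaf [(1, [(2, -1)]), (3, [(4, -1)]), (6, [(7, -1)]), (8, [(9, -1)]), (14, [(15, 1)]), (16, [(17, 1)]), (19, [(20, 1)]), (21, [(22, 1)])]) (.leaf [(1, [(14, 1)]), (2, [(15, -1)]), (3, [(16, -1)]), (4, [(17, 1)]), (6, [(19, -1)]), (7, [(20, 1)]), (8, [(21, 1)]), (9, [(22, -1)])])))) (.node (.node (.node (.leaf [(8, [(0, -1)]), (11, [(1, 1)]), (13, [(4, 1)]), (16, [(5, 1)]), (18, [(7, -1)]), (19, [(10, -1)]), (22, [(12, -1)]), (23, [(15, 1)])]) (.leaf [(1, [(6, 1)]), (2, [(7, 1)]),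 (3, [(8, 1)]), (4, [(9, 1)]), (14, [(19, -1)]), (15, [(20, -1)]), (16, [(21, -1)]), (17, [(22, -1)])])) (.node (.leaf [(3, [(1, -1)]), (4, [(2, -1)]), (8, [(6, -1)]), (9, [(7, -1)]), (16, [(14, 1)]), (17, [(15, 1)]), (21, [(19, 1)]), (22, [(20, 1)])]) (.leaf [(1, [(14, 1)]), (2, [(15, -1)]), (3, [(16, -1)]), (4, [(17, 1)]), (6, [(19, -1)]), (7, [(20, 1)]), (8, [(21, 1)]), (9, [(22, -1)])]))) (.node (.node (.leaf [(4, [(0, -1)]), (5, [(1, -1)]), (12, [(7, 1)]), (13, [(8, 1)]), (15, [(10, -1)]), (16, [(11, -1)]), (22, [(18, 1)]), (23, [(19, 1)])]) (.leaf [(0, [(9, 1)]), (2, [(12, 1)]), (3, [(13, 1)]), (5, [(17, 1)]), (6, [(18, -1)]), (10, [(20, -1)]), (11, [(21, -1)]), (14, [(23, -1)])])) (.node (.leaf [(0, [(1, -1)]), (4, [(5, -1)]), (7, [(10, 1)]), (8, [(11, 1)]), (12, [(15, -1)]), (13, [(16, -1)]), (18, [(19, 1)]), (22, [(23, 1)])]) (.leaf [(1, [(14, 1)]), (2, [(15, -1)]), (3, [(16, -1)]), (4, [(17,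 1)]), (6, [(19, -1)]), (7, [(20, 1)]), (8, [(21, 1)]), (9, [(22, -1)])]))))) (.node (.node (.node (.node (.leaf [(9, [(0, 1)]), (12, [(2, 1)]), (13, [(3, 1)]), (17, [(5, 1)]), (18, [(6, -1)]), (20, [(10, -1)]), (21, [(11, -1)]), (23, [(14, -1)])]) (.leaf [(0, [(4, -1)]), (1, [(5, -1)]), (7, [(12, 1)]), (8, [(13, 1)]), (10, [(15, -1)]), (11, [(16, -1)]), (18, [(22, 1)]), (19, [(23, 1)])])) (.node (.leaf [(1, [(0, -1)]), (5, [(4, -1)]), (10, [(7, 1)]), (11, [(8, 1)]), (15, [(12, -1)]), (16, [(13, -1)]), (19, [(18, 1)]), (23, [(22, 1)])]) (.leaf [(1, [(14, 1)]), (2, [(15, -1)]), (3, [(16, -1)]), (4, [(17, 1)]), (6, [(19, -1)]), (7, [(20, 1)]), (8, [(21, 1)]), (9, [(22, -1)])]))) (.node (.node (.leaf [(6, [(1, 1)]), (7, [(2, 1)]), (8, [(3, 1)]), (9, [(4, 1)]), (19, [(14, -1)]), (20, [(15, -1)]), (21, [(16, -1)]), (22, [(17, -1)])]) (.leaf [(0, [(8, -1)]), (1, [(11, 1)]), (4, [(13, 1)]), (5, [(16, 1)]),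 (7, [(18, -1)]), (10, [(19, -1)]), (12, [(22, -1)]), (15, [(23, 1)])])) (.node (.leaf [(1, [(3, -1)]), (2, [(4, -1)]), (6, [(8, -1)]), (7, [(9, -1)]), (14, [(16, 1)]), (15, [(17, 1)]), (19, [(21, 1)]), (20, [(22, 1)])]) (.leaf [(1, [(14, 1)]), (2, [(15, -1)]), (3, [(16, -1)]), (4, [(17, 1)]), (6, [(19, -1)]), (7, [(20, 1)]), (8, [(21, 1)]), (9, [(22, -1)])])))) (.node (.node (.node (.leaf [(7, [(0, -1)]), (10, [(1, 1)]), (12, [(4, 1)]), (15, [(5, 1)]), (18, [(8, -1)]), (19, [(11, -1)]), (22, [(13, -1)]), (23, [(16, 1)])]) (.leaf [(0, [(6, 1)]), (2, [(10, 1)]), (3, [(11, 1)]), (5, [(14, 1)]), (9, [(18, -1)]), (12, [(20, -1)]), (13, [(21, -1)]), (17, [(23, -1)])])) (.node (.leaf [(2, [(1, -1)]), (4, [(3, -1)]), (7, [(6, -1)]), (9, [(8, -1)]), (15, [(14, 1)]), (17, [(16, 1)]), (20, [(19, 1)]), (22, [(21, 1)])]) (.leaf [(1, [(14, 1)]), (2, [(15, -1)]), (3, [(16, -1)]), (4, [(17, 1)]), (6, [(19, -1)]),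 (7, [(20, 1)]), (8, [(21, 1)]), (9, [(22, -1)])]))) (.node (.node (.leaf [(3, [(0, 1)]), (5, [(2, -1)]), (11, [(6, 1)]), (13, [(9, 1)]), (14, [(10, -1)]), (17, [(12, -1)]), (21, [(18, 1)]), (23, [(20, -1)])]) (.leaf [(1, [(14, 1)]), (2, [(15, -1)]), (3, [(16, -1)]), (4, [(17, 1)]), (6, [(19, -1)]), (7, [(20, 1)]), (8, [(21, 1)]), (9, [(22, -1)])])) (.node (.leaf [(0, [(2, 1)]), (3, [(5, -1)]), (6, [(10, 1)]), (9, [(12, 1)]), (11, [(14, -1)]), (13, [(17, -1)]), (18, [(20, 1)]), (21, [(23, -1)])]) (.leaf [(1, [(14, 1)]), (2, [(15, -1)]), (3, [(16, -1)]), (4, [(17, 1)]), (6, [(19, -1)]), (7, [(20, 1)]), (8, [(21, 1)]), (9, [(22, -1)])])))))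

noncomputable def cor : Trie (List ℤ) := .node (.node (.node (.node (.node (.leaf [-1, -2, -1, -1]) (.leaf [0, 1, 1, 0])) (.node (.leaf [0, -1, 0, -1]) (.leaf [1, 2, 1, 1]))) (.node (.node (.leaf [-1, -1, 0, 0]) (.leaf [1, 1, 0, 1])) (.node (.leaf [0, 0, 0, 1]) (.leaf [1, 2, 1, 1])))) (.node (.node (.node (.leaf [-1, -1, -1, 0]) (.leaf [1, 0, 0, 0])) (.node (.leaf [0, 0, -1, 0]) (.leaf [1, 2, 1, 1]))) (.node (.node (.leaf [0, -1, -1, -1]) (.leaf [1, 1, 1, 1])) (.node (.leaf [0, 1, 0, 0]) (.leaf [1, 2, 1, 1]))))) (.node (.node (.node (.node (.leaf [-1, -1, -1, -1]) (.leaf [0, 1, 1, 1])) (.node (.leaf [0, -1, 0, 0]) (.leaf [1, 2, 1, 1]))) (.node (.node (.leaf [-1, 0, 0, 0]) (.leaf [1, 1, 1, 0])) (.node (.leaf [0, 0, 1, 0]) (.leaf [1, 2, 1, 1])))) (.node (.node (.node (.leaf [-1, -1, 0, -1]) (.leaf [1, 1, 0, 0])) (.node (.leaf [0, 0, 0, -1]) (.leaf [1, 2, 1, 1]))) (.node (.node (.leaf [0, -1, -1, 0])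 (.leaf [1, 2, 1, 1])) (.node (.leaf [0, 1, 0, 1]) (.leaf [1, 2, 1, 1])))))

noncomputable def bez : Trie (List ℤ) := .node (.node (.node (.node (.node (.leaf [0, 0, 0, -1]) (.leaf [0, 0, 1, 0])) (.node (.leaf [0, 0, 0, -1]) (.leaf [0, 0, 0, 1]))) (.node (.node (.leaf [0, -1, 0, 0]) (.leaf [0, 0, 0, 1])) (.node (.leaf [0, 0, 0, 1]) (.leaf [0, 0, 0, 1])))) (.node (.node (.node (.leaf [0, 0, -1, 0]) (.leaf [1, 0, 0, 0])) (.node (.leaf [0, 0, -1, 0]) (.leaf [0, 0, 0, 1]))) (.node (.node (.leaf [0, 0, 0, -1]) (.leaf [0, 0, 0, 1])) (.node (.leaf [0, 1, 0, 0]) (.leaf [0, 0, 0, 1]))))) (.node (.node (.node (.node (.leaf [0, 0, 0, -1]) (.leaf [0, 0, 0, 1])) (.node (.leaf [0, -1, 0, 0]) (.leaf [0, 0, 0, 1]))) (.node (.node (.leaf [-1, 0, 0, 0]) (.leaf [0, 0, 1, 0])) (.node (.leaf [0, 0, 1, 0]) (.leaf [0, 0, 0, 1])))) (.node (.node (.node (.leaf [0, 0, 0, -1]) (.leaf [0, 1, 0, 0])) (.node (.leaf [0, 0, 0, -1])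 (.leaf [0, 0, 0, 1]))) (.node (.node (.leaf [0, 0, -1, 0]) (.leaf [0, 0, 0, 1])) (.node (.leaf [0, 0, 0, 1]) (.leaf [0, 0, 0, 1])))))

noncomputable def dsc : Trie (ℕ) := .node (.node (.node (.node (.node (.leaf 1) (.leaf 1)) (.node (.leaf 1) (.leaf 1))) (.node (.node (.leaf 0) (.leaf 0)) (.node (.leaf 0) (.leaf 1)))) (.node (.node (.node (.leaf 0) (.leaf 0)) (.node (.leaf 2) (.leaf 1))) (.node (.node (.leaf 2) (.leaf 0)) (.node (.leaf 0) (.leaf 1))))) (.node (.node (.node (.node (.leaf 0) (.leaf 2)) (.node (.leaf 1) (.leaf 1))) (.node (.node (.leaf 0) (.leaf 0)) (.node (.leaf 0) (.leaf 1)))) (.node (.node (.node (.leaf 0) (.leaf 0)) (.node (.leaf 3) (.leaf 1))) (.node (.node (.leaf 1) (.leaf 1)) (.node (.leaf 1) (.leaf 1)))))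

noncomputable def cert : Trie (ℕ × ℕ × List ℕ × ℕ) := .node (.node (.node (.node (.node (.node (.node (.leaf (18, 0, [], 0)) (.leaf (14, 5, [2, 1], 56))) (.node (.leaf (14, 4, [2, 1], 24)) (.leaf (12, 18, [1, 3], 83)))) (.node (.node (.leaf (13, 1, [1, 2], 12)) (.leaf (18, 11, [], 0))) (.node (.leaf (13, 3, [1, 2], 44)) (.leaf (12, 18, [1, 3], 83))))) (.node (.node (.node (.leaf (18, 1, [], 0)) (.leaf (18, 10, [], 0))) (.node (.leaf (18, 6, [], 0)) (.leaf (12, 18, [1, 3], 83)))) (.node (.node (.leaf (13, 2, [3], 16)) (.leaf (12, 18, [1, 3], 83))) (.node (.leaf (13, 4, [3], 48)) (.leaf (12, 18, [1, 3], 83)))))) (.node (.node (.node (.node (.leaf (13, 12, [3], 2)) (.leaf (18, 19, [1, 0], 64))) (.node (.leaf (18, 14, [1, 0], 32)) (.leaf (12, 18, [1, 3], 83)))) (.node (.node (.leaf (13, 14, [1, 2], 14)) (.leaf (13, 0, [1, 2], 82))) (.node (.leaf (13, 16, [1, 2], 46)) (.leaf (12, 18, [1, 3], 83)))))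 (.node (.node (.node (.leaf (14, 0, [0, 1], 8)) (.leaf (13, 5, [1, 2], 74))) (.node (.leaf (14, 1, [0, 1], 40)) (.leaf (12, 18, [1, 3], 83)))) (.node (.node (.leaf (13, 15, [3], 20)) (.leaf (12, 18, [1, 3], 83))) (.node (.leaf (13, 17, [3], 52)) (.leaf (12, 18, [1, 3], 83))))))) (.node (.node (.node (.node (.node (.leaf (13, 11, [1, 2], 1)) (.leaf (14, 15, [2, 1], 60))) (.node (.leaf (14, 12, [2, 1], 28)) (.leaf (12, 18, [1, 3], 83)))) (.node (.node (.leaf (13, 6, [1, 2], 13)) (.leaf (14, 3, [0, 1], 80))) (.node (.leaf (13, 8, [1, 2], 45)) (.leaf (12, 18, [1, 3], 83))))) (.node (.node (.node (.leaf (18, 2, [3], 8)) (.leaf (14, 2, [0, 1], 72))) (.node (.leaf (18, 7, [3], 40)) (.leaf (12, 18, [1, 3], 83)))) (.node (.node (.leaf (13, 7, [3], 18)) (.leaf (12, 18, [1, 3], 83))) (.node (.leaf (13, 9, [3], 50)) (.leaf (12, 18, [1, 3], 83)))))) (.node (.node (.node (.node (.leaf (14, 17, [2, 1], 4)) (.leaf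 (18, 20, [1, 0], 66))) (.node (.leaf (18, 15, [1, 0], 34)) (.leaf (12, 18, [1, 3], 83)))) (.node (.node (.leaf (13, 19, [1, 2], 15)) (.leaf (13, 23, [1, 2], 83))) (.node (.leaf (13, 21, [1, 2], 47)) (.leaf (12, 18, [1, 3], 83))))) (.node (.node (.node (.leaf (14, 7, [0, 1], 10)) (.leaf (13, 18, [1, 2], 75))) (.node (.leaf (14, 10, [0, 1], 42)) (.leaf (12, 18, [1, 3], 83)))) (.node (.node (.leaf (13, 20, [3], 22)) (.leaf (12, 18, [1, 3], 83))) (.node (.leaf (13, 22, [3], 54)) (.leaf (12, 18, [1, 3], 83)))))))) (.node (.node (.node (.node (.node (.node (.leaf (14, 6, [0, 1], 0)) (.leaf (14, 16, [2, 1], 58))) (.node (.leaf (14, 13, [2, 1], 26)) (.leaf (12, 18, [1, 3], 83)))) (.node (.node (.leaf (12, 1, [1, 3], 12)) (.leaf (18, 12, [3], 80))) (.node (.leaf (12, 2, [1, 3], 44)) (.leaf (12, 18, [1, 3], 83))))) (.node (.node (.node (.leaf (18, 3, [2], 8)) (.leaf (18, 13, [2], 72))) (.node (.leaf (18, 8,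 [2], 40)) (.leaf (12, 18, [1, 3], 83)))) (.node (.node (.leaf (12, 3, [2], 17)) (.leaf (12, 18, [1, 3], 83))) (.node (.leaf (12, 4, [2], 49)) (.leaf (12, 18, [1, 3], 83)))))) (.node (.node (.node (.node (.leaf (12, 13, [2], 3)) (.leaf (18, 21, [1, 0], 65))) (.node (.leaf (18, 16, [1, 0], 33)) (.leaf (12, 18, [1, 3], 83)))) (.node (.node (.leaf (12, 6, [1, 3], 14)) (.leaf (12, 5, [1, 3], 82))) (.node (.leaf (12, 7, [1, 3], 46)) (.leaf (12, 18, [1, 3], 83))))) (.node (.node (.node (.leaf (14, 8, [0, 1], 9)) (.leaf (12, 0, [1, 3], 74))) (.node (.leaf (14, 11, [0, 1], 41)) (.leaf (12, 18, [1, 3], 83)))) (.node (.node (.leaf (12, 8, [2], 21)) (.leaf (12, 18, [1, 3], 83))) (.node (.leaf (12, 9, [2], 53)) (.leaf (12, 18, [1, 3], 83))))))) (.node (.node (.node (.node (.node (.leaf (12, 10, [1, 3], 1)) (.leaf (14, 23, [2, 1], 62))) (.node (.leaf (14, 22, [2, 1], 30)) (.leaf (12, 18, [1, 3], 83)))) (.node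 (.node (.leaf (12, 14, [1, 3], 13)) (.leaf (14, 20, [0, 1], 81))) (.node (.leaf (12, 15, [1, 3], 45)) (.leaf (12, 18, [1, 3], 83))))) (.node (.node (.node (.leaf (18, 4, [3], 9)) (.leaf (14, 21, [0, 1], 73))) (.node (.leaf (18, 9, [3], 41)) (.leaf (12, 18, [1, 3], 83)))) (.node (.node (.leaf (12, 16, [2], 19)) (.leaf (12, 18, [1, 3], 83))) (.node (.leaf (12, 17, [2], 51)) (.leaf (12, 18, [1, 3], 83)))))) (.node (.node (.node (.node (.leaf (18, 23, [1, 0], 6)) (.leaf (18, 22, [1, 0], 67))) (.node (.leaf (18, 17, [1, 0], 35)) (.leaf (12, 18, [1, 3], 83)))) (.node (.node (.leaf (12, 19, [1, 3], 15)) (.leaf (12, 18, [1, 3], 83))) (.node (.leaf (12, 20, [1, 3], 47)) (.leaf (12, 18, [1, 3], 83))))) (.node (.node (.node (.leaf (14, 18, [0, 1], 11)) (.leaf (12, 23, [1, 3], 75))) (.node (.leaf (14, 19, [0, 1], 43)) (.leaf (12, 18, [1, 3], 83)))) (.node (.node (.leaf (12, 21, [2], 23)) (.leaf (12, 18, [1,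 3], 83))) (.node (.leaf (12, 22, [2], 55)) (.leaf (12, 18, [1, 3], 83))))))))

noncomputable def pi0 : Trie (ℕ) := .node (.node (.node (.node (.node (.leaf 0) (.leaf 21)) (.node (.leaf 3) (.leaf 23))) (.node (.node (.leaf 9) (.leaf 15)) (.node (.leaf 12) (.leaf 23)))) (.node (.node (.node (.leaf 7) (.leaf 5)) (.node (.leaf 10) (.leaf 23))) (.node (.node (.leaf 1) (.leaf 17)) (.node (.leaf 19) (.leaf 23))))) (.node (.node (.node (.node (.leaf 6) (.leaf 22)) (.node (.leaf 4) (.leaf 23))) (.node (.node (.leaf 18) (.leaf 16)) (.node (.leaf 13) (.leaf 23)))) (.node (.node (.node (.leaf 8) (.leaf 14)) (.node (.leaf 11) (.leaf 23))) (.node (.node (.leaf 2) (.leaf 23)) (.node (.leaf 20) (.leaf 23)))))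

noncomputable def eta0 : Trie (ℤ) := .node (.node (.node (.node (.node (.leaf 1) (.leaf (-1))) (.node (.leaf (-1)) (.leaf 1))) (.node (.node (.leaf 1) (.leaf 1)) (.node (.leaf 1) (.leaf 1)))) (.node (.node (.node (.leaf 1) (.leaf (-1))) (.node (.leaf 1) (.leaf 1))) (.node (.node (.leaf (-1)) (.leaf 1)) (.node (.leaf (-1)) (.leaf 1))))) (.node (.node (.node (.node (.leaf 1) (.leaf (-1))) (.node (.leaf (-1)) (.leaf 1))) (.node (.node (.leaf (-1)) (.leaf 1)) (.node (.leaf 1) (.leaf 1)))) (.node (.node (.node (.leaf 1) (.leaf 1)) (.node (.leaf 1) (.leaf 1))) (.node (.node (.leaf (-1)) (.leaf 1)) (.node (.leaf (-1)) (.leaf 1)))))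

noncomputable def car0 : Trie (ℤ) := .node (.node (.node (.node (.node (.leaf 0) (.leaf (-1))) (.node (.leaf 1) (.leaf 0))) (.node (.node (.leaf (-1)) (.leaf 1)) (.node (.leaf 0) (.leaf 0)))) (.node (.node (.node (.leaf (-1)) (.leaf 2)) (.node (.leaf 0) (.leaf 0))) (.node (.node (.leaf 1) (.leaf 1)) (.node (.leaf (-1)) (.leaf 0))))) (.node (.node (.node (.node (.leaf (-1)) (.leaf (-1))) (.node (.leaf 1) (.leaf 0))) (.node (.node (.leaf (-2)) (.leaf 1)) (.node (.leaf 0) (.leaf 0)))) (.node (.node (.node (.leaf (-1)) (.leaf 1)) (.node (.leaf 0) (.leaf 0))) (.node (.node (.leaf 1) (.leaf 0)) (.node (.leaf (-1)) (.leaf 0)))))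

noncomputable def pos0 : Trie (ℕ) := .node (.node (.node (.node (.node (.leaf 0) (.leaf 37)) (.node (.leaf 41) (.leaf 7))) (.node (.node (.leaf 11) (.leaf 70)) (.node (.leaf 81) (.leaf 7)))) (.node (.node (.node (.leaf 10) (.leaf 0)) (.node (.leaf 72) (.leaf 7))) (.node (.node (.leaf 40) (.leaf 71)) (.node (.leaf 36) (.leaf 7))))) (.node (.node (.node (.node (.leaf 8) (.leaf 39)) (.node (.leaf 43) (.leaf 7))) (.node (.node (.leaf 0) (.leaf 69)) (.node (.leaf 73) (.leaf 7)))) (.node (.node (.node (.leaf 9) (.leaf 68)) (.node (.leaf 80) (.leaf 7))) (.node (.node (.leaf 42) (.leaf 7)) (.node (.leaf 38) (.leaf 7)))))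

noncomputable def pi1 : Trie (ℕ) := .node (.node (.node (.node (.node (.leaf 1) (.leaf 13)) (.node (.leaf 11) (.leaf 22))) (.node (.node (.leaf 5) (.leaf 20)) (.node (.leaf 15) (.leaf 22)))) (.node (.node (.node (.leaf 2) (.leaf 19)) (.node (.leaf 7) (.leaf 22))) (.node (.node (.leaf 6) (.leaf 23)) (.node (.leaf 9) (.leaf 22))))) (.node (.node (.node (.node (.leaf 0) (.leaf 17)) (.node (.leaf 14) (.leaf 22))) (.node (.node (.leaf 4) (.leaf 21)) (.node (.leaf 16) (.leaf 22)))) (.node (.node (.node (.leaf 3) (.leaf 18)) (.node (.leaf 8) (.leaf 22))) (.node (.node (.leaf 10) (.leaf 22)) (.node (.leaf 12) (.leaf 22)))))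

noncomputable def eta1 : Trie (ℤ) := .node (.node (.node (.node (.node (.leaf (-1)) (.leaf 1)) (.node (.leaf 1) (.leaf (-1)))) (.node (.node (.leaf (-1)) (.leaf 1)) (.node (.leaf (-1)) (.leaf (-1))))) (.node (.node (.node (.leaf 1) (.leaf 1)) (.node (.leaf (-1)) (.leaf (-1)))) (.node (.node (.leaf 1) (.leaf 1)) (.node (.leaf (-1)) (.leaf (-1)))))) (.node (.node (.node (.node (.leaf 1) (.leaf 1)) (.node (.leaf (-1)) (.leaf (-1)))) (.node (.node (.leaf 1) (.leaf 1)) (.node (.leaf (-1)) (.leaf (-1))))) (.node (.node (.node (.leaf 1) (.leaf (-1))) (.node (.leaf (-1)) (.leaf (-1)))) (.node (.node (.leaf 1) (.leaf (-1))) (.node (.leaf 1) (.leaf (-1))))))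

noncomputable def car1 : Trie (ℤ) := .node (.node (.node (.node (.node (.leaf (-1)) (.leaf 1)) (.node (.leaf (-1)) (.leaf 1))) (.node (.node (.leaf (-1)) (.leaf 0)) (.node (.leaf (-1)) (.leaf 1)))) (.node (.node (.node (.leaf 0) (.leaf (-1))) (.node (.leaf 1) (.leaf 1))) (.node (.node (.leaf 0) (.leaf (-1))) (.node (.leaf 2) (.leaf 1))))) (.node (.node (.node (.node (.leaf 1) (.leaf 0)) (.node (.leaf (-2)) (.leaf 1))) (.node (.node (.leaf 1) (.leaf 0)) (.node (.leaf (-1)) (.leaf 1)))) (.node (.node (.node (.leaf 0) (.leaf 1)) (.node (.leaf 1) (.leaf 1))) (.node (.node (.leaf (-1)) (.leaf 1)) (.node (.leaf 1) (.leaf 1)))))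

noncomputable def pos1 : Trie (ℕ) := .node (.node (.node (.node (.node (.leaf 12) (.leaf 65)) (.node (.leaf 13) (.leaf 67))) (.node (.node (.leaf 32) (.leaf 83)) (.node (.leaf 34) (.leaf 67)))) (.node (.node (.node (.leaf 74) (.leaf 15)) (.node (.leaf 46) (.leaf 67))) (.node (.node (.leaf 1) (.leaf 35)) (.node (.leaf 0) (.leaf 67))))) (.node (.node (.node (.node (.leaf 44) (.leaf 6)) (.node (.leaf 0) (.leaf 67))) (.node (.node (.leaf 64) (.leaf 75)) (.node (.leaf 33) (.leaf 67)))) (.node (.node (.node (.leaf 82) (.leaf 47)) (.node (.leaf 45) (.leaf 67))) (.node (.node (.leaf 14) (.leaf 67)) (.node (.leaf 66) (.leaf 67)))))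

noncomputable def pi2 : Trie (ℕ) := .node (.node (.node (.node (.node (.leaf 0) (.leaf 14)) (.node (.leaf 6) (.leaf 23))) (.node (.node (.leaf 2) (.leaf 22)) (.node (.leaf 12) (.leaf 23)))) (.node (.node (.node (.leaf 4) (.leaf 18)) (.node (.leaf 13) (.leaf 23))) (.node (.node (.leaf 8) (.leaf 20)) (.node (.leaf 16) (.leaf 23))))) (.node (.node (.node (.node (.leaf 3) (.leaf 15)) (.node (.leaf 7) (.leaf 23))) (.node (.node (.leaf 5) (.leaf 19)) (.node (.leaf 10) (.leaf 23)))) (.node (.node (.node (.leaf 1) (.leaf 21)) (.node (.leaf 11) (.leaf 23))) (.node (.node (.leaf 9) (.leaf 23)) (.node (.leaf 17) (.leaf 23)))))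

noncomputable def eta2 : Trie (ℤ) := .node (.node (.node (.node (.node (.leaf 1) (.leaf (-1))) (.node (.leaf 1) (.leaf 1))) (.node (.node (.leaf 1) (.leaf 1)) (.node (.leaf 1) (.leaf 1)))) (.node (.node (.node (.leaf (-1)) (.leaf 1)) (.node (.leaf (-1)) (.leaf 1))) (.node (.node (.leaf (-1)) (.leaf (-1))) (.node (.leaf 1) (.leaf 1))))) (.node (.node (.node (.node (.leaf (-1)) (.leaf (-1))) (.node (.leaf 1) (.leaf 1))) (.node (.node (.leaf 1) (.leaf (-1))) (.node (.leaf (-1)) (.leaf 1)))) (.node (.node (.node (.leaf 1) (.leaf 1)) (.node (.leaf 1) (.leaf 1))) (.node (.node (.leaf (-1)) (.leaf 1)) (.node (.leaf 1) (.leaf 1)))))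

noncomputable def car2 : Trie (ℤ) := .node (.node (.node (.node (.node (.leaf 0) (.leaf 1)) (.node (.leaf 1) (.leaf 0))) (.node (.node (.leaf 1) (.leaf (-1))) (.node (.leaf 0) (.leaf 0)))) (.node (.node (.node (.leaf (-1)) (.leaf 0)) (.node (.leaf (-2)) (.leaf 0))) (.node (.node (.leaf (-1)) (.leaf 1)) (.node (.leaf (-1)) (.leaf 0))))) (.node (.node (.node (.node (.leaf (-1)) (.leaf 1)) (.node (.leaf 1) (.leaf 0))) (.node (.node (.leaf 0) (.leaf 1)) (.node (.leaf 2) (.leaf 0)))) (.node (.node (.node (.leaf 1) (.leaf (-1))) (.node (.leaf 0) (.leaf 0))) (.node (.node (.leaf (-1)) (.leaf 0)) (.node (.leaf (-1)) (.leaf 0)))))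

noncomputable def pos2 : Trie (ℕ) := .node (.node (.node (.node (.node (.leaf 84) (.leaf 52)) (.node (.leaf 50) (.leaf 86))) (.node (.node (.leaf 56) (.leaf 30)) (.node (.leaf 4) (.leaf 86)))) (.node (.node (.node (.leaf 24) (.leaf 78)) (.node (.leaf 0) (.leaf 86))) (.node (.node (.leaf 18) (.leaf 62)) (.node (.leaf 20) (.leaf 86))))) (.node (.node (.node (.node (.leaf 16) (.leaf 60)) (.node (.leaf 58) (.leaf 86))) (.node (.node (.leaf 76) (.leaf 54)) (.node (.leaf 0) (.leaf 86)))) (.node (.node (.node (.leaf 48) (.leaf 22)) (.node (.leaf 2) (.leaf 86))) (.node (.node (.leaf 26) (.leaf 86)) (.node (.leaf 28) (.leaf 86)))))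

noncomputable def pi3 : Trie (ℕ) := .node (.node (.node (.node (.node (.leaf 0) (.leaf 17)) (.node (.leaf 9) (.leaf 23))) (.node (.node (.leaf 3) (.leaf 19)) (.node (.leaf 11) (.leaf 23)))) (.node (.node (.node (.leaf 1) (.leaf 18)) (.node (.leaf 10) (.leaf 23))) (.node (.node (.leaf 7) (.leaf 21)) (.node (.leaf 15) (.leaf 23))))) (.node (.node (.node (.node (.leaf 2) (.leaf 16)) (.node (.leaf 8) (.leaf 23))) (.node (.node (.leaf 5) (.leaf 22)) (.node (.leaf 13) (.leaf 23)))) (.node (.node (.node (.leaf 4) (.leaf 20)) (.node (.leaf 12) (.leaf 23))) (.node (.node (.leaf 6) (.leaf 23)) (.node (.leaf 14) (.leaf 23)))))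

noncomputable def eta3 : Trie (ℤ) := .node (.node (.node (.node (.node (.leaf 1) (.leaf 1)) (.node (.leaf (-1)) (.leaf 1))) (.node (.node (.leaf 1) (.leaf (-1))) (.node (.leaf (-1)) (.leaf 1)))) (.node (.node (.node (.leaf 1) (.leaf 1)) (.node (.leaf 1) (.leaf 1))) (.node (.node (.leaf (-1)) (.leaf (-1))) (.node (.leaf 1) (.leaf 1))))) (.node (.node (.node (.node (.leaf (-1)) (.leaf (-1))) (.node (.leaf 1) (.leaf 1))) (.node (.node (.leaf 1) (.leaf 1)) (.node (.leaf 1) (.leaf 1)))) (.node (.node (.node (.leaf (-1)) (.leaf 1)) (.node (.leaf (-1)) (.leaf 1))) (.node (.node (.leaf 1) (.leaf 1)) (.node (.leaf (-1)) (.leaf 1)))))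

noncomputable def car3 : Trie (ℤ) := .node (.node (.node (.node (.node (.leaf 0) (.leaf (-1))) (.node (.leaf (-1)) (.leaf 0))) (.node (.node (.leaf 1) (.leaf 1)) (.node (.leaf 2) (.leaf 0)))) (.node (.node (.node (.leaf 1) (.leaf 0)) (.node (.leaf 0) (.leaf 0))) (.node (.node (.leaf (-1)) (.leaf 1)) (.node (.leaf (-1)) (.leaf 0))))) (.node (.node (.node (.node (.leaf (-1)) (.leaf 1)) (.node (.leaf 1) (.leaf 0))) (.node (.node (.leaf 0) (.leaf (-1))) (.node (.leaf 0) (.leaf 0)))) (.node (.node (.node (.leaf (-1)) (.leaf (-1))) (.node (.leaf (-2)) (.leaf 0))) (.node (.node (.leaf 1) (.leaf 0)) (.node (.leaf 1) (.leaf 0)))))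

noncomputable def pos3 : Trie (ℕ) := .node (.node (.node (.node (.node (.leaf 77) (.leaf 27)) (.node (.leaf 29) (.leaf 79))) (.node (.node (.leaf 57) (.leaf 55)) (.node (.leaf 0) (.leaf 79)))) (.node (.node (.node (.leaf 49) (.leaf 87)) (.node (.leaf 3) (.leaf 79))) (.node (.node (.leaf 21) (.leaf 63)) (.node (.leaf 19) (.leaf 79))))) (.node (.node (.node (.node (.leaf 17) (.leaf 59)) (.node (.leaf 61) (.leaf 79))) (.node (.node (.leaf 85) (.leaf 31)) (.node (.leaf 5) (.leaf 79)))) (.node (.node (.node (.leaf 25) (.leaf 23)) (.node (.leaf 0) (.leaf 79))) (.node (.node (.leaf 53) (.leaf 79)) (.node (.leaf 51) (.leaf 79)))))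

/-- The tables. -/
noncomputable def tbl : Tbl where
  l := 4
  n := 24
  vec := vec
  wt := [2197, 169, 13, 1]
  pi := [pi0, pi1, pi2, pi3]
  eta := [eta0, eta1, eta2, eta3]
  rows := rows
  cor := cor
  car := [car0, car1, car2, car3]
  simple := [18, 14, 13, 12]
  bez := bez
  dsc := dsc
  reps := [(18, 0), (18, 1), (18, 6), (18, 10), (18, 11)]
  cert := cert
  ncert := 88
  pos := [pos0, pos1, pos2, pos3]

end CfsgLib.Chev.DataD4
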