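import Cfsg.Agent.Chev.Engine

/-! Tables of the datum of type E6, generated from the definition; verified in `Chev.InstE6`. -/

set_option autoImplicit false
set_option maxRecDepth 100000
set_option linter.style.longLine false

namespace CfsgLib.Chev.DataE6

open CfsgLib.Chev

noncomputable def vec : Trie (List ℤ) := .node (.node (.node (.node (.node (.node (.node (.leaf [-1, -2, -2, -3, -2, -1]) (.leaf [1, 1, 1, 2, 1, 0])) (.node (.leaf [0, 0, 0, -1, 0, 0]) (.leaf [1, 2, 2, 3, 2, 1]))) (.node (.node (.leaf [0, -1, -1, -2, -2, -1]) (.leaf [1, 2, 2, 3, 2, 1])) (.node (.leaf [0, 1, 0, 1, 1, 0]) (.leaf [1, 2, 2, 3, 2, 1])))) (.node (.node (.node (.leaf [-1, -1, -1, -1, -1, -1]) (.leaf [1, 2, 2, 3, 2, 1])) (.node (.leaf [0, 0, 0, 1, 1, 0]) (.leaf [1, 2, 2, 3, 2, 1]))) (.node (.node (.leaf [0, -1, 0, -1, 0, 0]) (.leaf [1, 2, 2, 3, 2, 1])) (.node (.leaf [1, 0, 0, 0, 0, 0]) (.leaf [1, 2, 2, 3, 2, 1])))))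 (.node (.node (.node (.node (.leaf [-1, -1, -2, -2, -1, 0]) (.leaf [1, 1, 2, 2, 1, 1])) (.node (.leaf [0, 0, 0, 0, 0, 1]) (.leaf [1, 2, 2, 3, 2, 1]))) (.node (.node (.leaf [0, -1, -1, -1, -1, 0]) (.leaf [1, 2, 2, 3, 2, 1])) (.node (.leaf [0, 1, 1, 1, 1, 1]) (.leaf [1, 2, 2, 3, 2, 1])))) (.node (.node (.node (.leaf [-1, 0, -1, -1, -1, 0]) (.leaf [1, 2, 2, 3, 2, 1])) (.node (.leaf [0, 0, 1, 1, 1, 0]) (.leaf [1, 2, 2, 3, 2, 1]))) (.node (.node (.leaf [0, 0, -1, -1, 0, 0]) (.leaf [1, 2, 2, 3, 2, 1])) (.node (.leaf [1, 0, 1, 1, 1, 1]) (.leaf [1, 2, 2, 3, 2, 1])))))) (.node (.node (.node (.node (.node (.leaf [-1, -1, -2, -2, -2, -1]) (.leaf [1, 1, 1, 2, 2, 1])) (.node (.leaf [0, 0, 0, 0, -1, 0]) (.leaf [1, 2, 2, 3, 2, 1]))) (.node (.node (.leaf [0, -1, -1, -2, -1, 0]) (.leaf [1, 2, 2, 3, 2, 1])) (.node (.leaf [0, 1, 1, 1, 0, 0]) (.leaf [1, 2, 2, 3, 2, 1])))) (.node (.node (.node (.leaf [-1, -1, -1,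 -1, 0, 0]) (.leaf [1, 2, 2, 3, 2, 1])) (.node (.leaf [0, 0, 1, 0, 0, 0]) (.leaf [1, 2, 2, 3, 2, 1]))) (.node (.node (.leaf [0, 0, -1, -1, -1, -1]) (.leaf [1, 2, 2, 3, 2, 1])) (.node (.leaf [1, 0, 1, 1, 0, 0]) (.leaf [1, 2, 2, 3, 2, 1]))))) (.node (.node (.node (.node (.leaf [-1, -1, -1, -2, -1, -1]) (.leaf [1, 1, 2, 3, 2, 1])) (.node (.leaf [0, 0, 0, 0, 1, 1]) (.leaf [1, 2, 2, 3, 2, 1]))) (.node (.node (.leaf [0, -1, 0, -1, -1, -1]) (.leaf [1, 2, 2, 3, 2, 1])) (.node (.leaf [0, 1, 1, 2, 1, 1]) (.leaf [1, 2, 2, 3, 2, 1])))) (.node (.node (.node (.leaf [-1, 0, -1, 0, 0, 0]) (.leaf [1, 2, 2, 3, 2, 1])) (.node (.leaf [0, 1, 0, 0, 0, 0]) (.leaf [1, 2, 2, 3, 2, 1]))) (.node (.node (.leaf [0, 0, 0, -1, -1, -1]) (.leaf [1, 2, 2, 3, 2, 1])) (.node (.leaf [1, 1, 1, 1, 1, 0]) (.leaf [1, 2, 2, 3, 2, 1]))))))) (.node (.node (.node (.node (.node (.node (.leaf [-1, -1, -2, -3, -2, -1]) (.leaf [1, 1, 1, 2, 1,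 1])) (.node (.leaf [0, 0, 0, 0, -1, -1]) (.leaf [1, 2, 2, 3, 2, 1]))) (.node (.node (.leaf [0, -1, -1, -2, -1, -1]) (.leaf [1, 2, 2, 3, 2, 1])) (.node (.leaf [0, 1, 0, 1, 1, 1]) (.leaf [1, 2, 2, 3, 2, 1])))) (.node (.node (.node (.leaf [-1, -1, -1, -1, -1, 0]) (.leaf [1, 2, 2, 3, 2, 1])) (.node (.leaf [0, 0, 0, 1, 1, 1]) (.leaf [1, 2, 2, 3, 2, 1]))) (.node (.node (.leaf [0, -1, 0, 0, 0, 0]) (.leaf [1, 2, 2, 3, 2, 1])) (.node (.leaf [1, 0, 1, 0, 0, 0]) (.leaf [1, 2, 2, 3, 2, 1]))))) (.node (.node (.node (.node (.leaf [-1, -1, -1, -2, -2, -1]) (.leaf [1, 1, 2, 2, 2, 1])) (.node (.leaf [0, 0, 0, 0, 1, 0]) (.leaf [1, 2, 2, 3, 2, 1]))) (.node (.node (.leaf [0, -1, -1, -1, 0, 0]) (.leaf [1, 2, 2, 3, 2, 1])) (.node (.leaf [0, 1, 1, 2, 1, 0]) (.leaf [1, 2, 2, 3, 2, 1])))) (.node (.node (.node (.leaf [-1, 0, -1, -1, 0, 0]) (.leaf [1, 2, 2, 3, 2, 1])) (.node (.leaf [0, 0, 1, 1, 1, 1]) (.leaf [1, 2, 2,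 3, 2, 1]))) (.node (.node (.leaf [0, 0, -1, 0, 0, 0]) (.leaf [1, 2, 2, 3, 2, 1])) (.node (.leaf [1, 1, 1, 1, 0, 0]) (.leaf [1, 2, 2, 3, 2, 1])))))) (.node (.node (.node (.node (.node (.leaf [-1, -1, -2, -2, -1, -1]) (.leaf [1, 1, 2, 2, 1, 0])) (.node (.leaf [0, 0, 0, 0, 0, -1]) (.leaf [1, 2, 2, 3, 2, 1]))) (.node (.node (.leaf [0, -1, -1, -1, -1, -1]) (.leaf [1, 2, 2, 3, 2, 1])) (.node (.leaf [0, 1, 1, 1, 1, 0]) (.leaf [1, 2, 2, 3, 2, 1])))) (.node (.node (.node (.leaf [-1, 0, -1, -1, -1, -1]) (.leaf [1, 2, 2, 3, 2, 1])) (.node (.leaf [0, 0, 1, 1, 0, 0]) (.leaf [1, 2, 2, 3, 2, 1]))) (.node (.node (.leaf [0, 0, -1, -1, -1, 0]) (.leaf [1, 2, 2, 3, 2, 1])) (.node (.leaf [1, 0, 1, 1, 1, 0]) (.leaf [1, 2, 2, 3, 2, 1]))))) (.node (.node (.node (.node (.leaf [-1, -1, -1, -2, -1, 0]) (.leaf [1, 2, 2, 3, 2, 1])) (.node (.leaf [0, 0, 0, 1, 0, 0]) (.leaf [1, 2, 2, 3, 2, 1]))) (.node (.node (.leaf [0, -1,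 0, -1, -1, 0]) (.leaf [1, 2, 2, 3, 2, 1])) (.node (.leaf [0, 1, 1, 2, 2, 1]) (.leaf [1, 2, 2, 3, 2, 1])))) (.node (.node (.node (.leaf [-1, 0, 0, 0, 0, 0]) (.leaf [1, 2, 2, 3, 2, 1])) (.node (.leaf [0, 1, 0, 1, 0, 0]) (.leaf [1, 2, 2, 3, 2, 1]))) (.node (.node (.leaf [0, 0, 0, -1, -1, 0]) (.leaf [1, 2, 2, 3, 2, 1])) (.node (.leaf [1, 1, 1, 1, 1, 1]) (.leaf [1, 2, 2, 3, 2, 1])))))))

noncomputable def rows : Trie (List (ℕ × List (ℕ × ℤ))) := .node (.node (.node (.node (.node (.node (.node (.leaf [(46, [(1, 1)]), (47, [(2, -1)]), (48, [(3, 1)]), (49, [(4, -1)]), (50, [(5, 1)]), (51, [(6, -1)]), (52, [(7, 1)]), (53, [(8, 1)]), (54, [(9, -1)]), (55, [(10, 1)]), (61, [(16, -1)]), (62, [(17, 1)]), (63, [(18, -1)]), (64, [(19, -1)]), (65, [(20, 1)]), (66, [(21, -1)]), (67, [(22, 1)]), (68, [(23, -1)]), (69, [(24, 1)]), (70, [(25, -1)])]) (.leaf [(0, [(19, 1)]), (1, [(26, 1)]), (4, [(29, 1)]), (5, [(33,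 -1)]), (6, [(35, 1)]), (9, [(39, 1)]), (10, [(40, -1)]), (12, [(47, 1)]), (13, [(48, -1)]), (15, [(53, 1)]), (18, [(56, -1)]), (23, [(58, 1)]), (24, [(59, -1)]), (31, [(61, 1)]), (32, [(62, -1)]), (36, [(65, -1)]), (38, [(66, 1)]), (42, [(67, -1)]), (45, [(70, -1)]), (52, [(71, -1)])])) (.node (.leaf [(2, [(1, -1)]), (8, [(6, -1)]), (9, [(7, -1)]), (14, [(13, -1)]), (19, [(17, -1)]), (20, [(18, -1)]), (25, [(24, -1)]), (29, [(28, -1)]), (33, [(30, 1)]), (34, [(31, 1)]), (40, [(37, -1)]), (41, [(38, -1)]), (43, [(42, 1)]), (47, [(46, 1)]), (53, [(51, 1)]), (54, [(52, 1)]), (58, [(57, 1)]), (64, [(62, 1)]), (65, [(63, 1)]), (70, [(69, 1)])]) (.leaf [(1, [(46, 1)]), (2, [(47, -1)]), (3, [(48, 1)]), (4, [(49, -1)]), (5, [(50, 1)]), (6, [(51, -1)]), (7, [(52, 1)]), (8, [(53, 1)]), (9, [(54, -1)]), (10, [(55, 1)]), (16, [(61, -1)]), (17, [(62, 1)]), (18, [(63, -1)]), (19, [(64, -1)]), (20, [(65, 1)]),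 (21, [(66, -1)]), (22, [(67, 1)]), (23, [(68, -1)]), (24, [(69, 1)]), (25, [(70, -1)])]))) (.node (.node (.leaf [(10, [(0, -1)]), (13, [(1, -1)]), (14, [(2, -1)]), (15, [(5, -1)]), (37, [(17, 1)]), (38, [(18, -1)]), (40, [(19, 1)]), (41, [(20, -1)]), (44, [(22, 1)]), (45, [(23, -1)]), (48, [(26, 1)]), (49, [(27, -1)]), (51, [(30, 1)]), (52, [(31, -1)]), (53, [(33, 1)]), (54, [(34, -1)]), (66, [(56, 1)]), (69, [(57, 1)]), (70, [(58, 1)]), (71, [(61, 1)])]) (.leaf [(1, [(46, 1)]), (2, [(47, -1)]), (3, [(48, 1)]), (4, [(49, -1)]), (5, [(50, 1)]), (6, [(51, -1)]), (7, [(52, 1)]), (8, [(53, 1)]), (9, [(54, -1)]), (10, [(55, 1)]), (16, [(61, -1)]), (17, [(62, 1)]), (18, [(63, -1)]), (19, [(64, -1)]), (20, [(65, 1)]), (21, [(66, -1)]), (22, [(67, 1)]), (23, [(68, -1)]), (24, [(69, 1)]), (25, [(70, -1)])])) (.node (.leaf [(0, [(3, -1)]), (5, [(11, -1)]), (7, [(13, 1)]), (9, [(14, 1)]), (16, [(26, -1)]),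 (18, [(28, 1)]), (20, [(29, 1)]), (22, [(35, 1)]), (24, [(37, 1)]), (25, [(40, 1)]), (31, [(46, -1)]), (34, [(47, -1)]), (36, [(49, -1)]), (42, [(51, -1)]), (43, [(53, -1)]), (45, [(55, 1)]), (57, [(62, -1)]), (58, [(64, -1)]), (60, [(66, 1)]), (68, [(71, 1)])]) (.leaf [(1, [(46, 1)]), (2, [(47, -1)]), (3, [(48, 1)]), (4, [(49, -1)]), (5, [(50, 1)]), (6, [(51, -1)]), (7, [(52, 1)]), (8, [(53, 1)]), (9, [(54, -1)]), (10, [(55, 1)]), (16, [(61, -1)]), (17, [(62, 1)]), (18, [(63, -1)]), (19, [(64, -1)]), (20, [(65, 1)]), (21, [(66, -1)]), (22, [(67, 1)]), (23, [(68, -1)]), (24, [(69, 1)]), (25, [(70, -1)])])))) (.node (.node (.node (.leaf [(18, [(0, 1)]), (27, [(2, -1)]), (28, [(3, -1)]), (31, [(5, 1)]), (32, [(6, 1)]), (36, [(9, 1)]), (38, [(10, 1)]), (46, [(11, 1)]), (49, [(14, -1)]), (52, [(15, 1)]), (56, [(19, -1)]), (57, [(22, 1)]), (60, [(25, -1)]), (61, [(33, -1)]), (62, [(35, -1)]), (65,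 [(39, -1)]), (66, [(40, -1)]), (68, [(43, 1)]), (69, [(44, 1)]), (71, [(53, -1)])]) (.leaf [(1, [(46, 1)]), (2, [(47, -1)]), (3, [(48, 1)]), (4, [(49, -1)]), (5, [(50, 1)]), (6, [(51, -1)]), (7, [(52, 1)]), (8, [(53, 1)]), (9, [(54, -1)]), (10, [(55, 1)]), (16, [(61, -1)]), (17, [(62, 1)]), (18, [(63, -1)]), (19, [(64, -1)]), (20, [(65, 1)]), (21, [(66, -1)]), (22, [(67, 1)]), (23, [(68, -1)]), (24, [(69, 1)]), (25, [(70, -1)])])) (.node (.leaf [(1, [(3, 1)]), (5, [(8, -1)]), (7, [(10, 1)]), (12, [(14, -1)]), (16, [(19, -1)]), (18, [(21, 1)]), (23, [(25, -1)]), (27, [(29, -1)]), (30, [(35, 1)]), (32, [(37, 1)]), (34, [(39, -1)]), (36, [(41, -1)]), (42, [(44, 1)]), (46, [(48, 1)]), (50, [(53, -1)]), (52, [(55, 1)]), (57, [(59, 1)]), (61, [(64, -1)]), (63, [(66, 1)]), (68, [(70, -1)])]) (.leaf [(1, [(46, 1)]), (2, [(47, -1)]), (3, [(48, 1)]), (4, [(49, -1)]), (5, [(50, 1)]), (6, [(51, -1)]), (7,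 [(52, 1)]), (8, [(53, 1)]), (9, [(54, -1)]), (10, [(55, 1)]), (16, [(61, -1)]), (17, [(62, 1)]), (18, [(63, -1)]), (19, [(64, -1)]), (20, [(65, 1)]), (21, [(66, -1)]), (22, [(67, 1)]), (23, [(68, -1)]), (24, [(69, 1)]), (25, [(70, -1)])]))) (.node (.node (.leaf [(2, [(0, 1)]), (11, [(6, -1)]), (12, [(7, -1)]), (14, [(10, 1)]), (26, [(17, -1)]), (27, [(18, -1)]), (29, [(21, 1)]), (33, [(22, 1)]), (34, [(23, 1)]), (39, [(25, 1)]), (46, [(32, -1)]), (48, [(37, -1)]), (49, [(38, -1)]), (50, [(42, -1)]), (53, [(44, 1)]), (54, [(45, 1)]), (61, [(57, -1)]), (64, [(59, 1)]), (65, [(60, 1)]), (71, [(69, -1)])]) (.leaf [(1, [(46, 1)]), (2, [(47, -1)]), (3, [(48, 1)]), (4, [(49, -1)]), (5, [(50, 1)]), (6, [(51, -1)]), (7, [(52, 1)]), (8, [(53, 1)]), (9, [(54, -1)]), (10, [(55, 1)]), (16, [(61, -1)]), (17, [(62, 1)]), (18, [(63, -1)]), (19, [(64, -1)]), (20, [(65, 1)]), (21, [(66, -1)]), (22, [(67, 1)]),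 (23, [(68, -1)]), (24, [(69, 1)]), (25, [(70, -1)])])) (.node (.leaf [(5, [(16, 1)]), (6, [(17, 1)]), (7, [(18, 1)]), (8, [(19, 1)]), (9, [(20, 1)]), (10, [(21, 1)]), (11, [(26, 1)]), (12, [(27, 1)]), (13, [(28, 1)]), (14, [(29, 1)]), (42, [(57, -1)]), (43, [(58, -1)]), (44, [(59, -1)]), (45, [(60, -1)]), (50, [(61, -1)]), (51, [(62, -1)]), (52, [(63, -1)]), (53, [(64, -1)]), (54, [(65, -1)]), (55, [(66, -1)])]) (.leaf [(1, [(46, 1)]), (2, [(47, -1)]), (3, [(48, 1)]), (4, [(49, -1)]), (5, [(50, 1)]), (6, [(51, -1)]), (7, [(52, 1)]), (8, [(53, 1)]), (9, [(54, -1)]), (10, [(55, 1)]), (16, [(61, -1)]), (17, [(62, 1)]), (18, [(63, -1)]), (19, [(64, -1)]), (20, [(65, 1)]), (21, [(66, -1)]), (22, [(67, 1)]), (23, [(68, -1)]), (24, [(69, 1)]), (25, [(70, -1)])]))))) (.node (.node (.node (.node (.leaf [(22, [(0, -1)]), (30, [(1, 1)]), (33, [(2, -1)]), (35, [(3, 1)]), (42, [(7, 1)]), (43, [(9, -1)]),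 (44, [(10, 1)]), (50, [(12, 1)]), (51, [(13, -1)]), (53, [(14, 1)]), (57, [(18, -1)]), (58, [(20, 1)]), (59, [(21, -1)]), (61, [(27, -1)]), (62, [(28, 1)]), (64, [(29, -1)]), (68, [(36, -1)]), (69, [(38, 1)]), (70, [(41, -1)]), (71, [(49, 1)])]) (.leaf [(0, [(23, 1)]), (1, [(31, -1)]), (2, [(34, 1)]), (4, [(36, 1)]), (6, [(42, 1)]), (8, [(43, -1)]), (10, [(45, 1)]), (11, [(50, 1)]), (13, [(52, -1)]), (14, [(54, 1)]), (17, [(57, -1)]), (19, [(58, 1)]), (21, [(60, -1)]), (26, [(61, -1)]), (28, [(63, 1)]), (29, [(65, -1)]), (35, [(67, -1)]), (37, [(69, -1)]), (40, [(70, 1)]), (48, [(71, -1)])])) (.node (.leaf [(3, [(4, -1)]), (6, [(7, -1)]), (8, [(9, -1)]), (11, [(12, -1)]), (17, [(18, -1)]), (19, [(20, -1)]), (22, [(23, -1)]), (26, [(27, -1)]), (30, [(31, -1)]), (33, [(34, -1)]), (37, [(38, 1)]), (40, [(41, 1)]), (44, [(45, 1)]), (48, [(49, 1)]), (51, [(52, 1)]), (53, [(54, 1)]), (59, [(60, 1)]),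 (62, [(63, 1)]), (64, [(65, 1)]), (67, [(68, 1)])]) (.leaf [(1, [(46, 1)]), (2, [(47, -1)]), (3, [(48, 1)]), (4, [(49, -1)]), (5, [(50, 1)]), (6, [(51, -1)]), (7, [(52, 1)]), (8, [(53, 1)]), (9, [(54, -1)]), (10, [(55, 1)]), (16, [(61, -1)]), (17, [(62, 1)]), (18, [(63, -1)]), (19, [(64, -1)]), (20, [(65, 1)]), (21, [(66, -1)]), (22, [(67, 1)]), (23, [(68, -1)]), (24, [(69, 1)]), (25, [(70, -1)])]))) (.node (.node (.leaf [(6, [(0, 1)]), (11, [(2, -1)]), (13, [(4, 1)]), (15, [(9, -1)]), (30, [(16, -1)]), (32, [(18, 1)]), (35, [(19, 1)]), (37, [(21, 1)]), (42, [(23, 1)]), (44, [(25, -1)]), (46, [(27, 1)]), (48, [(29, -1)]), (50, [(34, -1)]), (52, [(36, -1)]), (53, [(39, -1)]), (55, [(41, 1)]), (62, [(56, 1)]), (67, [(58, -1)]), (69, [(60, 1)]), (71, [(65, -1)])]) (.leaf [(1, [(46, 1)]), (2, [(47, -1)]), (3, [(48, 1)]), (4, [(49, -1)]), (5, [(50, 1)]), (6, [(51, -1)]), (7, [(52, 1)]), (8, [(53,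 1)]), (9, [(54, -1)]), (10, [(55, 1)]), (16, [(61, -1)]), (17, [(62, 1)]), (18, [(63, -1)]), (19, [(64, -1)]), (20, [(65, 1)]), (21, [(66, -1)]), (22, [(67, 1)]), (23, [(68, -1)]), (24, [(69, 1)]), (25, [(70, -1)])])) (.node (.leaf [(0, [(7, -1)]), (2, [(12, 1)]), (3, [(13, 1)]), (8, [(15, -1)]), (16, [(31, 1)]), (17, [(32, 1)]), (20, [(36, 1)]), (21, [(38, 1)]), (22, [(42, 1)]), (25, [(45, -1)]), (26, [(46, 1)]), (29, [(49, -1)]), (33, [(50, -1)]), (35, [(51, -1)]), (39, [(54, -1)]), (40, [(55, -1)]), (56, [(63, 1)]), (58, [(68, -1)]), (59, [(69, -1)]), (64, [(71, 1)])]) (.leaf [(1, [(46, 1)]), (2, [(47, -1)]), (3, [(48, 1)]), (4, [(49, -1)]), (5, [(50, 1)]), (6, [(51, -1)]), (7, [(52, 1)]), (8, [(53, 1)]), (9, [(54, -1)]), (10, [(55, 1)]), (16, [(61, -1)]), (17, [(62, 1)]), (18, [(63, -1)]), (19, [(64, -1)]), (20, [(65, 1)]), (21, [(66, -1)]), (22, [(67, 1)]), (23, [(68, -1)]), (24, [(69, 1)]),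 (25, [(70, -1)])])))) (.node (.node (.node (.leaf [(17, [(1, -1)]), (19, [(2, -1)]), (21, [(4, 1)]), (22, [(5, -1)]), (24, [(7, 1)]), (25, [(9, 1)]), (35, [(11, 1)]), (37, [(13, 1)]), (40, [(14, 1)]), (44, [(15, 1)]), (56, [(27, -1)]), (57, [(31, -1)]), (58, [(34, -1)]), (60, [(36, -1)]), (62, [(46, -1)]), (64, [(47, -1)]), (66, [(49, 1)]), (67, [(50, -1)]), (69, [(52, 1)]), (70, [(54, 1)])]) (.leaf [(1, [(46, 1)]), (2, [(47, -1)]), (3, [(48, 1)]), (4, [(49, -1)]), (5, [(50, 1)]), (6, [(51, -1)]), (7, [(52, 1)]), (8, [(53, 1)]), (9, [(54, -1)]), (10, [(55, 1)]), (16, [(61, -1)]), (17, [(62, 1)]), (18, [(63, -1)]), (19, [(64, -1)]), (20, [(65, 1)]), (21, [(66, -1)]), (22, [(67, 1)]), (23, [(68, -1)]), (24, [(69, 1)]), (25, [(70, -1)])])) (.node (.leaf [(1, [(6, 1)]), (2, [(8, 1)]), (4, [(10, -1)]), (12, [(15, -1)]), (16, [(22, -1)]), (18, [(24, 1)]), (20, [(25, 1)]), (26, [(35, 1)]), (28, [(37,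 1)]), (29, [(40, 1)]), (31, [(42, -1)]), (34, [(43, -1)]), (36, [(45, -1)]), (46, [(51, -1)]), (47, [(53, -1)]), (49, [(55, 1)]), (56, [(59, 1)]), (61, [(67, 1)]), (63, [(69, -1)]), (65, [(70, -1)])]) (.leaf [(1, [(46, 1)]), (2, [(47, -1)]), (3, [(48, 1)]), (4, [(49, -1)]), (5, [(50, 1)]), (6, [(51, -1)]), (7, [(52, 1)]), (8, [(53, 1)]), (9, [(54, -1)]), (10, [(55, 1)]), (16, [(61, -1)]), (17, [(62, 1)]), (18, [(63, -1)]), (19, [(64, -1)]), (20, [(65, 1)]), (21, [(66, -1)]), (22, [(67, 1)]), (23, [(68, -1)]), (24, [(69, 1)]), (25, [(70, -1)])]))) (.node (.node (.leaf [(5, [(1, -1)]), (8, [(3, 1)]), (9, [(4, 1)]), (15, [(13, -1)]), (22, [(17, -1)]), (23, [(18, -1)]), (25, [(21, 1)]), (33, [(26, 1)]), (34, [(27, 1)]), (39, [(29, 1)]), (42, [(32, -1)]), (44, [(37, -1)]), (45, [(38, -1)]), (50, [(46, -1)]), (53, [(48, 1)]), (54, [(49, 1)]), (58, [(56, 1)]), (67, [(62, -1)]), (68, [(63, -1)]), (70,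 [(66, 1)])]) (.leaf [(1, [(46, 1)]), (2, [(47, -1)]), (3, [(48, 1)]), (4, [(49, -1)]), (5, [(50, 1)]), (6, [(51, -1)]), (7, [(52, 1)]), (8, [(53, 1)]), (9, [(54, -1)]), (10, [(55, 1)]), (16, [(61, -1)]), (17, [(62, 1)]), (18, [(63, -1)]), (19, [(64, -1)]), (20, [(65, 1)]), (21, [(66, -1)]), (22, [(67, 1)]), (23, [(68, -1)]), (24, [(69, 1)]), (25, [(70, -1)])])) (.node (.leaf [(1, [(18, 1)]), (2, [(20, 1)]), (3, [(21, 1)]), (5, [(23, 1)]), (6, [(24, 1)]), (8, [(25, 1)]), (12, [(36, 1)]), (13, [(38, 1)]), (14, [(41, 1)]), (15, [(45, 1)]), (26, [(56, -1)]), (30, [(57, -1)]), (33, [(58, -1)]), (35, [(59, -1)]), (46, [(63, -1)]), (47, [(65, -1)]), (48, [(66, -1)]), (50, [(68, -1)]), (51, [(69, -1)]), (53, [(70, -1)])]) (.leaf [(1, [(46, 1)]), (2, [(47, -1)]), (3, [(48, 1)]), (4, [(49, -1)]), (5, [(50, 1)]), (6, [(51, -1)]), (7, [(52, 1)]), (8, [(53, 1)]), (9, [(54, -1)]), (10, [(55, 1)]), (16, [(61,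 -1)]), (17, [(62, 1)]), (18, [(63, -1)]), (19, [(64, -1)]), (20, [(65, 1)]), (21, [(66, -1)]), (22, [(67, 1)]), (23, [(68, -1)]), (24, [(69, 1)]), (25, [(70, -1)])])))))) (.node (.node (.node (.node (.node (.leaf [(24, [(0, -1)]), (32, [(1, 1)]), (37, [(3, 1)]), (38, [(4, -1)]), (42, [(5, 1)]), (44, [(8, -1)]), (45, [(9, 1)]), (51, [(11, 1)]), (52, [(12, -1)]), (55, [(14, 1)]), (57, [(16, -1)]), (59, [(19, 1)]), (60, [(20, -1)]), (62, [(26, -1)]), (63, [(27, 1)]), (66, [(29, -1)]), (67, [(33, 1)]), (68, [(34, -1)]), (70, [(39, -1)]), (71, [(47, 1)])]) (.leaf [(0, [(21, 1)]), (1, [(28, 1)]), (2, [(29, 1)]), (6, [(37, 1)]), (7, [(38, -1)]), (8, [(40, 1)]), (9, [(41, -1)]), (11, [(48, 1)]), (12, [(49, -1)]), (15, [(55, 1)]), (16, [(56, -1)]), (22, [(59, 1)]), (23, [(60, -1)]), (30, [(62, 1)]), (31, [(63, -1)]), (33, [(64, 1)]), (34, [(65, -1)]), (42, [(69, -1)]), (43, [(70, -1)]), (50, [(71, -1)])]))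 (.node (.leaf [(3, [(2, -1)]), (6, [(5, -1)]), (10, [(9, -1)]), (13, [(12, -1)]), (17, [(16, -1)]), (21, [(20, -1)]), (24, [(23, -1)]), (28, [(27, -1)]), (32, [(31, -1)]), (35, [(33, 1)]), (38, [(36, -1)]), (40, [(39, 1)]), (44, [(43, 1)]), (48, [(47, 1)]), (51, [(50, 1)]), (55, [(54, 1)]), (59, [(58, 1)]), (62, [(61, 1)]), (66, [(65, 1)]), (69, [(68, 1)])]) (.leaf [(1, [(46, 1)]), (2, [(47, -1)]), (3, [(48, 1)]), (4, [(49, -1)]), (5, [(50, 1)]), (6, [(51, -1)]), (7, [(52, 1)]), (8, [(53, 1)]), (9, [(54, -1)]), (10, [(55, 1)]), (16, [(61, -1)]), (17, [(62, 1)]), (18, [(63, -1)]), (19, [(64, -1)]), (20, [(65, 1)]), (21, [(66, -1)]), (22, [(67, 1)]), (23, [(68, -1)]), (24, [(69, 1)]), (25, [(70, -1)])]))) (.node (.node (.leaf [(8, [(0, -1)]), (11, [(1, -1)]), (14, [(4, -1)]), (15, [(7, -1)]), (33, [(16, -1)]), (35, [(17, 1)]), (39, [(20, 1)]), (40, [(21, -1)]), (43, [(23, 1)]), (44, [(24, -1)]),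 (47, [(27, 1)]), (48, [(28, -1)]), (50, [(31, 1)]), (51, [(32, -1)]), (54, [(36, -1)]), (55, [(38, 1)]), (64, [(56, 1)]), (67, [(57, 1)]), (70, [(60, 1)]), (71, [(63, 1)])]) (.leaf [(1, [(46, 1)]), (2, [(47, -1)]), (3, [(48, 1)]), (4, [(49, -1)]), (5, [(50, 1)]), (6, [(51, -1)]), (7, [(52, 1)]), (8, [(53, 1)]), (9, [(54, -1)]), (10, [(55, 1)]), (16, [(61, -1)]), (17, [(62, 1)]), (18, [(63, -1)]), (19, [(64, -1)]), (20, [(65, 1)]), (21, [(66, -1)]), (22, [(67, 1)]), (23, [(68, -1)]), (24, [(69, 1)]), (25, [(70, -1)])])) (.node (.leaf [(0, [(5, -1)]), (3, [(11, -1)]), (4, [(12, -1)]), (10, [(15, -1)]), (17, [(30, -1)]), (18, [(31, -1)]), (19, [(33, 1)]), (20, [(34, 1)]), (24, [(42, 1)]), (25, [(43, -1)]), (28, [(46, 1)]), (29, [(47, -1)]), (37, [(51, -1)]), (38, [(52, -1)]), (40, [(53, 1)]), (41, [(54, 1)]), (56, [(61, 1)]), (59, [(67, 1)]), (60, [(68, 1)]), (66, [(71, 1)])]) (.leaf [(1, [(46,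 1)]), (2, [(47, -1)]), (3, [(48, 1)]), (4, [(49, -1)]), (5, [(50, 1)]), (6, [(51, -1)]), (7, [(52, 1)]), (8, [(53, 1)]), (9, [(54, -1)]), (10, [(55, 1)]), (16, [(61, -1)]), (17, [(62, 1)]), (18, [(63, -1)]), (19, [(64, -1)]), (20, [(65, 1)]), (21, [(66, -1)]), (22, [(67, 1)]), (23, [(68, -1)]), (24, [(69, 1)]), (25, [(70, -1)])])))) (.node (.node (.node (.leaf [(16, [(0, 1)]), (26, [(3, 1)]), (27, [(4, 1)]), (30, [(6, -1)]), (31, [(7, -1)]), (33, [(8, 1)]), (34, [(9, 1)]), (46, [(13, 1)]), (47, [(14, -1)]), (50, [(15, 1)]), (56, [(21, -1)]), (57, [(24, 1)]), (58, [(25, -1)]), (62, [(37, -1)]), (63, [(38, -1)]), (64, [(40, 1)]), (65, [(41, 1)]), (67, [(44, -1)]), (68, [(45, -1)]), (71, [(55, -1)])]) (.leaf [(1, [(46, 1)]), (2, [(47, -1)]), (3, [(48, 1)]), (4, [(49, -1)]), (5, [(50, 1)]), (6, [(51, -1)]), (7, [(52, 1)]), (8, [(53, 1)]), (9, [(54, -1)]), (10, [(55, 1)]), (16, [(61, -1)]), (17, [(62,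 1)]), (18, [(63, -1)]), (19, [(64, -1)]), (20, [(65, 1)]), (21, [(66, -1)]), (22, [(67, 1)]), (23, [(68, -1)]), (24, [(69, 1)]), (25, [(70, -1)])])) (.node (.leaf [(2, [(5, -1)]), (3, [(6, -1)]), (4, [(7, -1)]), (14, [(15, -1)]), (19, [(22, -1)]), (20, [(23, -1)]), (21, [(24, -1)]), (26, [(30, 1)]), (27, [(31, 1)]), (28, [(32, 1)]), (39, [(43, -1)]), (40, [(44, -1)]), (41, [(45, -1)]), (47, [(50, 1)]), (48, [(51, 1)]), (49, [(52, 1)]), (56, [(57, 1)]), (64, [(67, 1)]), (65, [(68, 1)]), (66, [(69, 1)])]) (.leaf [(1, [(46, 1)]), (2, [(47, -1)]), (3, [(48, 1)]), (4, [(49, -1)]), (5, [(50, 1)]), (6, [(51, -1)]), (7, [(52, 1)]), (8, [(53, 1)]), (9, [(54, -1)]), (10, [(55, 1)]), (16, [(61, -1)]), (17, [(62, 1)]), (18, [(63, -1)]), (19, [(64, -1)]), (20, [(65, 1)]), (21, [(66, -1)]), (22, [(67, 1)]), (23, [(68, -1)]), (24, [(69, 1)]), (25, [(70, -1)])]))) (.node (.node (.leaf [(7, [(1, -1)]), (9, [(2,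 -1)]), (10, [(3, -1)]), (15, [(11, -1)]), (23, [(16, 1)]), (24, [(17, 1)]), (25, [(19, 1)]), (36, [(27, 1)]), (38, [(28, 1)]), (41, [(29, 1)]), (42, [(30, -1)]), (43, [(33, -1)]), (44, [(35, -1)]), (52, [(46, -1)]), (54, [(47, -1)]), (55, [(48, -1)]), (60, [(56, 1)]), (68, [(61, 1)]), (69, [(62, 1)]), (70, [(64, 1)])]) (.leaf [(1, [(46, 1)]), (2, [(47, -1)]), (3, [(48, 1)]), (4, [(49, -1)]), (5, [(50, 1)]), (6, [(51, -1)]), (7, [(52, 1)]), (8, [(53, 1)]), (9, [(54, -1)]), (10, [(55, 1)]), (16, [(61, -1)]), (17, [(62, 1)]), (18, [(63, -1)]), (19, [(64, -1)]), (20, [(65, 1)]), (21, [(66, -1)]), (22, [(67, 1)]), (23, [(68, -1)]), (24, [(69, 1)]), (25, [(70, -1)])])) (.node (.leaf [(1, [(16, 1)]), (3, [(19, -1)]), (4, [(20, -1)]), (6, [(22, -1)]), (7, [(23, -1)]), (10, [(25, 1)]), (11, [(33, 1)]), (12, [(34, 1)]), (14, [(39, 1)]), (15, [(43, 1)]), (28, [(56, -1)]), (32, [(57, -1)]), (37, [(59, -1)]),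 (38, [(60, -1)]), (46, [(61, -1)]), (48, [(64, 1)]), (49, [(65, 1)]), (51, [(67, 1)]), (52, [(68, 1)]), (55, [(70, -1)])]) (.leaf [(1, [(46, 1)]), (2, [(47, -1)]), (3, [(48, 1)]), (4, [(49, -1)]), (5, [(50, 1)]), (6, [(51, -1)]), (7, [(52, 1)]), (8, [(53, 1)]), (9, [(54, -1)]), (10, [(55, 1)]), (16, [(61, -1)]), (17, [(62, 1)]), (18, [(63, -1)]), (19, [(64, -1)]), (20, [(65, 1)]), (21, [(66, -1)]), (22, [(67, 1)]), (23, [(68, -1)]), (24, [(69, 1)]), (25, [(70, -1)])]))))) (.node (.node (.node (.node (.leaf [(20, [(0, -1)]), (27, [(1, -1)]), (29, [(3, 1)]), (34, [(5, 1)]), (36, [(7, 1)]), (39, [(8, 1)]), (41, [(10, -1)]), (47, [(11, 1)]), (49, [(13, -1)]), (54, [(15, 1)]), (56, [(17, -1)]), (58, [(22, 1)]), (60, [(24, -1)]), (61, [(30, 1)]), (63, [(32, -1)]), (64, [(35, -1)]), (66, [(37, -1)]), (68, [(42, -1)]), (70, [(44, 1)]), (71, [(51, 1)])]) (.leaf [(0, [(25, 1)]), (2, [(39, 1)]), (3, [(40,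 -1)]), (4, [(41, 1)]), (5, [(43, 1)]), (6, [(44, -1)]), (7, [(45, 1)]), (11, [(53, 1)]), (12, [(54, -1)]), (13, [(55, 1)]), (16, [(58, -1)]), (17, [(59, 1)]), (18, [(60, -1)]), (26, [(64, -1)]), (27, [(65, 1)]), (28, [(66, -1)]), (30, [(67, -1)]), (31, [(68, 1)]), (32, [(69, -1)]), (46, [(71, -1)])])) (.node (.leaf [(2, [(4, 1)]), (5, [(7, 1)]), (8, [(10, -1)]), (11, [(13, -1)]), (16, [(18, 1)]), (19, [(21, -1)]), (22, [(24, -1)]), (26, [(28, -1)]), (30, [(32, -1)]), (34, [(36, 1)]), (35, [(37, -1)]), (39, [(41, 1)]), (43, [(45, 1)]), (47, [(49, 1)]), (50, [(52, 1)]), (53, [(55, -1)]), (58, [(60, 1)]), (61, [(63, 1)]), (64, [(66, -1)]), (67, [(69, -1)])]) (.leaf [(1, [(46, 1)]), (2, [(47, -1)]), (3, [(48, 1)]), (4, [(49, -1)]), (5, [(50, 1)]), (6, [(51, -1)]), (7, [(52, 1)]), (8, [(53, 1)]), (9, [(54, -1)]), (10, [(55, 1)]), (16, [(61, -1)]), (17, [(62, 1)]), (18, [(63, -1)]), (19, [(64, -1)]),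 (20, [(65, 1)]), (21, [(66, -1)]), (22, [(67, 1)]), (23, [(68, -1)]), (24, [(69, 1)]), (25, [(70, -1)])]))) (.node (.node (.leaf [(4, [(0, 1)]), (12, [(5, 1)]), (13, [(6, 1)]), (14, [(8, 1)]), (27, [(16, 1)]), (28, [(17, 1)]), (29, [(19, 1)]), (36, [(23, 1)]), (38, [(24, 1)]), (41, [(25, 1)]), (46, [(30, -1)]), (47, [(33, -1)]), (48, [(35, -1)]), (52, [(42, -1)]), (54, [(43, -1)]), (55, [(44, -1)]), (63, [(57, -1)]), (65, [(58, -1)]), (66, [(59, -1)]), (71, [(67, -1)])]) (.leaf [(1, [(46, 1)]), (2, [(47, -1)]), (3, [(48, 1)]), (4, [(49, -1)]), (5, [(50, 1)]), (6, [(51, -1)]), (7, [(52, 1)]), (8, [(53, 1)]), (9, [(54, -1)]), (10, [(55, 1)]), (16, [(61, -1)]), (17, [(62, 1)]), (18, [(63, -1)]), (19, [(64, -1)]), (20, [(65, 1)]), (21, [(66, -1)]), (22, [(67, 1)]), (23, [(68, -1)]), (24, [(69, 1)]), (25, [(70, -1)])])) (.node (.leaf [(0, [(9, 1)]), (1, [(12, 1)]), (3, [(14, -1)]), (6, [(15, -1)]),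 (16, [(34, 1)]), (18, [(36, 1)]), (19, [(39, 1)]), (21, [(41, -1)]), (22, [(43, 1)]), (24, [(45, -1)]), (26, [(47, 1)]), (28, [(49, -1)]), (30, [(50, 1)]), (32, [(52, -1)]), (35, [(53, -1)]), (37, [(55, -1)]), (56, [(65, 1)]), (57, [(68, 1)]), (59, [(70, -1)]), (62, [(71, -1)])]) (.leaf [(1, [(46, 1)]), (2, [(47, -1)]), (3, [(48, 1)]), (4, [(49, -1)]), (5, [(50, 1)]), (6, [(51, -1)]), (7, [(52, 1)]), (8, [(53, 1)]), (9, [(54, -1)]), (10, [(55, 1)]), (16, [(61, -1)]), (17, [(62, 1)]), (18, [(63, -1)]), (19, [(64, -1)]), (20, [(65, 1)]), (21, [(66, -1)]), (22, [(67, 1)]), (23, [(68, -1)]), (24, [(69, 1)]), (25, [(70, -1)])])))) (.node (.node (.node (.leaf [(16, [(2, 1)]), (17, [(3, 1)]), (18, [(4, 1)]), (22, [(8, -1)]), (23, [(9, -1)]), (24, [(10, -1)]), (30, [(11, 1)]), (31, [(12, 1)]), (32, [(13, 1)]), (42, [(15, 1)]), (56, [(29, -1)]), (58, [(39, -1)]), (59, [(40, -1)]), (60, [(41, -1)]), (61,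 [(47, 1)]), (62, [(48, 1)]), (63, [(49, 1)]), (67, [(53, -1)]), (68, [(54, -1)]), (69, [(55, -1)])]) (.leaf [(1, [(46, 1)]), (2, [(47, -1)]), (3, [(48, 1)]), (4, [(49, -1)]), (5, [(50, 1)]), (6, [(51, -1)]), (7, [(52, 1)]), (8, [(53, 1)]), (9, [(54, -1)]), (10, [(55, 1)]), (16, [(61, -1)]), (17, [(62, 1)]), (18, [(63, -1)]), (19, [(64, -1)]), (20, [(65, 1)]), (21, [(66, -1)]), (22, [(67, 1)]), (23, [(68, -1)]), (24, [(69, 1)]), (25, [(70, -1)])])) (.node (.leaf [(0, [(1, -1)]), (8, [(11, -1)]), (9, [(12, -1)]), (10, [(13, -1)]), (19, [(26, -1)]), (20, [(27, -1)]), (21, [(28, -1)]), (22, [(30, 1)]), (23, [(31, 1)]), (24, [(32, 1)]), (39, [(47, -1)]), (40, [(48, -1)]), (41, [(49, -1)]), (43, [(50, 1)]), (44, [(51, 1)]), (45, [(52, 1)]), (58, [(61, 1)]), (59, [(62, 1)]), (60, [(63, 1)]), (70, [(71, 1)])]) (.leaf [(1, [(46, 1)]), (2, [(47, -1)]), (3, [(48, 1)]), (4, [(49, -1)]), (5, [(50, 1)]), (6,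 [(51, -1)]), (7, [(52, 1)]), (8, [(53, 1)]), (9, [(54, -1)]), (10, [(55, 1)]), (16, [(61, -1)]), (17, [(62, 1)]), (18, [(63, -1)]), (19, [(64, -1)]), (20, [(65, 1)]), (21, [(66, -1)]), (22, [(67, 1)]), (23, [(68, -1)]), (24, [(69, 1)]), (25, [(70, -1)])]))) (.node (.node (.leaf [(4, [(1, -1)]), (9, [(5, 1)]), (10, [(6, 1)]), (14, [(11, -1)]), (20, [(16, 1)]), (21, [(17, 1)]), (25, [(22, -1)]), (29, [(26, -1)]), (36, [(31, 1)]), (38, [(32, 1)]), (39, [(33, -1)]), (40, [(35, -1)]), (45, [(42, 1)]), (49, [(46, 1)]), (54, [(50, -1)]), (55, [(51, -1)]), (60, [(57, 1)]), (65, [(61, -1)]), (66, [(62, -1)]), (70, [(67, 1)])]) (.leaf [(1, [(46, 1)]), (2, [(47, -1)]), (3, [(48, 1)]), (4, [(49, -1)]), (5, [(50, 1)]), (6, [(51, -1)]), (7, [(52, 1)]), (8, [(53, 1)]), (9, [(54, -1)]), (10, [(55, 1)]), (16, [(61, -1)]), (17, [(62, 1)]), (18, [(63, -1)]), (19, [(64, -1)]), (20, [(65, 1)]), (21, [(66, -1)]),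 (22, [(67, 1)]), (23, [(68, -1)]), (24, [(69, 1)]), (25, [(70, -1)])])) (.node (.leaf [(0, [(17, -1)]), (2, [(26, 1)]), (4, [(28, -1)]), (5, [(30, -1)]), (7, [(32, 1)]), (8, [(35, 1)]), (10, [(37, 1)]), (12, [(46, 1)]), (14, [(48, -1)]), (15, [(51, 1)]), (20, [(56, -1)]), (23, [(57, 1)]), (25, [(59, -1)]), (34, [(61, -1)]), (36, [(63, -1)]), (39, [(64, -1)]), (41, [(66, 1)]), (43, [(67, 1)]), (45, [(69, -1)]), (54, [(71, 1)])]) (.leaf [(1, [(46, 1)]), (2, [(47, -1)]), (3, [(48, 1)]), (4, [(49, -1)]), (5, [(50, 1)]), (6, [(51, -1)]), (7, [(52, 1)]), (8, [(53, 1)]), (9, [(54, -1)]), (10, [(55, 1)]), (16, [(61, -1)]), (17, [(62, 1)]), (18, [(63, -1)]), (19, [(64, -1)]), (20, [(65, 1)]), (21, [(66, -1)]), (22, [(67, 1)]), (23, [(68, -1)]), (24, [(69, 1)]), (25, [(70, -1)])]))))))) (.node (.node (.node (.node (.node (.node (.leaf [(25, [(0, 1)]), (39, [(2, 1)]), (40, [(3, -1)]), (41, [(4, 1)]), (43,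 [(5, 1)]), (44, [(6, -1)]), (45, [(7, 1)]), (53, [(11, 1)]), (54, [(12, -1)]), (55, [(13, 1)]), (58, [(16, -1)]), (59, [(17, 1)]), (60, [(18, -1)]), (64, [(26, -1)]), (65, [(27, 1)]), (66, [(28, -1)]), (67, [(30, -1)]), (68, [(31, 1)]), (69, [(32, -1)]), (71, [(46, -1)])]) (.leaf [(0, [(20, -1)]), (1, [(27, -1)]), (3, [(29, 1)]), (5, [(34, 1)]), (7, [(36, 1)]), (8, [(39, 1)]), (10, [(41, -1)]), (11, [(47, 1)]), (13, [(49, -1)]), (15, [(54, 1)]), (17, [(56, -1)]), (22, [(58, 1)]), (24, [(60, -1)]), (30, [(61, 1)]), (32, [(63, -1)]), (35, [(64, -1)]), (37, [(66, -1)]), (42, [(68, -1)]), (44, [(70, 1)]), (51, [(71, 1)])])) (.node (.leaf [(4, [(2, 1)]), (7, [(5, 1)]), (10, [(8, -1)]), (13, [(11, -1)]), (18, [(16, 1)]), (21, [(19, -1)]), (24, [(22, -1)]), (28, [(26, -1)]), (32, [(30, -1)]), (36, [(34, 1)]), (37, [(35, -1)]), (41, [(39, 1)]), (45, [(43, 1)]), (49, [(47, 1)]), (52, [(50, 1)]), (55,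 [(53, -1)]), (60, [(58, 1)]), (63, [(61, 1)]), (66, [(64, -1)]), (69, [(67, -1)])]) (.leaf [(1, [(46, 1)]), (2, [(47, -1)]), (3, [(48, 1)]), (4, [(49, -1)]), (5, [(50, 1)]), (6, [(51, -1)]), (7, [(52, 1)]), (8, [(53, 1)]), (9, [(54, -1)]), (10, [(55, 1)]), (16, [(61, -1)]), (17, [(62, 1)]), (18, [(63, -1)]), (19, [(64, -1)]), (20, [(65, 1)]), (21, [(66, -1)]), (22, [(67, 1)]), (23, [(68, -1)]), (24, [(69, 1)]), (25, [(70, -1)])]))) (.node (.node (.leaf [(9, [(0, 1)]), (12, [(1, 1)]), (14, [(3, -1)]), (15, [(6, -1)]), (34, [(16, 1)]), (36, [(18, 1)]), (39, [(19, 1)]), (41, [(21, -1)]), (43, [(22, 1)]), (45, [(24, -1)]), (47, [(26, 1)]), (49, [(28, -1)]), (50, [(30, 1)]), (52, [(32, -1)]), (53, [(35, -1)]), (55, [(37, -1)]), (65, [(56, 1)]), (68, [(57, 1)]), (70, [(59, -1)]), (71, [(62, -1)])]) (.leaf [(1, [(46, 1)]), (2, [(47, -1)]), (3, [(48, 1)]), (4, [(49, -1)]), (5, [(50, 1)]), (6, [(51, -1)]),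 (7, [(52, 1)]), (8, [(53, 1)]), (9, [(54, -1)]), (10, [(55, 1)]), (16, [(61, -1)]), (17, [(62, 1)]), (18, [(63, -1)]), (19, [(64, -1)]), (20, [(65, 1)]), (21, [(66, -1)]), (22, [(67, 1)]), (23, [(68, -1)]), (24, [(69, 1)]), (25, [(70, -1)])])) (.node (.leaf [(0, [(4, 1)]), (5, [(12, 1)]), (6, [(13, 1)]), (8, [(14, 1)]), (16, [(27, 1)]), (17, [(28, 1)]), (19, [(29, 1)]), (23, [(36, 1)]), (24, [(38, 1)]), (25, [(41, 1)]), (30, [(46, -1)]), (33, [(47, -1)]), (35, [(48, -1)]), (42, [(52, -1)]), (43, [(54, -1)]), (44, [(55, -1)]), (57, [(63, -1)]), (58, [(65, -1)]), (59, [(66, -1)]), (67, [(71, -1)])]) (.leaf [(1, [(46, 1)]), (2, [(47, -1)]), (3, [(48, 1)]), (4, [(49, -1)]), (5, [(50, 1)]), (6, [(51, -1)]), (7, [(52, 1)]), (8, [(53, 1)]), (9, [(54, -1)]), (10, [(55, 1)]), (16, [(61, -1)]), (17, [(62, 1)]), (18, [(63, -1)]), (19, [(64, -1)]), (20, [(65, 1)]), (21, [(66, -1)]), (22, [(67, 1)]), (23,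 [(68, -1)]), (24, [(69, 1)]), (25, [(70, -1)])])))) (.node (.node (.node (.leaf [(17, [(0, -1)]), (26, [(2, 1)]), (28, [(4, -1)]), (30, [(5, -1)]), (32, [(7, 1)]), (35, [(8, 1)]), (37, [(10, 1)]), (46, [(12, 1)]), (48, [(14, -1)]), (51, [(15, 1)]), (56, [(20, -1)]), (57, [(23, 1)]), (59, [(25, -1)]), (61, [(34, -1)]), (63, [(36, -1)]), (64, [(39, -1)]), (66, [(41, 1)]), (67, [(43, 1)]), (69, [(45, -1)]), (71, [(54, 1)])]) (.leaf [(1, [(46, 1)]), (2, [(47, -1)]), (3, [(48, 1)]), (4, [(49, -1)]), (5, [(50, 1)]), (6, [(51, -1)]), (7, [(52, 1)]), (8, [(53, 1)]), (9, [(54, -1)]), (10, [(55, 1)]), (16, [(61, -1)]), (17, [(62, 1)]), (18, [(63, -1)]), (19, [(64, -1)]), (20, [(65, 1)]), (21, [(66, -1)]), (22, [(67, 1)]), (23, [(68, -1)]), (24, [(69, 1)]), (25, [(70, -1)])])) (.node (.leaf [(1, [(4, -1)]), (5, [(9, 1)]), (6, [(10, 1)]), (11, [(14, -1)]), (16, [(20, 1)]), (17, [(21, 1)]), (22, [(25, -1)]),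 (26, [(29, -1)]), (31, [(36, 1)]), (32, [(38, 1)]), (33, [(39, -1)]), (35, [(40, -1)]), (42, [(45, 1)]), (46, [(49, 1)]), (50, [(54, -1)]), (51, [(55, -1)]), (57, [(60, 1)]), (61, [(65, -1)]), (62, [(66, -1)]), (67, [(70, 1)])]) (.leaf [(1, [(46, 1)]), (2, [(47, -1)]), (3, [(48, 1)]), (4, [(49, -1)]), (5, [(50, 1)]), (6, [(51, -1)]), (7, [(52, 1)]), (8, [(53, 1)]), (9, [(54, -1)]), (10, [(55, 1)]), (16, [(61, -1)]), (17, [(62, 1)]), (18, [(63, -1)]), (19, [(64, -1)]), (20, [(65, 1)]), (21, [(66, -1)]), (22, [(67, 1)]), (23, [(68, -1)]), (24, [(69, 1)]), (25, [(70, -1)])]))) (.node (.node (.leaf [(1, [(0, -1)]), (11, [(8, -1)]), (12, [(9, -1)]), (13, [(10, -1)]), (26, [(19, -1)]), (27, [(20, -1)]), (28, [(21, -1)]), (30, [(22, 1)]), (31, [(23, 1)]), (32, [(24, 1)]), (47, [(39, -1)]), (48, [(40, -1)]), (49, [(41, -1)]), (50, [(43, 1)]), (51, [(44, 1)]), (52, [(45, 1)]), (61, [(58, 1)]), (62, [(59,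 1)]), (63, [(60, 1)]), (71, [(70, 1)])]) (.leaf [(1, [(46, 1)]), (2, [(47, -1)]), (3, [(48, 1)]), (4, [(49, -1)]), (5, [(50, 1)]), (6, [(51, -1)]), (7, [(52, 1)]), (8, [(53, 1)]), (9, [(54, -1)]), (10, [(55, 1)]), (16, [(61, -1)]), (17, [(62, 1)]), (18, [(63, -1)]), (19, [(64, -1)]), (20, [(65, 1)]), (21, [(66, -1)]), (22, [(67, 1)]), (23, [(68, -1)]), (24, [(69, 1)]), (25, [(70, -1)])])) (.node (.leaf [(2, [(16, 1)]), (3, [(17, 1)]), (4, [(18, 1)]), (8, [(22, -1)]), (9, [(23, -1)]), (10, [(24, -1)]), (11, [(30, 1)]), (12, [(31, 1)]), (13, [(32, 1)]), (15, [(42, 1)]), (29, [(56, -1)]), (39, [(58, -1)]), (40, [(59, -1)]), (41, [(60, -1)]), (47, [(61, 1)]), (48, [(62, 1)]), (49, [(63, 1)]), (53, [(67, -1)]), (54, [(68, -1)]), (55, [(69, -1)])]) (.leaf [(1, [(46, 1)]), (2, [(47, -1)]), (3, [(48, 1)]), (4, [(49, -1)]), (5, [(50, 1)]), (6, [(51, -1)]), (7, [(52, 1)]), (8, [(53, 1)]), (9, [(54, -1)]),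 (10, [(55, 1)]), (16, [(61, -1)]), (17, [(62, 1)]), (18, [(63, -1)]), (19, [(64, -1)]), (20, [(65, 1)]), (21, [(66, -1)]), (22, [(67, 1)]), (23, [(68, -1)]), (24, [(69, 1)]), (25, [(70, -1)])]))))) (.node (.node (.node (.node (.leaf [(21, [(0, 1)]), (28, [(1, 1)]), (29, [(2, 1)]), (37, [(6, 1)]), (38, [(7, -1)]), (40, [(8, 1)]), (41, [(9, -1)]), (48, [(11, 1)]), (49, [(12, -1)]), (55, [(15, 1)]), (56, [(16, -1)]), (59, [(22, 1)]), (60, [(23, -1)]), (62, [(30, 1)]), (63, [(31, -1)]), (64, [(33, 1)]), (65, [(34, -1)]), (69, [(42, -1)]), (70, [(43, -1)]), (71, [(50, -1)])]) (.leaf [(0, [(24, -1)]), (1, [(32, 1)]), (3, [(37, 1)]), (4, [(38, -1)]), (5, [(42, 1)]), (8, [(44, -1)]), (9, [(45, 1)]), (11, [(51, 1)]), (12, [(52, -1)]), (14, [(55, 1)]), (16, [(57, -1)]), (19, [(59, 1)]), (20, [(60, -1)]), (26, [(62, -1)]), (27, [(63, 1)]), (29, [(66, -1)]), (33, [(67, 1)]), (34, [(68, -1)]), (39, [(70,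 -1)]), (47, [(71, 1)])])) (.node (.leaf [(2, [(3, -1)]), (5, [(6, -1)]), (9, [(10, -1)]), (12, [(13, -1)]), (16, [(17, -1)]), (20, [(21, -1)]), (23, [(24, -1)]), (27, [(28, -1)]), (31, [(32, -1)]), (33, [(35, 1)]), (36, [(38, -1)]), (39, [(40, 1)]), (43, [(44, 1)]), (47, [(48, 1)]), (50, [(51, 1)]), (54, [(55, 1)]), (58, [(59, 1)]), (61, [(62, 1)]), (65, [(66, 1)]), (68, [(69, 1)])]) (.leaf [(1, [(46, 1)]), (2, [(47, -1)]), (3, [(48, 1)]), (4, [(49, -1)]), (5, [(50, 1)]), (6, [(51, -1)]), (7, [(52, 1)]), (8, [(53, 1)]), (9, [(54, -1)]), (10, [(55, 1)]), (16, [(61, -1)]), (17, [(62, 1)]), (18, [(63, -1)]), (19, [(64, -1)]), (20, [(65, 1)]), (21, [(66, -1)]), (22, [(67, 1)]), (23, [(68, -1)]), (24, [(69, 1)]), (25, [(70, -1)])]))) (.node (.node (.leaf [(5, [(0, -1)]), (11, [(3, -1)]), (12, [(4, -1)]), (15, [(10, -1)]), (30, [(17, -1)]), (31, [(18, -1)]), (33, [(19, 1)]), (34, [(20, 1)]), (42, [(24,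 1)]), (43, [(25, -1)]), (46, [(28, 1)]), (47, [(29, -1)]), (51, [(37, -1)]), (52, [(38, -1)]), (53, [(40, 1)]), (54, [(41, 1)]), (61, [(56, 1)]), (67, [(59, 1)]), (68, [(60, 1)]), (71, [(66, 1)])]) (.leaf [(1, [(46, 1)]), (2, [(47, -1)]), (3, [(48, 1)]), (4, [(49, -1)]), (5, [(50, 1)]), (6, [(51, -1)]), (7, [(52, 1)]), (8, [(53, 1)]), (9, [(54, -1)]), (10, [(55, 1)]), (16, [(61, -1)]), (17, [(62, 1)]), (18, [(63, -1)]), (19, [(64, -1)]), (20, [(65, 1)]), (21, [(66, -1)]), (22, [(67, 1)]), (23, [(68, -1)]), (24, [(69, 1)]), (25, [(70, -1)])])) (.node (.leaf [(0, [(8, -1)]), (1, [(11, -1)]), (4, [(14, -1)]), (7, [(15, -1)]), (16, [(33, -1)]), (17, [(35, 1)]), (20, [(39, 1)]), (21, [(40, -1)]), (23, [(43, 1)]), (24, [(44, -1)]), (27, [(47, 1)]), (28, [(48, -1)]), (31, [(50, 1)]), (32, [(51, -1)]), (36, [(54, -1)]), (38, [(55, 1)]), (56, [(64, 1)]), (57, [(67, 1)]), (60, [(70, 1)]), (63, [(71, 1)])])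 (.leaf [(1, [(46, 1)]), (2, [(47, -1)]), (3, [(48, 1)]), (4, [(49, -1)]), (5, [(50, 1)]), (6, [(51, -1)]), (7, [(52, 1)]), (8, [(53, 1)]), (9, [(54, -1)]), (10, [(55, 1)]), (16, [(61, -1)]), (17, [(62, 1)]), (18, [(63, -1)]), (19, [(64, -1)]), (20, [(65, 1)]), (21, [(66, -1)]), (22, [(67, 1)]), (23, [(68, -1)]), (24, [(69, 1)]), (25, [(70, -1)])])))) (.node (.node (.node (.leaf [(16, [(1, 1)]), (19, [(3, -1)]), (20, [(4, -1)]), (22, [(6, -1)]), (23, [(7, -1)]), (25, [(10, 1)]), (33, [(11, 1)]), (34, [(12, 1)]), (39, [(14, 1)]), (43, [(15, 1)]), (56, [(28, -1)]), (57, [(32, -1)]), (59, [(37, -1)]), (60, [(38, -1)]), (61, [(46, -1)]), (64, [(48, 1)]), (65, [(49, 1)]), (67, [(51, 1)]), (68, [(52, 1)]), (70, [(55, -1)])]) (.leaf [(1, [(46, 1)]), (2, [(47, -1)]), (3, [(48, 1)]), (4, [(49, -1)]), (5, [(50, 1)]), (6, [(51, -1)]), (7, [(52, 1)]), (8, [(53, 1)]), (9, [(54, -1)]), (10, [(55, 1)]), (16,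 [(61, -1)]), (17, [(62, 1)]), (18, [(63, -1)]), (19, [(64, -1)]), (20, [(65, 1)]), (21, [(66, -1)]), (22, [(67, 1)]), (23, [(68, -1)]), (24, [(69, 1)]), (25, [(70, -1)])])) (.node (.leaf [(1, [(7, -1)]), (2, [(9, -1)]), (3, [(10, -1)]), (11, [(15, -1)]), (16, [(23, 1)]), (17, [(24, 1)]), (19, [(25, 1)]), (27, [(36, 1)]), (28, [(38, 1)]), (29, [(41, 1)]), (30, [(42, -1)]), (33, [(43, -1)]), (35, [(44, -1)]), (46, [(52, -1)]), (47, [(54, -1)]), (48, [(55, -1)]), (56, [(60, 1)]), (61, [(68, 1)]), (62, [(69, 1)]), (64, [(70, 1)])]) (.leaf [(1, [(46, 1)]), (2, [(47, -1)]), (3, [(48, 1)]), (4, [(49, -1)]), (5, [(50, 1)]), (6, [(51, -1)]), (7, [(52, 1)]), (8, [(53, 1)]), (9, [(54, -1)]), (10, [(55, 1)]), (16, [(61, -1)]), (17, [(62, 1)]), (18, [(63, -1)]), (19, [(64, -1)]), (20, [(65, 1)]), (21, [(66, -1)]), (22, [(67, 1)]), (23, [(68, -1)]), (24, [(69, 1)]), (25, [(70, -1)])]))) (.node (.node (.leaf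 [(5, [(2, -1)]), (6, [(3, -1)]), (7, [(4, -1)]), (15, [(14, -1)]), (22, [(19, -1)]), (23, [(20, -1)]), (24, [(21, -1)]), (30, [(26, 1)]), (31, [(27, 1)]), (32, [(28, 1)]), (43, [(39, -1)]), (44, [(40, -1)]), (45, [(41, -1)]), (50, [(47, 1)]), (51, [(48, 1)]), (52, [(49, 1)]), (57, [(56, 1)]), (67, [(64, 1)]), (68, [(65, 1)]), (69, [(66, 1)])]) (.leaf [(1, [(46, 1)]), (2, [(47, -1)]), (3, [(48, 1)]), (4, [(49, -1)]), (5, [(50, 1)]), (6, [(51, -1)]), (7, [(52, 1)]), (8, [(53, 1)]), (9, [(54, -1)]), (10, [(55, 1)]), (16, [(61, -1)]), (17, [(62, 1)]), (18, [(63, -1)]), (19, [(64, -1)]), (20, [(65, 1)]), (21, [(66, -1)]), (22, [(67, 1)]), (23, [(68, -1)]), (24, [(69, 1)]), (25, [(70, -1)])])) (.node (.leaf [(0, [(16, 1)]), (3, [(26, 1)]), (4, [(27, 1)]), (6, [(30, -1)]), (7, [(31, -1)]), (8, [(33, 1)]), (9, [(34, 1)]), (13, [(46, 1)]), (14, [(47, -1)]), (15, [(50, 1)]), (21, [(56, -1)]), (24, [(57,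 1)]), (25, [(58, -1)]), (37, [(62, -1)]), (38, [(63, -1)]), (40, [(64, 1)]), (41, [(65, 1)]), (44, [(67, -1)]), (45, [(68, -1)]), (55, [(71, -1)])]) (.leaf [(1, [(46, 1)]), (2, [(47, -1)]), (3, [(48, 1)]), (4, [(49, -1)]), (5, [(50, 1)]), (6, [(51, -1)]), (7, [(52, 1)]), (8, [(53, 1)]), (9, [(54, -1)]), (10, [(55, 1)]), (16, [(61, -1)]), (17, [(62, 1)]), (18, [(63, -1)]), (19, [(64, -1)]), (20, [(65, 1)]), (21, [(66, -1)]), (22, [(67, 1)]), (23, [(68, -1)]), (24, [(69, 1)]), (25, [(70, -1)])])))))) (.node (.node (.node (.node (.node (.leaf [(23, [(0, 1)]), (31, [(1, -1)]), (34, [(2, 1)]), (36, [(4, 1)]), (42, [(6, 1)]), (43, [(8, -1)]), (45, [(10, 1)]), (50, [(11, 1)]), (52, [(13, -1)]), (54, [(14, 1)]), (57, [(17, -1)]), (58, [(19, 1)]), (60, [(21, -1)]), (61, [(26, -1)]), (63, [(28, 1)]), (65, [(29, -1)]), (67, [(35, -1)]), (69, [(37, -1)]), (70, [(40, 1)]), (71, [(48, -1)])]) (.leaf [(0, [(22,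 -1)]), (1, [(30, 1)]), (2, [(33, -1)]), (3, [(35, 1)]), (7, [(42, 1)]), (9, [(43, -1)]), (10, [(44, 1)]), (12, [(50, 1)]), (13, [(51, -1)]), (14, [(53, 1)]), (18, [(57, -1)]), (20, [(58, 1)]), (21, [(59, -1)]), (27, [(61, -1)]), (28, [(62, 1)]), (29, [(64, -1)]), (36, [(68, -1)]), (38, [(69, 1)]), (41, [(70, -1)]), (49, [(71, 1)])])) (.node (.leaf [(4, [(3, -1)]), (7, [(6, -1)]), (9, [(8, -1)]), (12, [(11, -1)]), (18, [(17, -1)]), (20, [(19, -1)]), (23, [(22, -1)]), (27, [(26, -1)]), (31, [(30, -1)]), (34, [(33, -1)]), (38, [(37, 1)]), (41, [(40, 1)]), (45, [(44, 1)]), (49, [(48, 1)]), (52, [(51, 1)]), (54, [(53, 1)]), (60, [(59, 1)]), (63, [(62, 1)]), (65, [(64, 1)]), (68, [(67, 1)])]) (.leaf [(1, [(46, 1)]), (2, [(47, -1)]), (3, [(48, 1)]), (4, [(49, -1)]), (5, [(50, 1)]), (6, [(51, -1)]), (7, [(52, 1)]), (8, [(53, 1)]), (9, [(54, -1)]), (10, [(55, 1)]), (16, [(61, -1)]), (17, [(62, 1)]), (18,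 [(63, -1)]), (19, [(64, -1)]), (20, [(65, 1)]), (21, [(66, -1)]), (22, [(67, 1)]), (23, [(68, -1)]), (24, [(69, 1)]), (25, [(70, -1)])]))) (.node (.node (.leaf [(7, [(0, -1)]), (12, [(2, 1)]), (13, [(3, 1)]), (15, [(8, -1)]), (31, [(16, 1)]), (32, [(17, 1)]), (36, [(20, 1)]), (38, [(21, 1)]), (42, [(22, 1)]), (45, [(25, -1)]), (46, [(26, 1)]), (49, [(29, -1)]), (50, [(33, -1)]), (51, [(35, -1)]), (54, [(39, -1)]), (55, [(40, -1)]), (63, [(56, 1)]), (68, [(58, -1)]), (69, [(59, -1)]), (71, [(64, 1)])]) (.leaf [(1, [(46, 1)]), (2, [(47, -1)]), (3, [(48, 1)]), (4, [(49, -1)]), (5, [(50, 1)]), (6, [(51, -1)]), (7, [(52, 1)]), (8, [(53, 1)]), (9, [(54, -1)]), (10, [(55, 1)]), (16, [(61, -1)]), (17, [(62, 1)]), (18, [(63, -1)]), (19, [(64, -1)]), (20, [(65, 1)]), (21, [(66, -1)]), (22, [(67, 1)]), (23, [(68, -1)]), (24, [(69, 1)]), (25, [(70, -1)])])) (.node (.leaf [(0, [(6, 1)]), (2, [(11, -1)]),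 (4, [(13, 1)]), (9, [(15, -1)]), (16, [(30, -1)]), (18, [(32, 1)]), (19, [(35, 1)]), (21, [(37, 1)]), (23, [(42, 1)]), (25, [(44, -1)]), (27, [(46, 1)]), (29, [(48, -1)]), (34, [(50, -1)]), (36, [(52, -1)]), (39, [(53, -1)]), (41, [(55, 1)]), (56, [(62, 1)]), (58, [(67, -1)]), (60, [(69, 1)]), (65, [(71, -1)])]) (.leaf [(1, [(46, 1)]), (2, [(47, -1)]), (3, [(48, 1)]), (4, [(49, -1)]), (5, [(50, 1)]), (6, [(51, -1)]), (7, [(52, 1)]), (8, [(53, 1)]), (9, [(54, -1)]), (10, [(55, 1)]), (16, [(61, -1)]), (17, [(62, 1)]), (18, [(63, -1)]), (19, [(64, -1)]), (20, [(65, 1)]), (21, [(66, -1)]), (22, [(67, 1)]), (23, [(68, -1)]), (24, [(69, 1)]), (25, [(70, -1)])])))) (.node (.node (.node (.leaf [(18, [(1, 1)]), (20, [(2, 1)]), (21, [(3, 1)]), (23, [(5, 1)]), (24, [(6, 1)]), (25, [(8, 1)]), (36, [(12, 1)]), (38, [(13, 1)]), (41, [(14, 1)]), (45, [(15, 1)]), (56, [(26, -1)]), (57, [(30, -1)]), (58, [(33,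 -1)]), (59, [(35, -1)]), (63, [(46, -1)]), (65, [(47, -1)]), (66, [(48, -1)]), (68, [(50, -1)]), (69, [(51, -1)]), (70, [(53, -1)])]) (.leaf [(1, [(46, 1)]), (2, [(47, -1)]), (3, [(48, 1)]), (4, [(49, -1)]), (5, [(50, 1)]), (6, [(51, -1)]), (7, [(52, 1)]), (8, [(53, 1)]), (9, [(54, -1)]), (10, [(55, 1)]), (16, [(61, -1)]), (17, [(62, 1)]), (18, [(63, -1)]), (19, [(64, -1)]), (20, [(65, 1)]), (21, [(66, -1)]), (22, [(67, 1)]), (23, [(68, -1)]), (24, [(69, 1)]), (25, [(70, -1)])])) (.node (.leaf [(1, [(5, -1)]), (3, [(8, 1)]), (4, [(9, 1)]), (13, [(15, -1)]), (17, [(22, -1)]), (18, [(23, -1)]), (21, [(25, 1)]), (26, [(33, 1)]), (27, [(34, 1)]), (29, [(39, 1)]), (32, [(42, -1)]), (37, [(44, -1)]), (38, [(45, -1)]), (46, [(50, -1)]), (48, [(53, 1)]), (49, [(54, 1)]), (56, [(58, 1)]), (62, [(67, -1)]), (63, [(68, -1)]), (66, [(70, 1)])]) (.leaf [(1, [(46, 1)]), (2, [(47, -1)]), (3, [(48, 1)]), (4,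 [(49, -1)]), (5, [(50, 1)]), (6, [(51, -1)]), (7, [(52, 1)]), (8, [(53, 1)]), (9, [(54, -1)]), (10, [(55, 1)]), (16, [(61, -1)]), (17, [(62, 1)]), (18, [(63, -1)]), (19, [(64, -1)]), (20, [(65, 1)]), (21, [(66, -1)]), (22, [(67, 1)]), (23, [(68, -1)]), (24, [(69, 1)]), (25, [(70, -1)])]))) (.node (.node (.leaf [(6, [(1, 1)]), (8, [(2, 1)]), (10, [(4, -1)]), (15, [(12, -1)]), (22, [(16, -1)]), (24, [(18, 1)]), (25, [(20, 1)]), (35, [(26, 1)]), (37, [(28, 1)]), (40, [(29, 1)]), (42, [(31, -1)]), (43, [(34, -1)]), (45, [(36, -1)]), (51, [(46, -1)]), (53, [(47, -1)]), (55, [(49, 1)]), (59, [(56, 1)]), (67, [(61, 1)]), (69, [(63, -1)]), (70, [(65, -1)])]) (.leaf [(1, [(46, 1)]), (2, [(47, -1)]), (3, [(48, 1)]), (4, [(49, -1)]), (5, [(50, 1)]), (6, [(51, -1)]), (7, [(52, 1)]), (8, [(53, 1)]), (9, [(54, -1)]), (10, [(55, 1)]), (16, [(61, -1)]), (17, [(62, 1)]), (18, [(63, -1)]), (19, [(64, -1)]), (20,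 [(65, 1)]), (21, [(66, -1)]), (22, [(67, 1)]), (23, [(68, -1)]), (24, [(69, 1)]), (25, [(70, -1)])])) (.node (.leaf [(1, [(17, -1)]), (2, [(19, -1)]), (4, [(21, 1)]), (5, [(22, -1)]), (7, [(24, 1)]), (9, [(25, 1)]), (11, [(35, 1)]), (13, [(37, 1)]), (14, [(40, 1)]), (15, [(44, 1)]), (27, [(56, -1)]), (31, [(57, -1)]), (34, [(58, -1)]), (36, [(60, -1)]), (46, [(62, -1)]), (47, [(64, -1)]), (49, [(66, 1)]), (50, [(67, -1)]), (52, [(69, 1)]), (54, [(70, 1)])]) (.leaf [(1, [(46, 1)]), (2, [(47, -1)]), (3, [(48, 1)]), (4, [(49, -1)]), (5, [(50, 1)]), (6, [(51, -1)]), (7, [(52, 1)]), (8, [(53, 1)]), (9, [(54, -1)]), (10, [(55, 1)]), (16, [(61, -1)]), (17, [(62, 1)]), (18, [(63, -1)]), (19, [(64, -1)]), (20, [(65, 1)]), (21, [(66, -1)]), (22, [(67, 1)]), (23, [(68, -1)]), (24, [(69, 1)]), (25, [(70, -1)])]))))) (.node (.node (.node (.node (.leaf [(19, [(0, 1)]), (26, [(1, 1)]), (29, [(4, 1)]), (33,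 [(5, -1)]), (35, [(6, 1)]), (39, [(9, 1)]), (40, [(10, -1)]), (47, [(12, 1)]), (48, [(13, -1)]), (53, [(15, 1)]), (56, [(18, -1)]), (58, [(23, 1)]), (59, [(24, -1)]), (61, [(31, 1)]), (62, [(32, -1)]), (65, [(36, -1)]), (66, [(38, 1)]), (67, [(42, -1)]), (70, [(45, -1)]), (71, [(52, -1)])]) (.leaf [(1, [(46, 1)]), (2, [(47, -1)]), (3, [(48, 1)]), (4, [(49, -1)]), (5, [(50, 1)]), (6, [(51, -1)]), (7, [(52, 1)]), (8, [(53, 1)]), (9, [(54, -1)]), (10, [(55, 1)]), (16, [(61, -1)]), (17, [(62, 1)]), (18, [(63, -1)]), (19, [(64, -1)]), (20, [(65, 1)]), (21, [(66, -1)]), (22, [(67, 1)]), (23, [(68, -1)]), (24, [(69, 1)]), (25, [(70, -1)])])) (.node (.leaf [(1, [(2, -1)]), (6, [(8, -1)]), (7, [(9, -1)]), (13, [(14, -1)]), (17, [(19, -1)]), (18, [(20, -1)]), (24, [(25, -1)]), (28, [(29, -1)]), (30, [(33, 1)]), (31, [(34, 1)]), (37, [(40, -1)]), (38, [(41, -1)]), (42, [(43, 1)]), (46, [(47, 1)]), (51,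 [(53, 1)]), (52, [(54, 1)]), (57, [(58, 1)]), (62, [(64, 1)]), (63, [(65, 1)]), (69, [(70, 1)])]) (.leaf [(1, [(46, 1)]), (2, [(47, -1)]), (3, [(48, 1)]), (4, [(49, -1)]), (5, [(50, 1)]), (6, [(51, -1)]), (7, [(52, 1)]), (8, [(53, 1)]), (9, [(54, -1)]), (10, [(55, 1)]), (16, [(61, -1)]), (17, [(62, 1)]), (18, [(63, -1)]), (19, [(64, -1)]), (20, [(65, 1)]), (21, [(66, -1)]), (22, [(67, 1)]), (23, [(68, -1)]), (24, [(69, 1)]), (25, [(70, -1)])]))) (.node (.node (.leaf [(3, [(0, -1)]), (11, [(5, -1)]), (13, [(7, 1)]), (14, [(9, 1)]), (26, [(16, -1)]), (28, [(18, 1)]), (29, [(20, 1)]), (35, [(22, 1)]), (37, [(24, 1)]), (40, [(25, 1)]), (46, [(31, -1)]), (47, [(34, -1)]), (49, [(36, -1)]), (51, [(42, -1)]), (53, [(43, -1)]), (55, [(45, 1)]), (62, [(57, -1)]), (64, [(58, -1)]), (66, [(60, 1)]), (71, [(68, 1)])]) (.leaf [(1, [(46, 1)]), (2, [(47, -1)]), (3, [(48, 1)]), (4, [(49, -1)]), (5, [(50, 1)]),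 (6, [(51, -1)]), (7, [(52, 1)]), (8, [(53, 1)]), (9, [(54, -1)]), (10, [(55, 1)]), (16, [(61, -1)]), (17, [(62, 1)]), (18, [(63, -1)]), (19, [(64, -1)]), (20, [(65, 1)]), (21, [(66, -1)]), (22, [(67, 1)]), (23, [(68, -1)]), (24, [(69, 1)]), (25, [(70, -1)])])) (.node (.leaf [(0, [(10, -1)]), (1, [(13, -1)]), (2, [(14, -1)]), (5, [(15, -1)]), (17, [(37, 1)]), (18, [(38, -1)]), (19, [(40, 1)]), (20, [(41, -1)]), (22, [(44, 1)]), (23, [(45, -1)]), (26, [(48, 1)]), (27, [(49, -1)]), (30, [(51, 1)]), (31, [(52, -1)]), (33, [(53, 1)]), (34, [(54, -1)]), (56, [(66, 1)]), (57, [(69, 1)]), (58, [(70, 1)]), (61, [(71, 1)])]) (.leaf [(1, [(46, 1)]), (2, [(47, -1)]), (3, [(48, 1)]), (4, [(49, -1)]), (5, [(50, 1)]), (6, [(51, -1)]), (7, [(52, 1)]), (8, [(53, 1)]), (9, [(54, -1)]), (10, [(55, 1)]), (16, [(61, -1)]), (17, [(62, 1)]), (18, [(63, -1)]), (19, [(64, -1)]), (20, [(65, 1)]), (21, [(66, -1)]), (22,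 [(67, 1)]), (23, [(68, -1)]), (24, [(69, 1)]), (25, [(70, -1)])])))) (.node (.node (.node (.leaf [(16, [(5, 1)]), (17, [(6, 1)]), (18, [(7, 1)]), (19, [(8, 1)]), (20, [(9, 1)]), (21, [(10, 1)]), (26, [(11, 1)]), (27, [(12, 1)]), (28, [(13, 1)]), (29, [(14, 1)]), (57, [(42, -1)]), (58, [(43, -1)]), (59, [(44, -1)]), (60, [(45, -1)]), (61, [(50, -1)]), (62, [(51, -1)]), (63, [(52, -1)]), (64, [(53, -1)]), (65, [(54, -1)]), (66, [(55, -1)])]) (.leaf [(1, [(46, 1)]), (2, [(47, -1)]), (3, [(48, 1)]), (4, [(49, -1)]), (5, [(50, 1)]), (6, [(51, -1)]), (7, [(52, 1)]), (8, [(53, 1)]), (9, [(54, -1)]), (10, [(55, 1)]), (16, [(61, -1)]), (17, [(62, 1)]), (18, [(63, -1)]), (19, [(64, -1)]), (20, [(65, 1)]), (21, [(66, -1)]), (22, [(67, 1)]), (23, [(68, -1)]), (24, [(69, 1)]), (25, [(70, -1)])])) (.node (.leaf [(0, [(2, 1)]), (6, [(11, -1)]), (7, [(12, -1)]), (10, [(14, 1)]), (17, [(26, -1)]), (18, [(27,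 -1)]), (21, [(29, 1)]), (22, [(33, 1)]), (23, [(34, 1)]), (25, [(39, 1)]), (32, [(46, -1)]), (37, [(48, -1)]), (38, [(49, -1)]), (42, [(50, -1)]), (44, [(53, 1)]), (45, [(54, 1)]), (57, [(61, -1)]), (59, [(64, 1)]), (60, [(65, 1)]), (69, [(71, -1)])]) (.leaf [(1, [(46, 1)]), (2, [(47, -1)]), (3, [(48, 1)]), (4, [(49, -1)]), (5, [(50, 1)]), (6, [(51, -1)]), (7, [(52, 1)]), (8, [(53, 1)]), (9, [(54, -1)]), (10, [(55, 1)]), (16, [(61, -1)]), (17, [(62, 1)]), (18, [(63, -1)]), (19, [(64, -1)]), (20, [(65, 1)]), (21, [(66, -1)]), (22, [(67, 1)]), (23, [(68, -1)]), (24, [(69, 1)]), (25, [(70, -1)])]))) (.node (.node (.leaf [(3, [(1, 1)]), (8, [(5, -1)]), (10, [(7, 1)]), (14, [(12, -1)]), (19, [(16, -1)]), (21, [(18, 1)]), (25, [(23, -1)]), (29, [(27, -1)]), (35, [(30, 1)]), (37, [(32, 1)]), (39, [(34, -1)]), (41, [(36, -1)]), (44, [(42, 1)]), (48, [(46, 1)]), (53, [(50, -1)]), (55, [(52, 1)]), (59,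 [(57, 1)]), (64, [(61, -1)]), (66, [(63, 1)]), (70, [(68, -1)])]) (.leaf [(1, [(46, 1)]), (2, [(47, -1)]), (3, [(48, 1)]), (4, [(49, -1)]), (5, [(50, 1)]), (6, [(51, -1)]), (7, [(52, 1)]), (8, [(53, 1)]), (9, [(54, -1)]), (10, [(55, 1)]), (16, [(61, -1)]), (17, [(62, 1)]), (18, [(63, -1)]), (19, [(64, -1)]), (20, [(65, 1)]), (21, [(66, -1)]), (22, [(67, 1)]), (23, [(68, -1)]), (24, [(69, 1)]), (25, [(70, -1)])])) (.node (.leaf [(0, [(18, 1)]), (2, [(27, -1)]), (3, [(28, -1)]), (5, [(31, 1)]), (6, [(32, 1)]), (9, [(36, 1)]), (10, [(38, 1)]), (11, [(46, 1)]), (14, [(49, -1)]), (15, [(52, 1)]), (19, [(56, -1)]), (22, [(57, 1)]), (25, [(60, -1)]), (33, [(61, -1)]), (35, [(62, -1)]), (39, [(65, -1)]), (40, [(66, -1)]), (43, [(68, 1)]), (44, [(69, 1)]), (53, [(71, -1)])]) (.leaf [(1, [(46, 1)]), (2, [(47, -1)]), (3, [(48, 1)]), (4, [(49, -1)]), (5, [(50, 1)]), (6, [(51, -1)]), (7, [(52, 1)]), (8, [(53,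 1)]), (9, [(54, -1)]), (10, [(55, 1)]), (16, [(61, -1)]), (17, [(62, 1)]), (18, [(63, -1)]), (19, [(64, -1)]), (20, [(65, 1)]), (21, [(66, -1)]), (22, [(67, 1)]), (23, [(68, -1)]), (24, [(69, 1)]), (25, [(70, -1)])])))))))

noncomputable def cor : Trie (List ℤ) := .node (.node (.node (.node (.node (.node (.node (.leaf [-1, -2, -2, -3, -2, -1]) (.leaf [1, 1, 1, 2, 1, 0])) (.node (.leaf [0, 0, 0, -1, 0, 0]) (.leaf [1, 2, 2, 3, 2, 1]))) (.node (.node (.leaf [0, -1, -1, -2, -2, -1]) (.leaf [1, 2, 2, 3, 2, 1])) (.node (.leaf [0, 1, 0, 1, 1, 0]) (.leaf [1, 2, 2, 3, 2, 1])))) (.node (.node (.node (.leaf [-1, -1, -1, -1, -1, -1]) (.leaf [1, 2, 2, 3, 2, 1])) (.node (.leaf [0, 0, 0, 1, 1, 0]) (.leaf [1, 2, 2, 3, 2, 1]))) (.node (.node (.leaf [0, -1, 0, -1, 0, 0]) (.leaf [1, 2, 2, 3, 2, 1])) (.node (.leaf [1, 0, 0, 0, 0, 0]) (.leaf [1, 2, 2, 3, 2, 1]))))) (.node (.node (.node (.node (.leaf [-1, -1, -2,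 -2, -1, 0]) (.leaf [1, 1, 2, 2, 1, 1])) (.node (.leaf [0, 0, 0, 0, 0, 1]) (.leaf [1, 2, 2, 3, 2, 1]))) (.node (.node (.leaf [0, -1, -1, -1, -1, 0]) (.leaf [1, 2, 2, 3, 2, 1])) (.node (.leaf [0, 1, 1, 1, 1, 1]) (.leaf [1, 2, 2, 3, 2, 1])))) (.node (.node (.node (.leaf [-1, 0, -1, -1, -1, 0]) (.leaf [1, 2, 2, 3, 2, 1])) (.node (.leaf [0, 0, 1, 1, 1, 0]) (.leaf [1, 2, 2, 3, 2, 1]))) (.node (.node (.leaf [0, 0, -1, -1, 0, 0]) (.leaf [1, 2, 2, 3, 2, 1])) (.node (.leaf [1, 0, 1, 1, 1, 1]) (.leaf [1, 2, 2, 3, 2, 1])))))) (.node (.node (.node (.node (.node (.leaf [-1, -1, -2, -2, -2, -1]) (.leaf [1, 1, 1, 2, 2, 1])) (.node (.leaf [0, 0, 0, 0, -1, 0]) (.leaf [1, 2, 2, 3, 2, 1]))) (.node (.node (.leaf [0, -1, -1, -2, -1, 0]) (.leaf [1, 2, 2, 3, 2, 1])) (.node (.leaf [0, 1, 1, 1, 0, 0]) (.leaf [1, 2, 2, 3, 2, 1])))) (.node (.node (.node (.leaf [-1, -1, -1, -1, 0, 0]) (.leaf [1, 2, 2, 3, 2, 1])) (.node (.leaf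 [0, 0, 1, 0, 0, 0]) (.leaf [1, 2, 2, 3, 2, 1]))) (.node (.node (.leaf [0, 0, -1, -1, -1, -1]) (.leaf [1, 2, 2, 3, 2, 1])) (.node (.leaf [1, 0, 1, 1, 0, 0]) (.leaf [1, 2, 2, 3, 2, 1]))))) (.node (.node (.node (.node (.leaf [-1, -1, -1, -2, -1, -1]) (.leaf [1, 1, 2, 3, 2, 1])) (.node (.leaf [0, 0, 0, 0, 1, 1]) (.leaf [1, 2, 2, 3, 2, 1]))) (.node (.node (.leaf [0, -1, 0, -1, -1, -1]) (.leaf [1, 2, 2, 3, 2, 1])) (.node (.leaf [0, 1, 1, 2, 1, 1]) (.leaf [1, 2, 2, 3, 2, 1])))) (.node (.node (.node (.leaf [-1, 0, -1, 0, 0, 0]) (.leaf [1, 2, 2, 3, 2, 1])) (.node (.leaf [0, 1, 0, 0, 0, 0]) (.leaf [1, 2, 2, 3, 2, 1]))) (.node (.node (.leaf [0, 0, 0, -1, -1, -1]) (.leaf [1, 2, 2, 3, 2, 1])) (.node (.leaf [1, 1, 1, 1, 1, 0]) (.leaf [1, 2, 2, 3, 2, 1]))))))) (.node (.node (.node (.node (.node (.node (.leaf [-1, -1, -2, -3, -2, -1]) (.leaf [1, 1, 1, 2, 1, 1])) (.node (.leaf [0, 0, 0, 0, -1, -1]) (.leaf [1,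 2, 2, 3, 2, 1]))) (.node (.node (.leaf [0, -1, -1, -2, -1, -1]) (.leaf [1, 2, 2, 3, 2, 1])) (.node (.leaf [0, 1, 0, 1, 1, 1]) (.leaf [1, 2, 2, 3, 2, 1])))) (.node (.node (.node (.leaf [-1, -1, -1, -1, -1, 0]) (.leaf [1, 2, 2, 3, 2, 1])) (.node (.leaf [0, 0, 0, 1, 1, 1]) (.leaf [1, 2, 2, 3, 2, 1]))) (.node (.node (.leaf [0, -1, 0, 0, 0, 0]) (.leaf [1, 2, 2, 3, 2, 1])) (.node (.leaf [1, 0, 1, 0, 0, 0]) (.leaf [1, 2, 2, 3, 2, 1]))))) (.node (.node (.node (.node (.leaf [-1, -1, -1, -2, -2, -1]) (.leaf [1, 1, 2, 2, 2, 1])) (.node (.leaf [0, 0, 0, 0, 1, 0]) (.leaf [1, 2, 2, 3, 2, 1]))) (.node (.node (.leaf [0, -1, -1, -1, 0, 0]) (.leaf [1, 2, 2, 3, 2, 1])) (.node (.leaf [0, 1, 1, 2, 1, 0]) (.leaf [1, 2, 2, 3, 2, 1])))) (.node (.node (.node (.leaf [-1, 0, -1, -1, 0, 0]) (.leaf [1, 2, 2, 3, 2, 1])) (.node (.leaf [0, 0, 1, 1, 1, 1]) (.leaf [1, 2, 2, 3, 2, 1]))) (.node (.node (.leaf [0, 0, -1, 0, 0, 0])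 (.leaf [1, 2, 2, 3, 2, 1])) (.node (.leaf [1, 1, 1, 1, 0, 0]) (.leaf [1, 2, 2, 3, 2, 1])))))) (.node (.node (.node (.node (.node (.leaf [-1, -1, -2, -2, -1, -1]) (.leaf [1, 1, 2, 2, 1, 0])) (.node (.leaf [0, 0, 0, 0, 0, -1]) (.leaf [1, 2, 2, 3, 2, 1]))) (.node (.node (.leaf [0, -1, -1, -1, -1, -1]) (.leaf [1, 2, 2, 3, 2, 1])) (.node (.leaf [0, 1, 1, 1, 1, 0]) (.leaf [1, 2, 2, 3, 2, 1])))) (.node (.node (.node (.leaf [-1, 0, -1, -1, -1, -1]) (.leaf [1, 2, 2, 3, 2, 1])) (.node (.leaf [0, 0, 1, 1, 0, 0]) (.leaf [1, 2, 2, 3, 2, 1]))) (.node (.node (.leaf [0, 0, -1, -1, -1, 0]) (.leaf [1, 2, 2, 3, 2, 1])) (.node (.leaf [1, 0, 1, 1, 1, 0]) (.leaf [1, 2, 2, 3, 2, 1]))))) (.node (.node (.node (.node (.leaf [-1, -1, -1, -2, -1, 0]) (.leaf [1, 2, 2, 3, 2, 1])) (.node (.leaf [0, 0, 0, 1, 0, 0]) (.leaf [1, 2, 2, 3, 2, 1]))) (.node (.node (.leaf [0, -1, 0, -1, -1, 0]) (.leaf [1, 2, 2, 3, 2, 1])) (.node (.leaf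 [0, 1, 1, 2, 2, 1]) (.leaf [1, 2, 2, 3, 2, 1])))) (.node (.node (.node (.leaf [-1, 0, 0, 0, 0, 0]) (.leaf [1, 2, 2, 3, 2, 1])) (.node (.leaf [0, 1, 0, 1, 0, 0]) (.leaf [1, 2, 2, 3, 2, 1]))) (.node (.node (.leaf [0, 0, 0, -1, -1, 0]) (.leaf [1, 2, 2, 3, 2, 1])) (.node (.leaf [1, 1, 1, 1, 1, 1]) (.leaf [1, 2, 2, 3, 2, 1])))))))

noncomputable def bez : Trie (List ℤ) := .node (.node (.node (.node (.node (.node (.node (.leaf [0, 0, 0, 0, 0, -1]) (.leaf [0, 0, 0, 0, 1, 0])) (.node (.leaf [0, 0, 0, -1, 0, 0]) (.leaf [0, 0, 0, 0, 0, 1]))) (.node (.node (.leaf [0, 0, 0, 0, 0, -1]) (.leaf [0, 0, 0, 0, 0, 1])) (.node (.leaf [0, 0, 0, 0, 1, 0]) (.leaf [0, 0, 0, 0, 0, 1])))) (.node (.node (.node (.leaf [0, 0, 0, 0, 0, -1]) (.leaf [0, 0, 0, 0, 0, 1])) (.node (.leaf [0, 0, 0, 0, 1, 0]) (.leaf [0, 0, 0, 0, 0, 1]))) (.node (.node (.leaf [0, 0, 0, -1, 0, 0]) (.leaf [0, 0, 0, 0, 0, 1])) (.node (.leaf [1, 0, 0,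 0, 0, 0]) (.leaf [0, 0, 0, 0, 0, 1]))))) (.node (.node (.node (.node (.leaf [0, 0, 0, 0, -1, 0]) (.leaf [0, 0, 0, 0, 0, 1])) (.node (.leaf [0, 0, 0, 0, 0, 1]) (.leaf [0, 0, 0, 0, 0, 1]))) (.node (.node (.leaf [0, 0, 0, 0, -1, 0]) (.leaf [0, 0, 0, 0, 0, 1])) (.node (.leaf [0, 0, 0, 0, 0, 1]) (.leaf [0, 0, 0, 0, 0, 1])))) (.node (.node (.node (.leaf [0, 0, 0, 0, -1, 0]) (.leaf [0, 0, 0, 0, 0, 1])) (.node (.leaf [0, 0, 0, 0, 1, 0]) (.leaf [0, 0, 0, 0, 0, 1]))) (.node (.node (.leaf [0, 0, 0, -1, 0, 0]) (.leaf [0, 0, 0, 0, 0, 1])) (.node (.leaf [0, 0, 0, 0, 0, 1]) (.leaf [0, 0, 0, 0, 0, 1])))))) (.node (.node (.node (.node (.node (.leaf [0, 0, 0, 0, 0, -1]) (.leaf [0, 0, 0, 0, 0, 1])) (.node (.leaf [0, 0, 0, 0, -1, 0]) (.leaf [0, 0, 0, 0, 0, 1]))) (.node (.node (.leaf [0, 0, 0, 0, -1, 0]) (.leaf [0, 0, 0, 0, 0, 1])) (.node (.leaf [0, 0, 0, 1, 0, 0]) (.leaf [0, 0, 0, 0, 0, 1])))) (.node (.node (.node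 (.leaf [0, 0, 0, -1, 0, 0]) (.leaf [0, 0, 0, 0, 0, 1])) (.node (.leaf [0, 0, 1, 0, 0, 0]) (.leaf [0, 0, 0, 0, 0, 1]))) (.node (.node (.leaf [0, 0, 0, 0, 0, -1]) (.leaf [0, 0, 0, 0, 0, 1])) (.node (.leaf [0, 0, 0, 1, 0, 0]) (.leaf [0, 0, 0, 0, 0, 1]))))) (.node (.node (.node (.node (.leaf [0, 0, 0, 0, 0, -1]) (.leaf [0, 0, 0, 0, 0, 1])) (.node (.leaf [0, 0, 0, 0, 0, 1]) (.leaf [0, 0, 0, 0, 0, 1]))) (.node (.node (.leaf [0, 0, 0, 0, 0, -1]) (.leaf [0, 0, 0, 0, 0, 1])) (.node (.leaf [0, 0, 0, 0, 0, 1]) (.leaf [0, 0, 0, 0, 0, 1])))) (.node (.node (.node (.leaf [0, 0, -1, 0, 0, 0]) (.leaf [0, 0, 0, 0, 0, 1])) (.node (.leaf [0, 1, 0, 0, 0, 0]) (.leaf [0, 0, 0, 0, 0, 1]))) (.node (.node (.leaf [0, 0, 0, 0, 0, -1]) (.leaf [0, 0, 0, 0, 0, 1])) (.node (.leaf [0, 0, 0, 0, 1, 0]) (.leaf [0, 0, 0, 0, 0, 1]))))))) (.node (.node (.node (.node (.node (.node (.leaf [0, 0, 0, 0, 0, -1]) (.leaf [0, 0, 0, 0, 0,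 1])) (.node (.leaf [0, 0, 0, 0, 0, -1]) (.leaf [0, 0, 0, 0, 0, 1]))) (.node (.node (.leaf [0, 0, 0, 0, 0, -1]) (.leaf [0, 0, 0, 0, 0, 1])) (.node (.leaf [0, 0, 0, 0, 0, 1]) (.leaf [0, 0, 0, 0, 0, 1])))) (.node (.node (.node (.leaf [0, 0, 0, 0, -1, 0]) (.leaf [0, 0, 0, 0, 0, 1])) (.node (.leaf [0, 0, 0, 0, 0, 1]) (.leaf [0, 0, 0, 0, 0, 1]))) (.node (.node (.leaf [0, -1, 0, 0, 0, 0]) (.leaf [0, 0, 0, 0, 0, 1])) (.node (.leaf [0, 0, 1, 0, 0, 0]) (.leaf [0, 0, 0, 0, 0, 1]))))) (.node (.node (.node (.node (.leaf [0, 0, 0, 0, 0, -1]) (.leaf [0, 0, 0, 0, 0, 1])) (.node (.leaf [0, 0, 0, 0, 1, 0]) (.leaf [0, 0, 0, 0, 0, 1]))) (.node (.node (.leaf [0, 0, 0, -1, 0, 0]) (.leaf [0, 0, 0, 0, 0, 1])) (.node (.leaf [0, 0, 0, 0, 1, 0]) (.leaf [0, 0, 0, 0, 0, 1])))) (.node (.node (.node (.leaf [0, 0, 0, -1, 0, 0]) (.leaf [0, 0, 0, 0, 0, 1])) (.node (.leaf [0, 0, 0, 0, 0, 1]) (.leaf [0, 0, 0, 0, 0, 1]))) (.node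 (.node (.leaf [0, 0, -1, 0, 0, 0]) (.leaf [0, 0, 0, 0, 0, 1])) (.node (.leaf [0, 0, 0, 1, 0, 0]) (.leaf [0, 0, 0, 0, 0, 1])))))) (.node (.node (.node (.node (.node (.leaf [0, 0, 0, 0, 0, -1]) (.leaf [0, 0, 0, 0, 1, 0])) (.node (.leaf [0, 0, 0, 0, 0, -1]) (.leaf [0, 0, 0, 0, 0, 1]))) (.node (.node (.leaf [0, 0, 0, 0, 0, -1]) (.leaf [0, 0, 0, 0, 0, 1])) (.node (.leaf [0, 0, 0, 0, 1, 0]) (.leaf [0, 0, 0, 0, 0, 1])))) (.node (.node (.node (.leaf [0, 0, 0, 0, 0, -1]) (.leaf [0, 0, 0, 0, 0, 1])) (.node (.leaf [0, 0, 0, 1, 0, 0]) (.leaf [0, 0, 0, 0, 0, 1]))) (.node (.node (.leaf [0, 0, 0, 0, -1, 0]) (.leaf [0, 0, 0, 0, 0, 1])) (.node (.leaf [0, 0, 0, 0, 1, 0]) (.leaf [0, 0, 0, 0, 0, 1]))))) (.node (.node (.node (.node (.leaf [0, 0, 0, 0, -1, 0]) (.leaf [0, 0, 0, 0, 0, 1])) (.node (.leaf [0, 0, 0, 1, 0, 0]) (.leaf [0, 0, 0, 0, 0, 1]))) (.node (.node (.leaf [0, 0, 0, 0, -1, 0]) (.leaf [0, 0, 0, 0, 0,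 1])) (.node (.leaf [0, 0, 0, 0, 0, 1]) (.leaf [0, 0, 0, 0, 0, 1])))) (.node (.node (.node (.leaf [-1, 0, 0, 0, 0, 0]) (.leaf [0, 0, 0, 0, 0, 1])) (.node (.leaf [0, 0, 0, 1, 0, 0]) (.leaf [0, 0, 0, 0, 0, 1]))) (.node (.node (.leaf [0, 0, 0, 0, -1, 0]) (.leaf [0, 0, 0, 0, 0, 1])) (.node (.leaf [0, 0, 0, 0, 0, 1]) (.leaf [0, 0, 0, 0, 0, 1])))))))

noncomputable def dsc : Trie (ℕ) := .node (.node (.node (.node (.node (.node (.node (.leaf 1) (.leaf 0)) (.node (.leaf 3) (.leaf 1))) (.node (.node (.leaf 4) (.leaf 1)) (.node (.leaf 1) (.leaf 1)))) (.node (.node (.node (.leaf 0) (.leaf 1)) (.node (.leaf 3) (.leaf 1))) (.node (.node (.leaf 1) (.leaf 1)) (.node (.leaf 0) (.leaf 1))))) (.node (.node (.node (.node (.leaf 2) (.leaf 2)) (.node (.leaf 0) (.leaf 1))) (.node (.node (.leaf 1) (.leaf 1)) (.node (.leaf 1) (.leaf 1)))) (.node (.node (.node (.leaf 0) (.leaf 1)) (.node (.leaf 2) (.leaf 1))) (.node (.node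 (.leaf 2) (.leaf 1)) (.node (.leaf 0) (.leaf 1)))))) (.node (.node (.node (.node (.node (.leaf 2) (.leaf 0)) (.node (.leaf 4) (.leaf 1))) (.node (.node (.leaf 3) (.leaf 1)) (.node (.leaf 1) (.leaf 1)))) (.node (.node (.node (.leaf 0) (.leaf 1)) (.node (.leaf 0) (.leaf 1))) (.node (.node (.leaf 2) (.leaf 1)) (.node (.leaf 0) (.leaf 1))))) (.node (.node (.node (.node (.leaf 0) (.leaf 3)) (.node (.leaf 4) (.leaf 1))) (.node (.node (.leaf 1) (.leaf 1)) (.node (.leaf 3) (.leaf 1)))) (.node (.node (.node (.leaf 0) (.leaf 1)) (.node (.leaf 0) (.leaf 1))) (.node (.node (.leaf 3) (.leaf 1)) (.node (.leaf 0) (.leaf 1))))))) (.node (.node (.node (.node (.node (.node (.leaf 3) (.leaf 0)) (.node (.leaf 4) (.leaf 1))) (.node (.node (.leaf 3) (.leaf 1)) (.node (.leaf 1) (.leaf 1)))) (.node (.node (.node (.leaf 0) (.leaf 1)) (.node (.leaf 3) (.leaf 1))) (.node (.node (.leaf 1) (.leaf 1)) (.node (.leaf 0) (.leaf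 1))))) (.node (.node (.node (.node (.leaf 0) (.leaf 2)) (.node (.leaf 0) (.leaf 1))) (.node (.node (.leaf 1) (.leaf 1)) (.node (.leaf 3) (.leaf 1)))) (.node (.node (.node (.leaf 0) (.leaf 1)) (.node (.leaf 2) (.leaf 1))) (.node (.node (.leaf 2) (.leaf 1)) (.node (.leaf 0) (.leaf 1)))))) (.node (.node (.node (.node (.node (.leaf 2) (.leaf 2)) (.node (.leaf 5) (.leaf 1))) (.node (.node (.leaf 1) (.leaf 1)) (.node (.leaf 1) (.leaf 1)))) (.node (.node (.node (.leaf 0) (.leaf 1)) (.node (.leaf 2) (.leaf 1))) (.node (.node (.leaf 2) (.leaf 1)) (.node (.leaf 0) (.leaf 1))))) (.node (.node (.node (.node (.leaf 0) (.leaf 1)) (.node (.leaf 0) (.leaf 1))) (.node (.node (.leaf 1) (.leaf 1)) (.node (.leaf 4) (.leaf 1)))) (.node (.node (.node (.leaf 0) (.leaf 1)) (.node (.leaf 1) (.leaf 1))) (.node (.node (.leaf 3) (.leaf 1)) (.node (.leaf 0) (.leaf 1)))))))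

noncomputable def cert : Trie (ℕ × ℕ × List ℕ × ℕ) := .node (.node (.node (.node (.node (.node (.node (.node (.node (.leaf (56, 0, [], 0)) (.leaf (36, 11, [4, 5], 231))) (.node (.leaf (56, 38, [2, 0], 103)) (.leaf (36, 52, [4, 5], 359)))) (.node (.node (.leaf (36, 47, [3], 54)) (.leaf (39, 2, [2, 3], 310))) (.node (.leaf (42, 19, [0, 2], 182)) (.leaf (46, 71, [3, 1], 417))))) (.node (.node (.node (.leaf (37, 30, [1], 22)) (.leaf (56, 42, [2, 0], 274))) (.node (.leaf (46, 42, [2], 145)) (.leaf (56, 65, [2, 0], 404)))) (.node (.node (.leaf (37, 56, [5, 4], 71)) (.leaf (46, 28, [4], 340))) (.node (.leaf (46, 39, [3, 1], 207)) (.leaf (46, 71, [3, 1], 417)))))) (.node (.node (.node (.node (.leaf (37, 0, [3, 4], 10)) (.leaf (36, 64, [3], 266))) (.node (.leaf (46, 55, [3, 1], 119)) (.leaf (42, 45, [3, 2], 387)))) (.node (.node (.leaf (42, 9, [3, 2], 55)) (.leaf (46, 12, [3, 1], 323))) (.node (.leaf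 (39, 42, [2, 3], 198)) (.leaf (46, 71, [3, 1], 417))))) (.node (.node (.node (.leaf (36, 13, [4, 5], 28)) (.leaf (56, 26, [1], 302))) (.node (.leaf (36, 66, [4, 5], 171)) (.leaf (46, 71, [3, 1], 417)))) (.node (.node (.leaf (56, 34, [2, 0], 84)) (.leaf (36, 9, [4, 5], 337))) (.node (.leaf (46, 59, [4], 228)) (.leaf (46, 71, [3, 1], 417))))))) (.node (.node (.node (.node (.node (.leaf (42, 17, [0, 2], 3)) (.leaf (36, 51, [4, 5], 239))) (.node (.leaf (56, 47, [1], 131)) (.leaf (36, 65, [3], 386)))) (.node (.node (.leaf (36, 57, [0], 67)) (.leaf (39, 43, [2, 3], 318))) (.node (.leaf (39, 1, [2, 3], 190)) (.leaf (46, 71, [3, 1], 417))))) (.node (.node (.node (.leaf (36, 0, [4, 5], 16)) (.leaf (56, 54, [2, 0], 284))) (.node (.leaf (39, 68, [2, 3], 158)) (.leaf (46, 71, [3, 1], 417)))) (.node (.node (.leaf (42, 55, [4], 88)) (.leaf (46, 62, [4], 348))) (.node (.leaf (46, 21, [4], 220)) (.leaf (46,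 71, [3, 1], 417)))))) (.node (.node (.node (.node (.leaf (37, 25, [3, 4], 14)) (.leaf (42, 41, [3, 2], 267))) (.node (.leaf (42, 60, [3, 2], 123)) (.leaf (56, 57, [2, 0], 394)))) (.node (.node (.leaf (42, 54, [3, 2], 59)) (.leaf (46, 47, [3, 1], 327))) (.node (.leaf (46, 9, [3, 1], 203)) (.leaf (46, 71, [3, 1], 417))))) (.node (.node (.node (.leaf (39, 12, [1, 3], 36)) (.leaf (42, 22, [0, 2], 302))) (.node (.leaf (56, 11, [1], 182)) (.leaf (46, 71, [3, 1], 417)))) (.node (.node (.leaf (39, 21, [4, 3], 95)) (.leaf (36, 12, [4, 5], 351))) (.node (.leaf (36, 8, [4, 5], 217)) (.leaf (46, 71, [3, 1], 417)))))))) (.node (.node (.node (.node (.node (.node (.leaf (56, 4, [5], 3)) (.leaf (36, 48, [4, 5], 235))) (.node (.leaf (56, 40, [3], 127)) (.leaf (39, 54, [1, 3], 363)))) (.node (.node (.leaf (36, 43, [2], 63)) (.leaf (39, 33, [2, 3], 314))) (.node (.leaf (42, 27, [0, 2], 186)) (.leaf (46, 71, [3,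 1], 417))))) (.node (.node (.node (.leaf (46, 7, [5], 27)) (.leaf (56, 51, [2, 0], 278))) (.node (.leaf (46, 69, [2], 153)) (.leaf (46, 71, [3, 1], 417)))) (.node (.node (.leaf (42, 10, [4], 80)) (.leaf (46, 48, [4], 344))) (.node (.leaf (46, 58, [3, 1], 209)) (.leaf (46, 71, [3, 1], 417)))))) (.node (.node (.node (.node (.leaf (37, 19, [3, 4], 12)) (.leaf (42, 47, [3, 2], 259))) (.node (.leaf (42, 58, [3, 2], 121)) (.leaf (42, 68, [3, 2], 389)))) (.node (.node (.leaf (42, 34, [3, 2], 57)) (.leaf (46, 27, [3, 1], 325))) (.node (.leaf (46, 8, [3, 1], 201)) (.leaf (46, 71, [3, 1], 417))))) (.node (.node (.node (.leaf (36, 32, [4, 5], 32)) (.leaf (56, 28, [4], 306))) (.node (.leaf (56, 5, [], 0)) (.leaf (46, 71, [3, 1], 417)))) (.node (.node (.leaf (39, 15, [4, 3], 91)) (.leaf (36, 23, [4, 5], 345))) (.node (.leaf (46, 60, [5], 240)) (.leaf (46, 71, [3, 1], 417))))))) (.node (.node (.node (.node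 (.node (.leaf (39, 16, [2, 3], 7)) (.leaf (39, 52, [1, 3], 243))) (.node (.leaf (46, 14, [3, 1], 115)) (.leaf (42, 50, [3, 2], 379)))) (.node (.node (.leaf (42, 11, [3, 2], 47)) (.leaf (46, 11, [3, 1], 321))) (.node (.leaf (39, 30, [2, 3], 194)) (.leaf (46, 71, [3, 1], 417))))) (.node (.node (.node (.leaf (36, 25, [4, 5], 24)) (.leaf (56, 16, [], 0))) (.node (.leaf (37, 67, [3, 4], 167)) (.leaf (46, 71, [3, 1], 417)))) (.node (.node (.leaf (56, 35, [2, 0], 78)) (.leaf (46, 63, [5], 360))) (.node (.leaf (46, 40, [4], 224)) (.leaf (46, 71, [3, 1], 417)))))) (.node (.node (.node (.node (.leaf (37, 11, [1], 18)) (.leaf (42, 65, [3, 2], 269))) (.node (.leaf (42, 61, [0, 2], 136)) (.leaf (56, 62, [2, 0], 398)))) (.node (.node (.leaf (37, 42, [5, 4], 67)) (.leaf (46, 61, [3, 1], 329))) (.node (.leaf (46, 20, [3, 1], 205)) (.leaf (46, 71, [3, 1], 417))))) (.node (.node (.node (.leaf (36, 2, [3], 46))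 (.leaf (42, 31, [0, 2], 306))) (.node (.leaf (56, 13, [4], 186)) (.leaf (46, 71, [3, 1], 417)))) (.node (.node (.leaf (39, 66, [4, 3], 99)) (.leaf (36, 49, [4, 5], 355))) (.node (.leaf (36, 22, [4, 5], 225)) (.leaf (46, 71, [3, 1], 417))))))))) (.node (.node (.node (.node (.node (.node (.node (.leaf (56, 2, [3], 1)) (.leaf (36, 26, [4, 5], 233))) (.node (.leaf (56, 25, [3], 125)) (.leaf (36, 63, [4, 5], 361)))) (.node (.node (.leaf (36, 15, [2], 61)) (.leaf (39, 19, [2, 3], 312))) (.node (.leaf (42, 26, [0, 2], 184)) (.leaf (46, 71, [3, 1], 417))))) (.node (.node (.node (.leaf (37, 46, [1], 24)) (.leaf (56, 50, [2, 0], 276))) (.node (.leaf (46, 67, [2], 149)) (.leaf (56, 66, [2, 0], 407)))) (.node (.node (.leaf (37, 60, [5, 4], 73)) (.leaf (46, 32, [4], 342))) (.node (.leaf (46, 43, [3, 1], 208)) (.leaf (46, 71, [3, 1], 417)))))) (.node (.node (.node (.node (.leaf (37, 8, [3, 4], 11)) (.leaf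 (42, 14, [3, 2], 255))) (.node (.leaf (42, 25, [3, 2], 120)) (.leaf (42, 52, [3, 2], 388)))) (.node (.node (.leaf (42, 12, [3, 2], 56)) (.leaf (46, 30, [3, 1], 324))) (.node (.leaf (46, 0, [3, 1], 200)) (.leaf (46, 71, [3, 1], 417))))) (.node (.node (.node (.leaf (36, 28, [4, 5], 30)) (.leaf (56, 27, [5], 304))) (.node (.leaf (36, 70, [4, 5], 173)) (.leaf (46, 71, [3, 1], 417)))) (.node (.node (.leaf (56, 68, [2, 0], 88)) (.leaf (36, 20, [4, 5], 341))) (.node (.leaf (46, 41, [5], 236)) (.leaf (46, 71, [3, 1], 417))))))) (.node (.node (.node (.node (.node (.leaf (39, 0, [2, 3], 5)) (.leaf (36, 62, [4, 5], 241))) (.node (.leaf (56, 49, [1], 133)) (.leaf (42, 15, [3, 2], 375)))) (.node (.node (.leaf (36, 61, [0], 69)) (.leaf (46, 1, [3, 1], 320))) (.node (.leaf (39, 17, [2, 3], 192)) (.leaf (46, 71, [3, 1], 417))))) (.node (.node (.node (.leaf (36, 21, [4, 5], 20)) (.leaf (56, 55, [2, 0], 287)))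 (.node (.leaf (37, 53, [3, 4], 165)) (.leaf (46, 71, [3, 1], 417)))) (.node (.node (.leaf (56, 30, [2, 0], 76)) (.leaf (46, 49, [5], 356))) (.node (.leaf (46, 24, [4], 222)) (.leaf (46, 71, [3, 1], 417)))))) (.node (.node (.node (.node (.leaf (37, 1, [1], 16)) (.leaf (42, 49, [3, 2], 268))) (.node (.leaf (42, 70, [3, 2], 124)) (.leaf (56, 61, [2, 0], 396)))) (.node (.node (.leaf (37, 7, [5, 4], 65)) (.leaf (46, 50, [3, 1], 328))) (.node (.leaf (46, 22, [3, 1], 204)) (.leaf (46, 71, [3, 1], 417))))) (.node (.node (.node (.leaf (39, 36, [1, 3], 38)) (.leaf (42, 30, [0, 2], 304))) (.node (.leaf (56, 12, [5], 184)) (.leaf (46, 71, [3, 1], 417)))) (.node (.node (.leaf (39, 59, [4, 3], 97)) (.leaf (36, 27, [4, 5], 353))) (.node (.leaf (36, 19, [4, 5], 221)) (.leaf (46, 71, [3, 1], 417)))))))) (.node (.node (.node (.node (.node (.node (.leaf (42, 1, [0, 2], 1)) (.leaf (36, 30, [4, 5], 237))) (.node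 (.leaf (56, 70, [3], 129)) (.leaf (36, 34, [3], 382)))) (.node (.node (.leaf (36, 16, [0], 65)) (.leaf (39, 34, [2, 3], 316))) (.node (.leaf (42, 28, [0, 2], 188)) (.leaf (46, 71, [3, 1], 417))))) (.node (.node (.node (.leaf (46, 36, [5], 31)) (.leaf (56, 45, [2, 0], 280))) (.node (.leaf (39, 61, [2, 3], 156)) (.leaf (46, 71, [3, 1], 417)))) (.node (.node (.leaf (42, 37, [4], 84)) (.leaf (46, 51, [4], 346))) (.node (.leaf (46, 10, [4], 216)) (.leaf (46, 71, [3, 1], 417)))))) (.node (.node (.node (.node (.leaf (37, 22, [3, 4], 13)) (.leaf (42, 48, [3, 2], 263))) (.node (.leaf (42, 59, [3, 2], 122)) (.leaf (37, 69, [5, 4], 393)))) (.node (.node (.leaf (42, 36, [3, 2], 58)) (.leaf (46, 31, [3, 1], 326))) (.node (.leaf (46, 19, [3, 1], 202)) (.leaf (46, 71, [3, 1], 417))))) (.node (.node (.node (.leaf (36, 46, [4, 5], 34)) (.leaf (42, 5, [0, 2], 300))) (.node (.leaf (56, 8, [3], 181)) (.leaf (46,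 71, [3, 1], 417)))) (.node (.node (.leaf (39, 45, [4, 3], 93)) (.leaf (36, 60, [4, 5], 349))) (.node (.leaf (36, 6, [4, 5], 213)) (.leaf (46, 71, [3, 1], 417))))))) (.node (.node (.node (.node (.node (.leaf (39, 23, [2, 3], 9)) (.leaf (36, 33, [3], 262))) (.node (.leaf (46, 53, [3, 1], 117)) (.leaf (42, 51, [3, 2], 383)))) (.node (.node (.leaf (42, 35, [3, 2], 51)) (.leaf (46, 26, [3, 1], 322))) (.node (.leaf (39, 31, [2, 3], 196)) (.leaf (46, 71, [3, 1], 417))))) (.node (.node (.node (.leaf (36, 1, [4, 5], 26)) (.leaf (56, 19, [3], 301))) (.node (.leaf (37, 71, [3, 4], 169)) (.leaf (46, 71, [3, 1], 417)))) (.node (.node (.leaf (56, 23, [2, 0], 80)) (.leaf (36, 7, [4, 5], 333))) (.node (.leaf (46, 44, [4], 226)) (.leaf (46, 71, [3, 1], 417)))))) (.node (.node (.node (.node (.leaf (37, 26, [1], 20)) (.leaf (37, 68, [5, 4], 273))) (.node (.leaf (42, 63, [0, 2], 138)) (.leaf (56, 60, [2, 0], 400))))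 (.node (.node (.leaf (37, 52, [5, 4], 69)) (.leaf (46, 13, [4], 336))) (.node (.leaf (46, 23, [3, 1], 206)) (.leaf (46, 71, [3, 1], 417))))) (.node (.node (.node (.leaf (36, 29, [3], 50)) (.leaf (42, 32, [0, 2], 308))) (.node (.leaf (42, 2, [0, 2], 180)) (.leaf (46, 71, [3, 1], 417)))) (.node (.node (.leaf (56, 32, [2, 0], 101)) (.leaf (36, 31, [4, 5], 357))) (.node (.leaf (36, 59, [4, 5], 229)) (.leaf (46, 71, [3, 1], 417)))))))))) (.node (.node (.node (.node (.node (.node (.node (.node (.leaf (56, 1, [1], 0)) (.leaf (39, 28, [1, 3], 232))) (.node (.leaf (56, 69, [2, 0], 104)) (.leaf (39, 64, [1, 3], 360)))) (.node (.node (.leaf (36, 5, [2], 60)) (.leaf (39, 8, [2, 3], 311))) (.node (.leaf (42, 4, [0, 2], 183)) (.leaf (46, 71, [3, 1], 417))))) (.node (.node (.node (.leaf (46, 37, [4], 23)) (.leaf (56, 43, [2, 0], 275))) (.node (.leaf (46, 57, [2], 147)) (.leaf (39, 70, [4, 3], 406)))) (.node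 (.node (.leaf (37, 57, [5, 4], 72)) (.leaf (37, 28, [1], 341))) (.node (.leaf (37, 23, [3, 4], 207)) (.leaf (46, 71, [3, 1], 417)))))) (.node (.node (.node (.node (.leaf (46, 5, [3, 1], 11)) (.leaf (36, 67, [2], 272))) (.node (.leaf (46, 29, [3, 1], 120)) (.leaf (37, 38, [3, 4], 387)))) (.node (.node (.leaf (37, 4, [3, 4], 55)) (.leaf (37, 10, [3, 4], 323))) (.node (.leaf (39, 57, [2, 3], 199)) (.leaf (46, 71, [3, 1], 417))))) (.node (.node (.node (.leaf (39, 26, [1, 3], 29)) (.leaf (56, 20, [5], 302))) (.node (.leaf (36, 69, [4, 5], 172)) (.leaf (46, 71, [3, 1], 417)))) (.node (.node (.leaf (56, 36, [2, 0], 86)) (.leaf (36, 38, [4, 5], 339))) (.node (.leaf (37, 61, [1], 229)) (.leaf (46, 71, [3, 1], 417))))))) (.node (.node (.node (.node (.node (.leaf (42, 18, [0, 2], 4)) (.leaf (39, 62, [1, 3], 240))) (.node (.leaf (56, 48, [1], 132)) (.leaf (36, 68, [2], 392)))) (.node (.node (.leaf (36, 58,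 [0], 68)) (.leaf (39, 58, [2, 3], 319))) (.node (.leaf (39, 6, [2, 3], 191)) (.leaf (46, 71, [3, 1], 417))))) (.node (.node (.node (.leaf (36, 10, [4, 5], 18)) (.leaf (39, 69, [4, 3], 286))) (.node (.leaf (39, 71, [2, 3], 159)) (.leaf (46, 71, [3, 1], 417)))) (.node (.node (.leaf (56, 22, [2, 0], 75)) (.leaf (37, 62, [1], 349))) (.node (.leaf (37, 27, [1], 221)) (.leaf (46, 71, [3, 1], 417)))))) (.node (.node (.node (.node (.leaf (46, 3, [4], 15)) (.leaf (37, 36, [3, 4], 267))) (.node (.leaf (46, 66, [3, 1], 124)) (.leaf (56, 58, [2, 0], 395)))) (.node (.node (.leaf (37, 49, [3, 4], 59)) (.leaf (37, 24, [3, 4], 327))) (.node (.leaf (37, 9, [3, 4], 203)) (.leaf (46, 71, [3, 1], 417))))) (.node (.node (.node (.leaf (39, 27, [1, 3], 37)) (.leaf (42, 7, [0, 2], 303))) (.node (.leaf (56, 9, [5], 182)) (.leaf (46, 71, [3, 1], 417)))) (.node (.node (.leaf (39, 56, [4, 3], 96)) (.leaf (39, 29, [1, 3],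 352))) (.node (.leaf (36, 37, [4, 5], 219)) (.leaf (46, 71, [3, 1], 417)))))))) (.node (.node (.node (.node (.node (.node (.leaf (42, 0, [0, 2], 0)) (.leaf (39, 37, [1, 3], 236))) (.node (.leaf (56, 41, [3], 128)) (.leaf (39, 65, [1, 3], 364)))) (.node (.node (.leaf (36, 50, [2], 64)) (.leaf (39, 20, [2, 3], 315))) (.node (.leaf (42, 21, [0, 2], 187)) (.leaf (46, 71, [3, 1], 417))))) (.node (.node (.node (.leaf (46, 18, [5], 29)) (.leaf (56, 53, [2, 0], 279))) (.node (.leaf (39, 50, [2, 3], 155)) (.leaf (46, 71, [3, 1], 417)))) (.node (.node (.leaf (42, 13, [4], 82)) (.leaf (37, 32, [1], 345))) (.node (.leaf (37, 58, [3, 4], 209)) (.leaf (46, 71, [3, 1], 417)))))) (.node (.node (.node (.node (.leaf (46, 33, [3, 1], 13)) (.leaf (42, 40, [3, 2], 261))) (.node (.leaf (46, 64, [3, 1], 122)) (.leaf (37, 66, [3, 4], 389)))) (.node (.node (.leaf (37, 29, [3, 4], 57)) (.leaf (37, 21, [3, 4], 325))) (.node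 (.leaf (37, 5, [3, 4], 201)) (.leaf (46, 71, [3, 1], 417))))) (.node (.node (.node (.leaf (39, 48, [1, 3], 33)) (.leaf (56, 29, [3], 308))) (.node (.leaf (56, 6, [4], 180)) (.leaf (46, 71, [3, 1], 417)))) (.node (.node (.leaf (39, 44, [4, 3], 92)) (.leaf (36, 45, [4, 5], 347))) (.node (.leaf (36, 3, [4, 5], 211)) (.leaf (46, 71, [3, 1], 417))))))) (.node (.node (.node (.node (.node (.leaf (39, 22, [2, 3], 8)) (.leaf (39, 63, [1, 3], 244))) (.node (.leaf (46, 15, [3, 1], 116)) (.leaf (42, 44, [3, 2], 381)))) (.node (.node (.leaf (42, 33, [3, 2], 49)) (.leaf (37, 6, [3, 4], 321))) (.node (.leaf (39, 18, [2, 3], 195)) (.leaf (46, 71, [3, 1], 417))))) (.node (.node (.node (.leaf (39, 3, [1, 3], 25)) (.leaf (56, 17, [4], 300))) (.node (.leaf (37, 70, [3, 4], 168)) (.leaf (46, 71, [3, 1], 417)))) (.node (.node (.leaf (56, 67, [2, 0], 79)) (.leaf (36, 4, [4, 5], 331))) (.node (.leaf (37, 31, [1], 225))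 (.leaf (46, 71, [3, 1], 417)))))) (.node (.node (.node (.node (.leaf (46, 17, [4], 19)) (.leaf (37, 65, [3, 4], 269))) (.node (.leaf (42, 62, [0, 2], 137)) (.leaf (56, 64, [2, 0], 399)))) (.node (.node (.leaf (37, 45, [5, 4], 68)) (.leaf (37, 59, [3, 4], 329))) (.node (.leaf (37, 20, [3, 4], 205)) (.leaf (46, 71, [3, 1], 417))))) (.node (.node (.node (.leaf (36, 14, [3], 48)) (.leaf (42, 24, [0, 2], 307))) (.node (.leaf (56, 14, [3], 188)) (.leaf (46, 71, [3, 1], 417)))) (.node (.node (.leaf (56, 24, [2, 0], 100)) (.leaf (39, 40, [1, 3], 356))) (.node (.leaf (36, 44, [4, 5], 227)) (.leaf (46, 71, [3, 1], 417))))))))) (.node (.node (.node (.node (.node (.node (.node (.leaf (56, 3, [4], 2)) (.leaf (39, 46, [1, 3], 234))) (.node (.leaf (56, 39, [3], 126)) (.leaf (39, 41, [1, 3], 362)))) (.node (.node (.leaf (36, 42, [2], 62)) (.leaf (39, 9, [2, 3], 313))) (.node (.leaf (42, 20, [0, 2], 185)) (.leaf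 (46, 71, [3, 1], 417))))) (.node (.node (.node (.leaf (46, 4, [5], 25)) (.leaf (56, 44, [2, 0], 277))) (.node (.leaf (46, 68, [2], 151)) (.leaf (46, 71, [3, 1], 417)))) (.node (.node (.leaf (37, 63, [5, 4], 74)) (.leaf (37, 48, [1], 343))) (.node (.leaf (37, 43, [3, 4], 208)) (.leaf (46, 71, [3, 1], 417)))))) (.node (.node (.node (.node (.leaf (46, 16, [3, 1], 12)) (.leaf (42, 39, [3, 2], 257))) (.node (.leaf (46, 56, [3, 1], 121)) (.leaf (37, 55, [3, 4], 388)))) (.node (.node (.leaf (37, 14, [3, 4], 56)) (.leaf (37, 35, [3, 4], 324))) (.node (.leaf (37, 2, [3, 4], 200)) (.leaf (46, 71, [3, 1], 417))))) (.node (.node (.node (.leaf (39, 35, [1, 3], 31)) (.leaf (56, 21, [4], 305))) (.node (.leaf (36, 71, [4, 5], 174)) (.leaf (46, 71, [3, 1], 417)))) (.node (.node (.leaf (39, 10, [4, 3], 90)) (.leaf (36, 41, [4, 5], 343))) (.node (.leaf (46, 45, [5], 238)) (.leaf (46, 71, [3, 1], 417))))))) (.node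 (.node (.node (.node (.node (.leaf (39, 5, [2, 3], 6)) (.leaf (39, 38, [1, 3], 242))) (.node (.leaf (56, 71, [1], 134)) (.leaf (42, 43, [3, 2], 377)))) (.node (.node (.leaf (42, 8, [3, 2], 45)) (.leaf (37, 3, [3, 4], 320))) (.node (.leaf (39, 7, [2, 3], 193)) (.leaf (46, 71, [3, 1], 417))))) (.node (.node (.node (.leaf (36, 24, [4, 5], 22)) (.leaf (46, 70, [3, 1], 297))) (.node (.leaf (37, 64, [3, 4], 166)) (.leaf (46, 71, [3, 1], 417)))) (.node (.node (.leaf (56, 33, [2, 0], 77)) (.leaf (46, 52, [5], 358))) (.node (.leaf (37, 47, [1], 223)) (.leaf (46, 71, [3, 1], 417)))))) (.node (.node (.node (.node (.leaf (46, 6, [4], 17)) (.leaf (37, 54, [3, 4], 268))) (.node (.leaf (42, 46, [0, 2], 135)) (.leaf (56, 59, [2, 0], 397)))) (.node (.node (.leaf (37, 15, [5, 4], 66)) (.leaf (37, 44, [3, 4], 328))) (.node (.leaf (37, 33, [3, 4], 204)) (.leaf (46, 71, [3, 1], 417))))) (.node (.node (.node (.leaf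 (39, 49, [1, 3], 39)) (.leaf (42, 23, [0, 2], 305))) (.node (.leaf (56, 10, [4], 185)) (.leaf (46, 71, [3, 1], 417)))) (.node (.node (.leaf (39, 60, [4, 3], 98)) (.leaf (39, 47, [1, 3], 354))) (.node (.leaf (36, 40, [4, 5], 223)) (.leaf (46, 71, [3, 1], 417)))))))) (.node (.node (.node (.node (.node (.node (.leaf (42, 16, [0, 2], 2)) (.leaf (39, 51, [1, 3], 238))) (.node (.leaf (56, 46, [1], 130)) (.leaf (36, 54, [3], 384)))) (.node (.node (.leaf (36, 56, [0], 66)) (.leaf (39, 25, [2, 3], 317))) (.node (.leaf (42, 56, [0, 2], 189)) (.leaf (46, 71, [3, 1], 417))))) (.node (.node (.node (.leaf (46, 38, [5], 33)) (.leaf (56, 52, [2, 0], 282))) (.node (.leaf (39, 67, [2, 3], 157)) (.leaf (46, 71, [3, 1], 417)))) (.node (.node (.leaf (42, 38, [4], 86)) (.leaf (37, 51, [1], 347))) (.node (.leaf (37, 12, [1], 217)) (.leaf (46, 71, [3, 1], 417)))))) (.node (.node (.node (.node (.leaf (46, 34, [3, 1],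 14)) (.leaf (42, 64, [3, 2], 265))) (.node (.leaf (46, 65, [3, 1], 123)) (.leaf (42, 69, [4], 404)))) (.node (.node (.leaf (37, 41, [3, 4], 58)) (.leaf (37, 40, [3, 4], 326))) (.node (.leaf (37, 16, [3, 4], 202)) (.leaf (46, 71, [3, 1], 417))))) (.node (.node (.node (.leaf (39, 4, [1, 3], 35)) (.leaf (42, 6, [0, 2], 301))) (.node (.leaf (56, 7, [5], 181)) (.leaf (46, 71, [3, 1], 417)))) (.node (.node (.leaf (39, 55, [4, 3], 94)) (.leaf (39, 14, [1, 3], 350))) (.node (.leaf (36, 17, [4, 5], 215)) (.leaf (46, 71, [3, 1], 417))))))) (.node (.node (.node (.node (.node (.leaf (46, 2, [3, 1], 10)) (.leaf (36, 53, [3], 264))) (.node (.leaf (46, 54, [3, 1], 118)) (.leaf (42, 67, [3, 2], 385)))) (.node (.node (.leaf (42, 53, [3, 2], 53)) (.leaf (37, 17, [3, 4], 322))) (.node (.leaf (39, 24, [2, 3], 197)) (.leaf (46, 71, [3, 1], 417))))) (.node (.node (.node (.leaf (39, 11, [1, 3], 27)) (.leaf (56, 18,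 [5], 301))) (.node (.leaf (36, 55, [4, 5], 170)) (.leaf (46, 71, [3, 1], 417)))) (.node (.node (.leaf (56, 31, [2, 0], 82)) (.leaf (36, 18, [4, 5], 335))) (.node (.leaf (37, 50, [1], 227)) (.leaf (46, 71, [3, 1], 417)))))) (.node (.node (.node (.node (.leaf (46, 35, [4], 21)) (.leaf (42, 66, [4], 284))) (.node (.leaf (42, 71, [0, 2], 139)) (.leaf (56, 63, [2, 0], 402)))) (.node (.node (.leaf (37, 18, [5, 4], 70)) (.leaf (37, 13, [1], 337))) (.node (.leaf (37, 39, [3, 4], 206)) (.leaf (46, 71, [3, 1], 417))))) (.node (.node (.node (.leaf (36, 39, [3], 52)) (.leaf (42, 57, [0, 2], 309))) (.node (.leaf (42, 3, [0, 2], 181)) (.leaf (46, 71, [3, 1], 417)))) (.node (.node (.leaf (56, 37, [2, 0], 102)) (.leaf (39, 53, [1, 3], 358))) (.node (.leaf (39, 13, [1, 3], 230)) (.leaf (46, 71, [3, 1], 417))))))))))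

noncomputable def pi0 : Trie (ℕ) := .node (.node (.node (.node (.node (.node (.node (.leaf 0) (.leaf 53)) (.node (.leaf 32) (.leaf 71))) (.node (.node (.leaf 5) (.leaf 71)) (.node (.leaf 48) (.leaf 71)))) (.node (.node (.node (.leaf 19) (.leaf 71)) (.node (.leaf 40) (.leaf 71))) (.node (.node (.leaf 24) (.leaf 71)) (.node (.leaf 15) (.leaf 71))))) (.node (.node (.node (.node (.leaf 4) (.leaf 68)) (.node (.leaf 36) (.leaf 71))) (.node (.node (.leaf 9) (.leaf 71)) (.node (.leaf 63) (.leaf 71)))) (.node (.node (.node (.leaf 27) (.leaf 71)) (.node (.leaf 59) (.leaf 71))) (.node (.node (.leaf 13) (.leaf 71)) (.node (.leaf 45) (.leaf 71)))))) (.node (.node (.node (.node (.node (.leaf 2) (.leaf 55)) (.node (.leaf 34) (.leaf 71))) (.node (.node (.leaf 7) (.leaf 71)) (.node (.leaf 61) (.leaf 71)))) (.node (.node (.node (.leaf 21) (.leaf 71)) (.node (.leaf 57) (.leaf 71))) (.node (.node (.leaf 11) (.leaf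 71)) (.node (.leaf 43) (.leaf 71))))) (.node (.node (.node (.node (.leaf 17) (.leaf 70)) (.node (.leaf 38) (.leaf 71))) (.node (.node (.leaf 22) (.leaf 71)) (.node (.leaf 65) (.leaf 71)))) (.node (.node (.node (.leaf 29) (.leaf 71)) (.node (.leaf 46) (.leaf 71))) (.node (.node (.leaf 30) (.leaf 71)) (.node (.leaf 51) (.leaf 71))))))) (.node (.node (.node (.node (.node (.node (.leaf 1) (.leaf 54)) (.node (.leaf 33) (.leaf 71))) (.node (.node (.leaf 6) (.leaf 71)) (.node (.leaf 49) (.leaf 71)))) (.node (.node (.node (.leaf 20) (.leaf 71)) (.node (.leaf 41) (.leaf 71))) (.node (.node (.leaf 25) (.leaf 71)) (.node (.leaf 42) (.leaf 71))))) (.node (.node (.node (.node (.leaf 16) (.leaf 69)) (.node (.leaf 37) (.leaf 71))) (.node (.node (.leaf 10) (.leaf 71)) (.node (.leaf 64) (.leaf 71)))) (.node (.node (.node (.leaf 28) (.leaf 71)) (.node (.leaf 60) (.leaf 71))) (.node (.node (.leaf 14) (.leaf 71))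 (.node (.leaf 50) (.leaf 71)))))) (.node (.node (.node (.node (.node (.leaf 3) (.leaf 67)) (.node (.leaf 35) (.leaf 71))) (.node (.node (.leaf 8) (.leaf 71)) (.node (.leaf 62) (.leaf 71)))) (.node (.node (.node (.leaf 26) (.leaf 71)) (.node (.leaf 58) (.leaf 71))) (.node (.node (.leaf 12) (.leaf 71)) (.node (.leaf 44) (.leaf 71))))) (.node (.node (.node (.node (.leaf 18) (.leaf 71)) (.node (.leaf 39) (.leaf 71))) (.node (.node (.leaf 23) (.leaf 71)) (.node (.leaf 66) (.leaf 71)))) (.node (.node (.node (.leaf 56) (.leaf 71)) (.node (.leaf 47) (.leaf 71))) (.node (.node (.leaf 31) (.leaf 71)) (.node (.leaf 52) (.leaf 71)))))))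

noncomputable def eta0 : Trie (ℤ) := .node (.node (.node (.node (.node (.node (.node (.leaf 1) (.leaf 1)) (.node (.leaf 1) (.leaf 1))) (.node (.node (.leaf (-1)) (.leaf 1)) (.node (.leaf 1) (.leaf 1)))) (.node (.node (.node (.leaf 1) (.leaf 1)) (.node (.leaf 1) (.leaf 1))) (.node (.node (.leaf 1) (.leaf 1)) (.node (.leaf (-1)) (.leaf 1))))) (.node (.node (.node (.node (.leaf 1) (.leaf 1)) (.node (.leaf 1) (.leaf 1))) (.node (.node (.leaf (-1)) (.leaf 1)) (.node (.leaf (-1)) (.leaf 1)))) (.node (.node (.node (.leaf 1) (.leaf 1)) (.node (.leaf (-1)) (.leaf 1))) (.node (.node (.leaf (-1)) (.leaf 1)) (.node (.leaf 1) (.leaf 1)))))) (.node (.node (.node (.node (.node (.leaf 1) (.leaf 1)) (.node (.leaf 1) (.leaf 1))) (.node (.node (.leaf (-1)) (.leaf 1)) (.node (.leaf (-1)) (.leaf 1)))) (.node (.node (.node (.leaf 1) (.leaf 1)) (.node (.leaf (-1)) (.leaf 1))) (.node (.node (.leaf (-1)) (.leaf 1))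 (.node (.leaf 1) (.leaf 1))))) (.node (.node (.node (.node (.leaf 1) (.leaf 1)) (.node (.leaf 1) (.leaf 1))) (.node (.node (.leaf 1) (.leaf 1)) (.node (.leaf (-1)) (.leaf 1)))) (.node (.node (.node (.leaf 1) (.leaf 1)) (.node (.leaf 1) (.leaf 1))) (.node (.node (.leaf 1) (.leaf 1)) (.node (.leaf 1) (.leaf 1))))))) (.node (.node (.node (.node (.node (.node (.leaf 1) (.leaf 1)) (.node (.leaf 1) (.leaf 1))) (.node (.node (.leaf (-1)) (.leaf 1)) (.node (.leaf 1) (.leaf 1)))) (.node (.node (.node (.leaf 1) (.leaf 1)) (.node (.leaf 1) (.leaf 1))) (.node (.node (.leaf 1) (.leaf 1)) (.node (.leaf 1) (.leaf 1))))) (.node (.node (.node (.node (.leaf 1) (.leaf 1)) (.node (.leaf 1) (.leaf 1))) (.node (.node (.leaf (-1)) (.leaf 1)) (.node (.leaf (-1)) (.leaf 1)))) (.node (.node (.node (.leaf 1) (.leaf 1)) (.node (.leaf (-1)) (.leaf 1))) (.node (.node (.leaf (-1)) (.leaf 1)) (.node (.leaf 1) (.leaf 1))))))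 (.node (.node (.node (.node (.node (.leaf 1) (.leaf 1)) (.node (.leaf 1) (.leaf 1))) (.node (.node (.leaf (-1)) (.leaf 1)) (.node (.leaf (-1)) (.leaf 1)))) (.node (.node (.node (.leaf 1) (.leaf 1)) (.node (.leaf (-1)) (.leaf 1))) (.node (.node (.leaf (-1)) (.leaf 1)) (.node (.leaf 1) (.leaf 1))))) (.node (.node (.node (.node (.leaf 1) (.leaf 1)) (.node (.leaf 1) (.leaf 1))) (.node (.node (.leaf 1) (.leaf 1)) (.node (.leaf (-1)) (.leaf 1)))) (.node (.node (.node (.leaf (-1)) (.leaf 1)) (.node (.leaf 1) (.leaf 1))) (.node (.node (.leaf 1) (.leaf 1)) (.node (.leaf 1) (.leaf 1)))))))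

noncomputable def car0 : Trie (ℤ) := .node (.node (.node (.node (.node (.node (.node (.leaf 0) (.leaf 1)) (.node (.leaf 0) (.leaf 0))) (.node (.node (.leaf 1) (.leaf 0)) (.node (.leaf 0) (.leaf 0)))) (.node (.node (.node (.leaf (-1)) (.leaf 0)) (.node (.leaf 0) (.leaf 0))) (.node (.node (.leaf 0) (.leaf 0)) (.node (.leaf 2) (.leaf 0))))) (.node (.node (.node (.node (.leaf 0) (.leaf 0)) (.node (.leaf 0) (.leaf 0))) (.node (.node (.leaf 1) (.leaf 0)) (.node (.leaf (-1)) (.leaf 0)))) (.node (.node (.node (.leaf (-1)) (.leaf 0)) (.node (.leaf (-1)) (.leaf 0))) (.node (.node (.leaf 1) (.leaf 0)) (.node (.leaf 1) (.leaf 0)))))) (.node (.node (.node (.node (.node (.leaf 0) (.leaf 1)) (.node (.leaf 0) (.leaf 0))) (.node (.node (.leaf 1) (.leaf 0)) (.node (.leaf (-1)) (.leaf 0)))) (.node (.node (.node (.leaf (-1)) (.leaf 0)) (.node (.leaf (-1)) (.leaf 0))) (.node (.node (.leaf 1) (.leaf 0)) (.node (.leaf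 1) (.leaf 0))))) (.node (.node (.node (.node (.leaf (-1)) (.leaf 0)) (.node (.leaf 0) (.leaf 0))) (.node (.node (.leaf 0) (.leaf 0)) (.node (.leaf (-1)) (.leaf 0)))) (.node (.node (.node (.leaf (-1)) (.leaf 0)) (.node (.leaf 0) (.leaf 0))) (.node (.node (.leaf 0) (.leaf 0)) (.node (.leaf 1) (.leaf 0))))))) (.node (.node (.node (.node (.node (.node (.leaf 0) (.leaf 1)) (.node (.leaf 0) (.leaf 0))) (.node (.node (.leaf 1) (.leaf 0)) (.node (.leaf 0) (.leaf 0)))) (.node (.node (.node (.leaf (-1)) (.leaf 0)) (.node (.leaf 0) (.leaf 0))) (.node (.node (.leaf 0) (.leaf 0)) (.node (.leaf 1) (.leaf 0))))) (.node (.node (.node (.node (.leaf (-1)) (.leaf 0)) (.node (.leaf 0) (.leaf 0))) (.node (.node (.leaf 1) (.leaf 0)) (.node (.leaf (-1)) (.leaf 0)))) (.node (.node (.node (.leaf (-1)) (.leaf 0)) (.node (.leaf (-1)) (.leaf 0))) (.node (.node (.leaf 1) (.leaf 0)) (.node (.leaf 1) (.leaf 0)))))) (.node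 (.node (.node (.node (.node (.leaf 0) (.leaf 0)) (.node (.leaf 0) (.leaf 0))) (.node (.node (.leaf 1) (.leaf 0)) (.node (.leaf (-1)) (.leaf 0)))) (.node (.node (.node (.leaf (-1)) (.leaf 0)) (.node (.leaf (-1)) (.leaf 0))) (.node (.node (.leaf 1) (.leaf 0)) (.node (.leaf 1) (.leaf 0))))) (.node (.node (.node (.node (.leaf (-1)) (.leaf 0)) (.node (.leaf 0) (.leaf 0))) (.node (.node (.leaf 0) (.leaf 0)) (.node (.leaf (-1)) (.leaf 0)))) (.node (.node (.node (.leaf (-2)) (.leaf 0)) (.node (.leaf 0) (.leaf 0))) (.node (.node (.leaf 0) (.leaf 0)) (.node (.leaf 1) (.leaf 0)))))))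

noncomputable def pos0 : Trie (ℕ) := .node (.node (.node (.node (.node (.node (.node (.leaf 0) (.leaf 413)) (.node (.leaf 126) (.leaf 139))) (.node (.node (.leaf 300) (.leaf 139)) (.node (.leaf 137) (.leaf 139)))) (.node (.node (.node (.leaf 182) (.leaf 139)) (.node (.leaf 132) (.leaf 139))) (.node (.node (.leaf 125) (.leaf 139)) (.node (.leaf 0) (.leaf 139))))) (.node (.node (.node (.node (.leaf 4) (.leaf 114)) (.node (.leaf 113) (.leaf 139))) (.node (.node (.leaf 305) (.leaf 139)) (.node (.leaf 295) (.leaf 139)))) (.node (.node (.node (.leaf 186) (.leaf 139)) (.node (.leaf 291) (.leaf 139))) (.node (.node (.leaf 308) (.leaf 139)) (.node (.leaf 414) (.leaf 139)))))) (.node (.node (.node (.node (.node (.leaf 2) (.leaf 418)) (.node (.leaf 112) (.leaf 139))) (.node (.node (.leaf 303) (.leaf 139)) (.node (.leaf 290) (.leaf 139)))) (.node (.node (.node (.leaf 187) (.leaf 139)) (.node (.leaf 288)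 (.leaf 139))) (.node (.node (.leaf 304) (.leaf 139)) (.node (.leaf 409) (.leaf 139))))) (.node (.node (.node (.node (.leaf 181) (.leaf 134)) (.node (.leaf 128) (.leaf 139))) (.node (.node (.leaf 105) (.leaf 139)) (.node (.leaf 296) (.leaf 139)))) (.node (.node (.node (.leaf 189) (.leaf 139)) (.node (.leaf 135) (.leaf 139))) (.node (.node (.leaf 106) (.leaf 139)) (.node (.leaf 412) (.leaf 139))))))) (.node (.node (.node (.node (.node (.node (.leaf 1) (.leaf 416)) (.node (.leaf 107) (.leaf 139))) (.node (.node (.leaf 301) (.leaf 139)) (.node (.leaf 138) (.leaf 139)))) (.node (.node (.node (.leaf 185) (.leaf 139)) (.node (.leaf 133) (.leaf 139))) (.node (.node (.leaf 130) (.leaf 139)) (.node (.leaf 408) (.leaf 139))))) (.node (.node (.node (.node (.leaf 180) (.leaf 129)) (.node (.leaf 127) (.leaf 139))) (.node (.node (.leaf 307) (.leaf 139)) (.node (.leaf 293) (.leaf 139)))) (.node (.node (.node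 (.leaf 188) (.leaf 139)) (.node (.leaf 294) (.leaf 139))) (.node (.node (.leaf 309) (.leaf 139)) (.node (.leaf 410) (.leaf 139)))))) (.node (.node (.node (.node (.node (.leaf 3) (.leaf 109)) (.node (.leaf 108) (.leaf 139))) (.node (.node (.leaf 302) (.leaf 139)) (.node (.leaf 292) (.leaf 139)))) (.node (.node (.node (.leaf 184) (.leaf 139)) (.node (.leaf 289) (.leaf 139))) (.node (.node (.leaf 306) (.leaf 139)) (.node (.leaf 411) (.leaf 139))))) (.node (.node (.node (.node (.leaf 183) (.leaf 139)) (.node (.leaf 131) (.leaf 139))) (.node (.node (.leaf 110) (.leaf 139)) (.node (.leaf 298) (.leaf 139)))) (.node (.node (.node (.leaf 0) (.leaf 139)) (.node (.leaf 136) (.leaf 139))) (.node (.node (.leaf 111) (.leaf 139)) (.node (.leaf 415) (.leaf 139)))))))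

noncomputable def pi1 : Trie (ℕ) := .node (.node (.node (.node (.node (.node (.node (.leaf 1) (.leaf 64)) (.node (.leaf 24) (.leaf 70))) (.node (.node (.leaf 16) (.leaf 70)) (.node (.leaf 40) (.leaf 70)))) (.node (.node (.node (.leaf 11) (.leaf 70)) (.node (.leaf 48) (.leaf 70))) (.node (.node (.leaf 32) (.leaf 70)) (.node (.leaf 56) (.leaf 70))))) (.node (.node (.node (.node (.leaf 4) (.leaf 68)) (.node (.leaf 36) (.leaf 70))) (.node (.node (.leaf 27) (.leaf 70)) (.node (.leaf 45) (.leaf 70)))) (.node (.node (.node (.leaf 9) (.leaf 70)) (.node (.leaf 51) (.leaf 70))) (.node (.node (.leaf 21) (.leaf 70)) (.node (.leaf 63) (.leaf 70)))))) (.node (.node (.node (.node (.node (.leaf 2) (.leaf 66)) (.node (.leaf 34) (.leaf 70))) (.node (.node (.leaf 18) (.leaf 70)) (.node (.leaf 43) (.leaf 70)))) (.node (.node (.node (.leaf 13) (.leaf 70)) (.node (.leaf 42) (.leaf 70))) (.node (.node (.leaf 19) (.leaf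 70)) (.node (.leaf 61) (.leaf 70))))) (.node (.node (.node (.node (.leaf 6) (.leaf 71)) (.node (.leaf 38) (.leaf 70))) (.node (.node (.leaf 30) (.leaf 70)) (.node (.leaf 54) (.leaf 70)))) (.node (.node (.node (.leaf 14) (.leaf 70)) (.node (.leaf 25) (.leaf 70))) (.node (.node (.leaf 22) (.leaf 70)) (.node (.leaf 59) (.leaf 70))))))) (.node (.node (.node (.node (.node (.node (.leaf 0) (.leaf 65)) (.node (.leaf 33) (.leaf 70))) (.node (.node (.leaf 17) (.leaf 70)) (.node (.leaf 41) (.leaf 70)))) (.node (.node (.node (.leaf 12) (.leaf 70)) (.node (.leaf 49) (.leaf 70))) (.node (.node (.leaf 46) (.leaf 70)) (.node (.leaf 57) (.leaf 70))))) (.node (.node (.node (.node (.leaf 5) (.leaf 69)) (.node (.leaf 37) (.leaf 70))) (.node (.node (.leaf 28) (.leaf 70)) (.node (.leaf 53) (.leaf 70)))) (.node (.node (.node (.leaf 10) (.leaf 70)) (.node (.leaf 52) (.leaf 70))) (.node (.node (.leaf 29) (.leaf 70))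 (.node (.leaf 58) (.leaf 70)))))) (.node (.node (.node (.node (.node (.leaf 3) (.leaf 67)) (.node (.leaf 35) (.leaf 70))) (.node (.node (.leaf 26) (.leaf 70)) (.node (.leaf 44) (.leaf 70)))) (.node (.node (.node (.leaf 8) (.leaf 70)) (.node (.leaf 50) (.leaf 70))) (.node (.node (.leaf 20) (.leaf 70)) (.node (.leaf 62) (.leaf 70))))) (.node (.node (.node (.node (.leaf 7) (.leaf 70)) (.node (.leaf 47) (.leaf 70))) (.node (.node (.leaf 31) (.leaf 70)) (.node (.leaf 55) (.leaf 70)))) (.node (.node (.node (.leaf 15) (.leaf 70)) (.node (.leaf 39) (.leaf 70))) (.node (.node (.leaf 23) (.leaf 70)) (.node (.leaf 60) (.leaf 70)))))))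

noncomputable def eta1 : Trie (ℤ) := .node (.node (.node (.node (.node (.node (.node (.leaf (-1)) (.leaf 1)) (.node (.leaf (-1)) (.leaf (-1)))) (.node (.node (.leaf 1) (.leaf (-1))) (.node (.leaf 1) (.leaf (-1))))) (.node (.node (.node (.leaf (-1)) (.leaf (-1))) (.node (.leaf (-1)) (.leaf (-1)))) (.node (.node (.leaf 1) (.leaf (-1))) (.node (.leaf 1) (.leaf (-1)))))) (.node (.node (.node (.node (.leaf 1) (.leaf 1)) (.node (.leaf 1) (.leaf (-1)))) (.node (.node (.leaf (-1)) (.leaf (-1))) (.node (.leaf (-1)) (.leaf (-1))))) (.node (.node (.node (.leaf 1) (.leaf (-1))) (.node (.leaf 1) (.leaf (-1)))) (.node (.node (.leaf 1) (.leaf (-1))) (.node (.leaf 1) (.leaf (-1))))))) (.node (.node (.node (.node (.node (.leaf 1) (.leaf 1)) (.node (.leaf 1) (.leaf (-1)))) (.node (.node (.leaf 1) (.leaf (-1))) (.node (.leaf (-1)) (.leaf (-1))))) (.node (.node (.node (.leaf (-1)) (.leaf (-1))) (.node (.leaf 1)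 (.leaf (-1)))) (.node (.node (.leaf 1) (.leaf (-1))) (.node (.leaf 1) (.leaf (-1)))))) (.node (.node (.node (.node (.leaf 1) (.leaf 1)) (.node (.leaf 1) (.leaf (-1)))) (.node (.node (.leaf 1) (.leaf (-1))) (.node (.leaf 1) (.leaf (-1))))) (.node (.node (.node (.leaf 1) (.leaf (-1))) (.node (.leaf (-1)) (.leaf (-1)))) (.node (.node (.leaf (-1)) (.leaf (-1))) (.node (.leaf (-1)) (.leaf (-1)))))))) (.node (.node (.node (.node (.node (.node (.leaf 1) (.leaf 1)) (.node (.leaf 1) (.leaf (-1)))) (.node (.node (.leaf 1) (.leaf (-1))) (.node (.leaf 1) (.leaf (-1))))) (.node (.node (.node (.leaf (-1)) (.leaf (-1))) (.node (.leaf (-1)) (.leaf (-1)))) (.node (.node (.leaf (-1)) (.leaf (-1))) (.node (.leaf 1) (.leaf (-1)))))) (.node (.node (.node (.node (.leaf 1) (.leaf 1)) (.node (.leaf 1) (.leaf (-1)))) (.node (.node (.leaf (-1)) (.leaf (-1))) (.node (.leaf 1) (.leaf (-1))))) (.node (.node (.node (.leaf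 1) (.leaf (-1))) (.node (.leaf 1) (.leaf (-1)))) (.node (.node (.leaf 1) (.leaf (-1))) (.node (.leaf (-1)) (.leaf (-1))))))) (.node (.node (.node (.node (.node (.leaf 1) (.leaf 1)) (.node (.leaf 1) (.leaf (-1)))) (.node (.node (.leaf (-1)) (.leaf (-1))) (.node (.leaf (-1)) (.leaf (-1))))) (.node (.node (.node (.leaf 1) (.leaf (-1))) (.node (.leaf 1) (.leaf (-1)))) (.node (.node (.leaf 1) (.leaf (-1))) (.node (.leaf 1) (.leaf (-1)))))) (.node (.node (.node (.node (.leaf 1) (.leaf (-1))) (.node (.leaf (-1)) (.leaf (-1)))) (.node (.node (.leaf 1) (.leaf (-1))) (.node (.leaf 1) (.leaf (-1))))) (.node (.node (.node (.leaf 1) (.leaf (-1))) (.node (.leaf 1) (.leaf (-1)))) (.node (.node (.leaf (-1)) (.leaf (-1))) (.node (.leaf (-1)) (.leaf (-1))))))))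

noncomputable def car1 : Trie (ℤ) := .node (.node (.node (.node (.node (.node (.node (.leaf (-1)) (.leaf 0)) (.node (.leaf 1) (.leaf 1))) (.node (.node (.leaf 0) (.leaf 1)) (.node (.leaf 1) (.leaf 1)))) (.node (.node (.node (.leaf (-1)) (.leaf 1)) (.node (.leaf (-1)) (.leaf 1))) (.node (.node (.leaf (-1)) (.leaf 1)) (.node (.leaf 0) (.leaf 1))))) (.node (.node (.node (.node (.leaf 0) (.leaf 0)) (.node (.leaf 0) (.leaf 1))) (.node (.node (.leaf (-1)) (.leaf 1)) (.node (.leaf 1) (.leaf 1)))) (.node (.node (.node (.leaf 1) (.leaf 1)) (.node (.leaf (-1)) (.leaf 1))) (.node (.node (.leaf 1) (.leaf 1)) (.node (.leaf (-1)) (.leaf 1)))))) (.node (.node (.node (.node (.node (.leaf 0) (.leaf 0)) (.node (.leaf 0) (.leaf 1))) (.node (.node (.leaf 0) (.leaf 1)) (.node (.leaf 1) (.leaf 1)))) (.node (.node (.node (.leaf (-1)) (.leaf 1)) (.node (.leaf 0) (.leaf 1))) (.node (.node (.leaf 1) (.leaf 1)) (.node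 (.leaf (-1)) (.leaf 1))))) (.node (.node (.node (.node (.leaf 0) (.leaf (-1))) (.node (.leaf 0) (.leaf 1))) (.node (.node (.leaf (-1)) (.leaf 1)) (.node (.leaf 0) (.leaf 1)))) (.node (.node (.node (.leaf 0) (.leaf 1)) (.node (.leaf 2) (.leaf 1))) (.node (.node (.leaf 1) (.leaf 1)) (.node (.leaf 1) (.leaf 1))))))) (.node (.node (.node (.node (.node (.node (.leaf 1) (.leaf 0)) (.node (.leaf 0) (.leaf 1))) (.node (.node (.leaf 0) (.leaf 1)) (.node (.leaf 1) (.leaf 1)))) (.node (.node (.node (.leaf (-1)) (.leaf 1)) (.node (.leaf (-1)) (.leaf 1))) (.node (.node (.leaf (-2)) (.leaf 1)) (.node (.leaf 0) (.leaf 1))))) (.node (.node (.node (.node (.leaf 0) (.leaf 0)) (.node (.leaf 0) (.leaf 1))) (.node (.node (.leaf (-1)) (.leaf 1)) (.node (.leaf 0) (.leaf 1)))) (.node (.node (.node (.leaf 1) (.leaf 1)) (.node (.leaf (-1)) (.leaf 1))) (.node (.node (.leaf 0) (.leaf 1)) (.node (.leaf 1) (.leaf 1))))))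 (.node (.node (.node (.node (.node (.leaf 0) (.leaf 0)) (.node (.leaf 0) (.leaf 1))) (.node (.node (.leaf (-1)) (.leaf 1)) (.node (.leaf 1) (.leaf 1)))) (.node (.node (.node (.leaf 1) (.leaf 1)) (.node (.leaf (-1)) (.leaf 1))) (.node (.node (.leaf 1) (.leaf 1)) (.node (.leaf (-1)) (.leaf 1))))) (.node (.node (.node (.node (.leaf 0) (.leaf 1)) (.node (.leaf (-1)) (.leaf 1))) (.node (.node (.leaf (-1)) (.leaf 1)) (.node (.leaf 0) (.leaf 1)))) (.node (.node (.node (.leaf 0) (.leaf 1)) (.node (.leaf 1) (.leaf 1))) (.node (.node (.leaf 1) (.leaf 1)) (.node (.leaf 1) (.leaf 1)))))))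

noncomputable def pos1 : Trie (ℕ) := .node (.node (.node (.node (.node (.node (.node (.leaf 210) (.leaf 149)) (.node (.leaf 354) (.leaf 419))) (.node (.node (.leaf 19) (.leaf 419)) (.node (.leaf 356) (.leaf 419)))) (.node (.node (.node (.leaf 212) (.leaf 419)) (.node (.leaf 236) (.leaf 419))) (.node (.node (.leaf 234) (.leaf 419)) (.node (.leaf 147) (.leaf 419))))) (.node (.node (.node (.node (.leaf 35) (.leaf 163)) (.node (.leaf 38) (.leaf 419))) (.node (.node (.leaf 220) (.leaf 419)) (.node (.leaf 363) (.leaf 419)))) (.node (.node (.node (.leaf 336) (.leaf 419)) (.node (.leaf 238) (.leaf 419))) (.node (.node (.leaf 352) (.leaf 419)) (.node (.leaf 244) (.leaf 419)))))) (.node (.node (.node (.node (.node (.leaf 15) (.leaf 153)) (.node (.leaf 23) (.leaf 419))) (.node (.node (.leaf 37) (.leaf 419)) (.node (.leaf 346) (.leaf 419)))) (.node (.node (.node (.leaf 230) (.leaf 419)) (.node (.leaf 160)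 (.leaf 419))) (.node (.node (.leaf 334) (.leaf 419)) (.node (.leaf 228) (.leaf 419))))) (.node (.node (.node (.node (.leaf 27) (.leaf 299)) (.node (.leaf 39) (.leaf 419))) (.node (.node (.leaf 218) (.leaf 419)) (.node (.leaf 143) (.leaf 419)))) (.node (.node (.node (.leaf 140) (.leaf 419)) (.node (.leaf 0) (.leaf 419))) (.node (.node (.leaf 338) (.leaf 419)) (.node (.leaf 360) (.leaf 419))))))) (.node (.node (.node (.node (.node (.node (.leaf 330) (.leaf 151)) (.node (.leaf 21) (.leaf 419))) (.node (.node (.leaf 29) (.leaf 419)) (.node (.leaf 362) (.leaf 419)))) (.node (.node (.node (.leaf 216) (.leaf 419)) (.node (.leaf 242) (.leaf 419))) (.node (.node (.leaf 0) (.leaf 419)) (.node (.leaf 161) (.leaf 419))))) (.node (.node (.node (.node (.leaf 17) (.leaf 164)) (.node (.leaf 33) (.leaf 419))) (.node (.node (.leaf 232) (.leaf 419)) (.node (.leaf 142) (.leaf 419)))) (.node (.node (.node (.leaf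 350) (.leaf 419)) (.node (.leaf 243) (.leaf 419))) (.node (.node (.leaf 145) (.leaf 419)) (.node (.leaf 348) (.leaf 419)))))) (.node (.node (.node (.node (.node (.leaf 25) (.leaf 162)) (.node (.leaf 31) (.leaf 419))) (.node (.node (.leaf 214) (.leaf 419)) (.node (.leaf 358) (.leaf 419)))) (.node (.node (.node (.leaf 332) (.leaf 419)) (.node (.leaf 226) (.leaf 419))) (.node (.node (.leaf 340) (.leaf 419)) (.node (.leaf 240) (.leaf 419))))) (.node (.node (.node (.node (.leaf 36) (.leaf 419)) (.node (.leaf 224) (.leaf 419))) (.node (.node (.leaf 222) (.leaf 419)) (.node (.leaf 144) (.leaf 419)))) (.node (.node (.node (.leaf 141) (.leaf 419)) (.node (.leaf 344) (.leaf 419))) (.node (.node (.leaf 342) (.leaf 419)) (.node (.leaf 364) (.leaf 419)))))))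

noncomputable def pi2 : Trie (ℕ) := .node (.node (.node (.node (.node (.node (.node (.leaf 0) (.leaf 67)) (.node (.leaf 28) (.leaf 71))) (.node (.node (.leaf 16) (.leaf 71)) (.node (.leaf 51) (.leaf 71)))) (.node (.node (.node (.leaf 8) (.leaf 71)) (.node (.leaf 44) (.leaf 71))) (.node (.node (.leaf 21) (.leaf 71)) (.node (.leaf 57) (.leaf 71))))) (.node (.node (.node (.node (.leaf 7) (.leaf 65)) (.node (.leaf 36) (.leaf 71))) (.node (.node (.leaf 23) (.leaf 71)) (.node (.leaf 49) (.leaf 71)))) (.node (.node (.node (.leaf 12) (.leaf 71)) (.node (.leaf 40) (.leaf 71))) (.node (.node (.leaf 32) (.leaf 71)) (.node (.leaf 60) (.leaf 71)))))) (.node (.node (.node (.node (.node (.leaf 5) (.leaf 69)) (.node (.leaf 34) (.leaf 71))) (.node (.node (.leaf 18) (.leaf 71)) (.node (.leaf 47) (.leaf 71)))) (.node (.node (.node (.leaf 10) (.leaf 71)) (.node (.leaf 29) (.leaf 71))) (.node (.node (.leaf 30) (.leaf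 71)) (.node (.leaf 58) (.leaf 71))))) (.node (.node (.node (.node (.leaf 3) (.leaf 70)) (.node (.leaf 38) (.leaf 71))) (.node (.node (.leaf 19) (.leaf 71)) (.node (.leaf 54) (.leaf 71)))) (.node (.node (.node (.leaf 15) (.leaf 71)) (.node (.leaf 46) (.leaf 71))) (.node (.node (.leaf 26) (.leaf 71)) (.node (.leaf 62) (.leaf 71))))))) (.node (.node (.node (.node (.node (.node (.leaf 1) (.leaf 68)) (.node (.leaf 33) (.leaf 71))) (.node (.node (.leaf 17) (.leaf 71)) (.node (.leaf 52) (.leaf 71)))) (.node (.node (.node (.leaf 9) (.leaf 71)) (.node (.leaf 45) (.leaf 71))) (.node (.node (.leaf 25) (.leaf 71)) (.node (.leaf 56) (.leaf 71))))) (.node (.node (.node (.node (.leaf 2) (.leaf 66)) (.node (.leaf 37) (.leaf 71))) (.node (.node (.leaf 24) (.leaf 71)) (.node (.leaf 53) (.leaf 71)))) (.node (.node (.node (.leaf 13) (.leaf 71)) (.node (.leaf 41) (.leaf 71))) (.node (.node (.leaf 42) (.leaf 71))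 (.node (.leaf 61) (.leaf 71)))))) (.node (.node (.node (.node (.node (.leaf 6) (.leaf 64)) (.node (.leaf 35) (.leaf 71))) (.node (.node (.leaf 22) (.leaf 71)) (.node (.leaf 48) (.leaf 71)))) (.node (.node (.node (.leaf 11) (.leaf 71)) (.node (.leaf 39) (.leaf 71))) (.node (.node (.leaf 31) (.leaf 71)) (.node (.leaf 59) (.leaf 71))))) (.node (.node (.node (.node (.leaf 4) (.leaf 71)) (.node (.leaf 43) (.leaf 71))) (.node (.node (.leaf 20) (.leaf 71)) (.node (.leaf 55) (.leaf 71)))) (.node (.node (.node (.leaf 14) (.leaf 71)) (.node (.leaf 50) (.leaf 71))) (.node (.node (.leaf 27) (.leaf 71)) (.node (.leaf 63) (.leaf 71)))))))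

noncomputable def eta2 : Trie (ℤ) := .node (.node (.node (.node (.node (.node (.node (.leaf 1) (.leaf 1)) (.node (.leaf (-1)) (.leaf 1))) (.node (.node (.leaf 1) (.leaf 1)) (.node (.leaf 1) (.leaf 1)))) (.node (.node (.node (.leaf 1) (.leaf 1)) (.node (.leaf (-1)) (.leaf 1))) (.node (.node (.leaf 1) (.leaf 1)) (.node (.leaf 1) (.leaf 1))))) (.node (.node (.node (.node (.leaf (-1)) (.leaf (-1))) (.node (.leaf 1) (.leaf 1))) (.node (.node (.leaf (-1)) (.leaf 1)) (.node (.leaf (-1)) (.leaf 1)))) (.node (.node (.node (.leaf 1) (.leaf 1)) (.node (.leaf 1) (.leaf 1))) (.node (.node (.leaf 1) (.leaf 1)) (.node (.leaf 1) (.leaf 1)))))) (.node (.node (.node (.node (.node (.leaf (-1)) (.leaf 1)) (.node (.leaf 1) (.leaf 1))) (.node (.node (.leaf 1) (.leaf 1)) (.node (.leaf (-1)) (.leaf 1)))) (.node (.node (.node (.leaf 1) (.leaf 1)) (.node (.leaf (-1)) (.leaf 1))) (.node (.node (.leaf 1) (.leaf 1)) (.node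 (.leaf 1) (.leaf 1))))) (.node (.node (.node (.node (.leaf 1) (.leaf 1)) (.node (.leaf 1) (.leaf 1))) (.node (.node (.leaf 1) (.leaf 1)) (.node (.leaf 1) (.leaf 1)))) (.node (.node (.node (.leaf (-1)) (.leaf 1)) (.node (.leaf 1) (.leaf 1))) (.node (.node (.leaf (-1)) (.leaf 1)) (.node (.leaf 1) (.leaf 1))))))) (.node (.node (.node (.node (.node (.node (.leaf 1) (.leaf 1)) (.node (.leaf 1) (.leaf 1))) (.node (.node (.leaf 1) (.leaf 1)) (.node (.leaf 1) (.leaf 1)))) (.node (.node (.node (.leaf 1) (.leaf 1)) (.node (.leaf (-1)) (.leaf 1))) (.node (.node (.leaf 1) (.leaf 1)) (.node (.leaf (-1)) (.leaf 1))))) (.node (.node (.node (.node (.leaf 1) (.leaf (-1))) (.node (.leaf 1) (.leaf 1))) (.node (.node (.leaf (-1)) (.leaf 1)) (.node (.leaf 1) (.leaf 1)))) (.node (.node (.node (.leaf 1) (.leaf 1)) (.node (.leaf 1) (.leaf 1))) (.node (.node (.leaf (-1)) (.leaf 1)) (.node (.leaf 1) (.leaf 1)))))) (.node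 (.node (.node (.node (.node (.leaf (-1)) (.leaf (-1))) (.node (.leaf 1) (.leaf 1))) (.node (.node (.leaf (-1)) (.leaf 1)) (.node (.leaf (-1)) (.leaf 1)))) (.node (.node (.node (.leaf 1) (.leaf 1)) (.node (.leaf 1) (.leaf 1))) (.node (.node (.leaf 1) (.leaf 1)) (.node (.leaf 1) (.leaf 1))))) (.node (.node (.node (.node (.leaf 1) (.leaf 1)) (.node (.leaf (-1)) (.leaf 1))) (.node (.node (.leaf 1) (.leaf 1)) (.node (.leaf 1) (.leaf 1)))) (.node (.node (.node (.leaf 1) (.leaf 1)) (.node (.leaf 1) (.leaf 1))) (.node (.node (.leaf (-1)) (.leaf 1)) (.node (.leaf 1) (.leaf 1)))))))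

noncomputable def car2 : Trie (ℤ) := .node (.node (.node (.node (.node (.node (.node (.leaf 0) (.leaf (-1))) (.node (.leaf 1) (.leaf 0))) (.node (.node (.leaf 0) (.leaf 0)) (.node (.leaf (-1)) (.leaf 0)))) (.node (.node (.node (.leaf 0) (.leaf 0)) (.node (.leaf (-1)) (.leaf 0))) (.node (.node (.leaf 1) (.leaf 0)) (.node (.leaf (-1)) (.leaf 0))))) (.node (.node (.node (.node (.leaf (-1)) (.leaf 1)) (.node (.leaf 0) (.leaf 0))) (.node (.node (.leaf (-1)) (.leaf 0)) (.node (.leaf 1) (.leaf 0)))) (.node (.node (.node (.leaf 0) (.leaf 0)) (.node (.leaf 1) (.leaf 0))) (.node (.node (.leaf (-1)) (.leaf 0)) (.node (.leaf 0) (.leaf 0)))))) (.node (.node (.node (.node (.node (.leaf (-1)) (.leaf (-1))) (.node (.leaf 0) (.leaf 0))) (.node (.node (.leaf 0) (.leaf 0)) (.node (.leaf 1) (.leaf 0)))) (.node (.node (.node (.leaf 0) (.leaf 0)) (.node (.leaf 2) (.leaf 0))) (.node (.node (.leaf (-1)) (.leaf 0))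 (.node (.leaf 0) (.leaf 0))))) (.node (.node (.node (.node (.leaf 1) (.leaf 0)) (.node (.leaf 0) (.leaf 0))) (.node (.node (.leaf 1) (.leaf 0)) (.node (.leaf 0) (.leaf 0)))) (.node (.node (.node (.leaf (-1)) (.leaf 0)) (.node (.leaf 0) (.leaf 0))) (.node (.node (.leaf 1) (.leaf 0)) (.node (.leaf 0) (.leaf 0))))))) (.node (.node (.node (.node (.node (.node (.leaf 0) (.leaf (-1))) (.node (.leaf 0) (.leaf 0))) (.node (.node (.leaf 0) (.leaf 0)) (.node (.leaf (-1)) (.leaf 0)))) (.node (.node (.node (.leaf 0) (.leaf 0)) (.node (.leaf (-1)) (.leaf 0))) (.node (.node (.leaf 0) (.leaf 0)) (.node (.leaf 1) (.leaf 0))))) (.node (.node (.node (.node (.leaf 1) (.leaf 1)) (.node (.leaf 0) (.leaf 0))) (.node (.node (.leaf (-1)) (.leaf 0)) (.node (.leaf 0) (.leaf 0)))) (.node (.node (.node (.leaf 0) (.leaf 0)) (.node (.leaf 1) (.leaf 0))) (.node (.node (.leaf (-2)) (.leaf 0)) (.node (.leaf 0) (.leaf 0))))))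 (.node (.node (.node (.node (.node (.leaf (-1)) (.leaf 1)) (.node (.leaf 0) (.leaf 0))) (.node (.node (.leaf (-1)) (.leaf 0)) (.node (.leaf 1) (.leaf 0)))) (.node (.node (.node (.leaf 0) (.leaf 0)) (.node (.leaf 1) (.leaf 0))) (.node (.node (.leaf (-1)) (.leaf 0)) (.node (.leaf 0) (.leaf 0))))) (.node (.node (.node (.node (.leaf 1) (.leaf 0)) (.node (.leaf (-1)) (.leaf 0))) (.node (.node (.leaf 1) (.leaf 0)) (.node (.leaf 0) (.leaf 0)))) (.node (.node (.node (.leaf 1) (.leaf 0)) (.node (.leaf (-1)) (.leaf 0))) (.node (.node (.leaf 1) (.leaf 0)) (.node (.leaf 0) (.leaf 0)))))))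

noncomputable def pos2 : Trie (ℕ) := .node (.node (.node (.node (.node (.node (.node (.leaf 5) (.leaf 279)) (.node (.leaf 318) (.leaf 159))) (.node (.node (.leaf 7) (.leaf 159)) (.node (.leaf 278) (.leaf 159)))) (.node (.node (.node (.leaf 75) (.leaf 159)) (.node (.leaf 277) (.leaf 159))) (.node (.node (.leaf 317) (.leaf 159)) (.node (.leaf 199) (.leaf 159))))) (.node (.node (.node (.node (.leaf 193) (.leaf 404)) (.node (.leaf 86) (.leaf 159))) (.node (.node (.leaf 195) (.leaf 159)) (.node (.leaf 402) (.leaf 159)))) (.node (.node (.node (.leaf 82) (.leaf 159)) (.node (.leaf 397) (.leaf 159))) (.node (.node (.leaf 198) (.leaf 159)) (.node (.leaf 152) (.leaf 159)))))) (.node (.node (.node (.node (.node (.leaf 190) (.leaf 287)) (.node (.leaf 84) (.leaf 159))) (.node (.node (.leaf 9) (.leaf 159)) (.node (.leaf 396) (.leaf 159)))) (.node (.node (.node (.leaf 100) (.leaf 159)) (.node (.leaf 0) (.leaf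 159))) (.node (.node (.leaf 194) (.leaf 159)) (.node (.leaf 148) (.leaf 159))))) (.node (.node (.node (.node (.leaf 311) (.leaf 154)) (.node (.leaf 103) (.leaf 159))) (.node (.node (.leaf 312) (.leaf 159)) (.node (.leaf 88) (.leaf 159)))) (.node (.node (.node (.leaf 274) (.leaf 159)) (.node (.leaf 155) (.leaf 159))) (.node (.node (.leaf 314) (.leaf 159)) (.node (.leaf 157) (.leaf 159))))))) (.node (.node (.node (.node (.node (.node (.leaf 6) (.leaf 284)) (.node (.leaf 77) (.leaf 159))) (.node (.node (.leaf 8) (.leaf 159)) (.node (.leaf 282) (.leaf 159)))) (.node (.node (.node (.leaf 80) (.leaf 159)) (.node (.leaf 280) (.leaf 159))) (.node (.node (.leaf 146) (.leaf 159)) (.node (.leaf 319) (.leaf 159))))) (.node (.node (.node (.node (.leaf 310) (.leaf 407)) (.node (.leaf 102) (.leaf 159))) (.node (.node (.leaf 197) (.leaf 159)) (.node (.leaf 79) (.leaf 159)))) (.node (.node (.node (.leaf 101)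 (.leaf 159)) (.node (.leaf 400) (.leaf 159))) (.node (.node (.leaf 0) (.leaf 159)) (.node (.leaf 156) (.leaf 159)))))) (.node (.node (.node (.node (.node (.leaf 191) (.leaf 399)) (.node (.leaf 78) (.leaf 159))) (.node (.node (.leaf 192) (.leaf 159)) (.node (.leaf 398) (.leaf 159)))) (.node (.node (.node (.leaf 76) (.leaf 159)) (.node (.leaf 395) (.leaf 159))) (.node (.node (.leaf 196) (.leaf 159)) (.node (.leaf 150) (.leaf 159))))) (.node (.node (.node (.node (.leaf 313) (.leaf 159)) (.node (.leaf 275) (.leaf 159))) (.node (.node (.leaf 315) (.leaf 159)) (.node (.leaf 104) (.leaf 159)))) (.node (.node (.node (.leaf 394) (.leaf 159)) (.node (.leaf 276) (.leaf 159))) (.node (.node (.leaf 316) (.leaf 159)) (.node (.leaf 158) (.leaf 159)))))))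

noncomputable def pi3 : Trie (ℕ) := .node (.node (.node (.node (.node (.node (.node (.leaf 0) (.leaf 62)) (.node (.leaf 39) (.leaf 71))) (.node (.node (.leaf 16) (.leaf 71)) (.node (.leaf 48) (.leaf 71)))) (.node (.node (.node (.leaf 6) (.leaf 71)) (.node (.leaf 37) (.leaf 71))) (.node (.node (.leaf 25) (.leaf 71)) (.node (.leaf 56) (.leaf 71))))) (.node (.node (.node (.node (.leaf 4) (.leaf 68)) (.node (.leaf 36) (.leaf 71))) (.node (.node (.leaf 18) (.leaf 71)) (.node (.leaf 54) (.leaf 71)))) (.node (.node (.node (.leaf 12) (.leaf 71)) (.node (.leaf 44) (.leaf 71))) (.node (.node (.leaf 29) (.leaf 71)) (.node (.leaf 60) (.leaf 71)))))) (.node (.node (.node (.node (.node (.leaf 1) (.leaf 66)) (.node (.leaf 31) (.leaf 71))) (.node (.node (.leaf 20) (.leaf 71)) (.node (.leaf 50) (.leaf 71)))) (.node (.node (.node (.leaf 10) (.leaf 71)) (.node (.leaf 43) (.leaf 71))) (.node (.node (.leaf 26) (.leaf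 71)) (.node (.leaf 57) (.leaf 71))))) (.node (.node (.node (.node (.leaf 8) (.leaf 69)) (.node (.leaf 41) (.leaf 71))) (.node (.node (.leaf 22) (.leaf 71)) (.node (.leaf 52) (.leaf 71)))) (.node (.node (.node (.leaf 13) (.leaf 71)) (.node (.leaf 47) (.leaf 71))) (.node (.node (.leaf 33) (.leaf 71)) (.node (.leaf 64) (.leaf 71))))))) (.node (.node (.node (.node (.node (.node (.leaf 2) (.leaf 63)) (.node (.leaf 30) (.leaf 71))) (.node (.node (.leaf 19) (.leaf 71)) (.node (.leaf 49) (.leaf 71)))) (.node (.node (.node (.leaf 7) (.leaf 71)) (.node (.leaf 38) (.leaf 71))) (.node (.node (.leaf 24) (.leaf 71)) (.node (.leaf 58) (.leaf 71))))) (.node (.node (.node (.node (.leaf 5) (.leaf 70)) (.node (.leaf 40) (.leaf 71))) (.node (.node (.leaf 21) (.leaf 71)) (.node (.leaf 51) (.leaf 71)))) (.node (.node (.node (.leaf 14) (.leaf 71)) (.node (.leaf 45) (.leaf 71))) (.node (.node (.leaf 28) (.leaf 71))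 (.node (.leaf 61) (.leaf 71)))))) (.node (.node (.node (.node (.node (.leaf 3) (.leaf 67)) (.node (.leaf 35) (.leaf 71))) (.node (.node (.leaf 17) (.leaf 71)) (.node (.leaf 53) (.leaf 71)))) (.node (.node (.node (.leaf 11) (.leaf 71)) (.node (.leaf 42) (.leaf 71))) (.node (.node (.leaf 27) (.leaf 71)) (.node (.leaf 59) (.leaf 71))))) (.node (.node (.node (.node (.leaf 9) (.leaf 71)) (.node (.leaf 32) (.leaf 71))) (.node (.node (.leaf 23) (.leaf 71)) (.node (.leaf 55) (.leaf 71)))) (.node (.node (.node (.leaf 15) (.leaf 71)) (.node (.leaf 46) (.leaf 71))) (.node (.node (.leaf 34) (.leaf 71)) (.node (.leaf 65) (.leaf 71)))))))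

noncomputable def eta3 : Trie (ℤ) := .node (.node (.node (.node (.node (.node (.node (.leaf 1) (.leaf (-1))) (.node (.leaf (-1)) (.leaf 1))) (.node (.node (.leaf 1) (.leaf 1)) (.node (.leaf 1) (.leaf 1)))) (.node (.node (.node (.leaf 1) (.leaf 1)) (.node (.leaf 1) (.leaf 1))) (.node (.node (.leaf (-1)) (.leaf 1)) (.node (.leaf 1) (.leaf 1))))) (.node (.node (.node (.node (.leaf 1) (.leaf 1)) (.node (.leaf 1) (.leaf 1))) (.node (.node (.leaf 1) (.leaf 1)) (.node (.leaf 1) (.leaf 1)))) (.node (.node (.node (.leaf 1) (.leaf 1)) (.node (.leaf 1) (.leaf 1))) (.node (.node (.leaf (-1)) (.leaf 1)) (.node (.leaf 1) (.leaf 1)))))) (.node (.node (.node (.node (.node (.leaf 1) (.leaf 1)) (.node (.leaf (-1)) (.leaf 1))) (.node (.node (.leaf (-1)) (.leaf 1)) (.node (.leaf 1) (.leaf 1)))) (.node (.node (.node (.leaf 1) (.leaf 1)) (.node (.leaf 1) (.leaf 1))) (.node (.node (.leaf 1) (.leaf 1)) (.node (.leaf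 (-1)) (.leaf 1))))) (.node (.node (.node (.node (.leaf (-1)) (.leaf (-1))) (.node (.leaf (-1)) (.leaf 1))) (.node (.node (.leaf 1) (.leaf 1)) (.node (.leaf (-1)) (.leaf 1)))) (.node (.node (.node (.leaf 1) (.leaf 1)) (.node (.leaf 1) (.leaf 1))) (.node (.node (.leaf 1) (.leaf 1)) (.node (.leaf 1) (.leaf 1))))))) (.node (.node (.node (.node (.node (.node (.leaf (-1)) (.leaf (-1))) (.node (.leaf (-1)) (.leaf 1))) (.node (.node (.leaf (-1)) (.leaf 1)) (.node (.leaf 1) (.leaf 1)))) (.node (.node (.node (.leaf 1) (.leaf 1)) (.node (.leaf 1) (.leaf 1))) (.node (.node (.leaf 1) (.leaf 1)) (.node (.leaf 1) (.leaf 1))))) (.node (.node (.node (.node (.leaf 1) (.leaf 1)) (.node (.leaf (-1)) (.leaf 1))) (.node (.node (.leaf 1) (.leaf 1)) (.node (.leaf (-1)) (.leaf 1)))) (.node (.node (.node (.leaf (-1)) (.leaf 1)) (.node (.leaf 1) (.leaf 1))) (.node (.node (.leaf 1) (.leaf 1)) (.node (.leaf 1) (.leaf 1))))))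 (.node (.node (.node (.node (.node (.leaf 1) (.leaf 1)) (.node (.leaf 1) (.leaf 1))) (.node (.node (.leaf 1) (.leaf 1)) (.node (.leaf 1) (.leaf 1)))) (.node (.node (.node (.leaf 1) (.leaf 1)) (.node (.leaf (-1)) (.leaf 1))) (.node (.node (.leaf 1) (.leaf 1)) (.node (.leaf 1) (.leaf 1))))) (.node (.node (.node (.node (.leaf (-1)) (.leaf 1)) (.node (.leaf (-1)) (.leaf 1))) (.node (.node (.leaf 1) (.leaf 1)) (.node (.leaf 1) (.leaf 1)))) (.node (.node (.node (.leaf 1) (.leaf 1)) (.node (.leaf (-1)) (.leaf 1))) (.node (.node (.leaf 1) (.leaf 1)) (.node (.leaf 1) (.leaf 1)))))))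

noncomputable def car3 : Trie (ℤ) := .node (.node (.node (.node (.node (.node (.node (.leaf 0) (.leaf 1)) (.node (.leaf (-2)) (.leaf 0))) (.node (.node (.leaf 0) (.leaf 0)) (.node (.leaf 0) (.leaf 0)))) (.node (.node (.node (.leaf 1) (.leaf 0)) (.node (.leaf 1) (.leaf 0))) (.node (.node (.leaf (-1)) (.leaf 0)) (.node (.leaf 0) (.leaf 0))))) (.node (.node (.node (.node (.leaf 0) (.leaf 0)) (.node (.leaf 0) (.leaf 0))) (.node (.node (.leaf 1) (.leaf 0)) (.node (.leaf (-1)) (.leaf 0)))) (.node (.node (.node (.leaf 0) (.leaf 0)) (.node (.leaf 0) (.leaf 0))) (.node (.node (.leaf (-1)) (.leaf 0)) (.node (.leaf 0) (.leaf 0)))))) (.node (.node (.node (.node (.node (.leaf 1) (.leaf 0)) (.node (.leaf 1) (.leaf 0))) (.node (.node (.leaf (-1)) (.leaf 0)) (.node (.leaf 0) (.leaf 0)))) (.node (.node (.node (.leaf 0) (.leaf 0)) (.node (.leaf (-1)) (.leaf 0))) (.node (.node (.leaf 0) (.leaf 0)) (.node (.leaf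 1) (.leaf 0))))) (.node (.node (.node (.node (.leaf (-1)) (.leaf 1)) (.node (.leaf (-1)) (.leaf 0))) (.node (.node (.leaf 0) (.leaf 0)) (.node (.leaf 1) (.leaf 0)))) (.node (.node (.node (.leaf 1) (.leaf 0)) (.node (.leaf (-1)) (.leaf 0))) (.node (.node (.leaf (-1)) (.leaf 0)) (.node (.leaf (-1)) (.leaf 0))))))) (.node (.node (.node (.node (.node (.node (.leaf (-1)) (.leaf 1)) (.node (.leaf 1) (.leaf 0))) (.node (.node (.leaf (-1)) (.leaf 0)) (.node (.leaf 0) (.leaf 0)))) (.node (.node (.node (.leaf 1) (.leaf 0)) (.node (.leaf 1) (.leaf 0))) (.node (.node (.leaf 1) (.leaf 0)) (.node (.leaf (-1)) (.leaf 0))))) (.node (.node (.node (.node (.leaf 0) (.leaf (-1))) (.node (.leaf (-1)) (.leaf 0))) (.node (.node (.leaf 0) (.leaf 0)) (.node (.leaf 1) (.leaf 0)))) (.node (.node (.node (.leaf (-1)) (.leaf 0)) (.node (.leaf 0) (.leaf 0))) (.node (.node (.leaf 1) (.leaf 0)) (.node (.leaf 0) (.leaf 0))))))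 (.node (.node (.node (.node (.node (.leaf 0) (.leaf 0)) (.node (.leaf 0) (.leaf 0))) (.node (.node (.leaf 1) (.leaf 0)) (.node (.leaf (-1)) (.leaf 0)))) (.node (.node (.node (.leaf 0) (.leaf 0)) (.node (.leaf 1) (.leaf 0))) (.node (.node (.leaf 0) (.leaf 0)) (.node (.leaf 0) (.leaf 0))))) (.node (.node (.node (.node (.leaf (-1)) (.leaf 0)) (.node (.leaf 2) (.leaf 0))) (.node (.node (.leaf 0) (.leaf 0)) (.node (.leaf 0) (.leaf 0)))) (.node (.node (.node (.leaf 0) (.leaf 0)) (.node (.leaf 1) (.leaf 0))) (.node (.node (.leaf (-1)) (.leaf 0)) (.node (.leaf (-1)) (.leaf 0)))))))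

noncomputable def pos3 : Trie (ℕ) := .node (.node (.node (.node (.node (.node (.node (.leaf 10) (.leaf 385)) (.node (.leaf 0) (.leaf 169))) (.node (.node (.leaf 12) (.leaf 169)) (.node (.leaf 53) (.leaf 169)))) (.node (.node (.node (.leaf 321) (.leaf 169)) (.node (.leaf 381) (.leaf 169))) (.node (.node (.leaf 207) (.leaf 169)) (.node (.leaf 121) (.leaf 169))))) (.node (.node (.node (.node (.leaf 55) (.leaf 168)) (.node (.leaf 58) (.leaf 169))) (.node (.node (.leaf 325) (.leaf 169)) (.node (.leaf 268) (.leaf 169)))) (.node (.node (.node (.leaf 56) (.leaf 169)) (.node (.leaf 117) (.leaf 169))) (.node (.node (.leaf 257) (.leaf 169)) (.node (.leaf 123) (.leaf 169)))))) (.node (.node (.node (.node (.node (.leaf 320) (.leaf 124)) (.node (.leaf 326) (.leaf 169))) (.node (.node (.leaf 205) (.leaf 169)) (.node (.leaf 165) (.leaf 169)))) (.node (.node (.node (.leaf 115) (.leaf 169)) (.node (.leaf 208)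 (.leaf 169))) (.node (.node (.leaf 49) (.leaf 169)) (.node (.leaf 329) (.leaf 169))))) (.node (.node (.node (.node (.leaf 201) (.leaf 417)) (.node (.leaf 267) (.leaf 169))) (.node (.node (.leaf 13) (.leaf 169)) (.node (.leaf 388) (.leaf 169)))) (.node (.node (.node (.leaf 375) (.leaf 169)) (.node (.leaf 259) (.leaf 169))) (.node (.node (.leaf 204) (.leaf 169)) (.node (.leaf 265) (.leaf 169))))))) (.node (.node (.node (.node (.node (.node (.leaf 200) (.leaf 389)) (.node (.leaf 324) (.leaf 169))) (.node (.node (.leaf 202) (.leaf 169)) (.node (.leaf 59) (.leaf 169)))) (.node (.node (.node (.leaf 323) (.leaf 169)) (.node (.leaf 387) (.leaf 169))) (.node (.node (.leaf 327) (.leaf 169)) (.node (.leaf 209) (.leaf 169))))) (.node (.node (.node (.node (.leaf 11) (.leaf 297)) (.node (.leaf 261) (.leaf 169))) (.node (.node (.leaf 120) (.leaf 169)) (.node (.leaf 383) (.leaf 169)))) (.node (.node (.node (.leaf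 255) (.leaf 169)) (.node (.leaf 118) (.leaf 169))) (.node (.node (.leaf 377) (.leaf 169)) (.node (.leaf 166) (.leaf 169)))))) (.node (.node (.node (.node (.node (.leaf 45) (.leaf 167)) (.node (.leaf 51) (.leaf 169))) (.node (.node (.leaf 322) (.leaf 169)) (.node (.leaf 263) (.leaf 169)))) (.node (.node (.node (.leaf 47) (.leaf 169)) (.node (.leaf 328) (.leaf 169))) (.node (.node (.leaf 57) (.leaf 169)) (.node (.leaf 122) (.leaf 169))))) (.node (.node (.node (.node (.leaf 203) (.leaf 169)) (.node (.leaf 0) (.leaf 169))) (.node (.node (.leaf 14) (.leaf 169)) (.node (.leaf 119) (.leaf 169)))) (.node (.node (.node (.leaf 116) (.leaf 169)) (.node (.leaf 379) (.leaf 169))) (.node (.node (.leaf 206) (.leaf 169)) (.node (.leaf 269) (.leaf 169)))))))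

noncomputable def pi4 : Trie (ℕ) := .node (.node (.node (.node (.node (.node (.node (.leaf 0) (.leaf 64)) (.node (.leaf 31) (.leaf 71))) (.node (.node (.leaf 17) (.leaf 71)) (.node (.leaf 47) (.leaf 71)))) (.node (.node (.node (.leaf 8) (.leaf 71)) (.node (.leaf 39) (.leaf 71))) (.node (.node (.leaf 23) (.leaf 71)) (.node (.leaf 56) (.leaf 71))))) (.node (.node (.node (.node (.leaf 4) (.leaf 69)) (.node (.leaf 38) (.leaf 71))) (.node (.node (.leaf 21) (.leaf 71)) (.node (.leaf 52) (.leaf 71)))) (.node (.node (.node (.leaf 13) (.leaf 71)) (.node (.leaf 43) (.leaf 71))) (.node (.node (.leaf 27) (.leaf 71)) (.node (.leaf 60) (.leaf 71)))))) (.node (.node (.node (.node (.node (.leaf 3) (.leaf 65)) (.node (.leaf 37) (.leaf 71))) (.node (.node (.leaf 18) (.leaf 71)) (.node (.leaf 51) (.leaf 71)))) (.node (.node (.node (.leaf 9) (.leaf 71)) (.node (.leaf 42) (.leaf 71))) (.node (.node (.leaf 26) (.leaf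 71)) (.node (.leaf 59) (.leaf 71))))) (.node (.node (.node (.node (.leaf 5) (.leaf 70)) (.node (.leaf 36) (.leaf 71))) (.node (.node (.leaf 22) (.leaf 71)) (.node (.leaf 55) (.leaf 71)))) (.node (.node (.node (.leaf 14) (.leaf 71)) (.node (.leaf 46) (.leaf 71))) (.node (.node (.leaf 30) (.leaf 71)) (.node (.leaf 61) (.leaf 71))))))) (.node (.node (.node (.node (.node (.node (.leaf 1) (.leaf 66)) (.node (.leaf 35) (.leaf 71))) (.node (.node (.leaf 16) (.leaf 71)) (.node (.leaf 49) (.leaf 71)))) (.node (.node (.node (.leaf 10) (.leaf 71)) (.node (.leaf 41) (.leaf 71))) (.node (.node (.leaf 25) (.leaf 71)) (.node (.leaf 57) (.leaf 71))))) (.node (.node (.node (.node (.leaf 6) (.leaf 68)) (.node (.leaf 34) (.leaf 71))) (.node (.node (.leaf 20) (.leaf 71)) (.node (.leaf 53) (.leaf 71)))) (.node (.node (.node (.leaf 12) (.leaf 71)) (.node (.leaf 45) (.leaf 71))) (.node (.node (.leaf 29) (.leaf 71))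 (.node (.leaf 62) (.leaf 71)))))) (.node (.node (.node (.node (.node (.leaf 2) (.leaf 67)) (.node (.leaf 33) (.leaf 71))) (.node (.node (.leaf 19) (.leaf 71)) (.node (.leaf 50) (.leaf 71)))) (.node (.node (.node (.leaf 11) (.leaf 71)) (.node (.leaf 44) (.leaf 71))) (.node (.node (.leaf 28) (.leaf 71)) (.node (.leaf 58) (.leaf 71))))) (.node (.node (.node (.node (.leaf 7) (.leaf 71)) (.node (.leaf 40) (.leaf 71))) (.node (.node (.leaf 24) (.leaf 71)) (.node (.leaf 54) (.leaf 71)))) (.node (.node (.node (.leaf 15) (.leaf 71)) (.node (.leaf 48) (.leaf 71))) (.node (.node (.leaf 32) (.leaf 71)) (.node (.leaf 63) (.leaf 71)))))))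

noncomputable def eta4 : Trie (ℤ) := .node (.node (.node (.node (.node (.node (.node (.leaf 1) (.leaf 1)) (.node (.leaf 1) (.leaf 1))) (.node (.node (.leaf (-1)) (.leaf 1)) (.node (.leaf (-1)) (.leaf 1)))) (.node (.node (.node (.leaf 1) (.leaf 1)) (.node (.leaf (-1)) (.leaf 1))) (.node (.node (.leaf 1) (.leaf 1)) (.node (.leaf 1) (.leaf 1))))) (.node (.node (.node (.node (.leaf 1) (.leaf 1)) (.node (.leaf (-1)) (.leaf 1))) (.node (.node (.leaf (-1)) (.leaf 1)) (.node (.leaf 1) (.leaf 1)))) (.node (.node (.node (.leaf (-1)) (.leaf 1)) (.node (.leaf (-1)) (.leaf 1))) (.node (.node (.leaf 1) (.leaf 1)) (.node (.leaf 1) (.leaf 1)))))) (.node (.node (.node (.node (.node (.leaf (-1)) (.leaf (-1))) (.node (.leaf (-1)) (.leaf 1))) (.node (.node (.leaf 1) (.leaf 1)) (.node (.leaf 1) (.leaf 1)))) (.node (.node (.node (.leaf 1) (.leaf 1)) (.node (.leaf 1) (.leaf 1))) (.node (.node (.leaf 1) (.leaf 1))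 (.node (.leaf 1) (.leaf 1))))) (.node (.node (.node (.node (.leaf 1) (.leaf 1)) (.node (.leaf 1) (.leaf 1))) (.node (.node (.leaf 1) (.leaf 1)) (.node (.leaf 1) (.leaf 1)))) (.node (.node (.node (.leaf 1) (.leaf 1)) (.node (.leaf 1) (.leaf 1))) (.node (.node (.leaf 1) (.leaf 1)) (.node (.leaf (-1)) (.leaf 1))))))) (.node (.node (.node (.node (.node (.node (.leaf 1) (.leaf 1)) (.node (.leaf 1) (.leaf 1))) (.node (.node (.leaf 1) (.leaf 1)) (.node (.leaf 1) (.leaf 1)))) (.node (.node (.node (.leaf (-1)) (.leaf 1)) (.node (.leaf 1) (.leaf 1))) (.node (.node (.leaf 1) (.leaf 1)) (.node (.leaf 1) (.leaf 1))))) (.node (.node (.node (.node (.leaf (-1)) (.leaf (-1))) (.node (.leaf (-1)) (.leaf 1))) (.node (.node (.leaf 1) (.leaf 1)) (.node (.leaf 1) (.leaf 1)))) (.node (.node (.node (.leaf 1) (.leaf 1)) (.node (.leaf 1) (.leaf 1))) (.node (.node (.leaf 1) (.leaf 1)) (.node (.leaf 1) (.leaf 1)))))) (.node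 (.node (.node (.node (.node (.leaf 1) (.leaf 1)) (.node (.leaf (-1)) (.leaf 1))) (.node (.node (.leaf 1) (.leaf 1)) (.node (.leaf (-1)) (.leaf 1)))) (.node (.node (.node (.leaf 1) (.leaf 1)) (.node (.leaf 1) (.leaf 1))) (.node (.node (.leaf (-1)) (.leaf 1)) (.node (.leaf (-1)) (.leaf 1))))) (.node (.node (.node (.node (.leaf 1) (.leaf 1)) (.node (.leaf 1) (.leaf 1))) (.node (.node (.leaf (-1)) (.leaf 1)) (.node (.leaf (-1)) (.leaf 1)))) (.node (.node (.node (.leaf 1) (.leaf 1)) (.node (.leaf 1) (.leaf 1))) (.node (.node (.leaf (-1)) (.leaf 1)) (.node (.leaf 1) (.leaf 1)))))))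

noncomputable def car4 : Trie (ℤ) := .node (.node (.node (.node (.node (.node (.node (.leaf 0) (.leaf 0)) (.node (.leaf 1) (.leaf 0))) (.node (.node (.leaf (-1)) (.leaf 0)) (.node (.leaf 1) (.leaf 0)))) (.node (.node (.node (.leaf 0) (.leaf 0)) (.node (.leaf 1) (.leaf 0))) (.node (.node (.leaf 1) (.leaf 0)) (.node (.leaf 0) (.leaf 0))))) (.node (.node (.node (.node (.leaf 0) (.leaf (-1))) (.node (.leaf (-1)) (.leaf 0))) (.node (.node (.leaf (-1)) (.leaf 0)) (.node (.leaf 0) (.leaf 0)))) (.node (.node (.node (.leaf (-1)) (.leaf 0)) (.node (.leaf 1) (.leaf 0))) (.node (.node (.leaf 1) (.leaf 0)) (.node (.leaf 0) (.leaf 0)))))) (.node (.node (.node (.node (.node (.leaf (-1)) (.leaf 1)) (.node (.leaf (-2)) (.leaf 0))) (.node (.node (.leaf 0) (.leaf 0)) (.node (.leaf (-1)) (.leaf 0)))) (.node (.node (.node (.leaf 1) (.leaf 0)) (.node (.leaf 0) (.leaf 0))) (.node (.node (.leaf 0) (.leaf 0)) (.node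 (.leaf (-1)) (.leaf 0))))) (.node (.node (.node (.node (.leaf 1) (.leaf 0)) (.node (.leaf 1) (.leaf 0))) (.node (.node (.leaf 0) (.leaf 0)) (.node (.leaf (-1)) (.leaf 0)))) (.node (.node (.node (.leaf 0) (.leaf 0)) (.node (.leaf 0) (.leaf 0))) (.node (.node (.leaf 0) (.leaf 0)) (.node (.leaf 1) (.leaf 0))))))) (.node (.node (.node (.node (.node (.node (.leaf 0) (.leaf (-1))) (.node (.leaf (-1)) (.leaf 0))) (.node (.node (.leaf 1) (.leaf 0)) (.node (.leaf 0) (.leaf 0)))) (.node (.node (.node (.leaf (-1)) (.leaf 0)) (.node (.leaf 0) (.leaf 0))) (.node (.node (.leaf 0) (.leaf 0)) (.node (.leaf 0) (.leaf 0))))) (.node (.node (.node (.node (.leaf (-1)) (.leaf 1)) (.node (.leaf 2) (.leaf 0))) (.node (.node (.leaf 1) (.leaf 0)) (.node (.leaf 0) (.leaf 0)))) (.node (.node (.node (.leaf 1) (.leaf 0)) (.node (.leaf 0) (.leaf 0))) (.node (.node (.leaf 0) (.leaf 0)) (.node (.leaf (-1)) (.leaf 0)))))) (.node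 (.node (.node (.node (.node (.leaf 1) (.leaf 0)) (.node (.leaf 1) (.leaf 0))) (.node (.node (.leaf 0) (.leaf 0)) (.node (.leaf 1) (.leaf 0)))) (.node (.node (.node (.leaf 0) (.leaf 0)) (.node (.leaf (-1)) (.leaf 0))) (.node (.node (.leaf (-1)) (.leaf 0)) (.node (.leaf 1) (.leaf 0))))) (.node (.node (.node (.node (.leaf 0) (.leaf 0)) (.node (.leaf (-1)) (.leaf 0))) (.node (.node (.leaf (-1)) (.leaf 0)) (.node (.leaf 1) (.leaf 0)))) (.node (.node (.node (.leaf 0) (.leaf 0)) (.node (.leaf (-1)) (.leaf 0))) (.node (.node (.leaf (-1)) (.leaf 0)) (.node (.leaf 0) (.leaf 0)))))))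

noncomputable def pos4 : Trie (ℕ) := .node (.node (.node (.node (.node (.node (.node (.leaf 16) (.leaf 171)) (.node (.leaf 357) (.leaf 174))) (.node (.node (.leaf 215) (.leaf 174)) (.node (.leaf 355) (.leaf 174)))) (.node (.node (.node (.leaf 18) (.leaf 174)) (.node (.leaf 343) (.leaf 174))) (.node (.node (.leaf 345) (.leaf 174)) (.node (.leaf 96) (.leaf 174))))) (.node (.node (.node (.node (.leaf 81) (.leaf 286)) (.node (.leaf 281) (.leaf 174))) (.node (.node (.leaf 221) (.leaf 174)) (.node (.leaf 94) (.leaf 174)))) (.node (.node (.node (.leaf 231) (.leaf 174)) (.node (.leaf 347) (.leaf 174))) (.node (.node (.leaf 353) (.leaf 174)) (.node (.leaf 98) (.leaf 174)))))) (.node (.node (.node (.node (.node (.leaf 211) (.leaf 405)) (.node (.leaf 0) (.leaf 174))) (.node (.node (.leaf 95) (.leaf 174)) (.node (.leaf 239) (.leaf 174)))) (.node (.node (.node (.leaf 337) (.leaf 174)) (.node (.leaf 92) (.leaf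 174))) (.node (.node (.leaf 30) (.leaf 174)) (.node (.leaf 229) (.leaf 174))))) (.node (.node (.node (.node (.leaf 333) (.leaf 173)) (.node (.leaf 401) (.leaf 174))) (.node (.node (.leaf 22) (.leaf 174)) (.node (.leaf 283) (.leaf 174)))) (.node (.node (.node (.leaf 83) (.leaf 174)) (.node (.leaf 34) (.leaf 174))) (.node (.node (.leaf 32) (.leaf 174)) (.node (.leaf 361) (.leaf 174))))))) (.node (.node (.node (.node (.node (.node (.leaf 26) (.leaf 285)) (.node (.leaf 219) (.leaf 174))) (.node (.node (.leaf 335) (.leaf 174)) (.node (.leaf 89) (.leaf 174)))) (.node (.node (.node (.leaf 217) (.leaf 174)) (.node (.leaf 87) (.leaf 174))) (.node (.node (.leaf 24) (.leaf 174)) (.node (.leaf 97) (.leaf 174))))) (.node (.node (.node (.node (.leaf 213) (.leaf 406)) (.node (.leaf 0) (.leaf 174))) (.node (.node (.leaf 341) (.leaf 174)) (.node (.leaf 170) (.leaf 174)))) (.node (.node (.node (.leaf 351) (.leaf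 174)) (.node (.leaf 93) (.leaf 174))) (.node (.node (.leaf 85) (.leaf 174)) (.node (.leaf 241) (.leaf 174)))))) (.node (.node (.node (.node (.node (.leaf 331) (.leaf 172)) (.node (.leaf 339) (.leaf 174))) (.node (.node (.leaf 20) (.leaf 174)) (.node (.leaf 359) (.leaf 174)))) (.node (.node (.node (.leaf 28) (.leaf 174)) (.node (.leaf 227) (.leaf 174))) (.node (.node (.leaf 233) (.leaf 174)) (.node (.leaf 349) (.leaf 174))))) (.node (.node (.node (.node (.leaf 90) (.leaf 174)) (.node (.leaf 223) (.leaf 174))) (.node (.node (.leaf 225) (.leaf 174)) (.node (.leaf 403) (.leaf 174)))) (.node (.node (.node (.leaf 91) (.leaf 174)) (.node (.leaf 235) (.leaf 174))) (.node (.node (.leaf 237) (.leaf 174)) (.node (.leaf 99) (.leaf 174)))))))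

noncomputable def pi5 : Trie (ℕ) := .node (.node (.node (.node (.node (.node (.node (.leaf 0) (.leaf 65)) (.node (.leaf 32) (.leaf 71))) (.node (.node (.leaf 16) (.leaf 71)) (.node (.leaf 49) (.leaf 71)))) (.node (.node (.node (.leaf 9) (.leaf 71)) (.node (.leaf 41) (.leaf 71))) (.node (.node (.leaf 24) (.leaf 71)) (.node (.leaf 56) (.leaf 71))))) (.node (.node (.node (.node (.leaf 3) (.leaf 67)) (.node (.leaf 35) (.leaf 71))) (.node (.node (.leaf 19) (.leaf 71)) (.node (.leaf 51) (.leaf 71)))) (.node (.node (.node (.leaf 11) (.leaf 71)) (.node (.leaf 45) (.leaf 71))) (.node (.node (.leaf 28) (.leaf 71)) (.node (.leaf 59) (.leaf 71)))))) (.node (.node (.node (.node (.node (.leaf 2) (.leaf 66)) (.node (.leaf 33) (.leaf 71))) (.node (.node (.leaf 17) (.leaf 71)) (.node (.leaf 50) (.leaf 71)))) (.node (.node (.node (.leaf 10) (.leaf 71)) (.node (.leaf 42) (.leaf 71))) (.node (.node (.leaf 27) (.leaf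 71)) (.node (.leaf 58) (.leaf 71))))) (.node (.node (.node (.node (.leaf 7) (.leaf 70)) (.node (.leaf 37) (.leaf 71))) (.node (.node (.leaf 23) (.leaf 71)) (.node (.leaf 53) (.leaf 71)))) (.node (.node (.node (.leaf 14) (.leaf 71)) (.node (.leaf 46) (.leaf 71))) (.node (.node (.leaf 31) (.leaf 71)) (.node (.leaf 63) (.leaf 71))))))) (.node (.node (.node (.node (.node (.node (.leaf 1) (.leaf 64)) (.node (.leaf 34) (.leaf 71))) (.node (.node (.leaf 18) (.leaf 71)) (.node (.leaf 48) (.leaf 71)))) (.node (.node (.node (.leaf 8) (.leaf 71)) (.node (.leaf 40) (.leaf 71))) (.node (.node (.leaf 25) (.leaf 71)) (.node (.leaf 57) (.leaf 71))))) (.node (.node (.node (.node (.leaf 5) (.leaf 69)) (.node (.leaf 38) (.leaf 71))) (.node (.node (.leaf 21) (.leaf 71)) (.node (.leaf 54) (.leaf 71)))) (.node (.node (.node (.leaf 13) (.leaf 71)) (.node (.leaf 44) (.leaf 71))) (.node (.node (.leaf 29) (.leaf 71))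 (.node (.leaf 61) (.leaf 71)))))) (.node (.node (.node (.node (.node (.leaf 4) (.leaf 68)) (.node (.leaf 36) (.leaf 71))) (.node (.node (.leaf 20) (.leaf 71)) (.node (.leaf 52) (.leaf 71)))) (.node (.node (.node (.leaf 12) (.leaf 71)) (.node (.leaf 43) (.leaf 71))) (.node (.node (.leaf 26) (.leaf 71)) (.node (.leaf 60) (.leaf 71))))) (.node (.node (.node (.node (.leaf 6) (.leaf 71)) (.node (.leaf 39) (.leaf 71))) (.node (.node (.leaf 22) (.leaf 71)) (.node (.leaf 55) (.leaf 71)))) (.node (.node (.node (.leaf 15) (.leaf 71)) (.node (.leaf 47) (.leaf 71))) (.node (.node (.leaf 30) (.leaf 71)) (.node (.leaf 62) (.leaf 71)))))))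

noncomputable def eta5 : Trie (ℤ) := .node (.node (.node (.node (.node (.node (.node (.leaf 1) (.leaf 1)) (.node (.leaf 1) (.leaf 1))) (.node (.node (.leaf 1) (.leaf 1)) (.node (.leaf 1) (.leaf 1)))) (.node (.node (.node (.leaf (-1)) (.leaf 1)) (.node (.leaf 1) (.leaf 1))) (.node (.node (.leaf 1) (.leaf 1)) (.node (.leaf 1) (.leaf 1))))) (.node (.node (.node (.node (.leaf 1) (.leaf (-1))) (.node (.leaf (-1)) (.leaf 1))) (.node (.node (.leaf 1) (.leaf 1)) (.node (.leaf (-1)) (.leaf 1)))) (.node (.node (.node (.leaf 1) (.leaf 1)) (.node (.leaf 1) (.leaf 1))) (.node (.node (.leaf 1) (.leaf 1)) (.node (.leaf (-1)) (.leaf 1)))))) (.node (.node (.node (.node (.node (.leaf 1) (.leaf 1)) (.node (.leaf 1) (.leaf 1))) (.node (.node (.leaf 1) (.leaf 1)) (.node (.leaf 1) (.leaf 1)))) (.node (.node (.node (.leaf 1) (.leaf 1)) (.node (.leaf 1) (.leaf 1))) (.node (.node (.leaf (-1)) (.leaf 1)) (.node (.leaf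 1) (.leaf 1))))) (.node (.node (.node (.node (.leaf (-1)) (.leaf 1)) (.node (.leaf (-1)) (.leaf 1))) (.node (.node (.leaf (-1)) (.leaf 1)) (.node (.leaf (-1)) (.leaf 1)))) (.node (.node (.node (.leaf 1) (.leaf 1)) (.node (.leaf 1) (.leaf 1))) (.node (.node (.leaf (-1)) (.leaf 1)) (.node (.leaf 1) (.leaf 1))))))) (.node (.node (.node (.node (.node (.node (.leaf 1) (.leaf (-1))) (.node (.leaf (-1)) (.leaf 1))) (.node (.node (.leaf (-1)) (.leaf 1)) (.node (.leaf (-1)) (.leaf 1)))) (.node (.node (.node (.leaf 1) (.leaf 1)) (.node (.leaf (-1)) (.leaf 1))) (.node (.node (.leaf 1) (.leaf 1)) (.node (.leaf 1) (.leaf 1))))) (.node (.node (.node (.node (.leaf 1) (.leaf 1)) (.node (.leaf 1) (.leaf 1))) (.node (.node (.leaf 1) (.leaf 1)) (.node (.leaf 1) (.leaf 1)))) (.node (.node (.node (.leaf 1) (.leaf 1)) (.node (.leaf (-1)) (.leaf 1))) (.node (.node (.leaf 1) (.leaf 1)) (.node (.leaf 1) (.leaf 1))))))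 (.node (.node (.node (.node (.node (.leaf (-1)) (.leaf 1)) (.node (.leaf (-1)) (.leaf 1))) (.node (.node (.leaf (-1)) (.leaf 1)) (.node (.leaf 1) (.leaf 1)))) (.node (.node (.node (.leaf (-1)) (.leaf 1)) (.node (.leaf 1) (.leaf 1))) (.node (.node (.leaf 1) (.leaf 1)) (.node (.leaf 1) (.leaf 1))))) (.node (.node (.node (.node (.leaf 1) (.leaf 1)) (.node (.leaf 1) (.leaf 1))) (.node (.node (.leaf 1) (.leaf 1)) (.node (.leaf 1) (.leaf 1)))) (.node (.node (.node (.leaf 1) (.leaf 1)) (.node (.leaf 1) (.leaf 1))) (.node (.node (.leaf 1) (.leaf 1)) (.node (.leaf (-1)) (.leaf 1)))))))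

noncomputable def car5 : Trie (ℤ) := .node (.node (.node (.node (.node (.node (.node (.leaf 0) (.leaf (-1))) (.node (.leaf 0) (.leaf 0))) (.node (.node (.leaf 0) (.leaf 0)) (.node (.leaf (-1)) (.leaf 0)))) (.node (.node (.node (.leaf (-1)) (.leaf 0)) (.node (.leaf (-1)) (.leaf 0))) (.node (.node (.leaf 0) (.leaf 0)) (.node (.leaf 0) (.leaf 0))))) (.node (.node (.node (.node (.leaf 1) (.leaf 1)) (.node (.leaf 2) (.leaf 0))) (.node (.node (.leaf 1) (.leaf 0)) (.node (.leaf 1) (.leaf 0)))) (.node (.node (.node (.leaf 1) (.leaf 0)) (.node (.leaf (-1)) (.leaf 0))) (.node (.node (.leaf 0) (.leaf 0)) (.node (.leaf 1) (.leaf 0)))))) (.node (.node (.node (.node (.node (.leaf 0) (.leaf 0)) (.node (.leaf 1) (.leaf 0))) (.node (.node (.leaf 1) (.leaf 0)) (.node (.leaf 0) (.leaf 0)))) (.node (.node (.node (.leaf 0) (.leaf 0)) (.node (.leaf 0) (.leaf 0))) (.node (.node (.leaf (-1)) (.leaf 0)) (.node (.leaf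 0) (.leaf 0))))) (.node (.node (.node (.node (.leaf (-1)) (.leaf 0)) (.node (.leaf 1) (.leaf 0))) (.node (.node (.leaf (-1)) (.leaf 0)) (.node (.leaf 1) (.leaf 0)))) (.node (.node (.node (.leaf 0) (.leaf 0)) (.node (.leaf 0) (.leaf 0))) (.node (.node (.leaf (-1)) (.leaf 0)) (.node (.leaf (-1)) (.leaf 0))))))) (.node (.node (.node (.node (.node (.node (.leaf 0) (.leaf 1)) (.node (.leaf (-1)) (.leaf 0))) (.node (.node (.leaf (-1)) (.leaf 0)) (.node (.leaf 1) (.leaf 0)))) (.node (.node (.node (.leaf 1) (.leaf 0)) (.node (.leaf 1) (.leaf 0))) (.node (.node (.leaf 0) (.leaf 0)) (.node (.leaf 0) (.leaf 0))))) (.node (.node (.node (.node (.leaf 0) (.leaf 0)) (.node (.leaf (-1)) (.leaf 0))) (.node (.node (.leaf 0) (.leaf 0)) (.node (.leaf (-1)) (.leaf 0)))) (.node (.node (.node (.leaf 0) (.leaf 0)) (.node (.leaf 1) (.leaf 0))) (.node (.node (.leaf 0) (.leaf 0)) (.node (.leaf 0) (.leaf 0)))))) (.node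 (.node (.node (.node (.node (.leaf (-1)) (.leaf (-1))) (.node (.leaf (-2)) (.leaf 0))) (.node (.node (.leaf (-1)) (.leaf 0)) (.node (.leaf (-1)) (.leaf 0)))) (.node (.node (.node (.leaf (-1)) (.leaf 0)) (.node (.leaf 0) (.leaf 0))) (.node (.node (.leaf 1) (.leaf 0)) (.node (.leaf (-1)) (.leaf 0))))) (.node (.node (.node (.node (.leaf 1) (.leaf 0)) (.node (.leaf 0) (.leaf 0))) (.node (.node (.leaf 1) (.leaf 0)) (.node (.leaf 0) (.leaf 0)))) (.node (.node (.node (.leaf 0) (.leaf 0)) (.node (.leaf 0) (.leaf 0))) (.node (.node (.leaf 1) (.leaf 0)) (.node (.leaf 1) (.leaf 0)))))))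

noncomputable def pos5 : Trie (ℕ) := .node (.node (.node (.node (.node (.node (.node (.leaf 40) (.leaf 272)) (.node (.leaf 52) (.leaf 179))) (.node (.node (.leaf 70) (.leaf 179)) (.node (.leaf 260) (.leaf 179)))) (.node (.node (.node (.leaf 248) (.leaf 179)) (.node (.leaf 251) (.leaf 179))) (.node (.node (.leaf 43) (.leaf 179)) (.node (.leaf 71) (.leaf 179))))) (.node (.node (.node (.node (.leaf 365) (.leaf 393)) (.node (.leaf 0) (.leaf 179))) (.node (.node (.leaf 370) (.leaf 179)) (.node (.leaf 384) (.leaf 179)))) (.node (.node (.node (.leaf 376) (.leaf 179)) (.node (.leaf 253) (.leaf 179))) (.node (.node (.leaf 50) (.leaf 179)) (.node (.leaf 374) (.leaf 179)))))) (.node (.node (.node (.node (.node (.leaf 60) (.leaf 176)) (.node (.leaf 390) (.leaf 179))) (.node (.node (.leaf 367) (.leaf 179)) (.node (.leaf 69) (.leaf 179)))) (.node (.node (.node (.leaf 41) (.leaf 179)) (.node (.leaf 67) (.leaf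 179))) (.node (.node (.leaf 258) (.leaf 179)) (.node (.leaf 73) (.leaf 179))))) (.node (.node (.node (.node (.leaf 246) (.leaf 178)) (.node (.leaf 369) (.leaf 179))) (.node (.node (.leaf 252) (.leaf 179)) (.node (.leaf 391) (.leaf 179)))) (.node (.node (.node (.leaf 61) (.leaf 179)) (.node (.leaf 54) (.leaf 179))) (.node (.node (.leaf 262) (.leaf 179)) (.node (.leaf 266) (.leaf 179))))))) (.node (.node (.node (.node (.node (.node (.leaf 46) (.leaf 392)) (.node (.leaf 270) (.leaf 179))) (.node (.node (.leaf 247) (.leaf 179)) (.node (.leaf 380) (.leaf 179)))) (.node (.node (.node (.leaf 368) (.leaf 179)) (.node (.leaf 371) (.leaf 179))) (.node (.node (.leaf 44) (.leaf 179)) (.node (.leaf 72) (.leaf 179))))) (.node (.node (.node (.node (.leaf 65) (.leaf 177)) (.node (.leaf 249) (.leaf 179))) (.node (.node (.leaf 42) (.leaf 179)) (.node (.leaf 271) (.leaf 179)))) (.node (.node (.node (.leaf 48) (.leaf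 179)) (.node (.leaf 373) (.leaf 179))) (.node (.node (.leaf 62) (.leaf 179)) (.node (.leaf 74) (.leaf 179)))))) (.node (.node (.node (.node (.node (.leaf 245) (.leaf 273)) (.node (.leaf 0) (.leaf 179))) (.node (.node (.leaf 250) (.leaf 179)) (.node (.leaf 264) (.leaf 179)))) (.node (.node (.node (.leaf 256) (.leaf 179)) (.node (.leaf 68) (.leaf 179))) (.node (.node (.leaf 378) (.leaf 179)) (.node (.leaf 254) (.leaf 179))))) (.node (.node (.node (.node (.leaf 366) (.leaf 179)) (.node (.leaf 63) (.leaf 179))) (.node (.node (.leaf 372) (.leaf 179)) (.node (.leaf 175) (.leaf 179)))) (.node (.node (.node (.leaf 66) (.leaf 179)) (.node (.leaf 64) (.leaf 179))) (.node (.node (.leaf 382) (.leaf 179)) (.node (.leaf 386) (.leaf 179)))))))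

/-- The tables. -/
noncomputable def tbl : Tbl where
  l := 6
  n := 72
  vec := vec
  wt := [371293, 28561, 2197, 169, 13, 1]
  pi := [pi0, pi1, pi2, pi3, pi4, pi5]
  eta := [eta0, eta1, eta2, eta3, eta4, eta5]
  rows := rows
  cor := cor
  car := [car0, car1, car2, car3, car4, car5]
  simple := [56, 46, 42, 39, 37, 36]
  bez := bez
  dsc := dsc
  reps := [(56, 0), (56, 5), (56, 16)]
  cert := cert
  ncert := 420
  pos := [pos0, pos1, pos2, pos3, pos4, pos5]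

end CfsgLib.Chev.DataE6
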