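import Cfsg.Agent.Chev.Engine

/-! Tables of the datum of type E7, generated from the definition; verified in `Chev.InstE7`. -/

set_option autoImplicit false
set_option maxRecDepth 100000
set_option linter.style.longLine false

namespace CfsgLib.Chev.DataE7

open CfsgLib.Chev

noncomputable def vec : Trie (List ℤ) := .node (.node (.node (.node (.node (.node (.node (.leaf [-2, -2, -3, -4, -3, -2, -1]) (.leaf [0, 0, 0, 0, 0, 1, 0])) (.node (.leaf [-1, 0, 0, 0, 0, 0, 0]) (.leaf [1, 0, 1, 1, 1, 0, 0]))) (.node (.node (.leaf [-1, -1, -2, -2, -1, 0, 0]) (.leaf [0, 1, 0, 1, 1, 0, 0])) (.node (.leaf [0, 0, -1, -1, -1, -1, -1]) (.leaf [1, 1, 2, 2, 2, 1, 0])))) (.node (.node (.node (.leaf [-1, -1, -2, -3, -2, -2, -1]) (.leaf [0, 0, 0, 1, 1, 1, 1])) (.node (.leaf [0, -1, -1, -1, -1, -1, 0]) (.leaf [1, 1, 1, 2, 1, 1, 0]))) (.node (.node (.leaf [-1, -1, -1, -1, -1, -1, 0]) (.leaf [0, 1, 1, 2, 1, 1, 0])) (.node (.leaf [0,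 0, 0, -1, 0, 0, 0]) (.leaf [1, 2, 2, 3, 2, 1, 1]))))) (.node (.node (.node (.node (.leaf [-1, -2, -2, -3, -2, -2, -1]) (.leaf [0, 0, 0, 0, 1, 1, 1])) (.node (.leaf [0, -1, -1, -2, -1, -1, -1]) (.leaf [1, 1, 1, 1, 1, 0, 0]))) (.node (.node (.leaf [-1, -1, -1, -2, -1, -1, -1]) (.leaf [0, 1, 1, 1, 1, 0, 0])) (.node (.leaf [0, 0, -1, 0, 0, 0, 0]) (.leaf [1, 1, 2, 3, 2, 1, 1])))) (.node (.node (.node (.leaf [-1, -1, -2, -2, -2, -1, -1]) (.leaf [0, 0, 1, 1, 1, 1, 0])) (.node (.leaf [0, -1, 0, -1, -1, -1, 0]) (.leaf [1, 1, 1, 2, 2, 2, 1]))) (.node (.node (.leaf [-1, 0, -1, -1, -1, -1, 0]) (.leaf [0, 1, 1, 2, 2, 2, 1])) (.node (.leaf [0, 0, 0, 0, 0, -1, -1]) (.leaf [1, 2, 3, 4, 3, 2, 1])))))) (.node (.node (.node (.node (.node (.leaf [-1, -2, -2, -4, -3, -2, -1]) (.leaf [0, 0, 0, 0, 1, 0, 0])) (.node (.leaf [0, -1, -1, -2, -2, -1, -1]) (.leaf [1, 0, 1, 1, 1, 1, 1]))) (.node (.node (.leaf [-1, -1, -1, -2, -2, -1, -1])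 (.leaf [0, 1, 0, 1, 1, 1, 1])) (.node (.leaf [0, 0, -1, -1, -1, 0, 0]) (.leaf [1, 1, 2, 2, 2, 2, 1])))) (.node (.node (.node (.leaf [-1, -1, -2, -3, -2, -1, 0]) (.leaf [0, 0, 1, 1, 0, 0, 0])) (.node (.leaf [0, -1, -1, -1, 0, 0, 0]) (.leaf [1, 1, 1, 2, 2, 1, 0]))) (.node (.node (.leaf [-1, -1, -1, -1, 0, 0, 0]) (.leaf [0, 1, 1, 2, 2, 1, 0])) (.node (.leaf [0, 0, 0, 0, -1, -1, 0]) (.leaf [1, 2, 2, 3, 3, 2, 1]))))) (.node (.node (.node (.node (.leaf [-1, -2, -2, -3, -2, -1, 0]) (.leaf [0, 0, 0, 1, 1, 0, 0])) (.node (.leaf [0, -1, -1, -2, -1, 0, 0]) (.leaf [1, 1, 1, 1, 1, 1, 1]))) (.node (.node (.leaf [-1, -1, -1, -2, -1, 0, 0]) (.leaf [0, 1, 1, 1, 1, 1, 1])) (.node (.leaf [0, 0, 0, -1, -1, -1, 0]) (.leaf [1, 1, 2, 3, 3, 2, 1])))) (.node (.node (.node (.leaf [-1, -1, -2, -2, -1, -1, -1]) (.leaf [0, 1, 0, 0, 0, 0, 0])) (.node (.leaf [0, -1, 0, -1, 0, 0, 0]) (.leaf [1, 1, 2, 2, 1, 1, 0]))) (.node (.node (.leaf [-1,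 0, -1, -1, 0, 0, 0]) (.leaf [1, 0, 1, 0, 0, 0, 0])) (.node (.leaf [0, 0, 0, 0, 0, 0, -1]) (.leaf [2, 2, 3, 4, 3, 2, 1]))))))) (.node (.node (.node (.node (.node (.node (.leaf [-1, -2, -3, -4, -3, -2, -1]) (.leaf [0, 0, 0, 0, 0, 1, 1])) (.node (.leaf [0, -1, -1, -2, -2, -2, -1]) (.leaf [1, 0, 1, 1, 1, 1, 0]))) (.node (.node (.leaf [-1, -1, -1, -2, -2, -2, -1]) (.leaf [0, 1, 0, 1, 1, 1, 0])) (.node (.leaf [0, 0, -1, -1, -1, -1, 0]) (.leaf [1, 1, 2, 2, 2, 1, 1])))) (.node (.node (.node (.leaf [-1, -1, -2, -3, -2, -1, -1]) (.leaf [0, 0, 1, 0, 0, 0, 0])) (.node (.leaf [0, -1, -1, -1, -1, 0, 0]) (.leaf [1, 1, 1, 2, 1, 1, 1]))) (.node (.node (.leaf [-1, -1, -1, -1, -1, 0, 0]) (.leaf [0, 1, 1, 2, 1, 1, 1])) (.node (.leaf [0, 0, 0, 0, -1, -1, -1]) (.leaf [1, 2, 2, 3, 2, 2, 1]))))) (.node (.node (.node (.node (.leaf [-1, -2, -2, -3, -2, -1, -1]) (.leaf [0, 0, 0, 1, 0, 0, 0])) (.node (.leaf [0, -1, -1, -2, -1, -1, 0])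 (.leaf [1, 1, 1, 1, 1, 1, 0]))) (.node (.node (.leaf [-1, -1, -1, -2, -1, -1, 0]) (.leaf [0, 1, 1, 1, 1, 1, 0])) (.node (.leaf [0, 0, 0, -1, -1, -1, -1]) (.leaf [1, 1, 2, 3, 2, 2, 1])))) (.node (.node (.node (.leaf [-1, -1, -2, -2, -2, -1, 0]) (.leaf [0, 0, 1, 1, 1, 1, 1])) (.node (.leaf [0, -1, 0, -1, -1, 0, 0]) (.leaf [1, 1, 2, 2, 1, 0, 0]))) (.node (.node (.leaf [-1, 0, -1, -1, -1, 0, 0]) (.leaf [1, 0, 0, 0, 0, 0, 0])) (.node (.leaf [0, 0, 0, 0, 0, -1, 0]) (.leaf [2, 2, 3, 4, 3, 2, 1])))))) (.node (.node (.node (.node (.node (.leaf [-1, -2, -2, -3, -3, -2, -1]) (.leaf [0, 0, 0, 0, 1, 1, 0])) (.node (.leaf [0, -1, -1, -2, -2, -1, 0]) (.leaf [1, 1, 1, 1, 0, 0, 0]))) (.node (.node (.leaf [-1, -1, -1, -2, -2, -1, 0]) (.leaf [0, 1, 1, 1, 0, 0, 0])) (.node (.leaf [0, 0, -1, -1, 0, 0, 0]) (.leaf [1, 1, 2, 3, 2, 1, 0])))) (.node (.node (.node (.leaf [-1, -1, -2, -2, -2, -2, -1]) (.leaf [0, 0, 1, 1, 1, 0, 0])) (.node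 (.leaf [0, -1, 0, -1, -1, -1, -1]) (.leaf [1, 1, 1, 2, 2, 1, 1]))) (.node (.node (.leaf [-1, 0, -1, -1, -1, -1, -1]) (.leaf [0, 1, 1, 2, 2, 1, 1])) (.node (.leaf [0, 0, 0, 0, -1, 0, 0]) (.leaf [1, 2, 2, 4, 3, 2, 1]))))) (.node (.node (.node (.node (.leaf [-1, -1, -2, -3, -3, -2, -1]) (.leaf [0, 0, 0, 1, 1, 1, 0])) (.node (.leaf [0, -1, -1, -1, -1, -1, -1]) (.leaf [1, 1, 1, 2, 1, 0, 0]))) (.node (.node (.leaf [-1, -1, -1, -1, -1, -1, -1]) (.leaf [0, 1, 1, 2, 1, 0, 0])) (.node (.leaf [0, 0, 0, -1, -1, 0, 0]) (.leaf [1, 2, 2, 3, 2, 1, 0])))) (.node (.node (.node (.leaf [-1, -1, -2, -2, -1, -1, 0]) (.leaf [0, 1, 0, 1, 0, 0, 0])) (.node (.leaf [0, -1, 0, 0, 0, 0, 0]) (.leaf [1, 1, 2, 2, 1, 1, 1]))) (.node (.node (.leaf [-1, 0, -1, 0, 0, 0, 0]) (.leaf [1, 0, 1, 1, 0, 0, 0])) (.node (.leaf [0, 0, 0, 0, 0, 0, 1]) (.leaf [2, 2, 3, 4, 3, 2, 1])))))))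

noncomputable def rows : Trie (List (ℕ × List (ℕ × ℤ))) := .node (.node (.node (.node (.node (.node (.node (.leaf [(93, [(1, 1)]), (94, [(2, -1)]), (95, [(3, 1)]), (96, [(4, -1)]), (97, [(5, 1)]), (98, [(6, -1)]), (99, [(7, -1)]), (100, [(8, 1)]), (101, [(9, -1)]), (102, [(10, 1)]), (103, [(11, -1)]), (104, [(12, 1)]), (105, [(13, -1)]), (106, [(14, -1)]), (107, [(15, 1)]), (108, [(16, -1)]), (109, [(17, 1)]), (110, [(18, -1)]), (111, [(19, 1)]), (112, [(20, 1)]), (113, [(21, -1)]), (114, [(22, 1)]), (115, [(23, -1)]), (116, [(24, 1)]), (117, [(25, -1)]), (118, [(26, 1)]), (119, [(27, 1)]), (120, [(28, -1)]), (121, [(29, 1)]), (122, [(30, -1)]), (123, [(31, 1)]), (124, [(32, -1)])]) (.leaf [(4, [(5, -1)]), (8, [(9, -1)]), (11, [(12, -1)]), (15, [(16, -1)]), (17, [(18, -1)]), (21, [(22, -1)]), (24, [(25, -1)]), (28, [(29, -1)]), (33, [(34, -1)]), (37, [(38, -1)]), (40, [(41, -1)]), (44, [(45, -1)]), (49, [(50,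 -1)]), (54, [(55, -1)]), (58, [(59, -1)]), (60, [(62, 1)]), (63, [(65, -1)]), (66, [(67, 1)]), (70, [(71, 1)]), (75, [(76, 1)]), (80, [(81, 1)]), (84, [(85, 1)]), (87, [(88, 1)]), (91, [(92, 1)]), (96, [(97, 1)]), (100, [(101, 1)]), (103, [(104, 1)]), (107, [(108, 1)]), (109, [(110, 1)]), (113, [(114, 1)]), (116, [(117, 1)]), (120, [(121, 1)])])) (.node (.leaf [(1, [(0, -1)]), (33, [(17, 1)]), (34, [(18, 1)]), (35, [(19, 1)]), (36, [(20, 1)]), (37, [(21, 1)]), (38, [(22, 1)]), (39, [(23, 1)]), (40, [(24, 1)]), (41, [(25, 1)]), (42, [(26, 1)]), (48, [(27, 1)]), (49, [(28, 1)]), (50, [(29, 1)]), (51, [(30, 1)]), (52, [(31, 1)]), (94, [(73, -1)]), (95, [(74, -1)]), (96, [(75, -1)]), (97, [(76, -1)]), (98, [(77, -1)]), (99, [(83, -1)]), (100, [(84, -1)]), (101, [(85, -1)]), (102, [(86, -1)]), (103, [(87, -1)]), (104, [(88, -1)]), (105, [(89, -1)]), (106, [(90, -1)]), (107, [(91, -1)]), (108, [(92, -1)]), (125,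 [(124, 1)])]) (.leaf [(0, [(4, 1)]), (7, [(33, 1)]), (9, [(36, -1)]), (10, [(37, -1)]), (12, [(39, -1)]), (13, [(40, -1)]), (16, [(42, 1)]), (18, [(43, -1)]), (19, [(44, -1)]), (22, [(46, 1)]), (25, [(47, 1)]), (27, [(60, 1)]), (28, [(61, 1)]), (30, [(66, 1)]), (31, [(70, 1)]), (32, [(75, 1)]), (50, [(93, -1)]), (55, [(94, -1)]), (59, [(95, -1)]), (64, [(97, -1)]), (65, [(98, -1)]), (78, [(100, -1)]), (79, [(103, -1)]), (81, [(106, 1)]), (82, [(107, 1)]), (83, [(109, -1)]), (85, [(112, 1)]), (86, [(113, 1)]), (88, [(115, 1)]), (89, [(116, 1)]), (92, [(118, -1)]), (121, [(125, -1)])]))) (.node (.node (.leaf [(17, [(0, -1)]), (33, [(1, 1)]), (43, [(5, -1)]), (44, [(6, -1)]), (53, [(9, 1)]), (54, [(10, 1)]), (57, [(12, -1)]), (58, [(13, -1)]), (60, [(14, 1)]), (61, [(15, 1)]), (73, [(22, 1)]), (74, [(25, -1)]), (75, [(26, 1)]), (83, [(29, 1)]), (84, [(30, -1)]), (87, [(31, 1)]), (94, [(38, -1)]), (95, [(41, 1)]),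 (96, [(42, -1)]), (99, [(50, -1)]), (100, [(51, 1)]), (103, [(52, -1)]), (110, [(64, -1)]), (111, [(65, -1)]), (112, [(67, 1)]), (113, [(68, 1)]), (115, [(71, -1)]), (116, [(72, -1)]), (119, [(81, 1)]), (120, [(82, 1)]), (124, [(92, -1)]), (125, [(108, 1)])]) (.leaf [(2, [(8, 1)]), (3, [(11, 1)]), (5, [(14, -1)]), (6, [(15, -1)]), (18, [(27, -1)]), (19, [(28, -1)]), (22, [(30, 1)]), (25, [(31, 1)]), (34, [(48, -1)]), (35, [(49, -1)]), (38, [(51, 1)]), (41, [(52, 1)]), (43, [(60, 1)]), (44, [(61, 1)]), (46, [(66, 1)]), (47, [(70, 1)]), (55, [(78, -1)]), (59, [(79, -1)]), (64, [(81, -1)]), (65, [(82, -1)]), (73, [(84, -1)]), (74, [(87, -1)]), (76, [(90, 1)]), (77, [(91, 1)]), (94, [(100, -1)]), (95, [(103, -1)]), (97, [(106, 1)]), (98, [(107, 1)]), (110, [(119, 1)]), (111, [(120, 1)]), (114, [(122, -1)]), (117, [(123, -1)])])) (.node (.leaf [(6, [(1, -1)]), (19, [(7, -1)]), (21, [(8, -1)]), (22, [(9, -1)]),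 (24, [(11, -1)]), (25, [(12, -1)]), (26, [(14, -1)]), (32, [(27, -1)]), (44, [(33, 1)]), (45, [(34, 1)]), (46, [(36, 1)]), (47, [(39, 1)]), (63, [(49, 1)]), (65, [(50, 1)]), (68, [(51, 1)]), (72, [(52, 1)]), (73, [(53, -1)]), (74, [(57, -1)]), (75, [(60, -1)]), (76, [(62, -1)]), (86, [(78, -1)]), (89, [(79, -1)]), (91, [(80, -1)]), (92, [(81, -1)]), (98, [(93, 1)]), (111, [(99, 1)]), (113, [(100, 1)]), (114, [(101, 1)]), (116, [(103, 1)]), (117, [(104, 1)]), (118, [(106, 1)]), (124, [(119, 1)])]) (.leaf [(0, [(20, -1)]), (1, [(36, 1)]), (3, [(43, -1)]), (6, [(46, -1)]), (7, [(53, 1)]), (10, [(56, 1)]), (11, [(60, -1)]), (12, [(62, 1)]), (15, [(66, 1)]), (16, [(67, -1)]), (19, [(73, 1)]), (24, [(75, -1)]), (25, [(76, 1)]), (28, [(84, 1)]), (29, [(85, -1)]), (31, [(90, 1)]), (35, [(94, -1)]), (40, [(96, 1)]), (41, [(97, -1)]), (49, [(100, -1)]), (50, [(101, 1)]), (52, [(106, -1)]), (58, [(109, 1)]), (59, [(110,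 -1)]), (63, [(113, -1)]), (65, [(114, 1)]), (69, [(115, -1)]), (72, [(118, -1)]), (79, [(119, 1)]), (82, [(122, 1)]), (89, [(124, -1)]), (105, [(125, 1)])])))) (.node (.node (.node (.leaf [(25, [(0, 1)]), (41, [(1, -1)]), (45, [(2, -1)]), (47, [(4, 1)]), (59, [(7, 1)]), (64, [(9, 1)]), (65, [(10, -1)]), (69, [(11, 1)]), (71, [(14, -1)]), (72, [(15, 1)]), (74, [(17, 1)]), (76, [(20, -1)]), (77, [(21, 1)]), (88, [(27, 1)]), (89, [(28, -1)]), (92, [(30, 1)]), (95, [(33, -1)]), (97, [(36, 1)]), (98, [(37, -1)]), (104, [(48, -1)]), (105, [(49, 1)]), (108, [(51, -1)]), (110, [(53, -1)]), (111, [(54, 1)]), (114, [(56, -1)]), (115, [(60, 1)]), (116, [(61, -1)]), (118, [(66, -1)]), (121, [(78, -1)]), (123, [(80, 1)]), (124, [(84, 1)]), (125, [(100, -1)])]) (.leaf [(2, [(6, 1)]), (7, [(13, -1)]), (8, [(15, -1)]), (9, [(16, -1)]), (17, [(24, 1)]), (18, [(25, 1)]), (20, [(26, 1)]), (27, [(31, -1)]), (33, [(40, 1)]), (34,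 [(41, 1)]), (36, [(42, 1)]), (43, [(47, -1)]), (48, [(52, -1)]), (54, [(63, 1)]), (55, [(65, 1)]), (56, [(68, 1)]), (57, [(69, -1)]), (60, [(70, -1)]), (62, [(71, -1)]), (73, [(77, 1)]), (78, [(82, 1)]), (83, [(89, -1)]), (84, [(91, -1)]), (85, [(92, -1)]), (94, [(98, 1)]), (99, [(105, -1)]), (100, [(107, -1)]), (101, [(108, -1)]), (109, [(116, 1)]), (110, [(117, 1)]), (112, [(118, 1)]), (119, [(123, -1)])])) (.node (.leaf [(9, [(1, -1)]), (18, [(3, 1)]), (20, [(4, 1)]), (22, [(6, -1)]), (27, [(11, -1)]), (29, [(13, 1)]), (30, [(15, 1)]), (32, [(24, -1)]), (53, [(33, -1)]), (55, [(35, 1)]), (56, [(37, 1)]), (62, [(39, 1)]), (64, [(41, 1)]), (67, [(42, 1)]), (73, [(44, 1)]), (76, [(47, -1)]), (78, [(49, 1)]), (81, [(52, -1)]), (83, [(58, -1)]), (84, [(61, -1)]), (86, [(63, -1)]), (88, [(69, -1)]), (90, [(70, -1)]), (92, [(72, 1)]), (101, [(93, 1)]), (110, [(95, -1)]), (112, [(96, -1)]), (114, [(98, 1)]), (119,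 [(103, 1)]), (121, [(105, -1)]), (122, [(107, -1)]), (124, [(116, 1)])]) (.leaf [(0, [(12, -1)]), (2, [(34, -1)]), (4, [(39, 1)]), (6, [(41, -1)]), (8, [(48, 1)]), (10, [(50, -1)]), (15, [(52, 1)]), (17, [(57, -1)]), (19, [(59, 1)]), (20, [(62, 1)]), (22, [(64, 1)]), (24, [(69, 1)]), (26, [(71, -1)]), (28, [(79, 1)]), (30, [(81, -1)]), (32, [(88, 1)]), (37, [(93, -1)]), (44, [(95, 1)]), (46, [(97, -1)]), (54, [(99, 1)]), (56, [(101, -1)]), (61, [(103, -1)]), (63, [(105, -1)]), (66, [(106, -1)]), (68, [(108, 1)]), (73, [(110, -1)]), (75, [(115, 1)]), (77, [(117, -1)]), (84, [(119, 1)]), (86, [(121, -1)]), (91, [(123, 1)]), (113, [(125, 1)])]))) (.node (.node (.leaf [(9, [(0, 1)]), (34, [(3, -1)]), (36, [(4, -1)]), (38, [(6, 1)]), (48, [(11, 1)]), (50, [(13, -1)]), (51, [(15, -1)]), (53, [(17, -1)]), (55, [(19, 1)]), (56, [(21, 1)]), (62, [(23, 1)]), (64, [(25, 1)]), (67, [(26, 1)]), (78, [(28, 1)]), (81, [(31,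 -1)]), (85, [(32, 1)]), (93, [(40, -1)]), (94, [(44, 1)]), (97, [(47, -1)]), (99, [(58, -1)]), (100, [(61, -1)]), (102, [(63, -1)]), (104, [(69, -1)]), (106, [(70, -1)]), (108, [(72, 1)]), (110, [(74, 1)]), (112, [(75, 1)]), (114, [(77, -1)]), (119, [(87, -1)]), (121, [(89, 1)]), (122, [(91, 1)]), (125, [(116, -1)])]) (.leaf [(1, [(12, 1)]), (2, [(18, 1)]), (4, [(23, -1)]), (6, [(25, 1)]), (8, [(27, -1)]), (10, [(29, 1)]), (15, [(31, -1)]), (21, [(32, -1)]), (33, [(57, -1)]), (35, [(59, 1)]), (36, [(62, 1)]), (38, [(64, 1)]), (40, [(69, 1)]), (42, [(71, -1)]), (44, [(74, 1)]), (46, [(76, -1)]), (49, [(79, 1)]), (51, [(81, -1)]), (54, [(83, 1)]), (56, [(85, -1)]), (61, [(87, -1)]), (63, [(89, -1)]), (66, [(90, -1)]), (68, [(92, 1)]), (93, [(104, 1)]), (94, [(110, 1)]), (96, [(115, -1)]), (98, [(117, 1)]), (100, [(119, -1)]), (102, [(121, 1)]), (107, [(123, -1)]), (113, [(124, -1)])])) (.node (.leaf [(3, [(2,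 -1)]), (11, [(8, -1)]), (12, [(9, -1)]), (13, [(10, -1)]), (23, [(20, -1)]), (24, [(21, -1)]), (25, [(22, -1)]), (31, [(30, -1)]), (39, [(36, -1)]), (40, [(37, -1)]), (41, [(38, -1)]), (47, [(46, -1)]), (52, [(51, -1)]), (57, [(53, 1)]), (58, [(54, 1)]), (59, [(55, 1)]), (70, [(66, -1)]), (71, [(67, -1)]), (72, [(68, -1)]), (74, [(73, 1)]), (79, [(78, 1)]), (87, [(84, 1)]), (88, [(85, 1)]), (89, [(86, 1)]), (95, [(94, 1)]), (103, [(100, 1)]), (104, [(101, 1)]), (105, [(102, 1)]), (115, [(112, 1)]), (116, [(113, 1)]), (117, [(114, 1)]), (123, [(122, 1)])]) (.leaf [(0, [(28, 1)]), (1, [(49, -1)]), (2, [(54, 1)]), (3, [(58, -1)]), (4, [(61, 1)]), (6, [(63, 1)]), (9, [(78, 1)]), (12, [(79, -1)]), (14, [(80, 1)]), (16, [(82, -1)]), (18, [(83, 1)]), (20, [(84, -1)]), (22, [(86, 1)]), (23, [(87, 1)]), (25, [(89, -1)]), (26, [(91, 1)]), (34, [(99, -1)]), (36, [(100, 1)]), (38, [(102, -1)]), (39, [(103, -1)]), (41,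 [(105, 1)]), (42, [(107, -1)]), (43, [(109, 1)]), (45, [(111, -1)]), (46, [(113, 1)]), (47, [(116, -1)]), (62, [(119, -1)]), (64, [(121, -1)]), (67, [(122, 1)]), (71, [(123, -1)]), (76, [(124, 1)]), (97, [(125, -1)])]))))) (.node (.node (.node (.node (.leaf [(29, [(0, -1)]), (50, [(1, 1)]), (55, [(2, -1)]), (59, [(3, 1)]), (64, [(5, 1)]), (65, [(6, -1)]), (78, [(8, 1)]), (79, [(11, -1)]), (81, [(14, 1)]), (82, [(15, -1)]), (83, [(17, 1)]), (85, [(20, -1)]), (86, [(21, 1)]), (88, [(23, 1)]), (89, [(24, -1)]), (92, [(26, 1)]), (99, [(33, -1)]), (101, [(36, 1)]), (102, [(37, -1)]), (104, [(39, -1)]), (105, [(40, 1)]), (108, [(42, -1)]), (110, [(43, 1)]), (111, [(44, -1)]), (114, [(46, 1)]), (117, [(47, -1)]), (119, [(60, 1)]), (120, [(61, -1)]), (122, [(66, -1)]), (123, [(70, 1)]), (124, [(75, -1)]), (125, [(96, 1)])]) (.leaf [(3, [(6, -1)]), (7, [(10, -1)]), (11, [(15, 1)]), (12, [(16, 1)]), (17, [(21, 1)]),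 (18, [(22, 1)]), (23, [(26, -1)]), (27, [(30, -1)]), (33, [(37, 1)]), (34, [(38, 1)]), (39, [(42, -1)]), (43, [(46, -1)]), (48, [(51, -1)]), (53, [(56, -1)]), (58, [(63, 1)]), (59, [(65, 1)]), (60, [(66, -1)]), (62, [(67, -1)]), (69, [(72, 1)]), (74, [(77, 1)]), (79, [(82, 1)]), (83, [(86, 1)]), (87, [(91, -1)]), (88, [(92, -1)]), (95, [(98, 1)]), (99, [(102, 1)]), (103, [(107, -1)]), (104, [(108, -1)]), (109, [(113, -1)]), (110, [(114, -1)]), (115, [(118, 1)]), (119, [(122, 1)])])) (.node (.leaf [(13, [(1, -1)]), (19, [(2, -1)]), (24, [(4, 1)]), (25, [(5, 1)]), (28, [(8, 1)]), (29, [(9, 1)]), (31, [(14, -1)]), (32, [(20, -1)]), (58, [(33, 1)]), (59, [(34, 1)]), (63, [(37, 1)]), (65, [(38, 1)]), (69, [(39, 1)]), (72, [(42, -1)]), (74, [(43, 1)]), (77, [(46, -1)]), (79, [(48, 1)]), (82, [(51, -1)]), (83, [(53, 1)]), (86, [(56, -1)]), (87, [(60, -1)]), (88, [(62, -1)]), (91, [(66, -1)]), (92, [(67, -1)]), (105,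 [(93, 1)]), (111, [(94, 1)]), (116, [(96, -1)]), (117, [(97, -1)]), (120, [(100, -1)]), (121, [(101, -1)]), (123, [(106, 1)]), (124, [(112, 1)])]) (.leaf [(0, [(8, -1)]), (3, [(33, 1)]), (5, [(36, -1)]), (6, [(37, -1)]), (12, [(48, 1)]), (13, [(49, 1)]), (16, [(51, -1)]), (18, [(53, -1)]), (19, [(54, -1)]), (22, [(56, 1)]), (23, [(60, 1)]), (24, [(61, 1)]), (26, [(66, 1)]), (29, [(78, 1)]), (31, [(80, -1)]), (32, [(84, 1)]), (41, [(93, -1)]), (45, [(94, 1)]), (47, [(96, -1)]), (59, [(99, -1)]), (64, [(101, -1)]), (65, [(102, -1)]), (69, [(103, -1)]), (71, [(106, 1)]), (72, [(107, 1)]), (74, [(109, 1)]), (76, [(112, -1)]), (77, [(113, -1)]), (88, [(119, 1)]), (89, [(120, 1)]), (92, [(122, -1)]), (117, [(125, 1)])]))) (.node (.node (.leaf [(13, [(0, 1)]), (35, [(2, 1)]), (40, [(4, -1)]), (41, [(5, -1)]), (49, [(8, -1)]), (50, [(9, -1)]), (52, [(14, 1)]), (58, [(17, 1)]), (59, [(18, 1)]), (63, [(21, 1)]), (65,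 [(22, 1)]), (69, [(23, 1)]), (72, [(26, -1)]), (79, [(27, 1)]), (82, [(30, -1)]), (89, [(32, 1)]), (93, [(36, -1)]), (95, [(43, 1)]), (98, [(46, -1)]), (99, [(53, 1)]), (102, [(56, -1)]), (103, [(60, -1)]), (104, [(62, -1)]), (107, [(66, -1)]), (108, [(67, -1)]), (111, [(73, -1)]), (116, [(75, 1)]), (117, [(76, 1)]), (120, [(84, 1)]), (121, [(85, 1)]), (123, [(90, -1)]), (125, [(112, -1)])]) (.leaf [(1, [(8, 1)]), (3, [(17, -1)]), (5, [(20, 1)]), (6, [(21, 1)]), (12, [(27, -1)]), (13, [(28, -1)]), (16, [(30, 1)]), (25, [(32, -1)]), (34, [(53, -1)]), (35, [(54, -1)]), (38, [(56, 1)]), (39, [(60, 1)]), (40, [(61, 1)]), (42, [(66, 1)]), (45, [(73, 1)]), (47, [(75, -1)]), (50, [(78, 1)]), (52, [(80, -1)]), (59, [(83, -1)]), (64, [(85, -1)]), (65, [(86, -1)]), (69, [(87, -1)]), (71, [(90, 1)]), (72, [(91, 1)]), (93, [(100, 1)]), (95, [(109, -1)]), (97, [(112, 1)]), (98, [(113, 1)]), (104, [(119, -1)]), (105, [(120,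 -1)]), (108, [(122, 1)]), (117, [(124, -1)])])) (.node (.leaf [(2, [(1, -1)]), (17, [(11, -1)]), (18, [(12, -1)]), (19, [(13, -1)]), (20, [(14, -1)]), (21, [(15, -1)]), (22, [(16, -1)]), (32, [(31, -1)]), (43, [(39, -1)]), (44, [(40, -1)]), (45, [(41, -1)]), (46, [(42, -1)]), (53, [(48, 1)]), (54, [(49, 1)]), (55, [(50, 1)]), (56, [(51, 1)]), (74, [(69, -1)]), (75, [(70, -1)]), (76, [(71, -1)]), (77, [(72, -1)]), (83, [(79, 1)]), (84, [(80, 1)]), (85, [(81, 1)]), (86, [(82, 1)]), (94, [(93, 1)]), (109, [(103, 1)]), (110, [(104, 1)]), (111, [(105, 1)]), (112, [(106, 1)]), (113, [(107, 1)]), (114, [(108, 1)]), (124, [(123, 1)])]) (.leaf [(0, [(24, -1)]), (1, [(40, 1)]), (2, [(44, 1)]), (5, [(47, 1)]), (7, [(58, -1)]), (8, [(61, 1)]), (10, [(63, 1)]), (12, [(69, 1)]), (14, [(70, -1)]), (16, [(72, 1)]), (18, [(74, 1)]), (20, [(75, -1)]), (22, [(77, 1)]), (27, [(87, 1)]), (29, [(89, -1)]), (30, [(91, 1)]), (34,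 [(95, -1)]), (36, [(96, 1)]), (38, [(98, -1)]), (48, [(103, -1)]), (50, [(105, 1)]), (51, [(107, -1)]), (53, [(109, -1)]), (55, [(111, 1)]), (56, [(113, -1)]), (62, [(115, -1)]), (64, [(117, -1)]), (67, [(118, 1)]), (78, [(120, -1)]), (81, [(123, -1)]), (85, [(124, -1)]), (101, [(125, 1)])])))) (.node (.node (.node (.leaf [(21, [(0, 1)]), (37, [(1, -1)]), (44, [(3, 1)]), (46, [(5, -1)]), (54, [(7, -1)]), (56, [(9, 1)]), (61, [(11, 1)]), (63, [(13, 1)]), (66, [(14, 1)]), (68, [(16, -1)]), (73, [(18, 1)]), (75, [(23, -1)]), (77, [(25, 1)]), (84, [(27, 1)]), (86, [(29, -1)]), (91, [(31, 1)]), (94, [(34, -1)]), (96, [(39, 1)]), (98, [(41, -1)]), (100, [(48, -1)]), (102, [(50, 1)]), (107, [(52, -1)]), (109, [(57, 1)]), (111, [(59, -1)]), (112, [(62, -1)]), (114, [(64, -1)]), (116, [(69, -1)]), (118, [(71, 1)]), (120, [(79, 1)]), (122, [(81, -1)]), (124, [(88, 1)]), (125, [(104, -1)])]) (.leaf [(1, [(5, 1)]), (7,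 [(18, 1)]), (8, [(20, 1)]), (10, [(22, -1)]), (11, [(23, 1)]), (13, [(25, -1)]), (15, [(26, -1)]), (28, [(32, -1)]), (33, [(43, -1)]), (35, [(45, 1)]), (37, [(46, 1)]), (40, [(47, 1)]), (48, [(62, 1)]), (50, [(64, 1)]), (51, [(67, 1)]), (52, [(71, 1)]), (54, [(73, -1)]), (58, [(74, -1)]), (61, [(75, -1)]), (63, [(77, -1)]), (78, [(85, -1)]), (79, [(88, -1)]), (80, [(90, -1)]), (82, [(92, 1)]), (93, [(97, 1)]), (99, [(110, 1)]), (100, [(112, 1)]), (102, [(114, -1)]), (103, [(115, 1)]), (105, [(117, -1)]), (107, [(118, -1)]), (120, [(124, -1)])])) (.node (.leaf [(9, [(2, -1)]), (12, [(3, -1)]), (14, [(4, -1)]), (16, [(6, 1)]), (27, [(17, -1)]), (29, [(19, 1)]), (30, [(21, 1)]), (31, [(24, 1)]), (48, [(33, -1)]), (50, [(35, 1)]), (51, [(37, 1)]), (52, [(40, 1)]), (62, [(43, 1)]), (64, [(45, 1)]), (67, [(46, 1)]), (71, [(47, 1)]), (78, [(54, -1)]), (79, [(58, -1)]), (80, [(61, -1)]), (82, [(63, -1)]), (85, [(73,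 -1)]), (88, [(74, -1)]), (90, [(75, -1)]), (92, [(77, 1)]), (101, [(94, -1)]), (104, [(95, -1)]), (106, [(96, -1)]), (108, [(98, 1)]), (119, [(109, -1)]), (121, [(111, 1)]), (122, [(113, 1)]), (123, [(116, 1)])]) (.leaf [(0, [(16, 1)]), (2, [(38, 1)]), (3, [(41, 1)]), (4, [(42, 1)]), (7, [(50, 1)]), (8, [(51, 1)]), (11, [(52, 1)]), (18, [(64, 1)]), (19, [(65, -1)]), (20, [(67, 1)]), (21, [(68, -1)]), (23, [(71, 1)]), (24, [(72, -1)]), (27, [(81, 1)]), (28, [(82, -1)]), (32, [(92, 1)]), (33, [(93, -1)]), (43, [(97, 1)]), (44, [(98, -1)]), (53, [(101, 1)]), (54, [(102, -1)]), (57, [(104, 1)]), (58, [(105, -1)]), (60, [(106, 1)]), (61, [(107, -1)]), (73, [(114, -1)]), (74, [(117, -1)]), (75, [(118, -1)]), (83, [(121, -1)]), (84, [(122, -1)]), (87, [(123, -1)]), (109, [(125, -1)])]))) (.node (.node (.leaf [(5, [(0, -1)]), (34, [(7, -1)]), (36, [(8, -1)]), (38, [(10, 1)]), (39, [(11, -1)]), (41, [(13, 1)]), (42,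 [(15, 1)]), (43, [(17, -1)]), (45, [(19, 1)]), (46, [(21, 1)]), (47, [(24, 1)]), (62, [(27, 1)]), (64, [(29, 1)]), (67, [(30, 1)]), (71, [(31, 1)]), (76, [(32, 1)]), (93, [(49, -1)]), (94, [(54, -1)]), (95, [(58, -1)]), (96, [(61, -1)]), (98, [(63, -1)]), (101, [(78, -1)]), (104, [(79, -1)]), (106, [(80, -1)]), (108, [(82, 1)]), (110, [(83, -1)]), (112, [(84, -1)]), (114, [(86, 1)]), (115, [(87, -1)]), (117, [(89, 1)]), (118, [(91, 1)]), (125, [(120, 1)])]) (.leaf [(1, [(16, -1)]), (2, [(22, -1)]), (3, [(25, -1)]), (4, [(26, -1)]), (7, [(29, -1)]), (8, [(30, -1)]), (11, [(31, -1)]), (17, [(32, -1)]), (34, [(64, 1)]), (35, [(65, -1)]), (36, [(67, 1)]), (37, [(68, -1)]), (39, [(71, 1)]), (40, [(72, -1)]), (43, [(76, 1)]), (44, [(77, -1)]), (48, [(81, 1)]), (49, [(82, -1)]), (53, [(85, 1)]), (54, [(86, -1)]), (57, [(88, 1)]), (58, [(89, -1)]), (60, [(90, 1)]), (61, [(91, -1)]), (93, [(108, 1)]), (94, [(114, 1)]),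 (95, [(117, 1)]), (96, [(118, 1)]), (99, [(121, 1)]), (100, [(122, 1)]), (103, [(123, 1)]), (109, [(124, 1)])])) (.node (.leaf [(6, [(4, 1)]), (10, [(8, 1)]), (13, [(11, 1)]), (16, [(14, -1)]), (19, [(17, 1)]), (22, [(20, -1)]), (25, [(23, -1)]), (29, [(27, -1)]), (35, [(33, 1)]), (38, [(36, -1)]), (41, [(39, -1)]), (45, [(43, -1)]), (50, [(48, -1)]), (55, [(53, -1)]), (59, [(57, -1)]), (63, [(61, 1)]), (64, [(62, -1)]), (68, [(66, 1)]), (72, [(70, 1)]), (77, [(75, 1)]), (82, [(80, 1)]), (86, [(84, 1)]), (89, [(87, 1)]), (92, [(90, -1)]), (98, [(96, 1)]), (102, [(100, 1)]), (105, [(103, 1)]), (108, [(106, -1)]), (111, [(109, 1)]), (114, [(112, -1)]), (117, [(115, -1)]), (121, [(119, -1)])]) (.leaf [(0, [(32, 1)]), (2, [(73, 1)]), (3, [(74, -1)]), (4, [(75, 1)]), (5, [(76, -1)]), (6, [(77, 1)]), (7, [(83, 1)]), (8, [(84, -1)]), (9, [(85, 1)]), (10, [(86, -1)]), (11, [(87, 1)]), (12, [(88, -1)]), (13, [(89,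 1)]), (14, [(90, 1)]), (15, [(91, -1)]), (16, [(92, 1)]), (33, [(109, -1)]), (34, [(110, 1)]), (35, [(111, -1)]), (36, [(112, -1)]), (37, [(113, 1)]), (38, [(114, -1)]), (39, [(115, 1)]), (40, [(116, -1)]), (41, [(117, 1)]), (42, [(118, -1)]), (48, [(119, -1)]), (49, [(120, 1)]), (50, [(121, -1)]), (51, [(122, 1)]), (52, [(123, -1)]), (93, [(125, -1)])])))))) (.node (.node (.node (.node (.node (.leaf [(31, [(0, -1)]), (52, [(1, 1)]), (69, [(3, 1)]), (70, [(4, -1)]), (71, [(5, 1)]), (72, [(6, -1)]), (79, [(7, 1)]), (80, [(8, -1)]), (81, [(9, 1)]), (82, [(10, -1)]), (87, [(17, 1)]), (88, [(18, -1)]), (89, [(19, 1)]), (90, [(20, 1)]), (91, [(21, -1)]), (92, [(22, 1)]), (103, [(33, -1)]), (104, [(34, 1)]), (105, [(35, -1)]), (106, [(36, -1)]), (107, [(37, 1)]), (108, [(38, -1)]), (115, [(43, 1)]), (116, [(44, -1)]), (117, [(45, 1)]), (118, [(46, -1)]), (119, [(53, 1)]), (120, [(54, -1)]), (121, [(55, 1)]), (122,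 [(56, -1)]), (124, [(73, -1)]), (125, [(94, 1)])]) (.leaf [(3, [(4, -1)]), (7, [(8, -1)]), (12, [(14, -1)]), (13, [(15, -1)]), (18, [(20, -1)]), (19, [(21, -1)]), (25, [(26, -1)]), (29, [(30, -1)]), (34, [(36, -1)]), (35, [(37, -1)]), (41, [(42, -1)]), (45, [(46, -1)]), (50, [(51, -1)]), (55, [(56, -1)]), (57, [(60, 1)]), (58, [(61, 1)]), (64, [(67, -1)]), (65, [(68, -1)]), (69, [(70, 1)]), (74, [(75, 1)]), (79, [(80, 1)]), (83, [(84, 1)]), (88, [(90, 1)]), (89, [(91, 1)]), (95, [(96, 1)]), (99, [(100, 1)]), (104, [(106, 1)]), (105, [(107, 1)]), (110, [(112, 1)]), (111, [(113, 1)]), (117, [(118, 1)]), (121, [(122, 1)])])) (.node (.leaf [(15, [(1, 1)]), (21, [(2, 1)]), (24, [(3, 1)]), (26, [(5, -1)]), (28, [(7, 1)]), (30, [(9, -1)]), (31, [(12, -1)]), (32, [(18, -1)]), (61, [(33, 1)]), (63, [(35, 1)]), (66, [(36, 1)]), (68, [(38, -1)]), (70, [(39, 1)]), (72, [(41, -1)]), (75, [(43, 1)]), (77, [(45, -1)]), (80,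 [(48, 1)]), (82, [(50, -1)]), (84, [(53, 1)]), (86, [(55, -1)]), (87, [(57, 1)]), (89, [(59, -1)]), (90, [(62, -1)]), (92, [(64, -1)]), (107, [(93, 1)]), (113, [(94, 1)]), (116, [(95, 1)]), (118, [(97, -1)]), (120, [(99, 1)]), (122, [(101, -1)]), (123, [(104, -1)]), (124, [(110, -1)])]) (.leaf [(0, [(6, 1)]), (7, [(35, 1)]), (8, [(37, 1)]), (9, [(38, 1)]), (11, [(40, 1)]), (12, [(41, 1)]), (14, [(42, 1)]), (17, [(44, 1)]), (18, [(45, 1)]), (20, [(46, 1)]), (23, [(47, 1)]), (28, [(63, 1)]), (29, [(65, 1)]), (30, [(68, 1)]), (31, [(72, 1)]), (32, [(77, 1)]), (48, [(93, -1)]), (53, [(94, -1)]), (57, [(95, -1)]), (60, [(96, -1)]), (62, [(97, -1)]), (78, [(102, -1)]), (79, [(105, -1)]), (80, [(107, -1)]), (81, [(108, -1)]), (83, [(111, -1)]), (84, [(113, -1)]), (85, [(114, -1)]), (87, [(116, -1)]), (88, [(117, -1)]), (90, [(118, -1)]), (119, [(125, -1)])]))) (.node (.node (.leaf [(15, [(0, -1)]), (37, [(2, -1)]),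 (40, [(3, -1)]), (42, [(5, 1)]), (49, [(7, -1)]), (51, [(9, 1)]), (52, [(12, 1)]), (61, [(17, 1)]), (63, [(19, 1)]), (66, [(20, 1)]), (68, [(22, -1)]), (70, [(23, 1)]), (72, [(25, -1)]), (80, [(27, 1)]), (82, [(29, -1)]), (91, [(32, 1)]), (93, [(34, -1)]), (96, [(43, 1)]), (98, [(45, -1)]), (100, [(53, 1)]), (102, [(55, -1)]), (103, [(57, 1)]), (105, [(59, -1)]), (106, [(62, -1)]), (108, [(64, -1)]), (113, [(73, -1)]), (116, [(74, -1)]), (118, [(76, 1)]), (120, [(83, -1)]), (122, [(85, 1)]), (123, [(88, 1)]), (125, [(110, 1)])]) (.leaf [(2, [(10, 1)]), (3, [(13, 1)]), (4, [(15, 1)]), (5, [(16, 1)]), (17, [(28, 1)]), (18, [(29, 1)]), (20, [(30, 1)]), (23, [(31, 1)]), (33, [(49, 1)]), (34, [(50, 1)]), (36, [(51, 1)]), (39, [(52, 1)]), (44, [(63, 1)]), (45, [(65, 1)]), (46, [(68, 1)]), (47, [(72, 1)]), (53, [(78, -1)]), (57, [(79, -1)]), (60, [(80, -1)]), (62, [(81, -1)]), (73, [(86, -1)]), (74, [(89, -1)]),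 (75, [(91, -1)]), (76, [(92, -1)]), (94, [(102, -1)]), (95, [(105, -1)]), (96, [(107, -1)]), (97, [(108, -1)]), (109, [(120, -1)]), (110, [(121, -1)]), (112, [(122, -1)]), (115, [(123, -1)])])) (.node (.leaf [(4, [(1, -1)]), (17, [(7, -1)]), (20, [(9, 1)]), (21, [(10, 1)]), (23, [(12, 1)]), (24, [(13, 1)]), (26, [(16, -1)]), (32, [(29, -1)]), (43, [(34, -1)]), (44, [(35, -1)]), (46, [(38, 1)]), (47, [(41, 1)]), (60, [(48, 1)]), (61, [(49, 1)]), (66, [(51, 1)]), (70, [(52, 1)]), (73, [(55, -1)]), (74, [(59, -1)]), (76, [(64, -1)]), (77, [(65, -1)]), (84, [(78, -1)]), (87, [(79, -1)]), (90, [(81, 1)]), (91, [(82, 1)]), (96, [(93, 1)]), (109, [(99, 1)]), (112, [(101, -1)]), (113, [(102, -1)]), (115, [(104, -1)]), (116, [(105, -1)]), (118, [(108, 1)]), (124, [(121, 1)])]) (.leaf [(0, [(22, -1)]), (1, [(38, 1)]), (3, [(45, -1)]), (4, [(46, -1)]), (7, [(55, 1)]), (8, [(56, 1)]), (12, [(64, 1)]), (13, [(65, -1)]),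 (14, [(67, 1)]), (15, [(68, -1)]), (17, [(73, 1)]), (23, [(76, -1)]), (24, [(77, 1)]), (27, [(85, 1)]), (28, [(86, -1)]), (31, [(92, 1)]), (33, [(94, -1)]), (39, [(97, 1)]), (40, [(98, -1)]), (48, [(101, -1)]), (49, [(102, 1)]), (52, [(108, -1)]), (57, [(110, 1)]), (58, [(111, -1)]), (60, [(112, 1)]), (61, [(113, -1)]), (69, [(117, -1)]), (70, [(118, -1)]), (79, [(121, 1)]), (80, [(122, 1)]), (87, [(124, -1)]), (103, [(125, 1)])])))) (.node (.node (.node (.leaf [(23, [(0, 1)]), (39, [(1, -1)]), (43, [(2, -1)]), (47, [(6, 1)]), (57, [(7, 1)]), (60, [(8, -1)]), (62, [(9, 1)]), (69, [(13, 1)]), (70, [(15, -1)]), (71, [(16, 1)]), (74, [(19, 1)]), (75, [(21, -1)]), (76, [(22, 1)]), (87, [(28, 1)]), (88, [(29, -1)]), (90, [(30, 1)]), (95, [(35, -1)]), (96, [(37, 1)]), (97, [(38, -1)]), (103, [(49, -1)]), (104, [(50, 1)]), (106, [(51, -1)]), (109, [(54, -1)]), (110, [(55, 1)]), (112, [(56, -1)]), (116, [(63, -1)]),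 (117, [(65, 1)]), (118, [(68, -1)]), (119, [(78, -1)]), (123, [(82, 1)]), (124, [(86, 1)]), (125, [(102, -1)])]) (.leaf [(1, [(3, 1)]), (8, [(17, -1)]), (9, [(18, -1)]), (10, [(19, -1)]), (14, [(23, 1)]), (15, [(24, 1)]), (16, [(25, 1)]), (30, [(32, -1)]), (36, [(43, -1)]), (37, [(44, -1)]), (38, [(45, -1)]), (42, [(47, 1)]), (48, [(57, 1)]), (49, [(58, 1)]), (50, [(59, 1)]), (52, [(69, 1)]), (56, [(73, -1)]), (66, [(75, -1)]), (67, [(76, -1)]), (68, [(77, -1)]), (78, [(83, -1)]), (80, [(87, 1)]), (81, [(88, 1)]), (82, [(89, 1)]), (93, [(95, 1)]), (100, [(109, -1)]), (101, [(110, -1)]), (102, [(111, -1)]), (106, [(115, 1)]), (107, [(116, 1)]), (108, [(117, 1)]), (122, [(124, -1)])])) (.node (.leaf [(7, [(1, -1)]), (17, [(4, -1)]), (18, [(5, -1)]), (19, [(6, -1)]), (27, [(14, -1)]), (28, [(15, -1)]), (29, [(16, -1)]), (32, [(26, -1)]), (53, [(36, -1)]), (54, [(37, -1)]), (55, [(38, -1)]), (57, [(39, 1)]), (58,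 [(40, 1)]), (59, [(41, 1)]), (73, [(46, 1)]), (74, [(47, -1)]), (78, [(51, 1)]), (79, [(52, -1)]), (84, [(66, -1)]), (85, [(67, -1)]), (86, [(68, -1)]), (87, [(70, 1)]), (88, [(71, 1)]), (89, [(72, 1)]), (99, [(93, 1)]), (109, [(96, 1)]), (110, [(97, 1)]), (111, [(98, 1)]), (119, [(106, 1)]), (120, [(107, 1)]), (121, [(108, 1)]), (124, [(118, 1)])]) (.leaf [(0, [(14, 1)]), (2, [(36, 1)]), (3, [(39, 1)]), (6, [(42, 1)]), (7, [(48, 1)]), (10, [(51, 1)]), (13, [(52, 1)]), (17, [(60, -1)]), (18, [(62, 1)]), (21, [(66, 1)]), (22, [(67, -1)]), (24, [(70, 1)]), (25, [(71, -1)]), (28, [(80, 1)]), (29, [(81, -1)]), (32, [(90, 1)]), (35, [(93, -1)]), (44, [(96, 1)]), (45, [(97, -1)]), (54, [(100, 1)]), (55, [(101, -1)]), (58, [(103, 1)]), (59, [(104, -1)]), (63, [(107, -1)]), (65, [(108, 1)]), (73, [(112, -1)]), (74, [(115, -1)]), (77, [(118, -1)]), (83, [(119, -1)]), (86, [(122, -1)]), (89, [(123, -1)]), (111, [(125,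 -1)])]))) (.node (.node (.leaf [(7, [(0, 1)]), (33, [(4, 1)]), (34, [(5, 1)]), (35, [(6, 1)]), (48, [(14, 1)]), (49, [(15, 1)]), (50, [(16, 1)]), (53, [(20, -1)]), (54, [(21, -1)]), (55, [(22, -1)]), (57, [(23, 1)]), (58, [(24, 1)]), (59, [(25, 1)]), (78, [(30, 1)]), (79, [(31, -1)]), (83, [(32, 1)]), (93, [(42, -1)]), (94, [(46, 1)]), (95, [(47, -1)]), (100, [(66, -1)]), (101, [(67, -1)]), (102, [(68, -1)]), (103, [(70, 1)]), (104, [(71, 1)]), (105, [(72, 1)]), (109, [(75, -1)]), (110, [(76, -1)]), (111, [(77, -1)]), (119, [(90, -1)]), (120, [(91, -1)]), (121, [(92, -1)]), (125, [(118, -1)])]) (.leaf [(1, [(14, -1)]), (2, [(20, -1)]), (3, [(23, -1)]), (6, [(26, -1)]), (7, [(27, -1)]), (10, [(30, -1)]), (13, [(31, -1)]), (19, [(32, -1)]), (33, [(60, -1)]), (34, [(62, 1)]), (37, [(66, 1)]), (38, [(67, -1)]), (40, [(70, 1)]), (41, [(71, -1)]), (44, [(75, 1)]), (45, [(76, -1)]), (49, [(80, 1)]), (50, [(81, -1)]),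 (54, [(84, 1)]), (55, [(85, -1)]), (58, [(87, 1)]), (59, [(88, -1)]), (63, [(91, -1)]), (65, [(92, 1)]), (93, [(106, 1)]), (94, [(112, 1)]), (95, [(115, 1)]), (98, [(118, 1)]), (99, [(119, 1)]), (102, [(122, 1)]), (105, [(123, 1)]), (111, [(124, 1)])])) (.node (.leaf [(5, [(3, 1)]), (9, [(7, 1)]), (14, [(11, -1)]), (16, [(13, 1)]), (20, [(17, -1)]), (22, [(19, 1)]), (26, [(24, -1)]), (30, [(28, -1)]), (36, [(33, -1)]), (38, [(35, 1)]), (42, [(40, -1)]), (46, [(44, -1)]), (51, [(49, -1)]), (56, [(54, -1)]), (62, [(57, 1)]), (64, [(59, 1)]), (66, [(61, -1)]), (68, [(63, -1)]), (71, [(69, 1)]), (76, [(74, 1)]), (81, [(79, 1)]), (85, [(83, 1)]), (90, [(87, -1)]), (92, [(89, 1)]), (97, [(95, 1)]), (101, [(99, 1)]), (106, [(103, -1)]), (108, [(105, 1)]), (112, [(109, -1)]), (114, [(111, 1)]), (118, [(116, -1)]), (122, [(120, -1)])]) (.leaf [(0, [(30, 1)]), (1, [(51, -1)]), (2, [(56, 1)]), (4, [(66, 1)]), (5, [(67,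 -1)]), (6, [(68, 1)]), (7, [(78, 1)]), (11, [(80, -1)]), (12, [(81, 1)]), (13, [(82, -1)]), (17, [(84, 1)]), (18, [(85, -1)]), (19, [(86, 1)]), (23, [(90, 1)]), (24, [(91, -1)]), (25, [(92, 1)]), (33, [(100, -1)]), (34, [(101, 1)]), (35, [(102, -1)]), (39, [(106, -1)]), (40, [(107, 1)]), (41, [(108, -1)]), (43, [(112, 1)]), (44, [(113, -1)]), (45, [(114, 1)]), (47, [(118, -1)]), (57, [(119, -1)]), (58, [(120, 1)]), (59, [(121, -1)]), (69, [(123, -1)]), (74, [(124, 1)]), (95, [(125, -1)])]))))) (.node (.node (.node (.node (.leaf [(27, [(0, -1)]), (48, [(1, 1)]), (53, [(2, -1)]), (57, [(3, 1)]), (60, [(4, -1)]), (62, [(5, 1)]), (78, [(10, 1)]), (79, [(13, -1)]), (80, [(15, 1)]), (81, [(16, -1)]), (83, [(19, 1)]), (84, [(21, -1)]), (85, [(22, 1)]), (87, [(24, 1)]), (88, [(25, -1)]), (90, [(26, 1)]), (99, [(35, -1)]), (100, [(37, 1)]), (101, [(38, -1)]), (103, [(40, -1)]), (104, [(41, 1)]), (106, [(42, -1)]),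 (109, [(44, 1)]), (110, [(45, -1)]), (112, [(46, 1)]), (115, [(47, -1)]), (120, [(63, -1)]), (121, [(65, 1)]), (122, [(68, -1)]), (123, [(72, 1)]), (124, [(77, -1)]), (125, [(98, 1)])]) (.leaf [(2, [(4, 1)]), (7, [(11, -1)]), (9, [(14, 1)]), (10, [(15, 1)]), (18, [(23, -1)]), (19, [(24, -1)]), (22, [(26, 1)]), (29, [(31, -1)]), (34, [(39, -1)]), (35, [(40, -1)]), (38, [(42, 1)]), (45, [(47, -1)]), (50, [(52, -1)]), (53, [(60, 1)]), (54, [(61, 1)]), (56, [(66, 1)]), (59, [(69, -1)]), (64, [(71, -1)]), (65, [(72, -1)]), (73, [(75, 1)]), (78, [(80, 1)]), (83, [(87, -1)]), (85, [(90, 1)]), (86, [(91, 1)]), (94, [(96, 1)]), (99, [(103, -1)]), (101, [(106, 1)]), (102, [(107, 1)]), (110, [(115, -1)]), (111, [(116, -1)]), (114, [(118, 1)]), (121, [(123, -1)])])) (.node (.leaf [(11, [(1, -1)]), (17, [(2, -1)]), (23, [(5, -1)]), (24, [(6, -1)]), (27, [(9, -1)]), (28, [(10, -1)]), (31, [(16, -1)]), (32, [(22, -1)]),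 (57, [(34, -1)]), (58, [(35, -1)]), (60, [(36, 1)]), (61, [(37, 1)]), (69, [(41, 1)]), (70, [(42, -1)]), (74, [(45, 1)]), (75, [(46, -1)]), (79, [(50, 1)]), (80, [(51, -1)]), (83, [(55, 1)]), (84, [(56, -1)]), (88, [(64, -1)]), (89, [(65, -1)]), (90, [(67, 1)]), (91, [(68, 1)]), (103, [(93, 1)]), (109, [(94, 1)]), (115, [(97, 1)]), (116, [(98, 1)]), (119, [(101, 1)]), (120, [(102, 1)]), (123, [(108, 1)]), (124, [(114, 1)])]) (.leaf [(0, [(10, -1)]), (3, [(35, 1)]), (4, [(37, 1)]), (5, [(38, 1)]), (11, [(49, -1)]), (12, [(50, -1)]), (14, [(51, -1)]), (17, [(54, 1)]), (18, [(55, 1)]), (20, [(56, 1)]), (24, [(63, 1)]), (25, [(65, 1)]), (26, [(68, 1)]), (27, [(78, 1)]), (31, [(82, -1)]), (32, [(86, 1)]), (39, [(93, -1)]), (43, [(94, 1)]), (47, [(98, -1)]), (57, [(99, -1)]), (60, [(100, -1)]), (62, [(101, -1)]), (69, [(105, -1)]), (70, [(107, -1)]), (71, [(108, -1)]), (74, [(111, 1)]), (75, [(113, 1)]), (76, [(114,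 1)]), (87, [(120, -1)]), (88, [(121, -1)]), (90, [(122, -1)]), (115, [(125, 1)])]))) (.node (.node (.leaf [(11, [(0, 1)]), (33, [(2, 1)]), (39, [(5, 1)]), (40, [(6, 1)]), (48, [(9, 1)]), (49, [(10, 1)]), (52, [(16, 1)]), (57, [(18, -1)]), (58, [(19, -1)]), (60, [(20, 1)]), (61, [(21, 1)]), (69, [(25, 1)]), (70, [(26, -1)]), (79, [(29, 1)]), (80, [(30, -1)]), (87, [(32, 1)]), (93, [(38, -1)]), (95, [(45, 1)]), (96, [(46, -1)]), (99, [(55, 1)]), (100, [(56, -1)]), (104, [(64, -1)]), (105, [(65, -1)]), (106, [(67, 1)]), (107, [(68, 1)]), (109, [(73, -1)]), (115, [(76, -1)]), (116, [(77, -1)]), (119, [(85, -1)]), (120, [(86, -1)]), (123, [(92, -1)]), (125, [(114, -1)])]) (.leaf [(1, [(10, 1)]), (3, [(19, -1)]), (4, [(21, -1)]), (5, [(22, -1)]), (11, [(28, 1)]), (12, [(29, 1)]), (14, [(30, 1)]), (23, [(32, -1)]), (33, [(54, 1)]), (34, [(55, 1)]), (36, [(56, 1)]), (40, [(63, 1)]), (41, [(65, 1)]), (42, [(68, 1)]),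 (43, [(73, 1)]), (47, [(77, -1)]), (48, [(78, 1)]), (52, [(82, -1)]), (57, [(83, -1)]), (60, [(84, -1)]), (62, [(85, -1)]), (69, [(89, -1)]), (70, [(91, -1)]), (71, [(92, -1)]), (93, [(102, 1)]), (95, [(111, -1)]), (96, [(113, -1)]), (97, [(114, -1)]), (103, [(120, 1)]), (104, [(121, 1)]), (106, [(122, 1)]), (115, [(124, -1)])])) (.node (.leaf [(5, [(2, -1)]), (12, [(7, 1)]), (14, [(8, 1)]), (16, [(10, -1)]), (23, [(17, -1)]), (25, [(19, 1)]), (26, [(21, 1)]), (31, [(28, -1)]), (39, [(33, -1)]), (41, [(35, 1)]), (42, [(37, 1)]), (47, [(44, -1)]), (52, [(49, -1)]), (62, [(53, 1)]), (64, [(55, 1)]), (67, [(56, 1)]), (69, [(58, -1)]), (70, [(61, -1)]), (72, [(63, -1)]), (76, [(73, 1)]), (81, [(78, 1)]), (88, [(83, -1)]), (90, [(84, -1)]), (92, [(86, 1)]), (97, [(94, 1)]), (104, [(99, -1)]), (106, [(100, -1)]), (108, [(102, 1)]), (115, [(109, 1)]), (117, [(111, -1)]), (118, [(113, -1)]), (123, [(120, 1)])]) (.leaf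 [(0, [(26, -1)]), (1, [(42, 1)]), (2, [(46, 1)]), (3, [(47, 1)]), (8, [(66, 1)]), (9, [(67, -1)]), (10, [(68, 1)]), (11, [(70, 1)]), (12, [(71, -1)]), (13, [(72, 1)]), (17, [(75, 1)]), (18, [(76, -1)]), (19, [(77, 1)]), (27, [(90, 1)]), (28, [(91, -1)]), (29, [(92, 1)]), (33, [(96, -1)]), (34, [(97, 1)]), (35, [(98, -1)]), (48, [(106, -1)]), (49, [(107, 1)]), (50, [(108, -1)]), (53, [(112, -1)]), (54, [(113, 1)]), (55, [(114, -1)]), (57, [(115, -1)]), (58, [(116, 1)]), (59, [(117, -1)]), (78, [(122, -1)]), (79, [(123, -1)]), (83, [(124, -1)]), (99, [(125, 1)])])))) (.node (.node (.node (.leaf [(19, [(0, -1)]), (35, [(1, 1)]), (44, [(4, 1)]), (45, [(5, 1)]), (54, [(8, -1)]), (55, [(9, -1)]), (58, [(11, 1)]), (59, [(12, 1)]), (63, [(15, 1)]), (65, [(16, 1)]), (73, [(20, 1)]), (74, [(23, -1)]), (77, [(26, 1)]), (83, [(27, 1)]), (86, [(30, -1)]), (89, [(31, 1)]), (94, [(36, -1)]), (95, [(39, 1)]), (98, [(42, -1)]),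 (99, [(48, -1)]), (102, [(51, 1)]), (105, [(52, -1)]), (109, [(60, -1)]), (110, [(62, -1)]), (113, [(66, -1)]), (114, [(67, -1)]), (116, [(70, 1)]), (117, [(71, 1)]), (120, [(80, -1)]), (121, [(81, -1)]), (124, [(90, -1)]), (125, [(106, 1)])]) (.leaf [(3, [(7, -1)]), (4, [(8, -1)]), (5, [(9, -1)]), (6, [(10, -1)]), (23, [(27, -1)]), (24, [(28, -1)]), (25, [(29, -1)]), (26, [(30, -1)]), (39, [(48, -1)]), (40, [(49, -1)]), (41, [(50, -1)]), (42, [(51, -1)]), (43, [(53, 1)]), (44, [(54, 1)]), (45, [(55, 1)]), (46, [(56, 1)]), (69, [(79, -1)]), (70, [(80, -1)]), (71, [(81, -1)]), (72, [(82, -1)]), (74, [(83, 1)]), (75, [(84, 1)]), (76, [(85, 1)]), (77, [(86, 1)]), (95, [(99, 1)]), (96, [(100, 1)]), (97, [(101, 1)]), (98, [(102, 1)]), (115, [(119, 1)]), (116, [(120, 1)]), (117, [(121, 1)]), (118, [(122, 1)])])) (.node (.leaf [(7, [(2, -1)]), (11, [(4, 1)]), (12, [(5, 1)]), (13, [(6, 1)]), (27, [(20, -1)]), (28,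 [(21, -1)]), (29, [(22, -1)]), (31, [(26, 1)]), (48, [(36, -1)]), (49, [(37, -1)]), (50, [(38, -1)]), (52, [(42, 1)]), (57, [(43, 1)]), (58, [(44, 1)]), (59, [(45, 1)]), (69, [(47, 1)]), (78, [(56, -1)]), (80, [(66, -1)]), (81, [(67, -1)]), (82, [(68, -1)]), (83, [(73, -1)]), (87, [(75, 1)]), (88, [(76, 1)]), (89, [(77, 1)]), (99, [(94, -1)]), (103, [(96, 1)]), (104, [(97, 1)]), (105, [(98, 1)]), (119, [(112, -1)]), (120, [(113, -1)]), (121, [(114, -1)]), (123, [(118, 1)])]) (.leaf [(0, [(18, 1)]), (1, [(34, -1)]), (4, [(43, -1)]), (6, [(45, 1)]), (8, [(53, 1)]), (10, [(55, -1)]), (11, [(57, -1)]), (13, [(59, 1)]), (14, [(62, 1)]), (16, [(64, 1)]), (21, [(73, 1)]), (24, [(74, -1)]), (26, [(76, 1)]), (28, [(83, 1)]), (30, [(85, -1)]), (31, [(88, 1)]), (37, [(94, -1)]), (40, [(95, 1)]), (42, [(97, -1)]), (49, [(99, -1)]), (51, [(101, 1)]), (52, [(104, -1)]), (61, [(109, -1)]), (63, [(111, -1)]), (66, [(112,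 -1)]), (68, [(114, 1)]), (70, [(115, 1)]), (72, [(117, -1)]), (80, [(119, -1)]), (82, [(121, 1)]), (91, [(124, 1)]), (107, [(125, -1)])]))) (.node (.node (.leaf [(3, [(0, -1)]), (33, [(8, 1)]), (34, [(9, 1)]), (35, [(10, 1)]), (39, [(14, -1)]), (40, [(15, -1)]), (41, [(16, -1)]), (43, [(20, -1)]), (44, [(21, -1)]), (45, [(22, -1)]), (47, [(26, 1)]), (57, [(27, 1)]), (58, [(28, 1)]), (59, [(29, 1)]), (69, [(31, 1)]), (74, [(32, 1)]), (93, [(51, -1)]), (94, [(56, -1)]), (96, [(66, -1)]), (97, [(67, -1)]), (98, [(68, -1)]), (99, [(78, -1)]), (103, [(80, 1)]), (104, [(81, 1)]), (105, [(82, 1)]), (109, [(84, 1)]), (110, [(85, 1)]), (111, [(86, 1)]), (115, [(90, -1)]), (116, [(91, -1)]), (117, [(92, -1)]), (125, [(122, 1)])]) (.leaf [(0, [(2, 1)]), (11, [(33, 1)]), (12, [(34, 1)]), (13, [(35, 1)]), (14, [(36, 1)]), (15, [(37, 1)]), (16, [(38, 1)]), (23, [(43, -1)]), (24, [(44, -1)]), (25, [(45, -1)]), (26, [(46,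 -1)]), (27, [(53, 1)]), (28, [(54, 1)]), (29, [(55, 1)]), (30, [(56, 1)]), (32, [(73, 1)]), (52, [(93, -1)]), (69, [(95, -1)]), (70, [(96, -1)]), (71, [(97, -1)]), (72, [(98, -1)]), (79, [(99, 1)]), (80, [(100, 1)]), (81, [(101, 1)]), (82, [(102, 1)]), (87, [(109, -1)]), (88, [(110, -1)]), (89, [(111, -1)]), (90, [(112, -1)]), (91, [(113, -1)]), (92, [(114, -1)]), (123, [(125, -1)])])) (.node (.leaf [(6, [(5, -1)]), (10, [(9, -1)]), (13, [(12, -1)]), (15, [(14, -1)]), (19, [(18, -1)]), (21, [(20, -1)]), (24, [(23, -1)]), (28, [(27, -1)]), (35, [(34, -1)]), (37, [(36, -1)]), (40, [(39, -1)]), (44, [(43, -1)]), (49, [(48, -1)]), (54, [(53, -1)]), (58, [(57, -1)]), (61, [(60, -1)]), (65, [(64, 1)]), (68, [(67, 1)]), (72, [(71, 1)]), (77, [(76, 1)]), (82, [(81, 1)]), (86, [(85, 1)]), (89, [(88, 1)]), (91, [(90, 1)]), (98, [(97, 1)]), (102, [(101, 1)]), (105, [(104, 1)]), (107, [(106, 1)]), (111, [(110, 1)]), (113,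 [(112, 1)]), (116, [(115, 1)]), (120, [(119, 1)])]) (.leaf [(1, [(93, 1)]), (2, [(94, -1)]), (3, [(95, 1)]), (4, [(96, -1)]), (5, [(97, 1)]), (6, [(98, -1)]), (7, [(99, -1)]), (8, [(100, 1)]), (9, [(101, -1)]), (10, [(102, 1)]), (11, [(103, -1)]), (12, [(104, 1)]), (13, [(105, -1)]), (14, [(106, -1)]), (15, [(107, 1)]), (16, [(108, -1)]), (17, [(109, 1)]), (18, [(110, -1)]), (19, [(111, 1)]), (20, [(112, 1)]), (21, [(113, -1)]), (22, [(114, 1)]), (23, [(115, -1)]), (24, [(116, 1)]), (25, [(117, -1)]), (26, [(118, 1)]), (27, [(119, 1)]), (28, [(120, -1)]), (29, [(121, 1)]), (30, [(122, -1)]), (31, [(123, 1)]), (32, [(124, -1)])]))))))) (.node (.node (.node (.node (.node (.node (.leaf [(32, [(0, 1)]), (73, [(2, 1)]), (74, [(3, -1)]), (75, [(4, 1)]), (76, [(5, -1)]), (77, [(6, 1)]), (83, [(7, 1)]), (84, [(8, -1)]), (85, [(9, 1)]), (86, [(10, -1)]), (87, [(11, 1)]), (88, [(12, -1)]), (89, [(13, 1)]), (90, [(14,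 1)]), (91, [(15, -1)]), (92, [(16, 1)]), (109, [(33, -1)]), (110, [(34, 1)]), (111, [(35, -1)]), (112, [(36, -1)]), (113, [(37, 1)]), (114, [(38, -1)]), (115, [(39, 1)]), (116, [(40, -1)]), (117, [(41, 1)]), (118, [(42, -1)]), (119, [(48, -1)]), (120, [(49, 1)]), (121, [(50, -1)]), (122, [(51, 1)]), (123, [(52, -1)]), (125, [(93, -1)])]) (.leaf [(4, [(6, 1)]), (8, [(10, 1)]), (11, [(13, 1)]), (14, [(16, -1)]), (17, [(19, 1)]), (20, [(22, -1)]), (23, [(25, -1)]), (27, [(29, -1)]), (33, [(35, 1)]), (36, [(38, -1)]), (39, [(41, -1)]), (43, [(45, -1)]), (48, [(50, -1)]), (53, [(55, -1)]), (57, [(59, -1)]), (61, [(63, 1)]), (62, [(64, -1)]), (66, [(68, 1)]), (70, [(72, 1)]), (75, [(77, 1)]), (80, [(82, 1)]), (84, [(86, 1)]), (87, [(89, 1)]), (90, [(92, -1)]), (96, [(98, 1)]), (100, [(102, 1)]), (103, [(105, 1)]), (106, [(108, -1)]), (109, [(111, 1)]), (112, [(114, -1)]), (115, [(117, -1)]), (119, [(121, -1)])]))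 (.node (.leaf [(16, [(1, -1)]), (22, [(2, -1)]), (25, [(3, -1)]), (26, [(4, -1)]), (29, [(7, -1)]), (30, [(8, -1)]), (31, [(11, -1)]), (32, [(17, -1)]), (64, [(34, 1)]), (65, [(35, -1)]), (67, [(36, 1)]), (68, [(37, -1)]), (71, [(39, 1)]), (72, [(40, -1)]), (76, [(43, 1)]), (77, [(44, -1)]), (81, [(48, 1)]), (82, [(49, -1)]), (85, [(53, 1)]), (86, [(54, -1)]), (88, [(57, 1)]), (89, [(58, -1)]), (90, [(60, 1)]), (91, [(61, -1)]), (108, [(93, 1)]), (114, [(94, 1)]), (117, [(95, 1)]), (118, [(96, 1)]), (121, [(99, 1)]), (122, [(100, 1)]), (123, [(103, 1)]), (124, [(109, 1)])]) (.leaf [(0, [(5, -1)]), (7, [(34, -1)]), (8, [(36, -1)]), (10, [(38, 1)]), (11, [(39, -1)]), (13, [(41, 1)]), (15, [(42, 1)]), (17, [(43, -1)]), (19, [(45, 1)]), (21, [(46, 1)]), (24, [(47, 1)]), (27, [(62, 1)]), (29, [(64, 1)]), (30, [(67, 1)]), (31, [(71, 1)]), (32, [(76, 1)]), (49, [(93, -1)]), (54, [(94, -1)]), (58, [(95, -1)]), (61,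 [(96, -1)]), (63, [(98, -1)]), (78, [(101, -1)]), (79, [(104, -1)]), (80, [(106, -1)]), (82, [(108, 1)]), (83, [(110, -1)]), (84, [(112, -1)]), (86, [(114, 1)]), (87, [(115, -1)]), (89, [(117, 1)]), (91, [(118, 1)]), (120, [(125, 1)])]))) (.node (.node (.leaf [(16, [(0, 1)]), (38, [(2, 1)]), (41, [(3, 1)]), (42, [(4, 1)]), (50, [(7, 1)]), (51, [(8, 1)]), (52, [(11, 1)]), (64, [(18, 1)]), (65, [(19, -1)]), (67, [(20, 1)]), (68, [(21, -1)]), (71, [(23, 1)]), (72, [(24, -1)]), (81, [(27, 1)]), (82, [(28, -1)]), (92, [(32, 1)]), (93, [(33, -1)]), (97, [(43, 1)]), (98, [(44, -1)]), (101, [(53, 1)]), (102, [(54, -1)]), (104, [(57, 1)]), (105, [(58, -1)]), (106, [(60, 1)]), (107, [(61, -1)]), (114, [(73, -1)]), (117, [(74, -1)]), (118, [(75, -1)]), (121, [(83, -1)]), (122, [(84, -1)]), (123, [(87, -1)]), (125, [(109, -1)])]) (.leaf [(2, [(9, -1)]), (3, [(12, -1)]), (4, [(14, -1)]), (6, [(16, 1)]), (17, [(27, -1)]),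 (19, [(29, 1)]), (21, [(30, 1)]), (24, [(31, 1)]), (33, [(48, -1)]), (35, [(50, 1)]), (37, [(51, 1)]), (40, [(52, 1)]), (43, [(62, 1)]), (45, [(64, 1)]), (46, [(67, 1)]), (47, [(71, 1)]), (54, [(78, -1)]), (58, [(79, -1)]), (61, [(80, -1)]), (63, [(82, -1)]), (73, [(85, -1)]), (74, [(88, -1)]), (75, [(90, -1)]), (77, [(92, 1)]), (94, [(101, -1)]), (95, [(104, -1)]), (96, [(106, -1)]), (98, [(108, 1)]), (109, [(119, -1)]), (111, [(121, 1)]), (113, [(122, 1)]), (116, [(123, 1)])])) (.node (.leaf [(5, [(1, 1)]), (18, [(7, 1)]), (20, [(8, 1)]), (22, [(10, -1)]), (23, [(11, 1)]), (25, [(13, -1)]), (26, [(15, -1)]), (32, [(28, -1)]), (43, [(33, -1)]), (45, [(35, 1)]), (46, [(37, 1)]), (47, [(40, 1)]), (62, [(48, 1)]), (64, [(50, 1)]), (67, [(51, 1)]), (71, [(52, 1)]), (73, [(54, -1)]), (74, [(58, -1)]), (75, [(61, -1)]), (77, [(63, -1)]), (85, [(78, -1)]), (88, [(79, -1)]), (90, [(80, -1)]), (92, [(82, 1)]), (97,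 [(93, 1)]), (110, [(99, 1)]), (112, [(100, 1)]), (114, [(102, -1)]), (115, [(103, 1)]), (117, [(105, -1)]), (118, [(107, -1)]), (124, [(120, -1)])]) (.leaf [(0, [(21, 1)]), (1, [(37, -1)]), (3, [(44, 1)]), (5, [(46, -1)]), (7, [(54, -1)]), (9, [(56, 1)]), (11, [(61, 1)]), (13, [(63, 1)]), (14, [(66, 1)]), (16, [(68, -1)]), (18, [(73, 1)]), (23, [(75, -1)]), (25, [(77, 1)]), (27, [(84, 1)]), (29, [(86, -1)]), (31, [(91, 1)]), (34, [(94, -1)]), (39, [(96, 1)]), (41, [(98, -1)]), (48, [(100, -1)]), (50, [(102, 1)]), (52, [(107, -1)]), (57, [(109, 1)]), (59, [(111, -1)]), (62, [(112, -1)]), (64, [(114, -1)]), (69, [(116, -1)]), (71, [(118, 1)]), (79, [(120, 1)]), (81, [(122, -1)]), (88, [(124, 1)]), (104, [(125, -1)])])))) (.node (.node (.node (.leaf [(24, [(0, -1)]), (40, [(1, 1)]), (44, [(2, 1)]), (47, [(5, 1)]), (58, [(7, -1)]), (61, [(8, 1)]), (63, [(10, 1)]), (69, [(12, 1)]), (70, [(14, -1)]), (72, [(16,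 1)]), (74, [(18, 1)]), (75, [(20, -1)]), (77, [(22, 1)]), (87, [(27, 1)]), (89, [(29, -1)]), (91, [(30, 1)]), (95, [(34, -1)]), (96, [(36, 1)]), (98, [(38, -1)]), (103, [(48, -1)]), (105, [(50, 1)]), (107, [(51, -1)]), (109, [(53, -1)]), (111, [(55, 1)]), (113, [(56, -1)]), (115, [(62, -1)]), (117, [(64, -1)]), (118, [(67, 1)]), (120, [(78, -1)]), (123, [(81, -1)]), (124, [(85, -1)]), (125, [(101, 1)])]) (.leaf [(1, [(2, -1)]), (11, [(17, -1)]), (12, [(18, -1)]), (13, [(19, -1)]), (14, [(20, -1)]), (15, [(21, -1)]), (16, [(22, -1)]), (31, [(32, -1)]), (39, [(43, -1)]), (40, [(44, -1)]), (41, [(45, -1)]), (42, [(46, -1)]), (48, [(53, 1)]), (49, [(54, 1)]), (50, [(55, 1)]), (51, [(56, 1)]), (69, [(74, -1)]), (70, [(75, -1)]), (71, [(76, -1)]), (72, [(77, -1)]), (79, [(83, 1)]), (80, [(84, 1)]), (81, [(85, 1)]), (82, [(86, 1)]), (93, [(94, 1)]), (103, [(109, 1)]), (104, [(110, 1)]), (105, [(111, 1)]), (106, [(112,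 1)]), (107, [(113, 1)]), (108, [(114, 1)]), (123, [(124, 1)])])) (.node (.leaf [(8, [(1, 1)]), (17, [(3, -1)]), (20, [(5, 1)]), (21, [(6, 1)]), (27, [(12, -1)]), (28, [(13, -1)]), (30, [(16, 1)]), (32, [(25, -1)]), (53, [(34, -1)]), (54, [(35, -1)]), (56, [(38, 1)]), (60, [(39, 1)]), (61, [(40, 1)]), (66, [(42, 1)]), (73, [(45, 1)]), (75, [(47, -1)]), (78, [(50, 1)]), (80, [(52, -1)]), (83, [(59, -1)]), (85, [(64, -1)]), (86, [(65, -1)]), (87, [(69, -1)]), (90, [(71, 1)]), (91, [(72, 1)]), (100, [(93, 1)]), (109, [(95, -1)]), (112, [(97, 1)]), (113, [(98, 1)]), (119, [(104, -1)]), (120, [(105, -1)]), (122, [(108, 1)]), (124, [(117, -1)])]) (.leaf [(0, [(13, 1)]), (2, [(35, 1)]), (4, [(40, -1)]), (5, [(41, -1)]), (8, [(49, -1)]), (9, [(50, -1)]), (14, [(52, 1)]), (17, [(58, 1)]), (18, [(59, 1)]), (21, [(63, 1)]), (22, [(65, 1)]), (23, [(69, 1)]), (26, [(72, -1)]), (27, [(79, 1)]), (30, [(82, -1)]), (32, [(89,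 1)]), (36, [(93, -1)]), (43, [(95, 1)]), (46, [(98, -1)]), (53, [(99, 1)]), (56, [(102, -1)]), (60, [(103, -1)]), (62, [(104, -1)]), (66, [(107, -1)]), (67, [(108, -1)]), (73, [(111, -1)]), (75, [(116, 1)]), (76, [(117, 1)]), (84, [(120, 1)]), (85, [(121, 1)]), (90, [(123, -1)]), (112, [(125, -1)])]))) (.node (.node (.leaf [(8, [(0, -1)]), (33, [(3, 1)]), (36, [(5, -1)]), (37, [(6, -1)]), (48, [(12, 1)]), (49, [(13, 1)]), (51, [(16, -1)]), (53, [(18, -1)]), (54, [(19, -1)]), (56, [(22, 1)]), (60, [(23, 1)]), (61, [(24, 1)]), (66, [(26, 1)]), (78, [(29, 1)]), (80, [(31, -1)]), (84, [(32, 1)]), (93, [(41, -1)]), (94, [(45, 1)]), (96, [(47, -1)]), (99, [(59, -1)]), (101, [(64, -1)]), (102, [(65, -1)]), (103, [(69, -1)]), (106, [(71, 1)]), (107, [(72, 1)]), (109, [(74, 1)]), (112, [(76, -1)]), (113, [(77, -1)]), (119, [(88, 1)]), (120, [(89, 1)]), (122, [(92, -1)]), (125, [(117, 1)])]) (.leaf [(1, [(13, -1)]),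 (2, [(19, -1)]), (4, [(24, 1)]), (5, [(25, 1)]), (8, [(28, 1)]), (9, [(29, 1)]), (14, [(31, -1)]), (20, [(32, -1)]), (33, [(58, 1)]), (34, [(59, 1)]), (37, [(63, 1)]), (38, [(65, 1)]), (39, [(69, 1)]), (42, [(72, -1)]), (43, [(74, 1)]), (46, [(77, -1)]), (48, [(79, 1)]), (51, [(82, -1)]), (53, [(83, 1)]), (56, [(86, -1)]), (60, [(87, -1)]), (62, [(88, -1)]), (66, [(91, -1)]), (67, [(92, -1)]), (93, [(105, 1)]), (94, [(111, 1)]), (96, [(116, -1)]), (97, [(117, -1)]), (100, [(120, -1)]), (101, [(121, -1)]), (106, [(123, 1)]), (112, [(124, 1)])])) (.node (.leaf [(6, [(3, -1)]), (10, [(7, -1)]), (15, [(11, 1)]), (16, [(12, 1)]), (21, [(17, 1)]), (22, [(18, 1)]), (26, [(23, -1)]), (30, [(27, -1)]), (37, [(33, 1)]), (38, [(34, 1)]), (42, [(39, -1)]), (46, [(43, -1)]), (51, [(48, -1)]), (56, [(53, -1)]), (63, [(58, 1)]), (65, [(59, 1)]), (66, [(60, -1)]), (67, [(62, -1)]), (72, [(69, 1)]), (77, [(74, 1)]), (82, [(79,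 1)]), (86, [(83, 1)]), (91, [(87, -1)]), (92, [(88, -1)]), (98, [(95, 1)]), (102, [(99, 1)]), (107, [(103, -1)]), (108, [(104, -1)]), (113, [(109, -1)]), (114, [(110, -1)]), (118, [(115, 1)]), (122, [(119, 1)])]) (.leaf [(0, [(29, -1)]), (1, [(50, 1)]), (2, [(55, -1)]), (3, [(59, 1)]), (5, [(64, 1)]), (6, [(65, -1)]), (8, [(78, 1)]), (11, [(79, -1)]), (14, [(81, 1)]), (15, [(82, -1)]), (17, [(83, 1)]), (20, [(85, -1)]), (21, [(86, 1)]), (23, [(88, 1)]), (24, [(89, -1)]), (26, [(92, 1)]), (33, [(99, -1)]), (36, [(101, 1)]), (37, [(102, -1)]), (39, [(104, -1)]), (40, [(105, 1)]), (42, [(108, -1)]), (43, [(110, 1)]), (44, [(111, -1)]), (46, [(114, 1)]), (47, [(117, -1)]), (60, [(119, 1)]), (61, [(120, -1)]), (66, [(122, -1)]), (70, [(123, 1)]), (75, [(124, -1)]), (96, [(125, 1)])]))))) (.node (.node (.node (.node (.leaf [(28, [(0, 1)]), (49, [(1, -1)]), (54, [(2, 1)]), (58, [(3, -1)]), (61, [(4, 1)]), (63, [(6,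 1)]), (78, [(9, 1)]), (79, [(12, -1)]), (80, [(14, 1)]), (82, [(16, -1)]), (83, [(18, 1)]), (84, [(20, -1)]), (86, [(22, 1)]), (87, [(23, 1)]), (89, [(25, -1)]), (91, [(26, 1)]), (99, [(34, -1)]), (100, [(36, 1)]), (102, [(38, -1)]), (103, [(39, -1)]), (105, [(41, 1)]), (107, [(42, -1)]), (109, [(43, 1)]), (111, [(45, -1)]), (113, [(46, 1)]), (116, [(47, -1)]), (119, [(62, -1)]), (121, [(64, -1)]), (122, [(67, 1)]), (123, [(71, -1)]), (124, [(76, 1)]), (125, [(97, -1)])]) (.leaf [(2, [(3, -1)]), (8, [(11, -1)]), (9, [(12, -1)]), (10, [(13, -1)]), (20, [(23, -1)]), (21, [(24, -1)]), (22, [(25, -1)]), (30, [(31, -1)]), (36, [(39, -1)]), (37, [(40, -1)]), (38, [(41, -1)]), (46, [(47, -1)]), (51, [(52, -1)]), (53, [(57, 1)]), (54, [(58, 1)]), (55, [(59, 1)]), (66, [(70, -1)]), (67, [(71, -1)]), (68, [(72, -1)]), (73, [(74, 1)]), (78, [(79, 1)]), (84, [(87, 1)]), (85, [(88, 1)]), (86, [(89, 1)]), (94, [(95, 1)]),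 (100, [(103, 1)]), (101, [(104, 1)]), (102, [(105, 1)]), (112, [(115, 1)]), (113, [(116, 1)]), (114, [(117, 1)]), (122, [(123, 1)])])) (.node (.leaf [(12, [(1, 1)]), (18, [(2, 1)]), (23, [(4, -1)]), (25, [(6, 1)]), (27, [(8, -1)]), (29, [(10, 1)]), (31, [(15, -1)]), (32, [(21, -1)]), (57, [(33, -1)]), (59, [(35, 1)]), (62, [(36, 1)]), (64, [(38, 1)]), (69, [(40, 1)]), (71, [(42, -1)]), (74, [(44, 1)]), (76, [(46, -1)]), (79, [(49, 1)]), (81, [(51, -1)]), (83, [(54, 1)]), (85, [(56, -1)]), (87, [(61, -1)]), (89, [(63, -1)]), (90, [(66, -1)]), (92, [(68, 1)]), (104, [(93, 1)]), (110, [(94, 1)]), (115, [(96, -1)]), (117, [(98, 1)]), (119, [(100, -1)]), (121, [(102, 1)]), (123, [(107, -1)]), (124, [(113, -1)])]) (.leaf [(0, [(9, 1)]), (3, [(34, -1)]), (4, [(36, -1)]), (6, [(38, 1)]), (11, [(48, 1)]), (13, [(50, -1)]), (15, [(51, -1)]), (17, [(53, -1)]), (19, [(55, 1)]), (21, [(56, 1)]), (23, [(62, 1)]), (25, [(64,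 1)]), (26, [(67, 1)]), (28, [(78, 1)]), (31, [(81, -1)]), (32, [(85, 1)]), (40, [(93, -1)]), (44, [(94, 1)]), (47, [(97, -1)]), (58, [(99, -1)]), (61, [(100, -1)]), (63, [(102, -1)]), (69, [(104, -1)]), (70, [(106, -1)]), (72, [(108, 1)]), (74, [(110, 1)]), (75, [(112, 1)]), (77, [(114, -1)]), (87, [(119, -1)]), (89, [(121, 1)]), (91, [(122, 1)]), (116, [(125, -1)])]))) (.node (.node (.leaf [(12, [(0, -1)]), (34, [(2, -1)]), (39, [(4, 1)]), (41, [(6, -1)]), (48, [(8, 1)]), (50, [(10, -1)]), (52, [(15, 1)]), (57, [(17, -1)]), (59, [(19, 1)]), (62, [(20, 1)]), (64, [(22, 1)]), (69, [(24, 1)]), (71, [(26, -1)]), (79, [(28, 1)]), (81, [(30, -1)]), (88, [(32, 1)]), (93, [(37, -1)]), (95, [(44, 1)]), (97, [(46, -1)]), (99, [(54, 1)]), (101, [(56, -1)]), (103, [(61, -1)]), (105, [(63, -1)]), (106, [(66, -1)]), (108, [(68, 1)]), (110, [(73, -1)]), (115, [(75, 1)]), (117, [(77, -1)]), (119, [(84, 1)]), (121, [(86,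 -1)]), (123, [(91, 1)]), (125, [(113, 1)])]) (.leaf [(1, [(9, -1)]), (3, [(18, 1)]), (4, [(20, 1)]), (6, [(22, -1)]), (11, [(27, -1)]), (13, [(29, 1)]), (15, [(30, 1)]), (24, [(32, -1)]), (33, [(53, -1)]), (35, [(55, 1)]), (37, [(56, 1)]), (39, [(62, 1)]), (41, [(64, 1)]), (42, [(67, 1)]), (44, [(73, 1)]), (47, [(76, -1)]), (49, [(78, 1)]), (52, [(81, -1)]), (58, [(83, -1)]), (61, [(84, -1)]), (63, [(86, -1)]), (69, [(88, -1)]), (70, [(90, -1)]), (72, [(92, 1)]), (93, [(101, 1)]), (95, [(110, -1)]), (96, [(112, -1)]), (98, [(114, 1)]), (103, [(119, 1)]), (105, [(121, -1)]), (107, [(122, -1)]), (116, [(124, 1)])])) (.node (.leaf [(6, [(2, 1)]), (13, [(7, -1)]), (15, [(8, -1)]), (16, [(9, -1)]), (24, [(17, 1)]), (25, [(18, 1)]), (26, [(20, 1)]), (31, [(27, -1)]), (40, [(33, 1)]), (41, [(34, 1)]), (42, [(36, 1)]), (47, [(43, -1)]), (52, [(48, -1)]), (63, [(54, 1)]), (65, [(55, 1)]), (68, [(56, 1)]), (69, [(57,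 -1)]), (70, [(60, -1)]), (71, [(62, -1)]), (77, [(73, 1)]), (82, [(78, 1)]), (89, [(83, -1)]), (91, [(84, -1)]), (92, [(85, -1)]), (98, [(94, 1)]), (105, [(99, -1)]), (107, [(100, -1)]), (108, [(101, -1)]), (116, [(109, 1)]), (117, [(110, 1)]), (118, [(112, 1)]), (123, [(119, -1)])]) (.leaf [(0, [(25, 1)]), (1, [(41, -1)]), (2, [(45, -1)]), (4, [(47, 1)]), (7, [(59, 1)]), (9, [(64, 1)]), (10, [(65, -1)]), (11, [(69, 1)]), (14, [(71, -1)]), (15, [(72, 1)]), (17, [(74, 1)]), (20, [(76, -1)]), (21, [(77, 1)]), (27, [(88, 1)]), (28, [(89, -1)]), (30, [(92, 1)]), (33, [(95, -1)]), (36, [(97, 1)]), (37, [(98, -1)]), (48, [(104, -1)]), (49, [(105, 1)]), (51, [(108, -1)]), (53, [(110, -1)]), (54, [(111, 1)]), (56, [(114, -1)]), (60, [(115, 1)]), (61, [(116, -1)]), (66, [(118, -1)]), (78, [(121, -1)]), (80, [(123, 1)]), (84, [(124, 1)]), (100, [(125, -1)])])))) (.node (.node (.node (.leaf [(20, [(0, -1)]), (36, [(1,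 1)]), (43, [(3, -1)]), (46, [(6, -1)]), (53, [(7, 1)]), (56, [(10, 1)]), (60, [(11, -1)]), (62, [(12, 1)]), (66, [(15, 1)]), (67, [(16, -1)]), (73, [(19, 1)]), (75, [(24, -1)]), (76, [(25, 1)]), (84, [(28, 1)]), (85, [(29, -1)]), (90, [(31, 1)]), (94, [(35, -1)]), (96, [(40, 1)]), (97, [(41, -1)]), (100, [(49, -1)]), (101, [(50, 1)]), (106, [(52, -1)]), (109, [(58, 1)]), (110, [(59, -1)]), (113, [(63, -1)]), (114, [(65, 1)]), (115, [(69, -1)]), (118, [(72, -1)]), (119, [(79, 1)]), (122, [(82, 1)]), (124, [(89, -1)]), (125, [(105, 1)])]) (.leaf [(1, [(6, -1)]), (7, [(19, -1)]), (8, [(21, -1)]), (9, [(22, -1)]), (11, [(24, -1)]), (12, [(25, -1)]), (14, [(26, -1)]), (27, [(32, -1)]), (33, [(44, 1)]), (34, [(45, 1)]), (36, [(46, 1)]), (39, [(47, 1)]), (49, [(63, 1)]), (50, [(65, 1)]), (51, [(68, 1)]), (52, [(72, 1)]), (53, [(73, -1)]), (57, [(74, -1)]), (60, [(75, -1)]), (62, [(76, -1)]), (78, [(86, -1)]), (79,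 [(89, -1)]), (80, [(91, -1)]), (81, [(92, -1)]), (93, [(98, 1)]), (99, [(111, 1)]), (100, [(113, 1)]), (101, [(114, 1)]), (103, [(116, 1)]), (104, [(117, 1)]), (106, [(118, 1)]), (119, [(124, 1)])])) (.node (.leaf [(8, [(2, 1)]), (11, [(3, 1)]), (14, [(5, -1)]), (15, [(6, -1)]), (27, [(18, -1)]), (28, [(19, -1)]), (30, [(22, 1)]), (31, [(25, 1)]), (48, [(34, -1)]), (49, [(35, -1)]), (51, [(38, 1)]), (52, [(41, 1)]), (60, [(43, 1)]), (61, [(44, 1)]), (66, [(46, 1)]), (70, [(47, 1)]), (78, [(55, -1)]), (79, [(59, -1)]), (81, [(64, -1)]), (82, [(65, -1)]), (84, [(73, -1)]), (87, [(74, -1)]), (90, [(76, 1)]), (91, [(77, 1)]), (100, [(94, -1)]), (103, [(95, -1)]), (106, [(97, 1)]), (107, [(98, 1)]), (119, [(110, 1)]), (120, [(111, 1)]), (122, [(114, -1)]), (123, [(117, -1)])]) (.leaf [(0, [(17, -1)]), (1, [(33, 1)]), (5, [(43, -1)]), (6, [(44, -1)]), (9, [(53, 1)]), (10, [(54, 1)]), (12, [(57, -1)]), (13, [(58,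 -1)]), (14, [(60, 1)]), (15, [(61, 1)]), (22, [(73, 1)]), (25, [(74, -1)]), (26, [(75, 1)]), (29, [(83, 1)]), (30, [(84, -1)]), (31, [(87, 1)]), (38, [(94, -1)]), (41, [(95, 1)]), (42, [(96, -1)]), (50, [(99, -1)]), (51, [(100, 1)]), (52, [(103, -1)]), (64, [(110, -1)]), (65, [(111, -1)]), (67, [(112, 1)]), (68, [(113, 1)]), (71, [(115, -1)]), (72, [(116, -1)]), (81, [(119, 1)]), (82, [(120, 1)]), (92, [(124, -1)]), (108, [(125, 1)])]))) (.node (.node (.leaf [(4, [(0, 1)]), (33, [(7, 1)]), (36, [(9, -1)]), (37, [(10, -1)]), (39, [(12, -1)]), (40, [(13, -1)]), (42, [(16, 1)]), (43, [(18, -1)]), (44, [(19, -1)]), (46, [(22, 1)]), (47, [(25, 1)]), (60, [(27, 1)]), (61, [(28, 1)]), (66, [(30, 1)]), (70, [(31, 1)]), (75, [(32, 1)]), (93, [(50, -1)]), (94, [(55, -1)]), (95, [(59, -1)]), (97, [(64, -1)]), (98, [(65, -1)]), (100, [(78, -1)]), (103, [(79, -1)]), (106, [(81, 1)]), (107, [(82, 1)]), (109, [(83, -1)]),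 (112, [(85, 1)]), (113, [(86, 1)]), (115, [(88, 1)]), (116, [(89, 1)]), (118, [(92, -1)]), (125, [(121, -1)])]) (.leaf [(0, [(1, -1)]), (17, [(33, 1)]), (18, [(34, 1)]), (19, [(35, 1)]), (20, [(36, 1)]), (21, [(37, 1)]), (22, [(38, 1)]), (23, [(39, 1)]), (24, [(40, 1)]), (25, [(41, 1)]), (26, [(42, 1)]), (27, [(48, 1)]), (28, [(49, 1)]), (29, [(50, 1)]), (30, [(51, 1)]), (31, [(52, 1)]), (73, [(94, -1)]), (74, [(95, -1)]), (75, [(96, -1)]), (76, [(97, -1)]), (77, [(98, -1)]), (83, [(99, -1)]), (84, [(100, -1)]), (85, [(101, -1)]), (86, [(102, -1)]), (87, [(103, -1)]), (88, [(104, -1)]), (89, [(105, -1)]), (90, [(106, -1)]), (91, [(107, -1)]), (92, [(108, -1)]), (124, [(125, 1)])])) (.node (.leaf [(5, [(4, -1)]), (9, [(8, -1)]), (12, [(11, -1)]), (16, [(15, -1)]), (18, [(17, -1)]), (22, [(21, -1)]), (25, [(24, -1)]), (29, [(28, -1)]), (34, [(33, -1)]), (38, [(37, -1)]), (41, [(40, -1)]), (45, [(44, -1)]), (50,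 [(49, -1)]), (55, [(54, -1)]), (59, [(58, -1)]), (62, [(60, 1)]), (65, [(63, -1)]), (67, [(66, 1)]), (71, [(70, 1)]), (76, [(75, 1)]), (81, [(80, 1)]), (85, [(84, 1)]), (88, [(87, 1)]), (92, [(91, 1)]), (97, [(96, 1)]), (101, [(100, 1)]), (104, [(103, 1)]), (108, [(107, 1)]), (110, [(109, 1)]), (114, [(113, 1)]), (117, [(116, 1)]), (121, [(120, 1)])]) (.leaf [(1, [(93, 1)]), (2, [(94, -1)]), (3, [(95, 1)]), (4, [(96, -1)]), (5, [(97, 1)]), (6, [(98, -1)]), (7, [(99, -1)]), (8, [(100, 1)]), (9, [(101, -1)]), (10, [(102, 1)]), (11, [(103, -1)]), (12, [(104, 1)]), (13, [(105, -1)]), (14, [(106, -1)]), (15, [(107, 1)]), (16, [(108, -1)]), (17, [(109, 1)]), (18, [(110, -1)]), (19, [(111, 1)]), (20, [(112, 1)]), (21, [(113, -1)]), (22, [(114, 1)]), (23, [(115, -1)]), (24, [(116, 1)]), (25, [(117, -1)]), (26, [(118, 1)]), (27, [(119, 1)]), (28, [(120, -1)]), (29, [(121, 1)]), (30, [(122, -1)]), (31, [(123, 1)]),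 (32, [(124, -1)])])))))) (.node (.node (.node (.node (.node (.leaf [(30, [(0, 1)]), (51, [(1, -1)]), (56, [(2, 1)]), (66, [(4, 1)]), (67, [(5, -1)]), (68, [(6, 1)]), (78, [(7, 1)]), (80, [(11, -1)]), (81, [(12, 1)]), (82, [(13, -1)]), (84, [(17, 1)]), (85, [(18, -1)]), (86, [(19, 1)]), (90, [(23, 1)]), (91, [(24, -1)]), (92, [(25, 1)]), (100, [(33, -1)]), (101, [(34, 1)]), (102, [(35, -1)]), (106, [(39, -1)]), (107, [(40, 1)]), (108, [(41, -1)]), (112, [(43, 1)]), (113, [(44, -1)]), (114, [(45, 1)]), (118, [(47, -1)]), (119, [(57, -1)]), (120, [(58, 1)]), (121, [(59, -1)]), (123, [(69, -1)]), (124, [(74, 1)]), (125, [(95, -1)])]) (.leaf [(3, [(5, 1)]), (7, [(9, 1)]), (11, [(14, -1)]), (13, [(16, 1)]), (17, [(20, -1)]), (19, [(22, 1)]), (24, [(26, -1)]), (28, [(30, -1)]), (33, [(36, -1)]), (35, [(38, 1)]), (40, [(42, -1)]), (44, [(46, -1)]), (49, [(51, -1)]), (54, [(56, -1)]), (57, [(62, 1)]), (59, [(64, 1)]),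 (61, [(66, -1)]), (63, [(68, -1)]), (69, [(71, 1)]), (74, [(76, 1)]), (79, [(81, 1)]), (83, [(85, 1)]), (87, [(90, -1)]), (89, [(92, 1)]), (95, [(97, 1)]), (99, [(101, 1)]), (103, [(106, -1)]), (105, [(108, 1)]), (109, [(112, -1)]), (111, [(114, 1)]), (116, [(118, -1)]), (120, [(122, -1)])])) (.node (.leaf [(14, [(1, -1)]), (20, [(2, -1)]), (23, [(3, -1)]), (26, [(6, -1)]), (27, [(7, -1)]), (30, [(10, -1)]), (31, [(13, -1)]), (32, [(19, -1)]), (60, [(33, -1)]), (62, [(34, 1)]), (66, [(37, 1)]), (67, [(38, -1)]), (70, [(40, 1)]), (71, [(41, -1)]), (75, [(44, 1)]), (76, [(45, -1)]), (80, [(49, 1)]), (81, [(50, -1)]), (84, [(54, 1)]), (85, [(55, -1)]), (87, [(58, 1)]), (88, [(59, -1)]), (91, [(63, -1)]), (92, [(65, 1)]), (106, [(93, 1)]), (112, [(94, 1)]), (115, [(95, 1)]), (118, [(98, 1)]), (119, [(99, 1)]), (122, [(102, 1)]), (123, [(105, 1)]), (124, [(111, 1)])]) (.leaf [(0, [(7, 1)]), (4, [(33, 1)]), (5,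 [(34, 1)]), (6, [(35, 1)]), (14, [(48, 1)]), (15, [(49, 1)]), (16, [(50, 1)]), (20, [(53, -1)]), (21, [(54, -1)]), (22, [(55, -1)]), (23, [(57, 1)]), (24, [(58, 1)]), (25, [(59, 1)]), (30, [(78, 1)]), (31, [(79, -1)]), (32, [(83, 1)]), (42, [(93, -1)]), (46, [(94, 1)]), (47, [(95, -1)]), (66, [(100, -1)]), (67, [(101, -1)]), (68, [(102, -1)]), (70, [(103, 1)]), (71, [(104, 1)]), (72, [(105, 1)]), (75, [(109, -1)]), (76, [(110, -1)]), (77, [(111, -1)]), (90, [(119, -1)]), (91, [(120, -1)]), (92, [(121, -1)]), (118, [(125, -1)])]))) (.node (.node (.leaf [(14, [(0, 1)]), (36, [(2, 1)]), (39, [(3, 1)]), (42, [(6, 1)]), (48, [(7, 1)]), (51, [(10, 1)]), (52, [(13, 1)]), (60, [(17, -1)]), (62, [(18, 1)]), (66, [(21, 1)]), (67, [(22, -1)]), (70, [(24, 1)]), (71, [(25, -1)]), (80, [(28, 1)]), (81, [(29, -1)]), (90, [(32, 1)]), (93, [(35, -1)]), (96, [(44, 1)]), (97, [(45, -1)]), (100, [(54, 1)]), (101, [(55, -1)]),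 (103, [(58, 1)]), (104, [(59, -1)]), (107, [(63, -1)]), (108, [(65, 1)]), (112, [(73, -1)]), (115, [(74, -1)]), (118, [(77, -1)]), (119, [(83, -1)]), (122, [(86, -1)]), (123, [(89, -1)]), (125, [(111, -1)])]) (.leaf [(1, [(7, -1)]), (4, [(17, -1)]), (5, [(18, -1)]), (6, [(19, -1)]), (14, [(27, -1)]), (15, [(28, -1)]), (16, [(29, -1)]), (26, [(32, -1)]), (36, [(53, -1)]), (37, [(54, -1)]), (38, [(55, -1)]), (39, [(57, 1)]), (40, [(58, 1)]), (41, [(59, 1)]), (46, [(73, 1)]), (47, [(74, -1)]), (51, [(78, 1)]), (52, [(79, -1)]), (66, [(84, -1)]), (67, [(85, -1)]), (68, [(86, -1)]), (70, [(87, 1)]), (71, [(88, 1)]), (72, [(89, 1)]), (93, [(99, 1)]), (96, [(109, 1)]), (97, [(110, 1)]), (98, [(111, 1)]), (106, [(119, 1)]), (107, [(120, 1)]), (108, [(121, 1)]), (118, [(124, 1)])])) (.node (.leaf [(3, [(1, 1)]), (17, [(8, -1)]), (18, [(9, -1)]), (19, [(10, -1)]), (23, [(14, 1)]), (24, [(15, 1)]), (25, [(16, 1)]), (32,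 [(30, -1)]), (43, [(36, -1)]), (44, [(37, -1)]), (45, [(38, -1)]), (47, [(42, 1)]), (57, [(48, 1)]), (58, [(49, 1)]), (59, [(50, 1)]), (69, [(52, 1)]), (73, [(56, -1)]), (75, [(66, -1)]), (76, [(67, -1)]), (77, [(68, -1)]), (83, [(78, -1)]), (87, [(80, 1)]), (88, [(81, 1)]), (89, [(82, 1)]), (95, [(93, 1)]), (109, [(100, -1)]), (110, [(101, -1)]), (111, [(102, -1)]), (115, [(106, 1)]), (116, [(107, 1)]), (117, [(108, 1)]), (124, [(122, -1)])]) (.leaf [(0, [(23, 1)]), (1, [(39, -1)]), (2, [(43, -1)]), (6, [(47, 1)]), (7, [(57, 1)]), (8, [(60, -1)]), (9, [(62, 1)]), (13, [(69, 1)]), (15, [(70, -1)]), (16, [(71, 1)]), (19, [(74, 1)]), (21, [(75, -1)]), (22, [(76, 1)]), (28, [(87, 1)]), (29, [(88, -1)]), (30, [(90, 1)]), (35, [(95, -1)]), (37, [(96, 1)]), (38, [(97, -1)]), (49, [(103, -1)]), (50, [(104, 1)]), (51, [(106, -1)]), (54, [(109, -1)]), (55, [(110, 1)]), (56, [(112, -1)]), (63, [(116, -1)]), (65, [(117,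 1)]), (68, [(118, -1)]), (78, [(119, -1)]), (82, [(123, 1)]), (86, [(124, 1)]), (102, [(125, -1)])])))) (.node (.node (.node (.leaf [(22, [(0, -1)]), (38, [(1, 1)]), (45, [(3, -1)]), (46, [(4, -1)]), (55, [(7, 1)]), (56, [(8, 1)]), (64, [(12, 1)]), (65, [(13, -1)]), (67, [(14, 1)]), (68, [(15, -1)]), (73, [(17, 1)]), (76, [(23, -1)]), (77, [(24, 1)]), (85, [(27, 1)]), (86, [(28, -1)]), (92, [(31, 1)]), (94, [(33, -1)]), (97, [(39, 1)]), (98, [(40, -1)]), (101, [(48, -1)]), (102, [(49, 1)]), (108, [(52, -1)]), (110, [(57, 1)]), (111, [(58, -1)]), (112, [(60, 1)]), (113, [(61, -1)]), (117, [(69, -1)]), (118, [(70, -1)]), (121, [(79, 1)]), (122, [(80, 1)]), (124, [(87, -1)]), (125, [(103, 1)])]) (.leaf [(1, [(4, -1)]), (7, [(17, -1)]), (9, [(20, 1)]), (10, [(21, 1)]), (12, [(23, 1)]), (13, [(24, 1)]), (16, [(26, -1)]), (29, [(32, -1)]), (34, [(43, -1)]), (35, [(44, -1)]), (38, [(46, 1)]), (41, [(47, 1)]), (48,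 [(60, 1)]), (49, [(61, 1)]), (51, [(66, 1)]), (52, [(70, 1)]), (55, [(73, -1)]), (59, [(74, -1)]), (64, [(76, -1)]), (65, [(77, -1)]), (78, [(84, -1)]), (79, [(87, -1)]), (81, [(90, 1)]), (82, [(91, 1)]), (93, [(96, 1)]), (99, [(109, 1)]), (101, [(112, -1)]), (102, [(113, -1)]), (104, [(115, -1)]), (105, [(116, -1)]), (108, [(118, 1)]), (121, [(124, 1)])])) (.node (.leaf [(10, [(2, 1)]), (13, [(3, 1)]), (15, [(4, 1)]), (16, [(5, 1)]), (28, [(17, 1)]), (29, [(18, 1)]), (30, [(20, 1)]), (31, [(23, 1)]), (49, [(33, 1)]), (50, [(34, 1)]), (51, [(36, 1)]), (52, [(39, 1)]), (63, [(44, 1)]), (65, [(45, 1)]), (68, [(46, 1)]), (72, [(47, 1)]), (78, [(53, -1)]), (79, [(57, -1)]), (80, [(60, -1)]), (81, [(62, -1)]), (86, [(73, -1)]), (89, [(74, -1)]), (91, [(75, -1)]), (92, [(76, -1)]), (102, [(94, -1)]), (105, [(95, -1)]), (107, [(96, -1)]), (108, [(97, -1)]), (120, [(109, -1)]), (121, [(110, -1)]), (122, [(112, -1)]),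 (123, [(115, -1)])]) (.leaf [(0, [(15, -1)]), (2, [(37, -1)]), (3, [(40, -1)]), (5, [(42, 1)]), (7, [(49, -1)]), (9, [(51, 1)]), (12, [(52, 1)]), (17, [(61, 1)]), (19, [(63, 1)]), (20, [(66, 1)]), (22, [(68, -1)]), (23, [(70, 1)]), (25, [(72, -1)]), (27, [(80, 1)]), (29, [(82, -1)]), (32, [(91, 1)]), (34, [(93, -1)]), (43, [(96, 1)]), (45, [(98, -1)]), (53, [(100, 1)]), (55, [(102, -1)]), (57, [(103, 1)]), (59, [(105, -1)]), (62, [(106, -1)]), (64, [(108, -1)]), (73, [(113, -1)]), (74, [(116, -1)]), (76, [(118, 1)]), (83, [(120, -1)]), (85, [(122, 1)]), (88, [(123, 1)]), (110, [(125, 1)])]))) (.node (.node (.leaf [(6, [(0, 1)]), (35, [(7, 1)]), (37, [(8, 1)]), (38, [(9, 1)]), (40, [(11, 1)]), (41, [(12, 1)]), (42, [(14, 1)]), (44, [(17, 1)]), (45, [(18, 1)]), (46, [(20, 1)]), (47, [(23, 1)]), (63, [(28, 1)]), (65, [(29, 1)]), (68, [(30, 1)]), (72, [(31, 1)]), (77, [(32, 1)]), (93, [(48, -1)]), (94, [(53, -1)]),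 (95, [(57, -1)]), (96, [(60, -1)]), (97, [(62, -1)]), (102, [(78, -1)]), (105, [(79, -1)]), (107, [(80, -1)]), (108, [(81, -1)]), (111, [(83, -1)]), (113, [(84, -1)]), (114, [(85, -1)]), (116, [(87, -1)]), (117, [(88, -1)]), (118, [(90, -1)]), (125, [(119, -1)])]) (.leaf [(1, [(15, 1)]), (2, [(21, 1)]), (3, [(24, 1)]), (5, [(26, -1)]), (7, [(28, 1)]), (9, [(30, -1)]), (12, [(31, -1)]), (18, [(32, -1)]), (33, [(61, 1)]), (35, [(63, 1)]), (36, [(66, 1)]), (38, [(68, -1)]), (39, [(70, 1)]), (41, [(72, -1)]), (43, [(75, 1)]), (45, [(77, -1)]), (48, [(80, 1)]), (50, [(82, -1)]), (53, [(84, 1)]), (55, [(86, -1)]), (57, [(87, 1)]), (59, [(89, -1)]), (62, [(90, -1)]), (64, [(92, -1)]), (93, [(107, 1)]), (94, [(113, 1)]), (95, [(116, 1)]), (97, [(118, -1)]), (99, [(120, 1)]), (101, [(122, -1)]), (104, [(123, -1)]), (110, [(124, -1)])])) (.node (.leaf [(4, [(3, -1)]), (8, [(7, -1)]), (14, [(12, -1)]), (15, [(13, -1)]),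 (20, [(18, -1)]), (21, [(19, -1)]), (26, [(25, -1)]), (30, [(29, -1)]), (36, [(34, -1)]), (37, [(35, -1)]), (42, [(41, -1)]), (46, [(45, -1)]), (51, [(50, -1)]), (56, [(55, -1)]), (60, [(57, 1)]), (61, [(58, 1)]), (67, [(64, -1)]), (68, [(65, -1)]), (70, [(69, 1)]), (75, [(74, 1)]), (80, [(79, 1)]), (84, [(83, 1)]), (90, [(88, 1)]), (91, [(89, 1)]), (96, [(95, 1)]), (100, [(99, 1)]), (106, [(104, 1)]), (107, [(105, 1)]), (112, [(110, 1)]), (113, [(111, 1)]), (118, [(117, 1)]), (122, [(121, 1)])]) (.leaf [(0, [(31, -1)]), (1, [(52, 1)]), (3, [(69, 1)]), (4, [(70, -1)]), (5, [(71, 1)]), (6, [(72, -1)]), (7, [(79, 1)]), (8, [(80, -1)]), (9, [(81, 1)]), (10, [(82, -1)]), (17, [(87, 1)]), (18, [(88, -1)]), (19, [(89, 1)]), (20, [(90, 1)]), (21, [(91, -1)]), (22, [(92, 1)]), (33, [(103, -1)]), (34, [(104, 1)]), (35, [(105, -1)]), (36, [(106, -1)]), (37, [(107, 1)]), (38, [(108, -1)]), (43, [(115, 1)]), (44, [(116,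 -1)]), (45, [(117, 1)]), (46, [(118, -1)]), (53, [(119, 1)]), (54, [(120, -1)]), (55, [(121, 1)]), (56, [(122, -1)]), (73, [(124, -1)]), (94, [(125, 1)])]))))) (.node (.node (.node (.node (.leaf [(26, [(0, -1)]), (42, [(1, 1)]), (46, [(2, 1)]), (47, [(3, 1)]), (66, [(8, 1)]), (67, [(9, -1)]), (68, [(10, 1)]), (70, [(11, 1)]), (71, [(12, -1)]), (72, [(13, 1)]), (75, [(17, 1)]), (76, [(18, -1)]), (77, [(19, 1)]), (90, [(27, 1)]), (91, [(28, -1)]), (92, [(29, 1)]), (96, [(33, -1)]), (97, [(34, 1)]), (98, [(35, -1)]), (106, [(48, -1)]), (107, [(49, 1)]), (108, [(50, -1)]), (112, [(53, -1)]), (113, [(54, 1)]), (114, [(55, -1)]), (115, [(57, -1)]), (116, [(58, 1)]), (117, [(59, -1)]), (122, [(78, -1)]), (123, [(79, -1)]), (124, [(83, -1)]), (125, [(99, 1)])]) (.leaf [(2, [(5, -1)]), (7, [(12, 1)]), (8, [(14, 1)]), (10, [(16, -1)]), (17, [(23, -1)]), (19, [(25, 1)]), (21, [(26, 1)]), (28, [(31, -1)]), (33, [(39,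 -1)]), (35, [(41, 1)]), (37, [(42, 1)]), (44, [(47, -1)]), (49, [(52, -1)]), (53, [(62, 1)]), (55, [(64, 1)]), (56, [(67, 1)]), (58, [(69, -1)]), (61, [(70, -1)]), (63, [(72, -1)]), (73, [(76, 1)]), (78, [(81, 1)]), (83, [(88, -1)]), (84, [(90, -1)]), (86, [(92, 1)]), (94, [(97, 1)]), (99, [(104, -1)]), (100, [(106, -1)]), (102, [(108, 1)]), (109, [(115, 1)]), (111, [(117, -1)]), (113, [(118, -1)]), (120, [(123, 1)])])) (.node (.leaf [(10, [(1, 1)]), (19, [(3, -1)]), (21, [(4, -1)]), (22, [(5, -1)]), (28, [(11, 1)]), (29, [(12, 1)]), (30, [(14, 1)]), (32, [(23, -1)]), (54, [(33, 1)]), (55, [(34, 1)]), (56, [(36, 1)]), (63, [(40, 1)]), (65, [(41, 1)]), (68, [(42, 1)]), (73, [(43, 1)]), (77, [(47, -1)]), (78, [(48, 1)]), (82, [(52, -1)]), (83, [(57, -1)]), (84, [(60, -1)]), (85, [(62, -1)]), (89, [(69, -1)]), (91, [(70, -1)]), (92, [(71, -1)]), (102, [(93, 1)]), (111, [(95, -1)]), (113, [(96, -1)]), (114, [(97,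 -1)]), (120, [(103, 1)]), (121, [(104, 1)]), (122, [(106, 1)]), (124, [(115, -1)])]) (.leaf [(0, [(11, 1)]), (2, [(33, 1)]), (5, [(39, 1)]), (6, [(40, 1)]), (9, [(48, 1)]), (10, [(49, 1)]), (16, [(52, 1)]), (18, [(57, -1)]), (19, [(58, -1)]), (20, [(60, 1)]), (21, [(61, 1)]), (25, [(69, 1)]), (26, [(70, -1)]), (29, [(79, 1)]), (30, [(80, -1)]), (32, [(87, 1)]), (38, [(93, -1)]), (45, [(95, 1)]), (46, [(96, -1)]), (55, [(99, 1)]), (56, [(100, -1)]), (64, [(104, -1)]), (65, [(105, -1)]), (67, [(106, 1)]), (68, [(107, 1)]), (73, [(109, -1)]), (76, [(115, -1)]), (77, [(116, -1)]), (85, [(119, -1)]), (86, [(120, -1)]), (92, [(123, -1)]), (114, [(125, -1)])]))) (.node (.node (.leaf [(10, [(0, -1)]), (35, [(3, 1)]), (37, [(4, 1)]), (38, [(5, 1)]), (49, [(11, -1)]), (50, [(12, -1)]), (51, [(14, -1)]), (54, [(17, 1)]), (55, [(18, 1)]), (56, [(20, 1)]), (63, [(24, 1)]), (65, [(25, 1)]), (68, [(26, 1)]), (78, [(27, 1)]),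 (82, [(31, -1)]), (86, [(32, 1)]), (93, [(39, -1)]), (94, [(43, 1)]), (98, [(47, -1)]), (99, [(57, -1)]), (100, [(60, -1)]), (101, [(62, -1)]), (105, [(69, -1)]), (107, [(70, -1)]), (108, [(71, -1)]), (111, [(74, 1)]), (113, [(75, 1)]), (114, [(76, 1)]), (120, [(87, -1)]), (121, [(88, -1)]), (122, [(90, -1)]), (125, [(115, 1)])]) (.leaf [(1, [(11, -1)]), (2, [(17, -1)]), (5, [(23, -1)]), (6, [(24, -1)]), (9, [(27, -1)]), (10, [(28, -1)]), (16, [(31, -1)]), (22, [(32, -1)]), (34, [(57, -1)]), (35, [(58, -1)]), (36, [(60, 1)]), (37, [(61, 1)]), (41, [(69, 1)]), (42, [(70, -1)]), (45, [(74, 1)]), (46, [(75, -1)]), (50, [(79, 1)]), (51, [(80, -1)]), (55, [(83, 1)]), (56, [(84, -1)]), (64, [(88, -1)]), (65, [(89, -1)]), (67, [(90, 1)]), (68, [(91, 1)]), (93, [(103, 1)]), (94, [(109, 1)]), (97, [(115, 1)]), (98, [(116, 1)]), (101, [(119, 1)]), (102, [(120, 1)]), (108, [(123, 1)]), (114, [(124, 1)])])) (.node (.leaf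 [(4, [(2, 1)]), (11, [(7, -1)]), (14, [(9, 1)]), (15, [(10, 1)]), (23, [(18, -1)]), (24, [(19, -1)]), (26, [(22, 1)]), (31, [(29, -1)]), (39, [(34, -1)]), (40, [(35, -1)]), (42, [(38, 1)]), (47, [(45, -1)]), (52, [(50, -1)]), (60, [(53, 1)]), (61, [(54, 1)]), (66, [(56, 1)]), (69, [(59, -1)]), (71, [(64, -1)]), (72, [(65, -1)]), (75, [(73, 1)]), (80, [(78, 1)]), (87, [(83, -1)]), (90, [(85, 1)]), (91, [(86, 1)]), (96, [(94, 1)]), (103, [(99, -1)]), (106, [(101, 1)]), (107, [(102, 1)]), (115, [(110, -1)]), (116, [(111, -1)]), (118, [(114, 1)]), (123, [(121, -1)])]) (.leaf [(0, [(27, -1)]), (1, [(48, 1)]), (2, [(53, -1)]), (3, [(57, 1)]), (4, [(60, -1)]), (5, [(62, 1)]), (10, [(78, 1)]), (13, [(79, -1)]), (15, [(80, 1)]), (16, [(81, -1)]), (19, [(83, 1)]), (21, [(84, -1)]), (22, [(85, 1)]), (24, [(87, 1)]), (25, [(88, -1)]), (26, [(90, 1)]), (35, [(99, -1)]), (37, [(100, 1)]), (38, [(101, -1)]), (40, [(103,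 -1)]), (41, [(104, 1)]), (42, [(106, -1)]), (44, [(109, 1)]), (45, [(110, -1)]), (46, [(112, 1)]), (47, [(115, -1)]), (63, [(120, -1)]), (65, [(121, 1)]), (68, [(122, -1)]), (72, [(123, 1)]), (77, [(124, -1)]), (98, [(125, 1)])])))) (.node (.node (.node (.leaf [(18, [(0, 1)]), (34, [(1, -1)]), (43, [(4, -1)]), (45, [(6, 1)]), (53, [(8, 1)]), (55, [(10, -1)]), (57, [(11, -1)]), (59, [(13, 1)]), (62, [(14, 1)]), (64, [(16, 1)]), (73, [(21, 1)]), (74, [(24, -1)]), (76, [(26, 1)]), (83, [(28, 1)]), (85, [(30, -1)]), (88, [(31, 1)]), (94, [(37, -1)]), (95, [(40, 1)]), (97, [(42, -1)]), (99, [(49, -1)]), (101, [(51, 1)]), (104, [(52, -1)]), (109, [(61, -1)]), (111, [(63, -1)]), (112, [(66, -1)]), (114, [(68, 1)]), (115, [(70, 1)]), (117, [(72, -1)]), (119, [(80, -1)]), (121, [(82, 1)]), (124, [(91, 1)]), (125, [(107, -1)])]) (.leaf [(2, [(7, -1)]), (4, [(11, 1)]), (5, [(12, 1)]), (6, [(13, 1)]), (20, [(27, -1)]),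 (21, [(28, -1)]), (22, [(29, -1)]), (26, [(31, 1)]), (36, [(48, -1)]), (37, [(49, -1)]), (38, [(50, -1)]), (42, [(52, 1)]), (43, [(57, 1)]), (44, [(58, 1)]), (45, [(59, 1)]), (47, [(69, 1)]), (56, [(78, -1)]), (66, [(80, -1)]), (67, [(81, -1)]), (68, [(82, -1)]), (73, [(83, -1)]), (75, [(87, 1)]), (76, [(88, 1)]), (77, [(89, 1)]), (94, [(99, -1)]), (96, [(103, 1)]), (97, [(104, 1)]), (98, [(105, 1)]), (112, [(119, -1)]), (113, [(120, -1)]), (114, [(121, -1)]), (118, [(123, 1)])])) (.node (.leaf [(7, [(3, -1)]), (8, [(4, -1)]), (9, [(5, -1)]), (10, [(6, -1)]), (27, [(23, -1)]), (28, [(24, -1)]), (29, [(25, -1)]), (30, [(26, -1)]), (48, [(39, -1)]), (49, [(40, -1)]), (50, [(41, -1)]), (51, [(42, -1)]), (53, [(43, 1)]), (54, [(44, 1)]), (55, [(45, 1)]), (56, [(46, 1)]), (79, [(69, -1)]), (80, [(70, -1)]), (81, [(71, -1)]), (82, [(72, -1)]), (83, [(74, 1)]), (84, [(75, 1)]), (85, [(76, 1)]), (86, [(77, 1)]), (99,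 [(95, 1)]), (100, [(96, 1)]), (101, [(97, 1)]), (102, [(98, 1)]), (119, [(115, 1)]), (120, [(116, 1)]), (121, [(117, 1)]), (122, [(118, 1)])]) (.leaf [(0, [(19, -1)]), (1, [(35, 1)]), (4, [(44, 1)]), (5, [(45, 1)]), (8, [(54, -1)]), (9, [(55, -1)]), (11, [(58, 1)]), (12, [(59, 1)]), (15, [(63, 1)]), (16, [(65, 1)]), (20, [(73, 1)]), (23, [(74, -1)]), (26, [(77, 1)]), (27, [(83, 1)]), (30, [(86, -1)]), (31, [(89, 1)]), (36, [(94, -1)]), (39, [(95, 1)]), (42, [(98, -1)]), (48, [(99, -1)]), (51, [(102, 1)]), (52, [(105, -1)]), (60, [(109, -1)]), (62, [(110, -1)]), (66, [(113, -1)]), (67, [(114, -1)]), (70, [(116, 1)]), (71, [(117, 1)]), (80, [(120, -1)]), (81, [(121, -1)]), (90, [(124, -1)]), (106, [(125, 1)])]))) (.node (.node (.leaf [(2, [(0, 1)]), (33, [(11, 1)]), (34, [(12, 1)]), (35, [(13, 1)]), (36, [(14, 1)]), (37, [(15, 1)]), (38, [(16, 1)]), (43, [(23, -1)]), (44, [(24, -1)]), (45, [(25, -1)]), (46,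 [(26, -1)]), (53, [(27, 1)]), (54, [(28, 1)]), (55, [(29, 1)]), (56, [(30, 1)]), (73, [(32, 1)]), (93, [(52, -1)]), (95, [(69, -1)]), (96, [(70, -1)]), (97, [(71, -1)]), (98, [(72, -1)]), (99, [(79, 1)]), (100, [(80, 1)]), (101, [(81, 1)]), (102, [(82, 1)]), (109, [(87, -1)]), (110, [(88, -1)]), (111, [(89, -1)]), (112, [(90, -1)]), (113, [(91, -1)]), (114, [(92, -1)]), (125, [(123, -1)])]) (.leaf [(0, [(3, -1)]), (8, [(33, 1)]), (9, [(34, 1)]), (10, [(35, 1)]), (14, [(39, -1)]), (15, [(40, -1)]), (16, [(41, -1)]), (20, [(43, -1)]), (21, [(44, -1)]), (22, [(45, -1)]), (26, [(47, 1)]), (27, [(57, 1)]), (28, [(58, 1)]), (29, [(59, 1)]), (31, [(69, 1)]), (32, [(74, 1)]), (51, [(93, -1)]), (56, [(94, -1)]), (66, [(96, -1)]), (67, [(97, -1)]), (68, [(98, -1)]), (78, [(99, -1)]), (80, [(103, 1)]), (81, [(104, 1)]), (82, [(105, 1)]), (84, [(109, 1)]), (85, [(110, 1)]), (86, [(111, 1)]), (90, [(115, -1)]), (91, [(116,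 -1)]), (92, [(117, -1)]), (122, [(125, 1)])])) (.node (.leaf [(5, [(6, -1)]), (9, [(10, -1)]), (12, [(13, -1)]), (14, [(15, -1)]), (18, [(19, -1)]), (20, [(21, -1)]), (23, [(24, -1)]), (27, [(28, -1)]), (34, [(35, -1)]), (36, [(37, -1)]), (39, [(40, -1)]), (43, [(44, -1)]), (48, [(49, -1)]), (53, [(54, -1)]), (57, [(58, -1)]), (60, [(61, -1)]), (64, [(65, 1)]), (67, [(68, 1)]), (71, [(72, 1)]), (76, [(77, 1)]), (81, [(82, 1)]), (85, [(86, 1)]), (88, [(89, 1)]), (90, [(91, 1)]), (97, [(98, 1)]), (101, [(102, 1)]), (104, [(105, 1)]), (106, [(107, 1)]), (110, [(111, 1)]), (112, [(113, 1)]), (115, [(116, 1)]), (119, [(120, 1)])]) (.leaf [(1, [(93, 1)]), (2, [(94, -1)]), (3, [(95, 1)]), (4, [(96, -1)]), (5, [(97, 1)]), (6, [(98, -1)]), (7, [(99, -1)]), (8, [(100, 1)]), (9, [(101, -1)]), (10, [(102, 1)]), (11, [(103, -1)]), (12, [(104, 1)]), (13, [(105, -1)]), (14, [(106, -1)]), (15, [(107, 1)]), (16, [(108, -1)]),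 (17, [(109, 1)]), (18, [(110, -1)]), (19, [(111, 1)]), (20, [(112, 1)]), (21, [(113, -1)]), (22, [(114, 1)]), (23, [(115, -1)]), (24, [(116, 1)]), (25, [(117, -1)]), (26, [(118, 1)]), (27, [(119, 1)]), (28, [(120, -1)]), (29, [(121, 1)]), (30, [(122, -1)]), (31, [(123, 1)]), (32, [(124, -1)])])))))))

noncomputable def cor : Trie (List ℤ) := .node (.node (.node (.node (.node (.node (.node (.leaf [-2, -2, -3, -4, -3, -2, -1]) (.leaf [0, 0, 0, 0, 0, 1, 0])) (.node (.leaf [-1, 0, 0, 0, 0, 0, 0]) (.leaf [1, 0, 1, 1, 1, 0, 0]))) (.node (.node (.leaf [-1, -1, -2, -2, -1, 0, 0]) (.leaf [0, 1, 0, 1, 1, 0, 0])) (.node (.leaf [0, 0, -1, -1, -1, -1, -1]) (.leaf [1, 1, 2, 2, 2, 1, 0])))) (.node (.node (.node (.leaf [-1, -1, -2, -3, -2, -2, -1]) (.leaf [0, 0, 0, 1, 1, 1, 1])) (.node (.leaf [0, -1, -1, -1, -1, -1, 0]) (.leaf [1, 1, 1, 2, 1, 1, 0]))) (.node (.node (.leaf [-1, -1, -1, -1, -1, -1, 0]) (.leaf [0, 1, 1, 2, 1,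 1, 0])) (.node (.leaf [0, 0, 0, -1, 0, 0, 0]) (.leaf [1, 2, 2, 3, 2, 1, 1]))))) (.node (.node (.node (.node (.leaf [-1, -2, -2, -3, -2, -2, -1]) (.leaf [0, 0, 0, 0, 1, 1, 1])) (.node (.leaf [0, -1, -1, -2, -1, -1, -1]) (.leaf [1, 1, 1, 1, 1, 0, 0]))) (.node (.node (.leaf [-1, -1, -1, -2, -1, -1, -1]) (.leaf [0, 1, 1, 1, 1, 0, 0])) (.node (.leaf [0, 0, -1, 0, 0, 0, 0]) (.leaf [1, 1, 2, 3, 2, 1, 1])))) (.node (.node (.node (.leaf [-1, -1, -2, -2, -2, -1, -1]) (.leaf [0, 0, 1, 1, 1, 1, 0])) (.node (.leaf [0, -1, 0, -1, -1, -1, 0]) (.leaf [1, 1, 1, 2, 2, 2, 1]))) (.node (.node (.leaf [-1, 0, -1, -1, -1, -1, 0]) (.leaf [0, 1, 1, 2, 2, 2, 1])) (.node (.leaf [0, 0, 0, 0, 0, -1, -1]) (.leaf [1, 2, 3, 4, 3, 2, 1])))))) (.node (.node (.node (.node (.node (.leaf [-1, -2, -2, -4, -3, -2, -1]) (.leaf [0, 0, 0, 0, 1, 0, 0])) (.node (.leaf [0, -1, -1, -2, -2, -1, -1]) (.leaf [1, 0, 1, 1, 1, 1, 1]))) (.node (.node (.leaf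 [-1, -1, -1, -2, -2, -1, -1]) (.leaf [0, 1, 0, 1, 1, 1, 1])) (.node (.leaf [0, 0, -1, -1, -1, 0, 0]) (.leaf [1, 1, 2, 2, 2, 2, 1])))) (.node (.node (.node (.leaf [-1, -1, -2, -3, -2, -1, 0]) (.leaf [0, 0, 1, 1, 0, 0, 0])) (.node (.leaf [0, -1, -1, -1, 0, 0, 0]) (.leaf [1, 1, 1, 2, 2, 1, 0]))) (.node (.node (.leaf [-1, -1, -1, -1, 0, 0, 0]) (.leaf [0, 1, 1, 2, 2, 1, 0])) (.node (.leaf [0, 0, 0, 0, -1, -1, 0]) (.leaf [1, 2, 2, 3, 3, 2, 1]))))) (.node (.node (.node (.node (.leaf [-1, -2, -2, -3, -2, -1, 0]) (.leaf [0, 0, 0, 1, 1, 0, 0])) (.node (.leaf [0, -1, -1, -2, -1, 0, 0]) (.leaf [1, 1, 1, 1, 1, 1, 1]))) (.node (.node (.leaf [-1, -1, -1, -2, -1, 0, 0]) (.leaf [0, 1, 1, 1, 1, 1, 1])) (.node (.leaf [0, 0, 0, -1, -1, -1, 0]) (.leaf [1, 1, 2, 3, 3, 2, 1])))) (.node (.node (.node (.leaf [-1, -1, -2, -2, -1, -1, -1]) (.leaf [0, 1, 0, 0, 0, 0, 0])) (.node (.leaf [0, -1, 0, -1, 0, 0, 0]) (.leaf [1, 1, 2, 2, 1, 1,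 0]))) (.node (.node (.leaf [-1, 0, -1, -1, 0, 0, 0]) (.leaf [1, 0, 1, 0, 0, 0, 0])) (.node (.leaf [0, 0, 0, 0, 0, 0, -1]) (.leaf [2, 2, 3, 4, 3, 2, 1]))))))) (.node (.node (.node (.node (.node (.node (.leaf [-1, -2, -3, -4, -3, -2, -1]) (.leaf [0, 0, 0, 0, 0, 1, 1])) (.node (.leaf [0, -1, -1, -2, -2, -2, -1]) (.leaf [1, 0, 1, 1, 1, 1, 0]))) (.node (.node (.leaf [-1, -1, -1, -2, -2, -2, -1]) (.leaf [0, 1, 0, 1, 1, 1, 0])) (.node (.leaf [0, 0, -1, -1, -1, -1, 0]) (.leaf [1, 1, 2, 2, 2, 1, 1])))) (.node (.node (.node (.leaf [-1, -1, -2, -3, -2, -1, -1]) (.leaf [0, 0, 1, 0, 0, 0, 0])) (.node (.leaf [0, -1, -1, -1, -1, 0, 0]) (.leaf [1, 1, 1, 2, 1, 1, 1]))) (.node (.node (.leaf [-1, -1, -1, -1, -1, 0, 0]) (.leaf [0, 1, 1, 2, 1, 1, 1])) (.node (.leaf [0, 0, 0, 0, -1, -1, -1]) (.leaf [1, 2, 2, 3, 2, 2, 1]))))) (.node (.node (.node (.node (.leaf [-1, -2, -2, -3, -2, -1, -1]) (.leaf [0, 0, 0, 1, 0, 0, 0])) (.node (.leaf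 [0, -1, -1, -2, -1, -1, 0]) (.leaf [1, 1, 1, 1, 1, 1, 0]))) (.node (.node (.leaf [-1, -1, -1, -2, -1, -1, 0]) (.leaf [0, 1, 1, 1, 1, 1, 0])) (.node (.leaf [0, 0, 0, -1, -1, -1, -1]) (.leaf [1, 1, 2, 3, 2, 2, 1])))) (.node (.node (.node (.leaf [-1, -1, -2, -2, -2, -1, 0]) (.leaf [0, 0, 1, 1, 1, 1, 1])) (.node (.leaf [0, -1, 0, -1, -1, 0, 0]) (.leaf [1, 1, 2, 2, 1, 0, 0]))) (.node (.node (.leaf [-1, 0, -1, -1, -1, 0, 0]) (.leaf [1, 0, 0, 0, 0, 0, 0])) (.node (.leaf [0, 0, 0, 0, 0, -1, 0]) (.leaf [2, 2, 3, 4, 3, 2, 1])))))) (.node (.node (.node (.node (.node (.leaf [-1, -2, -2, -3, -3, -2, -1]) (.leaf [0, 0, 0, 0, 1, 1, 0])) (.node (.leaf [0, -1, -1, -2, -2, -1, 0]) (.leaf [1, 1, 1, 1, 0, 0, 0]))) (.node (.node (.leaf [-1, -1, -1, -2, -2, -1, 0]) (.leaf [0, 1, 1, 1, 0, 0, 0])) (.node (.leaf [0, 0, -1, -1, 0, 0, 0]) (.leaf [1, 1, 2, 3, 2, 1, 0])))) (.node (.node (.node (.leaf [-1, -1, -2, -2, -2, -2, -1]) (.leaf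 [0, 0, 1, 1, 1, 0, 0])) (.node (.leaf [0, -1, 0, -1, -1, -1, -1]) (.leaf [1, 1, 1, 2, 2, 1, 1]))) (.node (.node (.leaf [-1, 0, -1, -1, -1, -1, -1]) (.leaf [0, 1, 1, 2, 2, 1, 1])) (.node (.leaf [0, 0, 0, 0, -1, 0, 0]) (.leaf [1, 2, 2, 4, 3, 2, 1]))))) (.node (.node (.node (.node (.leaf [-1, -1, -2, -3, -3, -2, -1]) (.leaf [0, 0, 0, 1, 1, 1, 0])) (.node (.leaf [0, -1, -1, -1, -1, -1, -1]) (.leaf [1, 1, 1, 2, 1, 0, 0]))) (.node (.node (.leaf [-1, -1, -1, -1, -1, -1, -1]) (.leaf [0, 1, 1, 2, 1, 0, 0])) (.node (.leaf [0, 0, 0, -1, -1, 0, 0]) (.leaf [1, 2, 2, 3, 2, 1, 0])))) (.node (.node (.node (.leaf [-1, -1, -2, -2, -1, -1, 0]) (.leaf [0, 1, 0, 1, 0, 0, 0])) (.node (.leaf [0, -1, 0, 0, 0, 0, 0]) (.leaf [1, 1, 2, 2, 1, 1, 1]))) (.node (.node (.leaf [-1, 0, -1, 0, 0, 0, 0]) (.leaf [1, 0, 1, 1, 0, 0, 0])) (.node (.leaf [0, 0, 0, 0, 0, 0, 1]) (.leaf [2, 2, 3, 4, 3, 2, 1])))))))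

noncomputable def bez : Trie (List ℤ) := .node (.node (.node (.node (.node (.node (.node (.leaf [0, 0, 0, 0, 0, 0, -1]) (.leaf [0, 0, 0, 0, 0, 1, 0])) (.node (.leaf [-1, 0, 0, 0, 0, 0, 0]) (.leaf [0, 0, 0, 0, 1, 0, 0]))) (.node (.node (.leaf [0, 0, 0, 0, -1, 0, 0]) (.leaf [0, 0, 0, 0, 1, 0, 0])) (.node (.leaf [0, 0, 0, 0, 0, 0, -1]) (.leaf [0, 0, 0, 0, 0, 1, 0])))) (.node (.node (.node (.leaf [0, 0, 0, 0, 0, 0, -1]) (.leaf [0, 0, 0, 0, 0, 0, 1])) (.node (.leaf [0, 0, 0, 0, 0, -1, 0]) (.leaf [0, 0, 0, 0, 0, 1, 0]))) (.node (.node (.leaf [0, 0, 0, 0, 0, -1, 0]) (.leaf [0, 0, 0, 0, 0, 1, 0])) (.node (.leaf [0, 0, 0, -1, 0, 0, 0]) (.leaf [0, 0, 0, 0, 0, 0, 1]))))) (.node (.node (.node (.node (.leaf [0, 0, 0, 0, 0, 0, -1]) (.leaf [0, 0, 0, 0, 0, 0, 1])) (.node (.leaf [0, 0, 0, 0, 0, 0, -1]) (.leaf [0, 0, 0, 0, 1, 0, 0]))) (.node (.node (.leaf [0, 0, 0, 0, 0, 0, -1]) (.leaf [0, 0, 0, 0, 1, 0, 0])) (.node (.leaf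 [0, 0, -1, 0, 0, 0, 0]) (.leaf [0, 0, 0, 0, 0, 0, 1])))) (.node (.node (.node (.leaf [0, 0, 0, 0, 0, 0, -1]) (.leaf [0, 0, 0, 0, 0, 1, 0])) (.node (.leaf [0, 0, 0, 0, 0, -1, 0]) (.leaf [0, 0, 0, 0, 0, 0, 1]))) (.node (.node (.leaf [0, 0, 0, 0, 0, -1, 0]) (.leaf [0, 0, 0, 0, 0, 0, 1])) (.node (.leaf [0, 0, 0, 0, 0, 0, -1]) (.leaf [0, 0, 0, 0, 0, 0, 1])))))) (.node (.node (.node (.node (.node (.leaf [0, 0, 0, 0, 0, 0, -1]) (.leaf [0, 0, 0, 0, 1, 0, 0])) (.node (.leaf [0, 0, 0, 0, 0, 0, -1]) (.leaf [0, 0, 0, 0, 0, 0, 1]))) (.node (.node (.leaf [0, 0, 0, 0, 0, 0, -1]) (.leaf [0, 0, 0, 0, 0, 0, 1])) (.node (.leaf [0, 0, 0, 0, -1, 0, 0]) (.leaf [0, 0, 0, 0, 0, 0, 1])))) (.node (.node (.node (.leaf [0, 0, 0, 0, 0, -1, 0]) (.leaf [0, 0, 0, 1, 0, 0, 0])) (.node (.leaf [0, 0, 0, -1, 0, 0, 0]) (.leaf [0, 0, 0, 0, 0, 1, 0]))) (.node (.node (.leaf [0, 0, 0, -1, 0, 0, 0]) (.leaf [0, 0, 0, 0, 0, 1, 0])) (.node (.leaf [0,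 0, 0, 0, 0, -1, 0]) (.leaf [0, 0, 0, 0, 0, 0, 1]))))) (.node (.node (.node (.node (.leaf [0, 0, 0, 0, 0, -1, 0]) (.leaf [0, 0, 0, 0, 1, 0, 0])) (.node (.leaf [0, 0, 0, 0, -1, 0, 0]) (.leaf [0, 0, 0, 0, 0, 0, 1]))) (.node (.node (.leaf [0, 0, 0, 0, -1, 0, 0]) (.leaf [0, 0, 0, 0, 0, 0, 1])) (.node (.leaf [0, 0, 0, 0, 0, -1, 0]) (.leaf [0, 0, 0, 0, 0, 0, 1])))) (.node (.node (.node (.leaf [0, 0, 0, 0, 0, 0, -1]) (.leaf [0, 1, 0, 0, 0, 0, 0])) (.node (.leaf [0, 0, 0, -1, 0, 0, 0]) (.leaf [0, 0, 0, 0, 0, 1, 0]))) (.node (.node (.leaf [0, 0, 0, -1, 0, 0, 0]) (.leaf [0, 0, 1, 0, 0, 0, 0])) (.node (.leaf [0, 0, 0, 0, 0, 0, -1]) (.leaf [0, 0, 0, 0, 0, 0, 1]))))))) (.node (.node (.node (.node (.node (.node (.leaf [0, 0, 0, 0, 0, 0, -1]) (.leaf [0, 0, 0, 0, 0, 0, 1])) (.node (.leaf [0, 0, 0, 0, 0, 0, -1]) (.leaf [0, 0, 0, 0, 0, 1, 0]))) (.node (.node (.leaf [0, 0, 0, 0, 0, 0, -1]) (.leaf [0, 0, 0, 0, 0, 1, 0])) (.node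 (.leaf [0, 0, 0, 0, 0, -1, 0]) (.leaf [0, 0, 0, 0, 0, 0, 1])))) (.node (.node (.node (.leaf [0, 0, 0, 0, 0, 0, -1]) (.leaf [0, 0, 1, 0, 0, 0, 0])) (.node (.leaf [0, 0, 0, 0, -1, 0, 0]) (.leaf [0, 0, 0, 0, 0, 0, 1]))) (.node (.node (.leaf [0, 0, 0, 0, -1, 0, 0]) (.leaf [0, 0, 0, 0, 0, 0, 1])) (.node (.leaf [0, 0, 0, 0, 0, 0, -1]) (.leaf [0, 0, 0, 0, 0, 0, 1]))))) (.node (.node (.node (.node (.leaf [0, 0, 0, 0, 0, 0, -1]) (.leaf [0, 0, 0, 1, 0, 0, 0])) (.node (.leaf [0, 0, 0, 0, 0, -1, 0]) (.leaf [0, 0, 0, 0, 0, 1, 0]))) (.node (.node (.leaf [0, 0, 0, 0, 0, -1, 0]) (.leaf [0, 0, 0, 0, 0, 1, 0])) (.node (.leaf [0, 0, 0, 0, 0, 0, -1]) (.leaf [0, 0, 0, 0, 0, 0, 1])))) (.node (.node (.node (.leaf [0, 0, 0, 0, 0, -1, 0]) (.leaf [0, 0, 0, 0, 0, 0, 1])) (.node (.leaf [0, 0, 0, 0, -1, 0, 0]) (.leaf [0, 0, 0, 0, 1, 0, 0]))) (.node (.node (.leaf [0, 0, 0, 0, -1, 0, 0]) (.leaf [1, 0, 0, 0, 0, 0, 0])) (.node (.leaf [0,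 0, 0, 0, 0, -1, 0]) (.leaf [0, 0, 0, 0, 0, 0, 1])))))) (.node (.node (.node (.node (.node (.leaf [0, 0, 0, 0, 0, 0, -1]) (.leaf [0, 0, 0, 0, 0, 1, 0])) (.node (.leaf [0, 0, 0, 0, 0, -1, 0]) (.leaf [0, 0, 0, 1, 0, 0, 0]))) (.node (.node (.leaf [0, 0, 0, 0, 0, -1, 0]) (.leaf [0, 0, 0, 1, 0, 0, 0])) (.node (.leaf [0, 0, 0, -1, 0, 0, 0]) (.leaf [0, 0, 0, 0, 0, 1, 0])))) (.node (.node (.node (.leaf [0, 0, 0, 0, 0, 0, -1]) (.leaf [0, 0, 0, 0, 1, 0, 0])) (.node (.leaf [0, 0, 0, 0, 0, 0, -1]) (.leaf [0, 0, 0, 0, 0, 0, 1]))) (.node (.node (.leaf [0, 0, 0, 0, 0, 0, -1]) (.leaf [0, 0, 0, 0, 0, 0, 1])) (.node (.leaf [0, 0, 0, 0, -1, 0, 0]) (.leaf [0, 0, 0, 0, 0, 0, 1]))))) (.node (.node (.node (.node (.leaf [0, 0, 0, 0, 0, 0, -1]) (.leaf [0, 0, 0, 0, 0, 1, 0])) (.node (.leaf [0, 0, 0, 0, 0, 0, -1]) (.leaf [0, 0, 0, 0, 1, 0, 0]))) (.node (.node (.leaf [0, 0, 0, 0, 0, 0, -1]) (.leaf [0, 0, 0, 0, 1, 0, 0])) (.node (.leaf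 [0, 0, 0, 0, -1, 0, 0]) (.leaf [0, 0, 0, 0, 0, 1, 0])))) (.node (.node (.node (.leaf [0, 0, 0, 0, 0, -1, 0]) (.leaf [0, 0, 0, 1, 0, 0, 0])) (.node (.leaf [0, -1, 0, 0, 0, 0, 0]) (.leaf [0, 0, 0, 0, 0, 0, 1]))) (.node (.node (.leaf [0, 0, -1, 0, 0, 0, 0]) (.leaf [0, 0, 0, 1, 0, 0, 0])) (.node (.leaf [0, 0, 0, 0, 0, 0, 1]) (.leaf [0, 0, 0, 0, 0, 0, 1])))))))

noncomputable def dsc : Trie (ℕ) := .node (.node (.node (.node (.node (.node (.node (.leaf 0) (.leaf 0)) (.node (.leaf 0) (.leaf 0))) (.node (.node (.leaf 2) (.leaf 1)) (.node (.leaf 2) (.leaf 2)))) (.node (.node (.node (.leaf 3) (.leaf 3)) (.node (.leaf 1) (.leaf 0))) (.node (.node (.leaf 0) (.leaf 3)) (.node (.leaf 3) (.leaf 1))))) (.node (.node (.node (.node (.leaf 1) (.leaf 4)) (.node (.leaf 3) (.leaf 0))) (.node (.node (.leaf 0) (.leaf 1)) (.node (.leaf 2) (.leaf 3)))) (.node (.node (.node (.leaf 2) (.leaf 2)) (.node (.leaf 1) (.leaf 0))) (.node (.node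 (.leaf 0) (.leaf 5)) (.node (.leaf 5) (.leaf 2)))))) (.node (.node (.node (.node (.node (.leaf 3) (.leaf 0)) (.node (.leaf 4) (.leaf 0))) (.node (.node (.leaf 0) (.leaf 1)) (.node (.leaf 2) (.leaf 2)))) (.node (.node (.node (.leaf 3) (.leaf 2)) (.node (.leaf 1) (.leaf 0))) (.node (.node (.leaf 0) (.leaf 4)) (.node (.leaf 4) (.leaf 1))))) (.node (.node (.node (.node (.leaf 1) (.leaf 3)) (.node (.leaf 3) (.leaf 0))) (.node (.node (.leaf 0) (.leaf 1)) (.node (.leaf 3) (.leaf 4)))) (.node (.node (.node (.leaf 2) (.leaf 0)) (.node (.leaf 1) (.leaf 2))) (.node (.node (.leaf 0) (.leaf 0)) (.node (.leaf 6) (.leaf 0))))))) (.node (.node (.node (.node (.node (.node (.leaf 2) (.leaf 5)) (.node (.leaf 5) (.leaf 0))) (.node (.node (.leaf 0) (.leaf 1)) (.node (.leaf 2) (.leaf 2)))) (.node (.node (.node (.leaf 3) (.leaf 0)) (.node (.leaf 1) (.leaf 0))) (.node (.node (.leaf 0) (.leaf 3)) (.node (.leaf 4) (.leaf 1))))) (.node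 (.node (.node (.node (.leaf 1) (.leaf 0)) (.node (.leaf 3) (.leaf 0))) (.node (.node (.leaf 0) (.leaf 1)) (.node (.leaf 3) (.leaf 3)))) (.node (.node (.node (.leaf 2) (.leaf 2)) (.node (.leaf 1) (.leaf 2))) (.node (.node (.leaf 0) (.leaf 0)) (.node (.leaf 5) (.leaf 0)))))) (.node (.node (.node (.node (.node (.leaf 1) (.leaf 4)) (.node (.leaf 4) (.leaf 0))) (.node (.node (.leaf 0) (.leaf 1)) (.node (.leaf 2) (.leaf 3)))) (.node (.node (.node (.leaf 2) (.leaf 2)) (.node (.leaf 1) (.leaf 0))) (.node (.node (.leaf 0) (.leaf 4)) (.node (.leaf 4) (.leaf 3))))) (.node (.node (.node (.node (.leaf 4) (.leaf 3)) (.node (.leaf 1) (.leaf 0))) (.node (.node (.leaf 0) (.leaf 3)) (.node (.leaf 3) (.leaf 1)))) (.node (.node (.node (.leaf 2) (.leaf 1)) (.node (.leaf 1) (.leaf 2))) (.node (.node (.leaf 0) (.leaf 0)) (.node (.leaf 0) (.leaf 0)))))))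

noncomputable def cert : Trie (ℕ × ℕ × List ℕ × ℕ) := .node (.node (.node (.node (.node (.node (.node (.node (.node (.node (.leaf (93, 0, [], 0)) (.leaf (66, 39, [3, 4], 487))) (.node (.leaf (63, 15, [4], 248)) (.leaf (93, 79, [1], 759)))) (.node (.node (.leaf (66, 58, [3, 4], 113)) (.leaf (63, 78, [5, 6], 582))) (.node (.leaf (93, 100, [2, 0], 361)) (.leaf (63, 125, [5, 6], 857))))) (.node (.node (.node (.leaf (64, 54, [6, 5], 42)) (.leaf (64, 53, [4, 5], 534))) (.node (.leaf (73, 55, [0, 2], 297)) (.leaf (69, 121, [2, 3], 812)))) (.node (.node (.leaf (73, 105, [3, 2], 169)) (.leaf (63, 87, [3], 698))) (.node (.leaf (93, 2, [], 0)) (.leaf (63, 125, [5, 6], 857)))))) (.node (.node (.node (.node (.leaf (63, 14, [4], 24)) (.leaf (78, 38, [5], 535))) (.node (.leaf (64, 55, [6, 5], 266)) (.leaf (66, 92, [3, 4], 754)))) (.node (.node (.leaf (93, 84, [2, 0], 137)) (.leaf (63, 74, [5, 6], 601))) (.node (.leaf (73,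 111, [3, 2], 393)) (.leaf (63, 125, [5, 6], 857))))) (.node (.node (.node (.leaf (73, 50, [0, 2], 73)) (.leaf (63, 0, [5, 6], 550))) (.node (.leaf (66, 61, [3, 4], 337)) (.leaf (63, 122, [5, 6], 854)))) (.node (.node (.leaf (93, 1, [], 0)) (.leaf (69, 97, [4, 3], 681))) (.node (.leaf (69, 7, [2, 3], 465)) (.leaf (63, 125, [5, 6], 857))))))) (.node (.node (.node (.node (.node (.leaf (64, 33, [0], 15)) (.leaf (66, 10, [1], 510))) (.node (.leaf (64, 16, [4, 5], 247)) (.leaf (73, 47, [3, 2], 733)))) (.node (.node (.leaf (66, 99, [1], 133)) (.leaf (66, 72, [3, 4], 590))) (.node (.leaf (93, 107, [4], 396)) (.leaf (63, 125, [5, 6], 857))))) (.node (.node (.node (.leaf (78, 24, [3, 1], 53)) (.leaf (64, 13, [3], 570))) (.node (.leaf (69, 57, [2, 3], 318)) (.leaf (64, 90, [4, 5], 836)))) (.node (.node (.leaf (64, 107, [4, 5], 193)) (.leaf (93, 64, [2, 0], 649))) (.node (.leaf (73, 3, [0, 2], 449)) (.leaf (63, 125, [5,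 6], 857)))))) (.node (.node (.node (.node (.leaf (64, 15, [4, 5], 23)) (.leaf (64, 26, [4, 5], 514))) (.node (.leaf (78, 28, [3, 1], 277)) (.leaf (78, 73, [2], 783)))) (.node (.node (.leaf (93, 91, [4], 172)) (.leaf (73, 67, [4], 649))) (.node (.leaf (64, 108, [4, 5], 417)) (.leaf (63, 125, [5, 6], 857))))) (.node (.node (.node (.leaf (69, 53, [2, 3], 94)) (.leaf (63, 7, [5, 6], 566))) (.node (.leaf (66, 100, [1], 357)) (.leaf (63, 125, [5, 6], 857)))) (.node (.node (.leaf (64, 34, [0], 239)) (.leaf (64, 102, [4, 5], 701))) (.node (.leaf (66, 1, [3, 4], 479)) (.leaf (63, 125, [5, 6], 857)))))))) (.node (.node (.node (.node (.node (.node (.leaf (78, 6, [6], 7)) (.leaf (66, 44, [3, 4], 491))) (.node (.leaf (63, 49, [1], 262)) (.leaf (93, 122, [4], 774)))) (.node (.node (.leaf (78, 75, [2], 121)) (.leaf (66, 52, [3, 4], 586))) (.node (.leaf (69, 104, [1, 3], 369)) (.leaf (63, 125, [5, 6], 857))))) (.node (.node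 (.node (.leaf (93, 28, [1], 68)) (.leaf (69, 29, [1, 3], 542))) (.node (.leaf (78, 51, [4], 316)) (.leaf (66, 119, [3, 4], 829)))) (.node (.node (.leaf (73, 108, [0, 2], 178)) (.leaf (93, 60, [2, 0], 633))) (.node (.leaf (93, 6, [6], 453)) (.leaf (63, 125, [5, 6], 857)))))) (.node (.node (.node (.node (.leaf (63, 48, [1], 38)) (.leaf (64, 14, [4, 5], 498))) (.node (.leaf (93, 49, [1], 292)) (.leaf (73, 101, [0, 2], 770)))) (.node (.node (.leaf (69, 101, [1, 3], 145)) (.leaf (63, 94, [5, 6], 605))) (.node (.leaf (73, 114, [0, 2], 402)) (.leaf (63, 125, [5, 6], 857))))) (.node (.node (.node (.leaf (78, 42, [4], 92)) (.leaf (63, 4, [5, 6], 558))) (.node (.leaf (78, 84, [2], 345)) (.leaf (63, 125, [5, 6], 857)))) (.node (.node (.leaf (78, 10, [6], 231)) (.leaf (69, 77, [2, 3], 690))) (.node (.leaf (69, 19, [2, 3], 473)) (.leaf (63, 125, [5, 6], 857))))))) (.node (.node (.node (.node (.node (.leaf (63, 12, [5,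 6], 14)) (.leaf (66, 49, [1], 518))) (.node (.leaf (64, 38, [4, 5], 258)) (.leaf (73, 115, [3, 2], 737)))) (.node (.node (.leaf (64, 60, [4, 5], 127)) (.leaf (63, 79, [5, 6], 597))) (.node (.leaf (63, 82, [5, 6], 382)) (.leaf (63, 125, [5, 6], 857))))) (.node (.node (.node (.leaf (66, 45, [5, 4], 63)) (.leaf (64, 73, [2], 595))) (.node (.leaf (78, 79, [3, 1], 332)) (.leaf (64, 124, [4, 5], 845)))) (.node (.node (.leaf (78, 116, [3, 1], 210)) (.leaf (69, 26, [4, 3], 665))) (.node (.leaf (73, 34, [0, 2], 457)) (.leaf (63, 125, [5, 6], 857)))))) (.node (.node (.node (.node (.leaf (64, 37, [4, 5], 34)) (.leaf (64, 27, [4, 5], 526))) (.node (.leaf (66, 46, [5, 4], 287)) (.leaf (69, 118, [4, 3], 802)))) (.node (.node (.leaf (63, 81, [5, 6], 158)) (.leaf (63, 80, [4], 664))) (.node (.leaf (78, 120, [3, 1], 434)) (.leaf (63, 125, [5, 6], 857))))) (.node (.node (.node (.leaf (78, 69, [3, 1], 108)) (.leaf (63, 30, [5,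 6], 574))) (.node (.leaf (64, 62, [4, 5], 351)) (.leaf (63, 125, [5, 6], 857)))) (.node (.node (.leaf (63, 13, [5, 6], 238)) (.leaf (93, 70, [3], 740))) (.node (.leaf (66, 5, [3, 4], 483)) (.leaf (63, 125, [5, 6], 857))))))))) (.node (.node (.node (.node (.node (.node (.node (.leaf (66, 3, [3, 4], 2)) (.leaf (66, 43, [3, 4], 489))) (.node (.leaf (73, 22, [5], 254)) (.leaf (93, 82, [1], 763)))) (.node (.node (.leaf (78, 95, [3, 1], 116)) (.leaf (66, 31, [3, 4], 584))) (.node (.leaf (93, 102, [2, 0], 365)) (.leaf (63, 125, [5, 6], 857))))) (.node (.node (.node (.leaf (93, 24, [3], 52)) (.leaf (64, 56, [4, 5], 538))) (.node (.leaf (78, 53, [2], 302)) (.leaf (66, 87, [3, 4], 825)))) (.node (.node (.leaf (73, 106, [0, 2], 175)) (.leaf (93, 53, [2, 0], 625))) (.node (.leaf (93, 8, [4], 450)) (.leaf (63, 125, [5, 6], 857)))))) (.node (.node (.node (.node (.leaf (73, 16, [5], 30)) (.leaf (78, 65, [6], 545))) (.node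 (.leaf (93, 40, [3], 276)) (.leaf (73, 117, [3, 2], 765)))) (.node (.node (.leaf (93, 86, [2, 0], 141)) (.leaf (63, 33, [5, 6], 603))) (.node (.leaf (73, 112, [0, 2], 399)) (.leaf (63, 125, [5, 6], 857))))) (.node (.node (.node (.leaf (78, 43, [2], 78)) (.leaf (63, 22, [5, 6], 554))) (.node (.leaf (78, 99, [3, 1], 340)) (.leaf (63, 125, [5, 6], 857)))) (.node (.node (.leaf (66, 4, [3, 4], 226)) (.leaf (93, 66, [2, 0], 687))) (.node (.leaf (69, 33, [2, 3], 469)) (.leaf (63, 125, [5, 6], 857))))))) (.node (.node (.node (.node (.node (.leaf (73, 12, [3, 2], 12)) (.leaf (66, 28, [1], 514))) (.node (.leaf (93, 37, [2, 0], 254)) (.leaf (73, 96, [3, 2], 735)))) (.node (.node (.leaf (93, 74, [2, 0], 119)) (.leaf (63, 31, [5, 6], 593))) (.node (.leaf (63, 68, [5, 6], 377)) (.leaf (63, 125, [5, 6], 857))))) (.node (.node (.node (.leaf (66, 25, [3, 4], 58)) (.leaf (64, 69, [3], 580))) (.node (.leaf (69, 95, [2, 3], 323))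 (.leaf (64, 119, [4, 5], 840)))) (.node (.node (.leaf (64, 113, [4, 5], 201)) (.leaf (93, 65, [2, 0], 655))) (.node (.leaf (73, 5, [0, 2], 453)) (.leaf (63, 125, [5, 6], 857)))))) (.node (.node (.node (.node (.leaf (93, 21, [2, 0], 30)) (.leaf (64, 47, [4, 5], 522))) (.node (.leaf (66, 26, [3, 4], 282)) (.leaf (78, 112, [2], 791)))) (.node (.node (.leaf (63, 67, [5, 6], 153)) (.leaf (73, 91, [4], 657))) (.node (.leaf (64, 114, [4, 5], 425)) (.leaf (63, 125, [5, 6], 857))))) (.node (.node (.node (.leaf (69, 94, [2, 3], 99)) (.leaf (63, 8, [5, 6], 570))) (.node (.leaf (93, 95, [2, 0], 343)) (.leaf (63, 125, [5, 6], 857)))) (.node (.node (.leaf (73, 18, [3, 2], 236)) (.leaf (64, 105, [6, 5], 705))) (.node (.leaf (66, 2, [3, 4], 481)) (.leaf (63, 125, [5, 6], 857)))))))) (.node (.node (.node (.node (.node (.node (.leaf (69, 9, [1, 3], 7)) (.leaf (66, 9, [1], 504))) (.node (.leaf (63, 61, [4], 267)) (.leaf (78,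 87, [3, 1], 730)))) (.node (.node (.leaf (78, 77, [2], 125)) (.leaf (66, 81, [3, 4], 588))) (.node (.leaf (93, 105, [3], 388)) (.leaf (63, 125, [5, 6], 857))))) (.node (.node (.node (.leaf (93, 31, [3], 75)) (.leaf (69, 81, [1, 3], 546))) (.node (.leaf (69, 47, [4, 3], 312)) (.leaf (78, 124, [3, 1], 833)))) (.node (.node (.leaf (63, 112, [4], 199)) (.leaf (93, 45, [2, 0], 641))) (.node (.leaf (93, 13, [6], 457)) (.leaf (63, 125, [5, 6], 857)))))) (.node (.node (.node (.node (.leaf (63, 60, [4], 43)) (.leaf (64, 36, [4, 5], 506))) (.node (.leaf (93, 52, [3], 299)) (.leaf (73, 121, [0, 2], 774)))) (.node (.node (.leaf (93, 89, [3], 164)) (.leaf (63, 99, [5, 6], 607))) (.node (.leaf (63, 113, [4], 423)) (.leaf (63, 125, [5, 6], 857))))) (.node (.node (.node (.leaf (69, 46, [4, 3], 88)) (.leaf (63, 42, [5, 6], 562))) (.node (.leaf (78, 86, [2], 349)) (.leaf (63, 125, [5, 6], 857)))) (.node (.node (.leaf (69, 12,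 [1, 3], 231)) (.leaf (64, 86, [4, 5], 693))) (.node (.leaf (69, 45, [2, 3], 477)) (.leaf (63, 125, [5, 6], 857))))))) (.node (.node (.node (.node (.node (.leaf (63, 34, [5, 6], 16)) (.leaf (66, 78, [1], 522))) (.node (.leaf (64, 41, [6, 5], 262)) (.leaf (73, 98, [3, 2], 749)))) (.node (.node (.leaf (64, 96, [4, 5], 133)) (.leaf (63, 32, [5, 6], 599))) (.node (.leaf (73, 109, [3, 2], 390)) (.leaf (63, 125, [5, 6], 857))))) (.node (.node (.node (.leaf (78, 41, [3, 1], 69)) (.leaf (64, 93, [0], 599))) (.node (.leaf (73, 76, [3, 2], 334)) (.leaf (63, 114, [5, 6], 850)))) (.node (.node (.leaf (78, 118, [4], 217)) (.leaf (69, 90, [4, 3], 673))) (.node (.leaf (73, 37, [0, 2], 461)) (.leaf (63, 125, [5, 6], 857)))))) (.node (.node (.node (.node (.leaf (64, 40, [6, 5], 38)) (.leaf (64, 48, [4, 5], 530))) (.node (.leaf (78, 50, [3, 1], 293)) (.leaf (69, 110, [2, 3], 808)))) (.node (.node (.leaf (73, 103, [3, 2], 166))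 (.leaf (63, 96, [4], 682))) (.node (.leaf (78, 122, [4], 441)) (.leaf (63, 125, [5, 6], 857))))) (.node (.node (.node (.leaf (73, 71, [3, 2], 110)) (.leaf (63, 51, [5, 6], 578))) (.node (.leaf (64, 97, [4, 5], 357)) (.leaf (63, 125, [5, 6], 857)))) (.node (.node (.leaf (63, 35, [5, 6], 240)) (.leaf (93, 116, [3], 746))) (.node (.leaf (66, 23, [3, 4], 485)) (.leaf (63, 125, [5, 6], 857)))))))))) (.node (.node (.node (.node (.node (.node (.node (.node (.leaf (69, 2, [2, 3], 1)) (.leaf (66, 24, [3, 4], 488))) (.node (.leaf (66, 37, [6], 251)) (.leaf (93, 81, [1], 761)))) (.node (.node (.leaf (78, 74, [3, 1], 115)) (.leaf (66, 16, [3, 4], 583))) (.node (.leaf (93, 101, [2, 0], 363)) (.leaf (63, 125, [5, 6], 857))))) (.node (.node (.node (.leaf (64, 63, [6, 5], 44)) (.leaf (64, 51, [4, 5], 536))) (.node (.leaf (73, 56, [0, 2], 299)) (.leaf (69, 125, [2, 3], 815)))) (.node (.node (.leaf (63, 88, [5, 6], 173)) (.leaf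 (63, 109, [2], 705))) (.node (.leaf (93, 7, [1], 449)) (.leaf (63, 125, [5, 6], 857)))))) (.node (.node (.node (.node (.leaf (66, 35, [6], 27)) (.leaf (78, 67, [5], 539))) (.node (.leaf (64, 65, [6, 5], 268)) (.leaf (66, 114, [5, 4], 757)))) (.node (.node (.leaf (93, 85, [2, 0], 139)) (.leaf (63, 83, [5, 6], 602))) (.node (.leaf (63, 89, [5, 6], 397)) (.leaf (63, 125, [5, 6], 857))))) (.node (.node (.node (.leaf (73, 51, [0, 2], 75)) (.leaf (63, 16, [5, 6], 552))) (.node (.leaf (78, 83, [3, 1], 339)) (.leaf (63, 124, [5, 6], 856)))) (.node (.node (.leaf (69, 3, [2, 3], 225)) (.leaf (93, 46, [2, 0], 685))) (.node (.leaf (69, 17, [2, 3], 467)) (.leaf (63, 125, [5, 6], 857))))))) (.node (.node (.node (.node (.node (.leaf (73, 11, [3, 2], 10)) (.leaf (66, 48, [1], 512))) (.node (.leaf (69, 39, [4, 3], 251)) (.leaf (73, 95, [3, 2], 734)))) (.node (.node (.leaf (78, 98, [0], 140)) (.leaf (66, 82, [3, 4], 591)))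 (.node (.leaf (93, 108, [5], 400)) (.leaf (63, 125, [5, 6], 857))))) (.node (.node (.node (.leaf (73, 40, [3, 2], 55)) (.leaf (64, 57, [3], 576))) (.node (.leaf (69, 59, [2, 3], 320)) (.leaf (64, 112, [4, 5], 838)))) (.node (.node (.leaf (69, 113, [2, 3], 197)) (.leaf (93, 63, [2, 0], 653))) (.node (.leaf (73, 4, [0, 2], 451)) (.leaf (63, 125, [5, 6], 857)))))) (.node (.node (.node (.node (.leaf (69, 36, [4, 3], 27)) (.leaf (64, 42, [4, 5], 518))) (.node (.leaf (73, 44, [3, 2], 279)) (.leaf (78, 109, [2], 787)))) (.node (.node (.leaf (93, 92, [5], 176)) (.leaf (73, 68, [4], 655))) (.node (.leaf (69, 116, [2, 3], 421)) (.leaf (63, 125, [5, 6], 857))))) (.node (.node (.node (.leaf (69, 55, [2, 3], 96)) (.leaf (63, 29, [5, 6], 568))) (.node (.leaf (78, 102, [0], 364)) (.leaf (63, 125, [5, 6], 857)))) (.node (.node (.leaf (73, 17, [3, 2], 234)) (.leaf (69, 92, [2, 3], 703))) (.node (.leaf (66, 11, [3, 4], 480))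 (.leaf (63, 125, [5, 6], 857)))))))) (.node (.node (.node (.node (.node (.node (.leaf (69, 8, [1, 3], 5)) (.leaf (66, 47, [3, 4], 492))) (.node (.leaf (63, 54, [2], 264)) (.leaf (78, 31, [3, 1], 728)))) (.node (.node (.leaf (78, 76, [2], 123)) (.leaf (66, 71, [3, 4], 587))) (.node (.leaf (93, 103, [3], 384)) (.leaf (63, 125, [5, 6], 857))))) (.node (.node (.node (.leaf (93, 26, [4], 70)) (.leaf (69, 50, [1, 3], 544))) (.node (.leaf (69, 31, [4, 3], 310)) (.leaf (66, 120, [3, 4], 831)))) (.node (.node (.leaf (63, 90, [4], 194)) (.leaf (93, 61, [2, 0], 637))) (.node (.leaf (93, 10, [6], 455)) (.leaf (63, 125, [5, 6], 857)))))) (.node (.node (.node (.node (.leaf (63, 53, [2], 40)) (.leaf (64, 20, [4, 5], 502))) (.node (.leaf (93, 42, [4], 294)) (.leaf (73, 102, [0, 2], 772)))) (.node (.node (.leaf (93, 87, [3], 160)) (.leaf (63, 95, [5, 6], 606))) (.node (.leaf (63, 91, [4], 418)) (.leaf (63, 125, [5, 6], 857)))))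 (.node (.node (.node (.leaf (69, 30, [4, 3], 86)) (.leaf (63, 26, [5, 6], 560))) (.node (.leaf (78, 85, [2], 347)) (.leaf (63, 125, [5, 6], 857)))) (.node (.node (.leaf (69, 11, [1, 3], 229)) (.leaf (93, 113, [2, 0], 692))) (.node (.leaf (69, 35, [2, 3], 475)) (.leaf (63, 125, [5, 6], 857))))))) (.node (.node (.node (.node (.node (.leaf (63, 18, [5, 6], 15)) (.leaf (66, 54, [1], 520))) (.node (.leaf (69, 25, [2, 3], 260)) (.leaf (78, 91, [3, 1], 747)))) (.node (.node (.leaf (64, 70, [4, 5], 129)) (.leaf (63, 17, [5, 6], 598))) (.node (.leaf (66, 91, [3, 4], 387)) (.leaf (63, 125, [5, 6], 857))))) (.node (.node (.node (.leaf (66, 64, [5, 4], 65)) (.leaf (64, 83, [2], 597))) (.node (.leaf (73, 75, [3, 2], 333)) (.leaf (63, 92, [5, 6], 848)))) (.node (.node (.leaf (66, 117, [3, 4], 211)) (.leaf (69, 75, [4, 3], 669))) (.node (.leaf (73, 36, [0, 2], 459)) (.leaf (63, 125, [5, 6], 857)))))) (.node (.node (.node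 (.node (.leaf (69, 22, [2, 3], 36)) (.leaf (64, 10, [4, 5], 528))) (.node (.leaf (66, 67, [5, 4], 289)) (.leaf (69, 99, [2, 3], 806)))) (.node (.node (.leaf (66, 89, [3, 4], 163)) (.leaf (63, 84, [4], 674))) (.node (.leaf (66, 118, [3, 4], 435)) (.leaf (63, 125, [5, 6], 857))))) (.node (.node (.node (.leaf (73, 70, [3, 2], 109)) (.leaf (63, 55, [5, 6], 576))) (.node (.leaf (64, 71, [4, 5], 353)) (.leaf (63, 125, [5, 6], 857)))) (.node (.node (.leaf (63, 19, [5, 6], 239)) (.leaf (93, 115, [3], 742))) (.node (.leaf (66, 33, [3, 4], 484)) (.leaf (63, 125, [5, 6], 857))))))))) (.node (.node (.node (.node (.node (.node (.node (.leaf (66, 7, [1], 4)) (.leaf (66, 40, [3, 4], 490))) (.node (.leaf (63, 40, [3], 259)) (.leaf (93, 121, [1], 766)))) (.node (.node (.leaf (73, 79, [3, 2], 117)) (.leaf (66, 62, [3, 4], 585))) (.node (.leaf (69, 103, [1, 3], 367)) (.leaf (63, 125, [5, 6], 857))))) (.node (.node (.node (.leaf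 (93, 25, [3], 57)) (.leaf (64, 78, [4, 5], 540))) (.node (.leaf (78, 30, [4], 307)) (.leaf (66, 109, [3, 4], 827)))) (.node (.node (.leaf (66, 110, [5, 4], 177)) (.leaf (93, 57, [2, 0], 629))) (.node (.leaf (93, 11, [3], 452)) (.leaf (63, 125, [5, 6], 857)))))) (.node (.node (.node (.node (.leaf (63, 39, [3], 35)) (.leaf (64, 0, [4, 5], 494))) (.node (.leaf (93, 41, [3], 281)) (.leaf (73, 99, [0, 2], 768)))) (.node (.node (.leaf (69, 100, [1, 3], 143)) (.leaf (63, 93, [5, 6], 604))) (.node (.leaf (66, 112, [5, 4], 401)) (.leaf (63, 125, [5, 6], 857))))) (.node (.node (.node (.leaf (78, 26, [4], 83)) (.leaf (63, 38, [5, 6], 556))) (.node (.leaf (73, 83, [3, 2], 341)) (.leaf (63, 125, [5, 6], 857)))) (.node (.node (.leaf (66, 8, [1], 228)) (.leaf (93, 112, [2, 0], 689))) (.node (.leaf (69, 6, [2, 3], 471)) (.leaf (63, 125, [5, 6], 857))))))) (.node (.node (.node (.node (.node (.leaf (73, 13, [3, 2], 13)) (.leaf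 (66, 53, [1], 516))) (.node (.leaf (64, 22, [4, 5], 255)) (.leaf (73, 97, [3, 2], 736)))) (.node (.node (.leaf (93, 76, [2, 0], 124)) (.leaf (63, 52, [5, 6], 595))) (.node (.leaf (63, 77, [5, 6], 379)) (.leaf (63, 125, [5, 6], 857))))) (.node (.node (.node (.leaf (66, 29, [5, 4], 61)) (.leaf (64, 19, [2], 592))) (.node (.leaf (73, 32, [3, 2], 330)) (.leaf (64, 122, [4, 5], 842)))) (.node (.node (.leaf (64, 120, [6, 5], 206)) (.leaf (93, 111, [2, 0], 657))) (.node (.leaf (73, 9, [0, 2], 455)) (.leaf (63, 125, [5, 6], 857)))))) (.node (.node (.node (.node (.leaf (64, 21, [4, 5], 31)) (.leaf (64, 7, [4, 5], 524))) (.node (.leaf (66, 30, [5, 4], 285)) (.leaf (78, 113, [2], 797)))) (.node (.node (.leaf (63, 76, [5, 6], 155)) (.leaf (63, 66, [4], 661))) (.node (.leaf (64, 121, [6, 5], 430)) (.leaf (63, 125, [5, 6], 857))))) (.node (.node (.node (.leaf (73, 31, [3, 2], 106)) (.leaf (63, 50, [5, 6], 572))) (.node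 (.leaf (93, 97, [2, 0], 348)) (.leaf (63, 125, [5, 6], 857)))) (.node (.node (.leaf (73, 19, [3, 2], 237)) (.leaf (93, 47, [3], 738))) (.node (.leaf (66, 17, [3, 4], 482)) (.leaf (63, 125, [5, 6], 857)))))))) (.node (.node (.node (.node (.node (.node (.leaf (64, 11, [3], 11)) (.leaf (66, 27, [1], 508))) (.node (.leaf (93, 34, [2, 0], 244)) (.leaf (78, 90, [3, 1], 732)))) (.node (.node (.leaf (66, 83, [1], 131)) (.leaf (66, 63, [3, 4], 589))) (.node (.leaf (64, 104, [3], 391)) (.leaf (63, 125, [5, 6], 857))))) (.node (.node (.node (.leaf (78, 39, [3, 1], 50)) (.leaf (69, 65, [1, 3], 548))) (.node (.leaf (69, 71, [4, 3], 314)) (.leaf (78, 125, [3, 1], 834)))) (.node (.node (.leaf (63, 119, [1], 205)) (.leaf (93, 62, [2, 0], 645))) (.node (.leaf (93, 16, [5], 461)) (.leaf (63, 125, [5, 6], 857)))))) (.node (.node (.node (.node (.leaf (93, 18, [2, 0], 20)) (.leaf (64, 6, [4, 5], 510))) (.node (.leaf (78, 48, [3,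 1], 274)) (.leaf (73, 122, [0, 2], 776)))) (.node (.node (.leaf (64, 103, [3], 167)) (.leaf (73, 30, [4], 643))) (.node (.leaf (63, 120, [1], 429)) (.leaf (63, 125, [5, 6], 857))))) (.node (.node (.node (.leaf (69, 67, [4, 3], 90)) (.leaf (63, 47, [5, 6], 564))) (.node (.leaf (66, 84, [1], 355)) (.leaf (63, 125, [5, 6], 857)))) (.node (.node (.leaf (64, 12, [3], 235)) (.leaf (64, 98, [4, 5], 699))) (.node (.leaf (66, 0, [3, 4], 478)) (.leaf (63, 125, [5, 6], 857))))))) (.node (.node (.node (.node (.node (.leaf (73, 15, [4], 22)) (.leaf (78, 22, [5], 531))) (.node (.leaf (64, 50, [6, 5], 264)) (.leaf (73, 116, [3, 2], 751)))) (.node (.node (.leaf (64, 80, [4, 5], 135)) (.leaf (63, 73, [5, 6], 600))) (.node (.leaf (73, 110, [3, 2], 392)) (.leaf (63, 125, [5, 6], 857))))) (.node (.node (.node (.leaf (73, 48, [0, 2], 71)) (.leaf (64, 95, [0], 601))) (.node (.leaf (73, 77, [3, 2], 335)) (.leaf (63, 121, [5, 6],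 852)))) (.node (.node (.leaf (73, 123, [3, 2], 221)) (.leaf (69, 93, [4, 3], 677))) (.node (.leaf (69, 0, [2, 3], 463)) (.leaf (63, 125, [5, 6], 857)))))) (.node (.node (.node (.node (.leaf (64, 49, [6, 5], 40)) (.leaf (64, 30, [4, 5], 532))) (.node (.leaf (73, 53, [0, 2], 295)) (.leaf (69, 111, [2, 3], 810)))) (.node (.node (.leaf (73, 104, [3, 2], 168)) (.leaf (63, 100, [4], 684))) (.node (.leaf (73, 124, [3, 2], 445)) (.leaf (63, 125, [5, 6], 857))))) (.node (.node (.node (.leaf (73, 72, [3, 2], 111)) (.leaf (63, 56, [5, 6], 580))) (.node (.leaf (64, 81, [4, 5], 359)) (.leaf (63, 125, [5, 6], 857)))) (.node (.node (.leaf (73, 21, [4], 246)) (.leaf (93, 117, [3], 753))) (.node (.leaf (66, 6, [3, 4], 486)) (.leaf (63, 125, [5, 6], 857))))))))))) (.node (.node (.node (.node (.node (.node (.node (.node (.node (.leaf (73, 1, [0, 2], 0)) (.leaf (78, 19, [3, 1], 488))) (.node (.leaf (63, 21, [4], 250)) (.leaf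 (93, 80, [1], 760)))) (.node (.node (.leaf (66, 69, [3, 4], 114)) (.leaf (73, 25, [3, 2], 583))) (.node (.leaf (69, 88, [1, 3], 362)) (.leaf (63, 125, [5, 6], 857))))) (.node (.node (.node (.leaf (64, 58, [6, 5], 43)) (.leaf (69, 49, [1, 3], 535))) (.node (.leaf (73, 46, [0, 2], 298)) (.leaf (69, 124, [2, 3], 814)))) (.node (.node (.leaf (66, 105, [3, 4], 169)) (.leaf (63, 103, [3], 702))) (.node (.leaf (93, 3, [3], 448)) (.leaf (63, 125, [5, 6], 857)))))) (.node (.node (.node (.node (.leaf (63, 20, [4], 26)) (.leaf (78, 64, [5], 537))) (.node (.leaf (64, 59, [6, 5], 267)) (.leaf (66, 108, [5, 4], 756)))) (.node (.node (.leaf (69, 85, [1, 3], 138)) (.leaf (66, 85, [5, 4], 602))) (.node (.leaf (66, 107, [3, 4], 393)) (.leaf (63, 125, [5, 6], 857))))) (.node (.node (.node (.leaf (73, 42, [0, 2], 74)) (.leaf (63, 1, [5, 6], 551))) (.node (.leaf (66, 70, [3, 4], 338)) (.leaf (63, 123, [5, 6], 855)))) (.node (.node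 (.leaf (73, 2, [0, 2], 224)) (.leaf (69, 106, [4, 3], 683))) (.node (.leaf (69, 4, [2, 3], 466)) (.leaf (63, 125, [5, 6], 857))))))) (.node (.node (.node (.node (.node (.leaf (63, 5, [5, 6], 9)) (.leaf (78, 36, [4], 511))) (.node (.leaf (69, 23, [4, 3], 249)) (.leaf (78, 93, [3, 1], 734)))) (.node (.node (.leaf (78, 97, [0], 138)) (.leaf (73, 89, [3, 2], 591))) (.node (.leaf (64, 110, [2], 398)) (.leaf (63, 125, [5, 6], 857))))) (.node (.node (.node (.leaf (78, 40, [3, 1], 55)) (.leaf (64, 31, [3], 574))) (.node (.leaf (69, 58, [2, 3], 319)) (.leaf (64, 106, [4, 5], 837)))) (.node (.node (.leaf (69, 112, [2, 3], 196)) (.leaf (93, 110, [2, 0], 651))) (.node (.leaf (73, 7, [0, 2], 450)) (.leaf (63, 125, [5, 6], 857)))))) (.node (.node (.node (.node (.leaf (69, 20, [4, 3], 25)) (.leaf (64, 43, [4, 5], 516))) (.node (.leaf (78, 49, [3, 1], 279)) (.leaf (78, 94, [2], 785)))) (.node (.node (.leaf (64, 109, [2],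 174)) (.leaf (73, 90, [4], 651))) (.node (.leaf (69, 115, [2, 3], 420)) (.leaf (63, 125, [5, 6], 857))))) (.node (.node (.node (.leaf (69, 54, [2, 3], 95)) (.leaf (73, 27, [3, 2], 567))) (.node (.leaf (78, 101, [0], 362)) (.leaf (63, 125, [5, 6], 857)))) (.node (.node (.leaf (63, 6, [5, 6], 233)) (.leaf (93, 114, [2, 0], 703))) (.node (.leaf (78, 2, [3, 1], 480)) (.leaf (63, 125, [5, 6], 857)))))))) (.node (.node (.node (.node (.node (.node (.leaf (64, 4, [4, 5], 4)) (.leaf (78, 59, [3, 1], 492))) (.node (.leaf (63, 44, [2], 262)) (.leaf (93, 123, [3], 776)))) (.node (.node (.leaf (73, 80, [1], 122)) (.leaf (73, 64, [3, 2], 587))) (.node (.leaf (69, 105, [1, 3], 370)) (.leaf (63, 125, [5, 6], 857))))) (.node (.node (.node (.leaf (93, 29, [1], 70)) (.leaf (69, 62, [1, 3], 543))) (.node (.leaf (78, 56, [4], 327)) (.leaf (66, 116, [3, 4], 830)))) (.node (.node (.leaf (66, 111, [2], 193)) (.leaf (93, 58, [2, 0],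 635))) (.node (.leaf (93, 12, [5], 454)) (.leaf (63, 125, [5, 6], 857)))))) (.node (.node (.node (.node (.leaf (63, 43, [2], 38)) (.leaf (64, 2, [4, 5], 500))) (.node (.leaf (93, 50, [1], 294)) (.leaf (73, 119, [0, 2], 771)))) (.node (.node (.leaf (69, 102, [1, 3], 146)) (.leaf (66, 97, [5, 4], 606))) (.node (.leaf (66, 113, [2], 417)) (.leaf (63, 125, [5, 6], 857))))) (.node (.node (.node (.leaf (78, 46, [4], 103)) (.leaf (63, 41, [5, 6], 559))) (.node (.leaf (73, 84, [1], 346)) (.leaf (63, 125, [5, 6], 857)))) (.node (.node (.leaf (64, 5, [4, 5], 228)) (.leaf (64, 77, [4, 5], 691))) (.node (.leaf (69, 43, [2, 3], 474)) (.leaf (63, 125, [5, 6], 857))))))) (.node (.node (.node (.node (.node (.leaf (66, 18, [5, 4], 15)) (.leaf (78, 61, [4], 519))) (.node (.leaf (93, 38, [2, 0], 260)) (.leaf (78, 89, [3, 1], 744)))) (.node (.node (.leaf (64, 66, [4, 5], 128)) (.leaf (66, 22, [5, 4], 598))) (.node (.leaf (66,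 90, [3, 4], 385)) (.leaf (63, 125, [5, 6], 857))))) (.node (.node (.node (.leaf (66, 55, [5, 4], 64)) (.leaf (64, 74, [2], 596))) (.node (.leaf (78, 80, [3, 1], 333)) (.leaf (64, 125, [4, 5], 847)))) (.node (.node (.leaf (78, 117, [3, 1], 211)) (.leaf (69, 32, [4, 3], 667))) (.node (.leaf (73, 10, [0, 2], 458)) (.leaf (63, 125, [5, 6], 857)))))) (.node (.node (.node (.node (.leaf (93, 22, [2, 0], 36)) (.leaf (69, 15, [1, 3], 527))) (.node (.leaf (66, 56, [5, 4], 288)) (.leaf (69, 83, [2, 3], 805)))) (.node (.node (.leaf (66, 88, [3, 4], 161)) (.leaf (63, 75, [4], 672))) (.node (.leaf (78, 121, [3, 1], 435)) (.leaf (63, 125, [5, 6], 857))))) (.node (.node (.node (.leaf (78, 70, [3, 1], 109)) (.leaf (73, 60, [3, 2], 575))) (.node (.leaf (64, 67, [4, 5], 352)) (.leaf (63, 125, [5, 6], 857)))) (.node (.node (.leaf (66, 20, [5, 4], 239)) (.leaf (93, 71, [3], 741))) (.node (.leaf (78, 33, [3, 1], 484)) (.leaf (63,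 125, [5, 6], 857))))))))) (.node (.node (.node (.node (.node (.node (.node (.leaf (78, 4, [4], 3)) (.leaf (78, 35, [3, 1], 490))) (.node (.leaf (63, 24, [3], 257)) (.leaf (93, 120, [1], 764)))) (.node (.node (.leaf (66, 95, [3, 4], 116)) (.leaf (73, 62, [3, 2], 585))) (.node (.leaf (64, 85, [4, 5], 366)) (.leaf (63, 125, [5, 6], 857))))) (.node (.node (.node (.leaf (69, 38, [5], 55)) (.leaf (69, 80, [1, 3], 539))) (.node (.leaf (78, 54, [2], 305)) (.leaf (66, 103, [3, 4], 826)))) (.node (.node (.leaf (73, 107, [0, 2], 176)) (.leaf (93, 44, [2, 0], 627))) (.node (.leaf (93, 5, [5], 451)) (.leaf (63, 125, [5, 6], 857)))))) (.node (.node (.node (.node (.leaf (63, 23, [3], 33)) (.leaf (78, 68, [6], 546))) (.node (.leaf (69, 41, [5], 279)) (.leaf (73, 78, [0, 2], 767)))) (.node (.node (.leaf (64, 84, [4, 5], 142)) (.leaf (66, 93, [5, 4], 604))) (.node (.leaf (73, 113, [0, 2], 400)) (.leaf (63, 125, [5, 6], 857)))))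 (.node (.node (.node (.leaf (78, 44, [2], 81)) (.leaf (63, 3, [5, 6], 555))) (.node (.leaf (66, 96, [3, 4], 340)) (.leaf (63, 125, [5, 6], 857)))) (.node (.node (.leaf (78, 8, [4], 227)) (.leaf (93, 67, [2, 0], 688))) (.node (.leaf (69, 18, [2, 3], 470)) (.leaf (63, 125, [5, 6], 857))))))) (.node (.node (.node (.node (.node (.leaf (66, 12, [3, 4], 12)) (.leaf (78, 60, [4], 515))) (.node (.leaf (69, 24, [2, 3], 254)) (.leaf (78, 104, [3, 1], 736)))) (.node (.node (.leaf (93, 75, [2, 0], 122)) (.leaf (63, 59, [5, 6], 594))) (.node (.leaf (63, 72, [5, 6], 378)) (.leaf (63, 125, [5, 6], 857))))) (.node (.node (.node (.leaf (66, 41, [5, 4], 60)) (.leaf (64, 79, [3], 582))) (.node (.leaf (69, 79, [1, 3], 329)) (.leaf (64, 118, [4, 5], 841)))) (.node (.node (.leaf (64, 116, [6, 5], 205)) (.leaf (64, 72, [4, 5], 656))) (.node (.leaf (73, 33, [0, 2], 454)) (.leaf (63, 125, [5, 6], 857)))))) (.node (.node (.node (.node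 (.leaf (69, 21, [2, 3], 30)) (.leaf (69, 14, [1, 3], 523))) (.node (.leaf (66, 42, [5, 4], 284)) (.leaf (78, 111, [2], 795)))) (.node (.node (.leaf (63, 71, [5, 6], 154)) (.leaf (66, 86, [2], 658))) (.node (.leaf (64, 117, [6, 5], 429)) (.leaf (63, 125, [5, 6], 857))))) (.node (.node (.node (.leaf (69, 78, [1, 3], 105)) (.leaf (73, 57, [3, 2], 571))) (.node (.leaf (93, 96, [2, 0], 346)) (.leaf (63, 125, [5, 6], 857)))) (.node (.node (.leaf (66, 14, [3, 4], 236)) (.leaf (64, 111, [6, 5], 706))) (.node (.leaf (78, 17, [3, 1], 482)) (.leaf (63, 125, [5, 6], 857)))))))) (.node (.node (.node (.node (.node (.node (.leaf (69, 10, [1, 3], 8)) (.leaf (78, 20, [4], 507))) (.node (.leaf (93, 33, [2, 0], 242)) (.leaf (78, 88, [3, 1], 731)))) (.node (.node (.leaf (73, 82, [1], 126)) (.leaf (73, 63, [3, 2], 589))) (.node (.leaf (64, 88, [3], 389)) (.leaf (63, 125, [5, 6], 857))))) (.node (.node (.node (.leaf (78, 23, [3,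 1], 49)) (.leaf (69, 63, [1, 3], 547))) (.node (.leaf (69, 70, [4, 3], 313)) (.leaf (66, 124, [3, 4], 833)))) (.node (.node (.leaf (63, 115, [3], 204)) (.leaf (93, 55, [2, 0], 643))) (.node (.leaf (93, 15, [6], 459)) (.leaf (63, 125, [5, 6], 857)))))) (.node (.node (.node (.node (.leaf (93, 17, [2, 0], 18)) (.leaf (64, 23, [4, 5], 508))) (.node (.leaf (78, 27, [3, 1], 273)) (.leaf (73, 118, [0, 2], 775)))) (.node (.node (.leaf (64, 87, [3], 165)) (.leaf (73, 26, [4], 641))) (.node (.leaf (63, 116, [3], 428)) (.leaf (63, 125, [5, 6], 857))))) (.node (.node (.node (.leaf (69, 66, [4, 3], 89)) (.leaf (63, 46, [5, 6], 563))) (.node (.leaf (73, 86, [1], 350)) (.leaf (63, 125, [5, 6], 857)))) (.node (.node (.leaf (69, 13, [1, 3], 232)) (.leaf (69, 98, [4, 3], 699))) (.node (.leaf (78, 0, [3, 1], 478)) (.leaf (63, 125, [5, 6], 857))))))) (.node (.node (.node (.node (.node (.leaf (73, 14, [4], 20)) (.leaf (78, 16,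 [5], 527))) (.node (.leaf (64, 29, [6, 5], 263)) (.leaf (78, 107, [3, 1], 751)))) (.node (.node (.leaf (93, 83, [2, 0], 134)) (.leaf (66, 73, [5, 4], 600))) (.node (.leaf (63, 102, [5, 6], 391)) (.leaf (63, 125, [5, 6], 857))))) (.node (.node (.node (.leaf (73, 41, [3, 2], 69)) (.leaf (64, 94, [0], 600))) (.node (.leaf (78, 82, [3, 1], 335)) (.leaf (63, 117, [5, 6], 851)))) (.node (.node (.leaf (69, 122, [4, 3], 219)) (.leaf (69, 42, [4, 3], 675))) (.node (.leaf (73, 38, [0, 2], 462)) (.leaf (63, 125, [5, 6], 857)))))) (.node (.node (.node (.node (.leaf (64, 28, [6, 5], 39)) (.leaf (69, 28, [1, 3], 531))) (.node (.leaf (73, 45, [3, 2], 293)) (.leaf (69, 119, [2, 3], 809)))) (.node (.node (.leaf (63, 101, [5, 6], 167)) (.leaf (66, 102, [6], 683))) (.node (.leaf (69, 123, [4, 3], 443)) (.leaf (63, 125, [5, 6], 857))))) (.node (.node (.node (.leaf (78, 72, [3, 1], 111)) (.leaf (73, 61, [3, 2], 579))) (.node (.leaf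 (93, 99, [2, 0], 358)) (.leaf (63, 125, [5, 6], 857)))) (.node (.node (.leaf (73, 20, [4], 244)) (.leaf (69, 108, [5], 751))) (.node (.leaf (78, 13, [3, 1], 486)) (.leaf (63, 125, [5, 6], 857)))))))))) (.node (.node (.node (.node (.node (.node (.node (.node (.leaf (78, 3, [3, 1], 2)) (.leaf (78, 57, [3, 1], 489))) (.node (.leaf (63, 37, [4], 252)) (.leaf (93, 119, [1], 762)))) (.node (.node (.leaf (66, 74, [3, 4], 115)) (.leaf (73, 29, [3, 2], 584))) (.node (.leaf (69, 89, [1, 3], 364)) (.leaf (63, 125, [5, 6], 857))))) (.node (.node (.node (.leaf (93, 23, [3], 51)) (.leaf (69, 61, [1, 3], 537))) (.node (.leaf (73, 94, [0, 2], 300)) (.leaf (78, 123, [3, 1], 824)))) (.node (.node (.leaf (63, 104, [5, 6], 174)) (.leaf (93, 43, [2, 0], 623))) (.node (.leaf (93, 4, [4], 449)) (.leaf (63, 125, [5, 6], 857)))))) (.node (.node (.node (.node (.leaf (63, 36, [4], 28)) (.leaf (78, 63, [6], 543))) (.node (.leaf (93,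 39, [3], 275)) (.leaf (78, 108, [3, 1], 765)))) (.node (.node (.leaf (69, 86, [1, 3], 140)) (.leaf (66, 38, [5, 4], 603))) (.node (.leaf (63, 105, [5, 6], 398)) (.leaf (63, 125, [5, 6], 857))))) (.node (.node (.node (.leaf (73, 93, [0, 2], 76)) (.leaf (63, 2, [5, 6], 553))) (.node (.leaf (66, 75, [3, 4], 339)) (.leaf (63, 125, [5, 6], 857)))) (.node (.node (.leaf (78, 7, [3, 1], 226)) (.leaf (93, 56, [2, 0], 686))) (.node (.leaf (69, 5, [2, 3], 468)) (.leaf (63, 125, [5, 6], 857))))))) (.node (.node (.node (.node (.node (.leaf (63, 9, [5, 6], 11)) (.leaf (78, 21, [4], 513))) (.node (.leaf (93, 36, [2, 0], 253)) (.leaf (78, 103, [3, 1], 735)))) (.node (.node (.leaf (93, 73, [2, 0], 118)) (.leaf (63, 11, [5, 6], 592))) (.node (.leaf (63, 65, [5, 6], 376)) (.leaf (63, 125, [5, 6], 857))))) (.node (.node (.node (.leaf (78, 25, [3, 1], 58)) (.leaf (64, 52, [3], 578))) (.node (.leaf (69, 74, [2, 3], 322)) (.leaf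 (64, 115, [4, 5], 839)))) (.node (.node (.leaf (69, 114, [2, 3], 200)) (.leaf (64, 68, [4, 5], 654))) (.node (.leaf (73, 8, [0, 2], 452)) (.leaf (63, 125, [5, 6], 857)))))) (.node (.node (.node (.node (.leaf (93, 20, [2, 0], 29)) (.leaf (64, 46, [4, 5], 520))) (.node (.leaf (78, 29, [3, 1], 282)) (.leaf (78, 110, [2], 789)))) (.node (.node (.leaf (63, 64, [5, 6], 152)) (.leaf (66, 77, [2], 656))) (.node (.leaf (69, 117, [2, 3], 424)) (.leaf (63, 125, [5, 6], 857))))) (.node (.node (.node (.leaf (69, 73, [2, 3], 98)) (.leaf (73, 24, [3, 2], 569))) (.node (.leaf (93, 94, [2, 0], 342)) (.leaf (63, 125, [5, 6], 857)))) (.node (.node (.leaf (63, 10, [5, 6], 235)) (.leaf (64, 89, [6, 5], 704))) (.node (.leaf (78, 11, [3, 1], 481)) (.leaf (63, 125, [5, 6], 857)))))))) (.node (.node (.node (.node (.node (.node (.leaf (64, 8, [4, 5], 6)) (.leaf (78, 14, [4], 503))) (.node (.leaf (63, 58, [3], 266)) (.leaf (78, 32,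 [3, 1], 729)))) (.node (.node (.leaf (73, 81, [1], 124)) (.leaf (73, 88, [3, 2], 588))) (.node (.leaf (93, 104, [3], 386)) (.leaf (63, 125, [5, 6], 857))))) (.node (.node (.node (.leaf (93, 30, [4], 73)) (.leaf (69, 64, [1, 3], 545))) (.node (.leaf (69, 52, [4, 3], 311)) (.leaf (66, 123, [3, 4], 832)))) (.node (.node (.leaf (63, 106, [4], 195)) (.leaf (93, 109, [2, 0], 639))) (.node (.leaf (93, 14, [4], 457)) (.leaf (63, 125, [5, 6], 857)))))) (.node (.node (.node (.node (.leaf (63, 57, [3], 42)) (.leaf (64, 3, [4, 5], 504))) (.node (.leaf (93, 51, [4], 297)) (.leaf (73, 120, [0, 2], 773)))) (.node (.node (.leaf (93, 88, [3], 162)) (.leaf (66, 101, [5, 4], 607))) (.node (.leaf (63, 107, [4], 419)) (.leaf (63, 125, [5, 6], 857))))) (.node (.node (.node (.leaf (69, 51, [4, 3], 87)) (.leaf (63, 45, [5, 6], 561))) (.node (.leaf (73, 85, [1], 348)) (.leaf (63, 125, [5, 6], 857)))) (.node (.node (.leaf (64, 9, [4,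 5], 230)) (.leaf (69, 91, [2, 3], 692))) (.node (.leaf (69, 44, [2, 3], 476)) (.leaf (63, 125, [5, 6], 857))))))) (.node (.node (.node (.node (.node (.leaf (66, 34, [5, 4], 16)) (.leaf (78, 66, [4], 521))) (.node (.leaf (64, 25, [6, 5], 261)) (.leaf (78, 105, [3, 1], 749)))) (.node (.node (.leaf (64, 75, [4, 5], 131)) (.leaf (66, 32, [5, 4], 599))) (.node (.leaf (63, 86, [5, 6], 389)) (.leaf (63, 125, [5, 6], 857))))) (.node (.node (.node (.leaf (66, 65, [5, 4], 66)) (.leaf (64, 35, [0], 598))) (.node (.leaf (78, 81, [3, 1], 334)) (.leaf (63, 108, [5, 6], 849)))) (.node (.node (.leaf (66, 121, [5, 4], 214)) (.leaf (69, 76, [4, 3], 671))) (.node (.leaf (73, 35, [0, 2], 460)) (.leaf (63, 125, [5, 6], 857)))))) (.node (.node (.node (.node (.leaf (64, 24, [6, 5], 37)) (.leaf (69, 48, [1, 3], 529))) (.node (.leaf (66, 68, [5, 4], 290)) (.leaf (69, 109, [2, 3], 807)))) (.node (.node (.leaf (63, 85, [5, 6], 165))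 (.leaf (66, 98, [6], 681))) (.node (.leaf (66, 122, [5, 4], 438)) (.leaf (63, 125, [5, 6], 857))))) (.node (.node (.node (.leaf (78, 71, [3, 1], 110)) (.leaf (73, 58, [3, 2], 577))) (.node (.leaf (64, 76, [4, 5], 355)) (.leaf (63, 125, [5, 6], 857)))) (.node (.node (.leaf (66, 36, [5, 4], 240)) (.leaf (93, 72, [3], 743))) (.node (.leaf (78, 18, [3, 1], 485)) (.leaf (63, 125, [5, 6], 857))))))))) (.node (.node (.node (.node (.node (.node (.node (.leaf (78, 5, [5], 5)) (.leaf (78, 58, [3, 1], 491))) (.node (.leaf (63, 28, [1], 261)) (.leaf (93, 118, [4], 766)))) (.node (.node (.leaf (66, 79, [3, 4], 117)) (.leaf (73, 59, [3, 2], 586))) (.node (.leaf (64, 101, [4, 5], 368)) (.leaf (63, 125, [5, 6], 857))))) (.node (.node (.node (.leaf (93, 27, [1], 67)) (.leaf (69, 16, [1, 3], 541))) (.node (.leaf (78, 55, [2], 316)) (.leaf (66, 115, [3, 4], 828)))) (.node (.node (.leaf (63, 110, [5, 6], 177)) (.leaf (93, 54,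 [2, 0], 631))) (.node (.leaf (93, 9, [5], 452)) (.leaf (63, 125, [5, 6], 857)))))) (.node (.node (.node (.node (.leaf (63, 27, [1], 37)) (.leaf (64, 1, [4, 5], 496))) (.node (.leaf (93, 48, [1], 291)) (.leaf (73, 100, [0, 2], 769)))) (.node (.node (.leaf (64, 100, [4, 5], 144)) (.leaf (66, 94, [5, 4], 605))) (.node (.leaf (63, 111, [5, 6], 401)) (.leaf (63, 125, [5, 6], 857))))) (.node (.node (.node (.leaf (78, 45, [2], 92)) (.leaf (63, 25, [5, 6], 557))) (.node (.leaf (66, 80, [3, 4], 341)) (.leaf (63, 125, [5, 6], 857)))) (.node (.node (.leaf (78, 9, [5], 229)) (.leaf (93, 68, [2, 0], 690))) (.node (.leaf (69, 34, [2, 3], 472)) (.leaf (63, 125, [5, 6], 857))))))) (.node (.node (.node (.node (.node (.leaf (66, 13, [3, 4], 13)) (.leaf (78, 37, [4], 517))) (.node (.leaf (69, 40, [4, 3], 258)) (.leaf (78, 106, [3, 1], 737)))) (.node (.node (.leaf (93, 77, [2, 0], 126)) (.leaf (63, 69, [5, 6], 596))) (.node (.leaf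 (63, 98, [5, 6], 380)) (.leaf (63, 125, [5, 6], 857))))) (.node (.node (.node (.leaf (66, 50, [5, 4], 62)) (.leaf (64, 32, [2], 593))) (.node (.leaf (73, 74, [3, 2], 331)) (.leaf (64, 123, [4, 5], 843)))) (.node (.node (.leaf (78, 115, [3, 1], 209)) (.leaf (64, 82, [4, 5], 658))) (.node (.leaf (73, 6, [0, 2], 456)) (.leaf (63, 125, [5, 6], 857)))))) (.node (.node (.node (.node (.leaf (69, 37, [4, 3], 34)) (.leaf (69, 27, [1, 3], 525))) (.node (.leaf (66, 51, [5, 4], 286)) (.leaf (78, 114, [2], 803)))) (.node (.node (.leaf (63, 97, [5, 6], 156)) (.leaf (63, 70, [4], 663))) (.node (.leaf (78, 119, [3, 1], 433)) (.leaf (63, 125, [5, 6], 857))))) (.node (.node (.node (.leaf (73, 69, [3, 2], 107)) (.leaf (73, 28, [3, 2], 573))) (.node (.leaf (93, 98, [2, 0], 350)) (.leaf (63, 125, [5, 6], 857)))) (.node (.node (.leaf (66, 15, [3, 4], 237)) (.leaf (93, 69, [3], 739))) (.node (.leaf (78, 12, [3, 1], 483)) (.leaf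 (63, 125, [5, 6], 857)))))))) (.node (.node (.node (.node (.node (.node (.leaf (64, 17, [2], 14)) (.leaf (78, 15, [4], 509))) (.node (.leaf (93, 35, [2, 0], 246)) (.leaf (78, 52, [3, 1], 733)))) (.node (.node (.leaf (78, 96, [4], 132)) (.leaf (73, 65, [3, 2], 590))) (.node (.leaf (93, 106, [4], 395)) (.leaf (63, 125, [5, 6], 857))))) (.node (.node (.node (.leaf (73, 39, [3, 2], 50)) (.leaf (69, 82, [1, 3], 549))) (.node (.leaf (69, 72, [4, 3], 315)) (.leaf (66, 125, [3, 4], 834)))) (.node (.node (.leaf (64, 91, [4, 5], 186)) (.leaf (93, 59, [2, 0], 647))) (.node (.leaf (73, 0, [0, 2], 448)) (.leaf (63, 125, [5, 6], 857)))))) (.node (.node (.node (.node (.leaf (93, 19, [2, 0], 22)) (.leaf (64, 39, [4, 5], 512))) (.node (.leaf (73, 43, [3, 2], 274)) (.leaf (73, 125, [0, 2], 777)))) (.node (.node (.leaf (93, 90, [4], 171)) (.leaf (73, 66, [4], 647))) (.node (.leaf (64, 92, [4, 5], 410)) (.leaf (63, 125, [5, 6],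 857))))) (.node (.node (.node (.leaf (69, 68, [4, 3], 91)) (.leaf (73, 23, [3, 2], 565))) (.node (.leaf (78, 100, [4], 356)) (.leaf (63, 125, [5, 6], 857)))) (.node (.node (.leaf (64, 18, [2], 238)) (.leaf (69, 107, [4, 3], 701))) (.node (.leaf (78, 1, [3, 1], 479)) (.leaf (63, 125, [5, 6], 857))))))) (.node (.node (.node (.node (.node (.leaf (66, 19, [2], 23)) (.leaf (78, 62, [5], 533))) (.node (.leaf (64, 45, [6, 5], 265)) (.leaf (78, 92, [3, 1], 754)))) (.node (.node (.leaf (69, 84, [1, 3], 136)) (.leaf (66, 76, [5, 4], 601))) (.node (.leaf (66, 106, [3, 4], 392)) (.leaf (63, 125, [5, 6], 857))))) (.node (.node (.node (.leaf (73, 49, [0, 2], 72)) (.leaf (64, 99, [0], 602))) (.node (.leaf (66, 60, [3, 4], 336)) (.leaf (63, 118, [5, 6], 853)))) (.node (.node (.leaf (93, 124, [2, 0], 222)) (.leaf (69, 96, [4, 3], 679))) (.node (.leaf (69, 1, [2, 3], 464)) (.leaf (63, 125, [5, 6], 857)))))) (.node (.node (.node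 (.node (.leaf (64, 44, [6, 5], 41)) (.leaf (69, 60, [1, 3], 533))) (.node (.leaf (73, 54, [0, 2], 296)) (.leaf (69, 120, [2, 3], 811)))) (.node (.node (.leaf (66, 104, [3, 4], 168)) (.leaf (73, 92, [5], 692))) (.node (.leaf (93, 125, [2, 0], 446)) (.leaf (63, 125, [5, 6], 857))))) (.node (.node (.node (.leaf (66, 57, [3, 4], 112)) (.leaf (73, 87, [3, 2], 581))) (.node (.leaf (69, 87, [1, 3], 360)) (.leaf (63, 125, [5, 6], 857)))) (.node (.node (.leaf (66, 21, [2], 247)) (.leaf (93, 78, [1], 758))) (.node (.leaf (78, 34, [3, 1], 487)) (.leaf (63, 125, [5, 6], 857)))))))))))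

noncomputable def pi0 : Trie (ℕ) := .node (.node (.node (.node (.node (.node (.node (.leaf 1) (.leaf 64)) (.node (.leaf 93) (.leaf 75))) (.node (.node (.leaf 16) (.leaf 80)) (.node (.leaf 27) (.leaf 112)))) (.node (.node (.node (.leaf 8) (.leaf 72)) (.node (.leaf 24) (.leaf 88))) (.node (.node (.leaf 40) (.leaf 104)) (.node (.leaf 56) (.leaf 120))))) (.node (.node (.node (.node (.leaf 4) (.leaf 68)) (.node (.leaf 20) (.leaf 84))) (.node (.node (.leaf 36) (.leaf 100)) (.node (.leaf 31) (.leaf 116)))) (.node (.node (.node (.leaf 12) (.leaf 97)) (.node (.leaf 44) (.leaf 92))) (.node (.node (.leaf 49) (.leaf 108)) (.node (.leaf 60) (.leaf 125)))))) (.node (.node (.node (.node (.node (.leaf 2) (.leaf 66)) (.node (.leaf 18) (.leaf 77))) (.node (.node (.leaf 34) (.leaf 82)) (.node (.leaf 29) (.leaf 114)))) (.node (.node (.node (.leaf 10) (.leaf 95)) (.node (.leaf 26) (.leaf 90))) (.node (.node (.leaf 42) (.leaf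 106)) (.node (.leaf 58) (.leaf 122))))) (.node (.node (.node (.node (.leaf 6) (.leaf 70)) (.node (.leaf 22) (.leaf 86))) (.node (.node (.leaf 38) (.leaf 102)) (.node (.leaf 54) (.leaf 118)))) (.node (.node (.node (.leaf 14) (.leaf 78)) (.node (.leaf 46) (.leaf 110))) (.node (.node (.leaf 51) (.leaf 73)) (.node (.leaf 62) (.leaf 124))))))) (.node (.node (.node (.node (.node (.node (.leaf 0) (.leaf 65)) (.node (.leaf 17) (.leaf 76))) (.node (.node (.leaf 33) (.leaf 81)) (.node (.leaf 28) (.leaf 113)))) (.node (.node (.node (.leaf 9) (.leaf 94)) (.node (.leaf 25) (.leaf 89))) (.node (.node (.leaf 41) (.leaf 105)) (.node (.leaf 57) (.leaf 121))))) (.node (.node (.node (.node (.leaf 5) (.leaf 69)) (.node (.leaf 21) (.leaf 85))) (.node (.node (.leaf 37) (.leaf 101)) (.node (.leaf 53) (.leaf 117)))) (.node (.node (.node (.leaf 13) (.leaf 98)) (.node (.leaf 45) (.leaf 109))) (.node (.node (.leaf 50) (.leaf 32)) (.node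 (.leaf 61) (.leaf 124)))))) (.node (.node (.node (.node (.node (.leaf 3) (.leaf 67)) (.node (.leaf 19) (.leaf 83))) (.node (.node (.leaf 35) (.leaf 99)) (.node (.leaf 30) (.leaf 115)))) (.node (.node (.node (.leaf 11) (.leaf 96)) (.node (.leaf 43) (.leaf 91))) (.node (.node (.leaf 48) (.leaf 107)) (.node (.leaf 59) (.leaf 123))))) (.node (.node (.node (.node (.leaf 7) (.leaf 71)) (.node (.leaf 23) (.leaf 87))) (.node (.node (.leaf 39) (.leaf 103)) (.node (.leaf 55) (.leaf 119)))) (.node (.node (.node (.leaf 15) (.leaf 79)) (.node (.leaf 47) (.leaf 111))) (.node (.node (.leaf 52) (.leaf 74)) (.node (.leaf 63) (.leaf 124)))))))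

noncomputable def eta0 : Trie (ℤ) := .node (.node (.node (.node (.node (.node (.node (.leaf (-1)) (.leaf 1)) (.node (.leaf (-1)) (.leaf 1))) (.node (.node (.leaf 1) (.leaf 1)) (.node (.leaf (-1)) (.leaf 1)))) (.node (.node (.node (.leaf 1) (.leaf 1)) (.node (.leaf (-1)) (.leaf 1))) (.node (.node (.leaf 1) (.leaf (-1))) (.node (.leaf 1) (.leaf 1))))) (.node (.node (.node (.node (.leaf 1) (.leaf 1)) (.node (.leaf (-1)) (.leaf 1))) (.node (.node (.leaf 1) (.leaf (-1))) (.node (.leaf (-1)) (.leaf 1)))) (.node (.node (.node (.leaf 1) (.leaf (-1))) (.node (.leaf 1) (.leaf 1))) (.node (.node (.leaf 1) (.leaf (-1))) (.node (.leaf 1) (.leaf 1)))))) (.node (.node (.node (.node (.node (.leaf 1) (.leaf 1)) (.node (.leaf (-1)) (.leaf 1))) (.node (.node (.leaf 1) (.leaf 1)) (.node (.leaf (-1)) (.leaf 1)))) (.node (.node (.node (.leaf 1) (.leaf (-1))) (.node (.leaf (-1)) (.leaf 1))) (.node (.node (.leaf 1) (.leaf (-1)))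 (.node (.leaf 1) (.leaf 1))))) (.node (.node (.node (.node (.leaf 1) (.leaf 1)) (.node (.leaf (-1)) (.leaf 1))) (.node (.node (.leaf 1) (.leaf (-1))) (.node (.leaf 1) (.leaf 1)))) (.node (.node (.node (.leaf 1) (.leaf 1)) (.node (.leaf 1) (.leaf 1))) (.node (.node (.leaf 1) (.leaf 1)) (.node (.leaf 1) (.leaf (-1)))))))) (.node (.node (.node (.node (.node (.node (.leaf 1) (.leaf 1)) (.node (.leaf (-1)) (.leaf 1))) (.node (.node (.leaf 1) (.leaf 1)) (.node (.leaf (-1)) (.leaf 1)))) (.node (.node (.node (.leaf 1) (.leaf (-1))) (.node (.leaf (-1)) (.leaf 1))) (.node (.node (.leaf 1) (.leaf (-1))) (.node (.leaf 1) (.leaf 1))))) (.node (.node (.node (.node (.leaf 1) (.leaf 1)) (.node (.leaf (-1)) (.leaf 1))) (.node (.node (.leaf 1) (.leaf (-1))) (.node (.leaf 1) (.leaf 1)))) (.node (.node (.node (.leaf 1) (.leaf (-1))) (.node (.leaf 1) (.leaf 1))) (.node (.node (.leaf 1) (.leaf (-1))) (.node (.leaf 1) (.leaf (-1)))))))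 (.node (.node (.node (.node (.node (.leaf 1) (.leaf 1)) (.node (.leaf (-1)) (.leaf 1))) (.node (.node (.leaf 1) (.leaf (-1))) (.node (.leaf (-1)) (.leaf 1)))) (.node (.node (.node (.leaf 1) (.leaf (-1))) (.node (.leaf 1) (.leaf 1))) (.node (.node (.leaf 1) (.leaf (-1))) (.node (.leaf 1) (.leaf 1))))) (.node (.node (.node (.node (.leaf 1) (.leaf 1)) (.node (.leaf (-1)) (.leaf 1))) (.node (.node (.leaf 1) (.leaf (-1))) (.node (.leaf 1) (.leaf 1)))) (.node (.node (.node (.leaf 1) (.leaf 1)) (.node (.leaf 1) (.leaf 1))) (.node (.node (.leaf 1) (.leaf 1)) (.node (.leaf 1) (.leaf (-1))))))))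

noncomputable def car0 : Trie (ℤ) := .node (.node (.node (.node (.node (.node (.node (.leaf (-1)) (.leaf 0)) (.node (.leaf (-2)) (.leaf 1))) (.node (.node (.leaf 0) (.leaf 0)) (.node (.leaf 1) (.leaf 0)))) (.node (.node (.node (.leaf 0) (.leaf 0)) (.node (.leaf 1) (.leaf 1))) (.node (.node (.leaf (-1)) (.leaf (-1))) (.node (.leaf 0) (.leaf 0))))) (.node (.node (.node (.node (.leaf 0) (.leaf 0)) (.node (.leaf 1) (.leaf 1))) (.node (.node (.leaf (-1)) (.leaf (-1))) (.node (.leaf 1) (.leaf 0)))) (.node (.node (.node (.leaf 0) (.leaf (-1))) (.node (.leaf 0) (.leaf 1))) (.node (.node (.leaf (-1)) (.leaf (-1))) (.node (.leaf 0) (.leaf (-1))))))) (.node (.node (.node (.node (.node (.leaf 0) (.leaf 0)) (.node (.leaf 1) (.leaf 1))) (.node (.node (.leaf (-1)) (.leaf 0)) (.node (.leaf 1) (.leaf 0)))) (.node (.node (.node (.leaf 0) (.leaf (-1))) (.node (.leaf 1) (.leaf 1))) (.node (.node (.leaf (-1)) (.leaf (-1))) (.node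 (.leaf 0) (.leaf 0))))) (.node (.node (.node (.node (.leaf 0) (.leaf 0)) (.node (.leaf 1) (.leaf 1))) (.node (.node (.leaf (-1)) (.leaf (-1))) (.node (.leaf 0) (.leaf 0)))) (.node (.node (.node (.leaf 0) (.leaf 0)) (.node (.leaf 0) (.leaf 0))) (.node (.node (.leaf (-1)) (.leaf 1)) (.node (.leaf 0) (.leaf 1))))))) (.node (.node (.node (.node (.node (.node (.leaf 1) (.leaf 0)) (.node (.leaf 1) (.leaf 1))) (.node (.node (.leaf (-1)) (.leaf 0)) (.node (.leaf 1) (.leaf 0)))) (.node (.node (.node (.leaf 0) (.leaf (-1))) (.node (.leaf 1) (.leaf 1))) (.node (.node (.leaf (-1)) (.leaf (-1))) (.node (.leaf 0) (.leaf 0))))) (.node (.node (.node (.node (.leaf 0) (.leaf 0)) (.node (.leaf 1) (.leaf 1))) (.node (.node (.leaf (-1)) (.leaf (-1))) (.node (.leaf 0) (.leaf 0)))) (.node (.node (.node (.leaf 0) (.leaf (-1))) (.node (.leaf 0) (.leaf 0))) (.node (.node (.leaf (-1)) (.leaf 2)) (.node (.leaf 0) (.leaf 1)))))) (.node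 (.node (.node (.node (.node (.leaf 0) (.leaf 0)) (.node (.leaf 1) (.leaf 1))) (.node (.node (.leaf (-1)) (.leaf (-1))) (.node (.leaf 1) (.leaf 0)))) (.node (.node (.node (.leaf 0) (.leaf (-1))) (.node (.leaf 0) (.leaf 1))) (.node (.node (.leaf (-1)) (.leaf (-1))) (.node (.leaf 0) (.leaf 0))))) (.node (.node (.node (.node (.leaf 0) (.leaf 0)) (.node (.leaf 1) (.leaf 1))) (.node (.node (.leaf (-1)) (.leaf (-1))) (.node (.leaf 0) (.leaf 0)))) (.node (.node (.node (.leaf 0) (.leaf 0)) (.node (.leaf 0) (.leaf 0))) (.node (.node (.leaf (-1)) (.leaf 1)) (.node (.leaf 0) (.leaf 1)))))))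

noncomputable def pos0 : Trie (ℕ) := .node (.node (.node (.node (.node (.node (.node (.leaf 0) (.leaf 720)) (.node (.leaf 0) (.leaf 373))) (.node (.node (.leaf 462) (.leaf 769)) (.node (.leaf 295) (.leaf 742)))) (.node (.node (.node (.leaf 452) (.leaf 763)) (.node (.leaf 292) (.leaf 395))) (.node (.node (.leaf 68) (.leaf 171)) (.node (.leaf 739) (.leaf 773))))) (.node (.node (.node (.node (.leaf 451) (.leaf 743)) (.node (.leaf 275) (.leaf 384))) (.node (.node (.leaf 51) (.leaf 160)) (.node (.leaf 300) (.leaf 764)))) (.node (.node (.node (.leaf 457) (.leaf 150)) (.node (.leaf 709) (.leaf 402))) (.node (.node (.leaf 72) (.leaf 178)) (.node (.leaf 712) (.leaf 223)))))) (.node (.node (.node (.node (.node (.leaf 448) (.leaf 740)) (.node (.leaf 270) (.leaf 375))) (.node (.node (.leaf 46) (.leaf 772)) (.node (.leaf 297) (.leaf 753)))) (.node (.node (.node (.leaf 458) (.leaf 148)) (.node (.leaf 298) (.leaf 399)))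 (.node (.node (.leaf 74) (.leaf 175)) (.node (.leaf 713) (.leaf 776))))) (.node (.node (.node (.node (.leaf 456) (.leaf 760)) (.node (.leaf 281) (.leaf 388))) (.node (.node (.leaf 57) (.leaf 164)) (.node (.leaf 711) (.leaf 775)))) (.node (.node (.node (.leaf 459) (.leaf 767)) (.node (.leaf 738) (.leaf 721))) (.node (.node (.leaf 75) (.leaf 371)) (.node (.leaf 718) (.leaf 447))))))) (.node (.node (.node (.node (.node (.node (.leaf 224) (.leaf 724)) (.node (.leaf 269) (.leaf 374))) (.node (.node (.leaf 45) (.leaf 770)) (.node (.leaf 296) (.leaf 746)))) (.node (.node (.node (.leaf 455) (.leaf 147)) (.node (.leaf 294) (.leaf 396))) (.node (.node (.leaf 70) (.leaf 172)) (.node (.leaf 710) (.leaf 774))))) (.node (.node (.node (.node (.leaf 453) (.leaf 759)) (.node (.leaf 276) (.leaf 386))) (.node (.node (.leaf 52) (.leaf 162)) (.node (.leaf 708) (.leaf 766)))) (.node (.node (.node (.leaf 460) (.leaf 151)) (.node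 (.leaf 716) (.leaf 715))) (.node (.node (.leaf 73) (.leaf 0)) (.node (.leaf 714) (.leaf 447)))))) (.node (.node (.node (.node (.node (.leaf 449) (.leaf 741)) (.node (.leaf 271) (.leaf 381))) (.node (.node (.leaf 47) (.leaf 157)) (.node (.leaf 299) (.leaf 762)))) (.node (.node (.node (.leaf 454) (.leaf 149)) (.node (.leaf 707) (.leaf 400))) (.node (.node (.leaf 71) (.leaf 176)) (.node (.leaf 719) (.leaf 777))))) (.node (.node (.node (.node (.leaf 450) (.leaf 761)) (.node (.leaf 291) (.leaf 394))) (.node (.node (.leaf 67) (.leaf 170)) (.node (.leaf 717) (.leaf 771)))) (.node (.node (.node (.leaf 461) (.leaf 768)) (.node (.leaf 758) (.leaf 726))) (.node (.node (.leaf 76) (.leaf 372)) (.node (.leaf 722) (.leaf 447)))))))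

noncomputable def pi1 : Trie (ℕ) := .node (.node (.node (.node (.node (.node (.node (.leaf 0) (.leaf 64)) (.node (.leaf 32) (.leaf 100))) (.node (.node (.leaf 16) (.leaf 70)) (.node (.leaf 39) (.leaf 112)))) (.node (.node (.node (.leaf 4) (.leaf 82)) (.node (.leaf 49) (.leaf 104))) (.node (.node (.leaf 28) (.leaf 88)) (.node (.leaf 46) (.leaf 116))))) (.node (.node (.node (.node (.leaf 8) (.leaf 68)) (.node (.leaf 36) (.leaf 96))) (.node (.node (.leaf 20) (.leaf 75)) (.node (.leaf 52) (.leaf 120)))) (.node (.node (.node (.leaf 12) (.leaf 85)) (.node (.leaf 54) (.leaf 108))) (.node (.node (.leaf 24) (.leaf 92)) (.node (.leaf 60) (.leaf 124)))))) (.node (.node (.node (.node (.node (.leaf 2) (.leaf 66)) (.node (.leaf 34) (.leaf 102))) (.node (.node (.leaf 18) (.leaf 72)) (.node (.leaf 41) (.leaf 114)))) (.node (.node (.node (.leaf 6) (.leaf 83)) (.node (.leaf 51) (.leaf 106))) (.node (.node (.leaf 30) (.leaf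 90)) (.node (.leaf 58) (.leaf 118))))) (.node (.node (.node (.node (.leaf 10) (.leaf 80)) (.node (.leaf 38) (.leaf 98))) (.node (.node (.leaf 22) (.leaf 77)) (.node (.leaf 44) (.leaf 122)))) (.node (.node (.node (.leaf 14) (.leaf 47)) (.node (.leaf 56) (.leaf 110))) (.node (.node (.leaf 26) (.leaf 94)) (.node (.leaf 62) (.leaf 125))))))) (.node (.node (.node (.node (.node (.node (.leaf 1) (.leaf 65)) (.node (.leaf 33) (.leaf 101))) (.node (.node (.leaf 17) (.leaf 71)) (.node (.leaf 40) (.leaf 113)))) (.node (.node (.node (.leaf 5) (.leaf 73)) (.node (.leaf 50) (.leaf 105))) (.node (.node (.leaf 29) (.leaf 89)) (.node (.leaf 57) (.leaf 117))))) (.node (.node (.node (.node (.leaf 9) (.leaf 79)) (.node (.leaf 37) (.leaf 97))) (.node (.node (.leaf 21) (.leaf 76)) (.node (.leaf 43) (.leaf 121)))) (.node (.node (.node (.leaf 13) (.leaf 86)) (.node (.leaf 55) (.leaf 109))) (.node (.node (.leaf 25) (.leaf 93)) (.node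 (.leaf 61) (.leaf 125)))))) (.node (.node (.node (.node (.node (.leaf 7) (.leaf 67)) (.node (.leaf 35) (.leaf 95))) (.node (.node (.leaf 19) (.leaf 74)) (.node (.leaf 42) (.leaf 119)))) (.node (.node (.node (.leaf 11) (.leaf 84)) (.node (.leaf 53) (.leaf 107))) (.node (.node (.leaf 23) (.leaf 91)) (.node (.leaf 59) (.leaf 123))))) (.node (.node (.node (.node (.leaf 3) (.leaf 81)) (.node (.leaf 48) (.leaf 103))) (.node (.node (.leaf 27) (.leaf 87)) (.node (.leaf 45) (.leaf 115)))) (.node (.node (.node (.leaf 15) (.leaf 69)) (.node (.leaf 78) (.leaf 111))) (.node (.node (.leaf 31) (.leaf 99)) (.node (.leaf 63) (.leaf 125)))))))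

noncomputable def eta1 : Trie (ℤ) := .node (.node (.node (.node (.node (.node (.node (.leaf 1) (.leaf 1)) (.node (.leaf 1) (.leaf 1))) (.node (.node (.leaf 1) (.leaf 1)) (.node (.leaf 1) (.leaf 1)))) (.node (.node (.node (.leaf 1) (.leaf (-1))) (.node (.leaf (-1)) (.leaf 1))) (.node (.node (.leaf (-1)) (.leaf 1)) (.node (.leaf (-1)) (.leaf (-1)))))) (.node (.node (.node (.node (.leaf (-1)) (.leaf 1)) (.node (.leaf 1) (.leaf (-1)))) (.node (.node (.leaf 1) (.leaf (-1))) (.node (.leaf 1) (.leaf 1)))) (.node (.node (.node (.leaf 1) (.leaf 1)) (.node (.leaf 1) (.leaf 1))) (.node (.node (.leaf 1) (.leaf 1)) (.node (.leaf 1) (.leaf 1)))))) (.node (.node (.node (.node (.node (.leaf 1) (.leaf 1)) (.node (.leaf 1) (.leaf 1))) (.node (.node (.leaf 1) (.leaf 1)) (.node (.leaf 1) (.leaf 1)))) (.node (.node (.node (.leaf 1) (.leaf 1)) (.node (.leaf (-1)) (.leaf 1))) (.node (.node (.leaf (-1)) (.leaf 1)) (.node (.leaf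 1) (.leaf (-1)))))) (.node (.node (.node (.node (.leaf (-1)) (.leaf (-1))) (.node (.leaf 1) (.leaf (-1)))) (.node (.node (.leaf 1) (.leaf (-1))) (.node (.leaf (-1)) (.leaf 1)))) (.node (.node (.node (.leaf 1) (.leaf (-1))) (.node (.leaf 1) (.leaf 1))) (.node (.node (.leaf 1) (.leaf 1)) (.node (.leaf 1) (.leaf 1))))))) (.node (.node (.node (.node (.node (.node (.leaf 1) (.leaf 1)) (.node (.leaf 1) (.leaf 1))) (.node (.node (.leaf 1) (.leaf 1)) (.node (.leaf 1) (.leaf 1)))) (.node (.node (.node (.leaf 1) (.leaf 1)) (.node (.leaf (-1)) (.leaf 1))) (.node (.node (.leaf (-1)) (.leaf 1)) (.node (.leaf 1) (.leaf (-1)))))) (.node (.node (.node (.node (.leaf (-1)) (.leaf (-1))) (.node (.leaf 1) (.leaf (-1)))) (.node (.node (.leaf 1) (.leaf (-1))) (.node (.leaf (-1)) (.leaf 1)))) (.node (.node (.node (.leaf 1) (.leaf 1)) (.node (.leaf 1) (.leaf 1))) (.node (.node (.leaf 1) (.leaf 1)) (.node (.leaf 1) (.leaf 1))))))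 (.node (.node (.node (.node (.node (.leaf (-1)) (.leaf 1)) (.node (.leaf 1) (.leaf (-1)))) (.node (.node (.leaf 1) (.leaf (-1))) (.node (.leaf 1) (.leaf 1)))) (.node (.node (.node (.leaf 1) (.leaf 1)) (.node (.leaf 1) (.leaf 1))) (.node (.node (.leaf 1) (.leaf 1)) (.node (.leaf 1) (.leaf 1))))) (.node (.node (.node (.node (.leaf 1) (.leaf (-1))) (.node (.leaf (-1)) (.leaf 1))) (.node (.node (.leaf (-1)) (.leaf 1)) (.node (.leaf (-1)) (.leaf (-1))))) (.node (.node (.node (.leaf 1) (.leaf 1)) (.node (.leaf (-1)) (.leaf 1))) (.node (.node (.leaf 1) (.leaf 1)) (.node (.leaf 1) (.leaf 1)))))))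

noncomputable def car1 : Trie (ℤ) := .node (.node (.node (.node (.node (.node (.node (.leaf 0) (.leaf 0)) (.node (.leaf 0) (.leaf (-1)))) (.node (.node (.leaf 0) (.leaf 1)) (.node (.leaf 1) (.leaf 0)))) (.node (.node (.node (.leaf 1) (.leaf (-1))) (.node (.leaf (-1)) (.leaf 0))) (.node (.node (.leaf (-1)) (.leaf 0)) (.node (.leaf 1) (.leaf 1))))) (.node (.node (.node (.node (.leaf (-1)) (.leaf 0)) (.node (.leaf 0) (.leaf 1))) (.node (.node (.leaf 0) (.leaf 1)) (.node (.leaf 0) (.leaf (-1))))) (.node (.node (.node (.leaf 0) (.leaf (-1))) (.node (.leaf (-1)) (.leaf 0))) (.node (.node (.leaf 1) (.leaf 0)) (.node (.leaf 0) (.leaf 0)))))) (.node (.node (.node (.node (.node (.leaf 0) (.leaf 0)) (.node (.leaf 0) (.leaf (-1)))) (.node (.node (.leaf 0) (.leaf 1)) (.node (.leaf 1) (.leaf 0)))) (.node (.node (.node (.leaf 1) (.leaf (-1))) (.node (.leaf (-1)) (.leaf 0))) (.node (.node (.leaf (-1)) (.leaf 0)) (.node (.leaf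 0) (.leaf 1))))) (.node (.node (.node (.node (.leaf (-1)) (.leaf (-1))) (.node (.leaf 0) (.leaf 1))) (.node (.node (.leaf 0) (.leaf 1)) (.node (.leaf 1) (.leaf (-1))))) (.node (.node (.node (.leaf 0) (.leaf 2)) (.node (.leaf (-1)) (.leaf 0))) (.node (.node (.leaf 1) (.leaf 0)) (.node (.leaf 0) (.leaf 0))))))) (.node (.node (.node (.node (.node (.node (.leaf 0) (.leaf 0)) (.node (.leaf 0) (.leaf (-1)))) (.node (.node (.leaf 0) (.leaf 1)) (.node (.leaf 1) (.leaf 0)))) (.node (.node (.node (.leaf 1) (.leaf 0)) (.node (.leaf (-1)) (.leaf 0))) (.node (.node (.leaf (-1)) (.leaf 0)) (.node (.leaf 0) (.leaf 1))))) (.node (.node (.node (.node (.leaf (-1)) (.leaf (-1))) (.node (.leaf 0) (.leaf 1))) (.node (.node (.leaf 0) (.leaf 1)) (.node (.leaf 1) (.leaf (-1))))) (.node (.node (.node (.leaf 0) (.leaf (-1))) (.node (.leaf (-1)) (.leaf 0))) (.node (.node (.leaf 1) (.leaf 0)) (.node (.leaf 0) (.leaf 0)))))) (.node (.node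 (.node (.node (.node (.leaf (-1)) (.leaf 0)) (.node (.leaf 0) (.leaf 1))) (.node (.node (.leaf 0) (.leaf 1)) (.node (.leaf 1) (.leaf (-1))))) (.node (.node (.node (.leaf 0) (.leaf (-1))) (.node (.leaf (-1)) (.leaf 0))) (.node (.node (.leaf 1) (.leaf 0)) (.node (.leaf 0) (.leaf 0))))) (.node (.node (.node (.node (.leaf 1) (.leaf (-1))) (.node (.leaf (-1)) (.leaf 0))) (.node (.node (.leaf (-1)) (.leaf 0)) (.node (.leaf 1) (.leaf 1)))) (.node (.node (.node (.leaf 0) (.leaf 1)) (.node (.leaf (-2)) (.leaf 0))) (.node (.node (.leaf 0) (.leaf (-1))) (.node (.leaf 0) (.leaf 0)))))))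

noncomputable def pos1 : Trie (ℕ) := .node (.node (.node (.node (.node (.node (.node (.leaf 493) (.leaf 545)) (.node (.leaf 779) (.leaf 143))) (.node (.node (.leaf 541) (.leaf 345)) (.node (.leaf 302) (.leaf 820)))) (.node (.node (.node (.leaf 229) (.leaf 125)) (.node (.leaf 81) (.leaf 789))) (.node (.node (.leaf 80) (.leaf 781)) (.node (.leaf 329) (.leaf 440))))) (.node (.node (.node (.node (.leaf 5) (.leaf 549)) (.node (.leaf 529) (.leaf 367))) (.node (.node (.leaf 525) (.leaf 360)) (.node (.leaf 783) (.leaf 216)))) (.node (.node (.node (.leaf 503) (.leaf 138)) (.node (.leaf 101) (.leaf 803))) (.node (.node (.leaf 304) (.leaf 799)) (.node (.leaf 533) (.leaf 844)))))) (.node (.node (.node (.node (.node (.leaf 497) (.leaf 539)) (.node (.leaf 511) (.leaf 146))) (.node (.node (.leaf 507) (.leaf 349)) (.node (.leaf 316) (.leaf 823)))) (.node (.node (.node (.leaf 232) (.leaf 130)) (.node (.leaf 104) (.leaf 791)))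 (.node (.node (.leaf 102) (.leaf 782)) (.node (.leaf 519) (.leaf 444))))) (.node (.node (.node (.node (.leaf 8) (.leaf 121)) (.node (.leaf 544) (.leaf 370))) (.node (.node (.leaf 542) (.leaf 364)) (.node (.leaf 325) (.leaf 220)))) (.node (.node (.node (.leaf 523) (.leaf 0)) (.node (.leaf 105) (.leaf 819))) (.node (.node (.leaf 326) (.leaf 817)) (.node (.leaf 543) (.leaf 846))))))) (.node (.node (.node (.node (.node (.node (.leaf 495) (.leaf 548)) (.node (.leaf 505) (.leaf 145))) (.node (.node (.leaf 501) (.leaf 347)) (.node (.leaf 305) (.leaf 822)))) (.node (.node (.node (.leaf 231) (.leaf 816)) (.node (.leaf 92) (.leaf 795))) (.node (.node (.leaf 83) (.leaf 793)) (.node (.leaf 515) (.leaf 441))))) (.node (.node (.node (.node (.leaf 7) (.leaf 120)) (.node (.leaf 535) (.leaf 369))) (.node (.node (.leaf 531) (.leaf 362)) (.node (.leaf 324) (.leaf 217)))) (.node (.node (.node (.leaf 509) (.leaf 140)) (.node (.leaf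 103) (.leaf 818))) (.node (.node (.leaf 307) (.leaf 785)) (.node (.leaf 537) (.leaf 846)))))) (.node (.node (.node (.node (.node (.leaf 3) (.leaf 546)) (.node (.leaf 517) (.leaf 356))) (.node (.node (.leaf 513) (.leaf 354)) (.node (.leaf 328) (.leaf 215)))) (.node (.node (.node (.leaf 499) (.leaf 136)) (.node (.leaf 100) (.leaf 797))) (.node (.node (.leaf 301) (.leaf 794)) (.node (.leaf 521) (.leaf 835))))) (.node (.node (.node (.node (.leaf 227) (.leaf 123)) (.node (.leaf 78) (.leaf 787))) (.node (.node (.leaf 77) (.leaf 780)) (.node (.leaf 327) (.leaf 439)))) (.node (.node (.node (.leaf 527) (.leaf 344)) (.node (.leaf 0) (.leaf 821))) (.node (.node (.leaf 778) (.leaf 132)) (.node (.leaf 547) (.leaf 846)))))))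

noncomputable def pi2 : Trie (ℕ) := .node (.node (.node (.node (.node (.node (.node (.leaf 0) (.leaf 64)) (.node (.leaf 31) (.leaf 96))) (.node (.node (.leaf 22) (.leaf 84)) (.node (.leaf 53) (.leaf 106)))) (.node (.node (.node (.leaf 8) (.leaf 77)) (.node (.leaf 44) (.leaf 110))) (.node (.node (.leaf 24) (.leaf 88)) (.node (.leaf 51) (.leaf 120))))) (.node (.node (.node (.node (.leaf 4) (.leaf 68)) (.node (.leaf 36) (.leaf 100))) (.node (.node (.leaf 14) (.leaf 80)) (.node (.leaf 73) (.leaf 116)))) (.node (.node (.node (.leaf 18) (.leaf 71)) (.node (.leaf 40) (.leaf 114))) (.node (.node (.leaf 28) (.leaf 92)) (.node (.leaf 60) (.leaf 123)))))) (.node (.node (.node (.node (.node (.leaf 1) (.leaf 66)) (.node (.leaf 34) (.leaf 98))) (.node (.node (.leaf 12) (.leaf 86)) (.node (.leaf 55) (.leaf 108)))) (.node (.node (.node (.leaf 10) (.leaf 69)) (.node (.leaf 46) (.leaf 112))) (.node (.node (.leaf 26) (.leaf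 90)) (.node (.leaf 58) (.leaf 122))))) (.node (.node (.node (.node (.leaf 6) (.leaf 75)) (.node (.leaf 38) (.leaf 102))) (.node (.node (.leaf 16) (.leaf 82)) (.node (.leaf 49) (.leaf 118)))) (.node (.node (.node (.leaf 20) (.leaf 78)) (.node (.leaf 42) (.leaf 104))) (.node (.node (.leaf 30) (.leaf 93)) (.node (.leaf 62) (.leaf 125))))))) (.node (.node (.node (.node (.node (.node (.leaf 2) (.leaf 65)) (.node (.leaf 33) (.leaf 97))) (.node (.node (.leaf 11) (.leaf 85)) (.node (.leaf 54) (.leaf 107)))) (.node (.node (.node (.leaf 9) (.leaf 52)) (.node (.leaf 45) (.leaf 111))) (.node (.node (.leaf 25) (.leaf 89)) (.node (.leaf 57) (.leaf 121))))) (.node (.node (.node (.node (.leaf 5) (.leaf 74)) (.node (.leaf 37) (.leaf 101))) (.node (.node (.leaf 15) (.leaf 81)) (.node (.leaf 48) (.leaf 117)))) (.node (.node (.node (.leaf 19) (.leaf 72)) (.node (.leaf 41) (.leaf 103))) (.node (.node (.leaf 29) (.leaf 94)) (.node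 (.leaf 61) (.leaf 125)))))) (.node (.node (.node (.node (.node (.leaf 3) (.leaf 67)) (.node (.leaf 35) (.leaf 99))) (.node (.node (.leaf 13) (.leaf 79)) (.node (.leaf 56) (.leaf 115)))) (.node (.node (.node (.leaf 17) (.leaf 70)) (.node (.leaf 39) (.leaf 113))) (.node (.node (.leaf 27) (.leaf 91)) (.node (.leaf 59) (.leaf 124))))) (.node (.node (.node (.node (.leaf 7) (.leaf 76)) (.node (.leaf 43) (.leaf 109))) (.node (.node (.leaf 23) (.leaf 87)) (.node (.leaf 50) (.leaf 119)))) (.node (.node (.node (.leaf 21) (.leaf 83)) (.node (.leaf 47) (.leaf 105))) (.node (.node (.leaf 32) (.leaf 95)) (.node (.leaf 63) (.leaf 125)))))))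

noncomputable def eta2 : Trie (ℤ) := .node (.node (.node (.node (.node (.node (.node (.leaf 1) (.leaf 1)) (.node (.leaf 1) (.leaf 1))) (.node (.node (.leaf (-1)) (.leaf 1)) (.node (.leaf 1) (.leaf (-1))))) (.node (.node (.node (.leaf 1) (.leaf (-1))) (.node (.leaf (-1)) (.leaf 1))) (.node (.node (.leaf 1) (.leaf 1)) (.node (.leaf (-1)) (.leaf 1))))) (.node (.node (.node (.node (.leaf 1) (.leaf 1)) (.node (.leaf 1) (.leaf 1))) (.node (.node (.leaf 1) (.leaf (-1))) (.node (.leaf (-1)) (.leaf 1)))) (.node (.node (.node (.leaf (-1)) (.leaf 1)) (.node (.leaf 1) (.leaf 1))) (.node (.node (.leaf 1) (.leaf 1)) (.node (.leaf 1) (.leaf (-1))))))) (.node (.node (.node (.node (.node (.leaf 1) (.leaf 1)) (.node (.leaf 1) (.leaf 1))) (.node (.node (.leaf 1) (.leaf 1)) (.node (.leaf 1) (.leaf (-1))))) (.node (.node (.node (.leaf 1) (.leaf 1)) (.node (.leaf (-1)) (.leaf 1))) (.node (.node (.leaf 1) (.leaf 1)) (.node (.leaf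 1) (.leaf 1))))) (.node (.node (.node (.node (.leaf 1) (.leaf (-1))) (.node (.leaf 1) (.leaf 1))) (.node (.node (.leaf 1) (.leaf (-1))) (.node (.leaf (-1)) (.leaf 1)))) (.node (.node (.node (.leaf (-1)) (.leaf 1)) (.node (.leaf 1) (.leaf (-1)))) (.node (.node (.leaf 1) (.leaf (-1))) (.node (.leaf 1) (.leaf 1))))))) (.node (.node (.node (.node (.node (.node (.leaf (-1)) (.leaf 1)) (.node (.leaf 1) (.leaf 1))) (.node (.node (.leaf 1) (.leaf 1)) (.node (.leaf 1) (.leaf (-1))))) (.node (.node (.node (.leaf 1) (.leaf (-1))) (.node (.leaf (-1)) (.leaf 1))) (.node (.node (.leaf 1) (.leaf 1)) (.node (.leaf 1) (.leaf 1))))) (.node (.node (.node (.node (.leaf 1) (.leaf (-1))) (.node (.leaf 1) (.leaf 1))) (.node (.node (.leaf 1) (.leaf (-1))) (.node (.leaf (-1)) (.leaf 1)))) (.node (.node (.node (.leaf (-1)) (.leaf 1)) (.node (.leaf 1) (.leaf (-1)))) (.node (.node (.leaf 1) (.leaf 1)) (.node (.leaf 1) (.leaf 1))))))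 (.node (.node (.node (.node (.node (.leaf 1) (.leaf 1)) (.node (.leaf 1) (.leaf 1))) (.node (.node (.leaf 1) (.leaf (-1))) (.node (.leaf 1) (.leaf 1)))) (.node (.node (.node (.leaf (-1)) (.leaf 1)) (.node (.leaf 1) (.leaf 1))) (.node (.node (.leaf 1) (.leaf 1)) (.node (.leaf 1) (.leaf 1))))) (.node (.node (.node (.node (.leaf 1) (.leaf (-1))) (.node (.leaf (-1)) (.leaf 1))) (.node (.node (.leaf 1) (.leaf 1)) (.node (.leaf (-1)) (.leaf 1)))) (.node (.node (.node (.leaf (-1)) (.leaf 1)) (.node (.leaf 1) (.leaf (-1)))) (.node (.node (.leaf (-1)) (.leaf 1)) (.node (.leaf 1) (.leaf 1)))))))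

noncomputable def car2 : Trie (ℤ) := .node (.node (.node (.node (.node (.node (.node (.leaf 0) (.leaf 0)) (.node (.leaf 1) (.leaf 0))) (.node (.node (.leaf (-1)) (.leaf (-1))) (.node (.leaf (-1)) (.leaf 1)))) (.node (.node (.node (.leaf 0) (.leaf (-1))) (.node (.leaf (-1)) (.leaf (-1)))) (.node (.node (.leaf 0) (.leaf 0)) (.node (.leaf 1) (.leaf 0))))) (.node (.node (.node (.node (.leaf 0) (.leaf 0)) (.node (.leaf 0) (.leaf 0))) (.node (.node (.leaf 1) (.leaf 1)) (.node (.leaf (-2)) (.leaf 0)))) (.node (.node (.node (.leaf (-1)) (.leaf 1)) (.node (.leaf 1) (.leaf (-1)))) (.node (.node (.leaf 0) (.leaf 0)) (.node (.leaf 0) (.leaf 1)))))) (.node (.node (.node (.node (.node (.leaf 1) (.leaf 0)) (.node (.leaf 0) (.leaf 0))) (.node (.node (.leaf 1) (.leaf (-1))) (.node (.leaf (-1)) (.leaf 1)))) (.node (.node (.node (.leaf 0) (.leaf 1)) (.node (.leaf (-1)) (.leaf (-1)))) (.node (.node (.leaf 0) (.leaf 0)) (.node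 (.leaf 0) (.leaf 0))))) (.node (.node (.node (.node (.leaf 0) (.leaf (-1))) (.node (.leaf 0) (.leaf 0))) (.node (.node (.leaf 1) (.leaf 1)) (.node (.leaf 1) (.leaf 0)))) (.node (.node (.node (.leaf (-1)) (.leaf 0)) (.node (.leaf 1) (.leaf 1))) (.node (.node (.leaf 0) (.leaf 1)) (.node (.leaf 0) (.leaf 0))))))) (.node (.node (.node (.node (.node (.node (.leaf (-1)) (.leaf 0)) (.node (.leaf 0) (.leaf 0))) (.node (.node (.leaf 1) (.leaf (-1))) (.node (.leaf (-1)) (.leaf 1)))) (.node (.node (.node (.leaf 0) (.leaf 2)) (.node (.leaf (-1)) (.leaf (-1)))) (.node (.node (.leaf 0) (.leaf 0)) (.node (.leaf 0) (.leaf 0))))) (.node (.node (.node (.node (.leaf 0) (.leaf (-1))) (.node (.leaf 0) (.leaf 0))) (.node (.node (.leaf 1) (.leaf 1)) (.node (.leaf 1) (.leaf 0)))) (.node (.node (.node (.leaf (-1)) (.leaf 1)) (.node (.leaf 1) (.leaf 1))) (.node (.node (.leaf 0) (.leaf (-1))) (.node (.leaf 0) (.leaf 0)))))) (.node (.node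 (.node (.node (.node (.leaf 0) (.leaf 0)) (.node (.leaf 0) (.leaf 0))) (.node (.node (.leaf 1) (.leaf 1)) (.node (.leaf (-1)) (.leaf 0)))) (.node (.node (.node (.leaf (-1)) (.leaf 1)) (.node (.leaf 1) (.leaf (-1)))) (.node (.node (.leaf 0) (.leaf 0)) (.node (.leaf 0) (.leaf (-1)))))) (.node (.node (.node (.node (.leaf 0) (.leaf (-1))) (.node (.leaf (-1)) (.leaf (-1)))) (.node (.node (.leaf 0) (.leaf 0)) (.node (.leaf 1) (.leaf 0)))) (.node (.node (.node (.leaf (-1)) (.leaf (-1))) (.node (.leaf 0) (.leaf 1))) (.node (.node (.leaf (-1)) (.leaf 0)) (.node (.leaf 0) (.leaf 0)))))))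

noncomputable def pos2 : Trie (ℕ) := .node (.node (.node (.node (.node (.node (.node (.leaf 463) (.leaf 649)) (.node (.leaf 342) (.leaf 788))) (.node (.node (.leaf 36) (.leaf 137)) (.node (.leaf 94) (.leaf 420)))) (.node (.node (.node (.leaf 467) (.leaf 126)) (.node (.leaf 82) (.leaf 190))) (.node (.node (.leaf 627) (.leaf 651)) (.node (.leaf 322) (.leaf 811))))) (.node (.node (.node (.node (.leaf 466) (.leaf 690)) (.node (.leaf 474) (.leaf 807))) (.node (.node (.leaf 253) (.leaf 361)) (.node (.leaf 0) (.leaf 798)))) (.node (.node (.node (.leaf 20) (.leaf 348)) (.node (.leaf 306) (.leaf 200))) (.node (.node (.leaf 631) (.leaf 703)) (.node (.leaf 633) (.leaf 446)))))) (.node (.node (.node (.node (.node (.leaf 225) (.leaf 687)) (.node (.leaf 472) (.leaf 796))) (.node (.node (.leaf 244) (.leaf 141)) (.node (.leaf 96) (.leaf 424)))) (.node (.node (.node (.leaf 473) (.leaf 343)) (.node (.leaf 97) (.leaf 196)))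 (.node (.node (.leaf 685) (.leaf 689)) (.node (.leaf 635) (.leaf 814))))) (.node (.node (.node (.node (.leaf 471) (.leaf 122)) (.node (.leaf 477) (.leaf 810))) (.node (.node (.leaf 260) (.leaf 365)) (.node (.leaf 319) (.leaf 813)))) (.node (.node (.node (.leaf 29) (.leaf 805)) (.node (.leaf 321) (.leaf 414))) (.node (.node (.leaf 686) (.leaf 323)) (.node (.leaf 645) (.leaf 815))))))) (.node (.node (.node (.node (.node (.node (.leaf 1) (.leaf 655)) (.node (.leaf 469) (.leaf 790))) (.node (.node (.leaf 242) (.leaf 139)) (.node (.leaf 95) (.leaf 421)))) (.node (.node (.node (.leaf 470) (.leaf 0)) (.node (.leaf 93) (.leaf 192))) (.node (.node (.leaf 641) (.leaf 657)) (.node (.leaf 629) (.leaf 812))))) (.node (.node (.node (.node (.leaf 468) (.leaf 119)) (.node (.leaf 476) (.leaf 808))) (.node (.node (.leaf 254) (.leaf 363)) (.node (.leaf 318) (.leaf 804)))) (.node (.node (.node (.leaf 22) (.leaf 350)) (.node (.leaf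 317) (.leaf 412))) (.node (.node (.leaf 643) (.leaf 99)) (.node (.leaf 637) (.leaf 815)))))) (.node (.node (.node (.node (.node (.leaf 464) (.leaf 688)) (.node (.leaf 475) (.leaf 806))) (.node (.node (.leaf 246) (.leaf 358)) (.node (.leaf 98) (.leaf 792)))) (.node (.node (.node (.leaf 18) (.leaf 346)) (.node (.leaf 303) (.leaf 197))) (.node (.node (.leaf 625) (.leaf 692)) (.node (.leaf 647) (.leaf 222))))) (.node (.node (.node (.node (.leaf 465) (.leaf 124)) (.node (.leaf 79) (.leaf 188))) (.node (.node (.leaf 623) (.leaf 639)) (.node (.leaf 320) (.leaf 809)))) (.node (.node (.node (.leaf 30) (.leaf 134)) (.node (.leaf 784) (.leaf 416))) (.node (.node (.leaf 118) (.leaf 786)) (.node (.leaf 653) (.leaf 815)))))))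

noncomputable def pi3 : Trie (ℕ) := .node (.node (.node (.node (.node (.node (.node (.leaf 0) (.leaf 64)) (.node (.leaf 32) (.leaf 96))) (.node (.node (.leaf 16) (.leaf 80)) (.node (.leaf 48) (.leaf 115)))) (.node (.node (.node (.leaf 11) (.leaf 68)) (.node (.leaf 37) (.leaf 101))) (.node (.node (.leaf 21) (.leaf 85)) (.node (.leaf 69) (.leaf 120))))) (.node (.node (.node (.node (.leaf 4) (.leaf 72)) (.node (.leaf 39) (.leaf 103))) (.node (.node (.leaf 23) (.leaf 87)) (.node (.leaf 51) (.leaf 113)))) (.node (.node (.node (.leaf 9) (.leaf 76)) (.node (.leaf 44) (.leaf 108))) (.node (.node (.leaf 28) (.leaf 92)) (.node (.leaf 60) (.leaf 124)))))) (.node (.node (.node (.node (.node (.leaf 3) (.leaf 70)) (.node (.leaf 34) (.leaf 98))) (.node (.node (.leaf 18) (.leaf 82)) (.node (.leaf 50) (.leaf 117)))) (.node (.node (.node (.leaf 13) (.leaf 73)) (.node (.leaf 42) (.leaf 106))) (.node (.node (.leaf 26) (.leaf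 90)) (.node (.leaf 54) (.leaf 123))))) (.node (.node (.node (.node (.leaf 6) (.leaf 66)) (.node (.leaf 41) (.leaf 105))) (.node (.node (.leaf 25) (.leaf 89)) (.node (.leaf 58) (.leaf 118)))) (.node (.node (.node (.leaf 14) (.leaf 79)) (.node (.leaf 47) (.leaf 110))) (.node (.node (.leaf 31) (.leaf 95)) (.node (.leaf 62) (.leaf 125))))))) (.node (.node (.node (.node (.node (.node (.leaf 1) (.leaf 65)) (.node (.leaf 33) (.leaf 97))) (.node (.node (.leaf 17) (.leaf 81)) (.node (.leaf 49) (.leaf 116)))) (.node (.node (.node (.leaf 12) (.leaf 74)) (.node (.leaf 38) (.leaf 102))) (.node (.node (.leaf 22) (.leaf 86)) (.node (.leaf 53) (.leaf 121))))) (.node (.node (.node (.node (.leaf 5) (.leaf 56)) (.node (.leaf 40) (.leaf 104))) (.node (.node (.leaf 24) (.leaf 88)) (.node (.leaf 57) (.leaf 114)))) (.node (.node (.node (.leaf 10) (.leaf 77)) (.node (.leaf 45) (.leaf 109))) (.node (.node (.leaf 29) (.leaf 93)) (.node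 (.leaf 61) (.leaf 125)))))) (.node (.node (.node (.node (.node (.leaf 2) (.leaf 71)) (.node (.leaf 35) (.leaf 99))) (.node (.node (.leaf 19) (.leaf 83)) (.node (.leaf 52) (.leaf 112)))) (.node (.node (.node (.leaf 8) (.leaf 75)) (.node (.leaf 43) (.leaf 107))) (.node (.node (.leaf 27) (.leaf 91)) (.node (.leaf 55) (.leaf 122))))) (.node (.node (.node (.node (.leaf 7) (.leaf 67)) (.node (.leaf 36) (.leaf 100))) (.node (.node (.leaf 20) (.leaf 84)) (.node (.leaf 59) (.leaf 119)))) (.node (.node (.node (.leaf 15) (.leaf 78)) (.node (.leaf 46) (.leaf 111))) (.node (.node (.leaf 30) (.leaf 94)) (.node (.leaf 63) (.leaf 125)))))))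

noncomputable def eta3 : Trie (ℤ) := .node (.node (.node (.node (.node (.node (.node (.leaf 1) (.leaf 1)) (.node (.leaf 1) (.leaf 1))) (.node (.node (.leaf 1) (.leaf 1)) (.node (.leaf 1) (.leaf 1)))) (.node (.node (.node (.leaf (-1)) (.leaf 1)) (.node (.leaf 1) (.leaf (-1)))) (.node (.node (.leaf 1) (.leaf (-1))) (.node (.leaf (-1)) (.leaf 1))))) (.node (.node (.node (.node (.leaf 1) (.leaf (-1))) (.node (.leaf (-1)) (.leaf 1))) (.node (.node (.leaf (-1)) (.leaf 1)) (.node (.leaf 1) (.leaf (-1))))) (.node (.node (.node (.leaf 1) (.leaf 1)) (.node (.leaf 1) (.leaf 1))) (.node (.node (.leaf 1) (.leaf 1)) (.node (.leaf 1) (.leaf 1)))))) (.node (.node (.node (.node (.node (.leaf (-1)) (.leaf (-1))) (.node (.leaf 1) (.leaf 1))) (.node (.node (.leaf 1) (.leaf 1)) (.node (.leaf 1) (.leaf 1)))) (.node (.node (.node (.leaf (-1)) (.leaf (-1))) (.node (.leaf 1) (.leaf 1))) (.node (.node (.leaf 1) (.leaf 1)) (.node (.leaf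 (-1)) (.leaf 1))))) (.node (.node (.node (.node (.leaf 1) (.leaf 1)) (.node (.leaf (-1)) (.leaf 1))) (.node (.node (.leaf (-1)) (.leaf 1)) (.node (.leaf 1) (.leaf 1)))) (.node (.node (.node (.leaf 1) (.leaf 1)) (.node (.leaf (-1)) (.leaf 1))) (.node (.node (.leaf (-1)) (.leaf 1)) (.node (.leaf 1) (.leaf 1))))))) (.node (.node (.node (.node (.node (.node (.leaf 1) (.leaf 1)) (.node (.leaf 1) (.leaf 1))) (.node (.node (.leaf 1) (.leaf 1)) (.node (.leaf 1) (.leaf 1)))) (.node (.node (.node (.leaf (-1)) (.leaf 1)) (.node (.leaf 1) (.leaf (-1)))) (.node (.node (.leaf 1) (.leaf (-1))) (.node (.leaf (-1)) (.leaf 1))))) (.node (.node (.node (.node (.leaf 1) (.leaf (-1))) (.node (.leaf (-1)) (.leaf 1))) (.node (.node (.leaf (-1)) (.leaf 1)) (.node (.leaf 1) (.leaf (-1))))) (.node (.node (.node (.leaf 1) (.leaf 1)) (.node (.leaf 1) (.leaf 1))) (.node (.node (.leaf 1) (.leaf 1)) (.node (.leaf 1) (.leaf 1)))))) (.node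 (.node (.node (.node (.node (.leaf 1) (.leaf (-1))) (.node (.leaf 1) (.leaf 1))) (.node (.node (.leaf 1) (.leaf 1)) (.node (.leaf (-1)) (.leaf (-1))))) (.node (.node (.node (.leaf 1) (.leaf 1)) (.node (.leaf 1) (.leaf 1))) (.node (.node (.leaf 1) (.leaf 1)) (.node (.leaf (-1)) (.leaf (-1)))))) (.node (.node (.node (.node (.leaf 1) (.leaf 1)) (.node (.leaf 1) (.leaf (-1)))) (.node (.node (.leaf 1) (.leaf (-1))) (.node (.leaf 1) (.leaf 1)))) (.node (.node (.node (.leaf 1) (.leaf (-1))) (.node (.leaf 1) (.leaf 1))) (.node (.node (.leaf 1) (.leaf (-1))) (.node (.leaf 1) (.leaf 1)))))))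

noncomputable def car3 : Trie (ℤ) := .node (.node (.node (.node (.node (.node (.node (.leaf 0) (.leaf 0)) (.node (.leaf 0) (.leaf 0))) (.node (.node (.leaf 0) (.leaf 0)) (.node (.leaf 0) (.leaf (-1))))) (.node (.node (.node (.leaf (-1)) (.leaf 1)) (.node (.leaf 1) (.leaf 1))) (.node (.node (.leaf 1) (.leaf 1)) (.node (.leaf (-2)) (.leaf 0))))) (.node (.node (.node (.node (.leaf 0) (.leaf (-1))) (.node (.leaf (-1)) (.leaf (-1)))) (.node (.node (.leaf (-1)) (.leaf (-1))) (.node (.leaf 1) (.leaf 1)))) (.node (.node (.node (.leaf 1) (.leaf 0)) (.node (.leaf 0) (.leaf 0))) (.node (.node (.leaf 0) (.leaf 0)) (.node (.leaf 0) (.leaf 0)))))) (.node (.node (.node (.node (.node (.leaf (-1)) (.leaf (-1))) (.node (.leaf 0) (.leaf 0))) (.node (.node (.leaf 0) (.leaf 0)) (.node (.leaf 0) (.leaf (-1))))) (.node (.node (.node (.leaf (-1)) (.leaf 1)) (.node (.leaf 0) (.leaf 0))) (.node (.node (.leaf 0) (.leaf 0)) (.node (.leaf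 1) (.leaf (-1)))))) (.node (.node (.node (.node (.leaf 0) (.leaf 1)) (.node (.leaf (-1)) (.leaf (-1)))) (.node (.node (.leaf (-1)) (.leaf (-1))) (.node (.leaf (-1)) (.leaf 0)))) (.node (.node (.node (.leaf 0) (.leaf (-1))) (.node (.leaf (-1)) (.leaf 0))) (.node (.node (.leaf (-1)) (.leaf (-1))) (.node (.leaf 0) (.leaf 0))))))) (.node (.node (.node (.node (.node (.node (.leaf 0) (.leaf 0)) (.node (.leaf 0) (.leaf 0))) (.node (.node (.leaf 0) (.leaf 0)) (.node (.leaf 0) (.leaf (-1))))) (.node (.node (.node (.leaf (-1)) (.leaf (-1))) (.node (.leaf 1) (.leaf 1))) (.node (.node (.leaf 1) (.leaf 1)) (.node (.leaf 1) (.leaf 0))))) (.node (.node (.node (.node (.leaf 0) (.leaf 2)) (.node (.leaf (-1)) (.leaf (-1)))) (.node (.node (.leaf (-1)) (.leaf (-1))) (.node (.leaf (-1)) (.leaf 1)))) (.node (.node (.node (.leaf 1) (.leaf 0)) (.node (.leaf 0) (.leaf 0))) (.node (.node (.leaf 0) (.leaf 0)) (.node (.leaf 0) (.leaf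 0)))))) (.node (.node (.node (.node (.node (.leaf 1) (.leaf (-1))) (.node (.leaf 0) (.leaf 0))) (.node (.node (.leaf 0) (.leaf 0)) (.node (.leaf (-1)) (.leaf 1)))) (.node (.node (.node (.leaf 1) (.leaf 0)) (.node (.leaf 0) (.leaf 0))) (.node (.node (.leaf 0) (.leaf 0)) (.node (.leaf 1) (.leaf 1))))) (.node (.node (.node (.node (.leaf 0) (.leaf 1)) (.node (.leaf 1) (.leaf 1))) (.node (.node (.leaf 1) (.leaf 1)) (.node (.leaf (-1)) (.leaf 0)))) (.node (.node (.node (.leaf 0) (.leaf 1)) (.node (.leaf 1) (.leaf 0))) (.node (.node (.leaf 1) (.leaf 1)) (.node (.leaf 0) (.leaf 0)))))))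

noncomputable def pos3 : Trie (ℕ) := .node (.node (.node (.node (.node (.node (.node (.leaf 478) (.leaf 587)) (.node (.leaf 729) (.leaf 735))) (.node (.node (.leaf 583) (.leaf 581)) (.node (.leaf 571) (.leaf 209)))) (.node (.node (.node (.leaf 10) (.leaf 335)) (.node (.leaf 279) (.leaf 392))) (.node (.node (.leaf 277) (.leaf 385)) (.node (.leaf 0) (.leaf 831))))) (.node (.node (.node (.node (.leaf 481) (.leaf 111)) (.node (.leaf 50) (.leaf 166))) (.node (.node (.leaf 49) (.leaf 159)) (.node (.leaf 331) (.leaf 434)))) (.node (.node (.node (.leaf 236) (.leaf 731)) (.node (.leaf 491) (.leaf 765))) (.node (.node (.leaf 573) (.leaf 754)) (.node (.leaf 575) (.leaf 833)))))) (.node (.node (.node (.node (.node (.leaf 2) (.leaf 109)) (.node (.leaf 487) (.leaf 749))) (.node (.node (.leaf 485) (.leaf 591)) (.node (.leaf 586) (.leaf 211)))) (.node (.node (.node (.leaf 13) (.leaf 339)) (.node (.leaf 733) (.leaf 737)))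 (.node (.node (.leaf 728) (.leaf 732)) (.node (.leaf 337) (.leaf 221))))) (.node (.node (.node (.node (.leaf 486) (.leaf 333)) (.node (.leaf 69) (.leaf 169))) (.node (.node (.leaf 58) (.leaf 163)) (.node (.leaf 113) (.leaf 824)))) (.node (.node (.node (.leaf 565) (.leaf 117)) (.node (.leaf 108) (.leaf 828))) (.node (.node (.leaf 106) (.leaf 116)) (.node (.leaf 585) (.leaf 834))))))) (.node (.node (.node (.node (.node (.node (.leaf 479) (.leaf 590)) (.node (.leaf 484) (.leaf 736))) (.node (.node (.leaf 482) (.leaf 588)) (.node (.leaf 577) (.leaf 210)))) (.node (.node (.node (.leaf 12) (.leaf 115)) (.node (.leaf 293) (.leaf 393))) (.node (.node (.leaf 282) (.leaf 387)) (.node (.leaf 336) (.leaf 832))))) (.node (.node (.node (.node (.leaf 483) (.leaf 0)) (.node (.leaf 55) (.leaf 168))) (.node (.node (.leaf 53) (.leaf 161)) (.node (.leaf 112) (.leaf 435)))) (.node (.node (.node (.leaf 237) (.leaf 744)) (.node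 (.leaf 492) (.leaf 827))) (.node (.node (.leaf 584) (.leaf 734)) (.node (.leaf 579) (.leaf 834)))))) (.node (.node (.node (.node (.node (.leaf 226) (.leaf 110)) (.node (.leaf 490) (.leaf 826))) (.node (.node (.leaf 488) (.leaf 825)) (.node (.leaf 107) (.leaf 433)))) (.node (.node (.node (.leaf 234) (.leaf 730)) (.node (.leaf 489) (.leaf 751))) (.node (.node (.leaf 567) (.leaf 747)) (.node (.leaf 338) (.leaf 445))))) (.node (.node (.node (.node (.leaf 480) (.leaf 334)) (.node (.leaf 274) (.leaf 390))) (.node (.node (.leaf 273) (.leaf 383)) (.node (.leaf 114) (.leaf 829)))) (.node (.node (.node (.leaf 569) (.leaf 341)) (.node (.leaf 332) (.leaf 830))) (.node (.node (.leaf 330) (.leaf 340)) (.node (.leaf 589) (.leaf 834)))))))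

noncomputable def pi4 : Trie (ℕ) := .node (.node (.node (.node (.node (.node (.node (.leaf 0) (.leaf 67)) (.node (.leaf 32) (.leaf 95))) (.node (.node (.leaf 16) (.leaf 79)) (.node (.leaf 48) (.leaf 110)))) (.node (.node (.node (.leaf 7) (.leaf 72)) (.node (.leaf 40) (.leaf 106))) (.node (.node (.leaf 24) (.leaf 90)) (.node (.leaf 55) (.leaf 120))))) (.node (.node (.node (.node (.leaf 3) (.leaf 65)) (.node (.leaf 34) (.leaf 99))) (.node (.node (.leaf 18) (.leaf 83)) (.node (.leaf 52) (.leaf 116)))) (.node (.node (.node (.leaf 14) (.leaf 76)) (.node (.leaf 44) (.leaf 108))) (.node (.node (.leaf 28) (.leaf 92)) (.node (.leaf 57) (.leaf 124)))))) (.node (.node (.node (.node (.node (.leaf 2) (.leaf 59)) (.node (.leaf 36) (.leaf 98))) (.node (.node (.leaf 20) (.leaf 82)) (.node (.leaf 51) (.leaf 114)))) (.node (.node (.node (.leaf 10) (.leaf 75)) (.node (.leaf 41) (.leaf 104))) (.node (.node (.leaf 25) (.leaf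 88)) (.node (.leaf 61) (.leaf 121))))) (.node (.node (.node (.node (.leaf 6) (.leaf 69)) (.node (.leaf 38) (.leaf 102))) (.node (.node (.leaf 22) (.leaf 86)) (.node (.leaf 54) (.leaf 117)))) (.node (.node (.node (.leaf 12) (.leaf 78)) (.node (.leaf 45) (.leaf 112))) (.node (.node (.leaf 29) (.leaf 94)) (.node (.leaf 62) (.leaf 125))))))) (.node (.node (.node (.node (.node (.node (.leaf 1) (.leaf 68)) (.node (.leaf 33) (.leaf 97))) (.node (.node (.leaf 17) (.leaf 81)) (.node (.leaf 49) (.leaf 111)))) (.node (.node (.node (.leaf 9) (.leaf 73)) (.node (.leaf 42) (.leaf 107))) (.node (.node (.leaf 26) (.leaf 91)) (.node (.leaf 60) (.leaf 122))))) (.node (.node (.node (.node (.leaf 5) (.leaf 70)) (.node (.leaf 35) (.leaf 101))) (.node (.node (.leaf 19) (.leaf 85)) (.node (.leaf 53) (.leaf 118)))) (.node (.node (.node (.leaf 15) (.leaf 77)) (.node (.leaf 46) (.leaf 109))) (.node (.node (.leaf 30) (.leaf 93)) (.node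 (.leaf 58) (.leaf 125)))))) (.node (.node (.node (.node (.node (.leaf 4) (.leaf 64)) (.node (.leaf 37) (.leaf 100))) (.node (.node (.leaf 21) (.leaf 84)) (.node (.leaf 50) (.leaf 115)))) (.node (.node (.node (.leaf 11) (.leaf 74)) (.node (.leaf 43) (.leaf 105))) (.node (.node (.leaf 27) (.leaf 89)) (.node (.leaf 66) (.leaf 123))))) (.node (.node (.node (.node (.leaf 8) (.leaf 71)) (.node (.leaf 39) (.leaf 103))) (.node (.node (.leaf 23) (.leaf 87)) (.node (.leaf 56) (.leaf 119)))) (.node (.node (.node (.leaf 13) (.leaf 80)) (.node (.leaf 47) (.leaf 113))) (.node (.node (.leaf 31) (.leaf 96)) (.node (.leaf 63) (.leaf 125)))))))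

noncomputable def eta4 : Trie (ℤ) := .node (.node (.node (.node (.node (.node (.node (.leaf 1) (.leaf (-1))) (.node (.leaf 1) (.leaf (-1)))) (.node (.node (.leaf 1) (.leaf (-1))) (.node (.leaf 1) (.leaf (-1))))) (.node (.node (.node (.leaf 1) (.leaf 1)) (.node (.leaf 1) (.leaf 1))) (.node (.node (.leaf 1) (.leaf 1)) (.node (.leaf 1) (.leaf 1))))) (.node (.node (.node (.node (.leaf 1) (.leaf 1)) (.node (.leaf 1) (.leaf (-1)))) (.node (.node (.leaf 1) (.leaf (-1))) (.node (.leaf 1) (.leaf 1)))) (.node (.node (.node (.leaf (-1)) (.leaf 1)) (.node (.leaf 1) (.leaf 1))) (.node (.node (.leaf 1) (.leaf 1)) (.node (.leaf (-1)) (.leaf 1)))))) (.node (.node (.node (.node (.node (.leaf 1) (.leaf (-1))) (.node (.leaf (-1)) (.leaf 1))) (.node (.node (.leaf (-1)) (.leaf 1)) (.node (.leaf (-1)) (.leaf 1)))) (.node (.node (.node (.leaf 1) (.leaf 1)) (.node (.leaf 1) (.leaf (-1)))) (.node (.node (.leaf 1) (.leaf (-1))) (.node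 (.leaf 1) (.leaf (-1)))))) (.node (.node (.node (.node (.leaf 1) (.leaf (-1))) (.node (.leaf 1) (.leaf 1))) (.node (.node (.leaf 1) (.leaf 1)) (.node (.leaf 1) (.leaf (-1))))) (.node (.node (.node (.leaf 1) (.leaf 1)) (.node (.leaf 1) (.leaf 1))) (.node (.node (.leaf 1) (.leaf 1)) (.node (.leaf 1) (.leaf 1))))))) (.node (.node (.node (.node (.node (.node (.leaf 1) (.leaf (-1))) (.node (.leaf 1) (.leaf 1))) (.node (.node (.leaf 1) (.leaf 1)) (.node (.leaf 1) (.leaf (-1))))) (.node (.node (.node (.leaf 1) (.leaf 1)) (.node (.leaf (-1)) (.leaf 1))) (.node (.node (.leaf (-1)) (.leaf 1)) (.node (.leaf 1) (.leaf 1))))) (.node (.node (.node (.node (.leaf 1) (.leaf 1)) (.node (.leaf 1) (.leaf 1))) (.node (.node (.leaf 1) (.leaf 1)) (.node (.leaf 1) (.leaf 1)))) (.node (.node (.node (.leaf (-1)) (.leaf 1)) (.node (.leaf (-1)) (.leaf 1))) (.node (.node (.leaf (-1)) (.leaf 1)) (.node (.leaf (-1)) (.leaf 1)))))) (.node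 (.node (.node (.node (.node (.leaf (-1)) (.leaf 1)) (.node (.leaf (-1)) (.leaf 1))) (.node (.node (.leaf (-1)) (.leaf 1)) (.node (.leaf 1) (.leaf 1)))) (.node (.node (.node (.leaf 1) (.leaf (-1))) (.node (.leaf 1) (.leaf (-1)))) (.node (.node (.leaf 1) (.leaf (-1))) (.node (.leaf (-1)) (.leaf 1))))) (.node (.node (.node (.node (.leaf (-1)) (.leaf 1)) (.node (.leaf 1) (.leaf 1))) (.node (.node (.leaf 1) (.leaf 1)) (.node (.leaf (-1)) (.leaf 1)))) (.node (.node (.node (.leaf 1) (.leaf 1)) (.node (.leaf 1) (.leaf 1))) (.node (.node (.leaf 1) (.leaf 1)) (.node (.leaf 1) (.leaf 1)))))))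

noncomputable def car4 : Trie (ℤ) := .node (.node (.node (.node (.node (.node (.node (.leaf 0) (.leaf (-1))) (.node (.leaf 0) (.leaf 1))) (.node (.node (.leaf 0) (.leaf 1)) (.node (.leaf 0) (.leaf 1)))) (.node (.node (.node (.leaf 1) (.leaf 0)) (.node (.leaf 0) (.leaf (-1)))) (.node (.node (.leaf 0) (.leaf (-1))) (.node (.leaf 1) (.leaf 0))))) (.node (.node (.node (.node (.leaf 1) (.leaf 1)) (.node (.leaf 1) (.leaf 1))) (.node (.node (.leaf 1) (.leaf 1)) (.node (.leaf 0) (.leaf 0)))) (.node (.node (.node (.leaf (-1)) (.leaf 0)) (.node (.leaf 0) (.leaf 0))) (.node (.node (.leaf 0) (.leaf 0)) (.node (.leaf 1) (.leaf 0)))))) (.node (.node (.node (.node (.node (.leaf 0) (.leaf 2)) (.node (.leaf (-1)) (.leaf 0))) (.node (.node (.leaf (-1)) (.leaf 0)) (.node (.leaf (-1)) (.leaf 0)))) (.node (.node (.node (.leaf 0) (.leaf (-1))) (.node (.leaf 1) (.leaf 1))) (.node (.node (.leaf 1) (.leaf 1)) (.node (.leaf (-1))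 (.leaf 1))))) (.node (.node (.node (.node (.leaf 0) (.leaf 1)) (.node (.leaf 0) (.leaf 0))) (.node (.node (.leaf 0) (.leaf 0)) (.node (.leaf 0) (.leaf 1)))) (.node (.node (.node (.leaf 1) (.leaf 0)) (.node (.leaf 1) (.leaf (-1)))) (.node (.node (.leaf 1) (.leaf 0)) (.node (.leaf 0) (.leaf 0))))))) (.node (.node (.node (.node (.node (.node (.leaf 0) (.leaf (-1))) (.node (.leaf 0) (.leaf 0))) (.node (.node (.leaf 0) (.leaf 0)) (.node (.leaf 0) (.leaf 1)))) (.node (.node (.node (.leaf 0) (.leaf 0)) (.node (.leaf (-1)) (.leaf (-1)))) (.node (.node (.leaf (-1)) (.leaf (-1))) (.node (.leaf (-1)) (.leaf (-1)))))) (.node (.node (.node (.node (.leaf 0) (.leaf (-1))) (.node (.leaf 1) (.leaf 0))) (.node (.node (.leaf 1) (.leaf 0)) (.node (.leaf 0) (.leaf (-1))))) (.node (.node (.node (.leaf (-1)) (.leaf 0)) (.node (.leaf (-1)) (.leaf 0))) (.node (.node (.leaf (-1)) (.leaf 0)) (.node (.leaf 1) (.leaf 0)))))) (.node (.node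 (.node (.node (.node (.leaf (-1)) (.leaf 1)) (.node (.leaf (-1)) (.leaf (-1)))) (.node (.node (.leaf (-1)) (.leaf (-1))) (.node (.leaf 1) (.leaf 0)))) (.node (.node (.node (.leaf 0) (.leaf 1)) (.node (.leaf 0) (.leaf 1))) (.node (.node (.leaf 0) (.leaf 1)) (.node (.leaf (-2)) (.leaf 0))))) (.node (.node (.node (.node (.leaf (-1)) (.leaf 0)) (.node (.leaf 0) (.leaf 0))) (.node (.node (.leaf 0) (.leaf 0)) (.node (.leaf (-1)) (.leaf 0)))) (.node (.node (.node (.leaf 1) (.leaf (-1))) (.node (.leaf 0) (.leaf (-1)))) (.node (.node (.leaf 0) (.leaf (-1))) (.node (.leaf 0) (.leaf 0)))))))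

noncomputable def pos4 : Trie (ℕ) := .node (.node (.node (.node (.node (.node (.node (.leaf 494) (.leaf 90)) (.node (.leaf 667) (.leaf 357))) (.node (.node (.leaf 642) (.leaf 359)) (.node (.leaf 530) (.leaf 422)))) (.node (.node (.node (.leaf 230) (.leaf 656)) (.node (.leaf 518) (.leaf 191))) (.node (.node (.leaf 514) (.leaf 185)) (.node (.leaf 313) (.leaf 842))))) (.node (.node (.node (.node (.leaf 228) (.leaf 315)) (.node (.leaf 251) (.leaf 368))) (.node (.node (.leaf 249) (.leaf 366)) (.node (.leaf 648) (.leaf 841)))) (.node (.node (.node (.leaf 21) (.leaf 671)) (.node (.leaf 520) (.leaf 801))) (.node (.node (.leaf 532) (.leaf 800)) (.node (.leaf 351) (.leaf 845)))))) (.node (.node (.node (.node (.node (.leaf 500) (.leaf 0)) (.node (.leaf 27) (.leaf 699))) (.node (.node (.leaf 25) (.leaf 658)) (.node (.leaf 87) (.leaf 802)))) (.node (.node (.node (.leaf 528) (.leaf 131)) (.node (.leaf 309) (.leaf 415)))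 (.node (.node (.leaf 308) (.leaf 409)) (.node (.leaf 128) (.leaf 443))))) (.node (.node (.node (.node (.leaf 510) (.leaf 353)) (.node (.leaf 675) (.leaf 701))) (.node (.node (.leaf 665) (.leaf 693)) (.node (.leaf 538) (.leaf 442)))) (.node (.node (.node (.leaf 245) (.leaf 540)) (.node (.leaf 312) (.leaf 198))) (.node (.node (.leaf 310) (.leaf 679)) (.node (.leaf 646) (.leaf 847))))))) (.node (.node (.node (.node (.node (.node (.leaf 496) (.leaf 91)) (.node (.leaf 506) (.leaf 681))) (.node (.node (.leaf 502) (.leaf 652)) (.node (.leaf 536) (.leaf 425)))) (.node (.node (.node (.leaf 524) (.leaf 669)) (.node (.leaf 85) (.leaf 193))) (.node (.node (.leaf 84) (.leaf 186)) (.node (.leaf 127) (.leaf 219))))) (.node (.node (.node (.node (.leaf 504) (.leaf 129)) (.node (.leaf 258) (.leaf 683))) (.node (.node (.leaf 255) (.leaf 673)) (.node (.leaf 534) (.leaf 218)))) (.node (.node (.node (.leaf 23) (.leaf 691)) (.node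 (.leaf 88) (.leaf 838))) (.node (.node (.leaf 86) (.leaf 677)) (.node (.leaf 352) (.leaf 847)))))) (.node (.node (.node (.node (.node (.leaf 4) (.leaf 314)) (.node (.leaf 34) (.leaf 144))) (.node (.node (.leaf 31) (.leaf 142)) (.node (.leaf 311) (.leaf 839)))) (.node (.node (.node (.leaf 498) (.leaf 355)) (.node (.leaf 516) (.leaf 417))) (.node (.node (.leaf 526) (.leaf 410)) (.node (.leaf 0) (.leaf 843))))) (.node (.node (.node (.node (.leaf 6) (.leaf 650)) (.node (.leaf 512) (.leaf 837))) (.node (.node (.leaf 508) (.leaf 836)) (.node (.leaf 89) (.leaf 840)))) (.node (.node (.node (.leaf 247) (.leaf 135)) (.node (.leaf 522) (.leaf 201))) (.node (.node (.leaf 644) (.leaf 133)) (.node (.leaf 654) (.leaf 847)))))))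

noncomputable def pi5 : Trie (ℕ) := .node (.node (.node (.node (.node (.node (.node (.leaf 0) (.leaf 61)) (.node (.leaf 32) (.leaf 97))) (.node (.node (.leaf 15) (.leaf 81)) (.node (.leaf 48) (.leaf 112)))) (.node (.node (.node (.leaf 9) (.leaf 72)) (.node (.leaf 41) (.leaf 103))) (.node (.node (.leaf 25) (.leaf 87)) (.node (.leaf 56) (.leaf 121))))) (.node (.node (.node (.node (.leaf 5) (.leaf 68)) (.node (.leaf 36) (.leaf 101))) (.node (.node (.leaf 20) (.leaf 85)) (.node (.leaf 52) (.leaf 117)))) (.node (.node (.node (.leaf 11) (.leaf 75)) (.node (.leaf 45) (.leaf 107))) (.node (.node (.leaf 29) (.leaf 91)) (.node (.leaf 62) (.leaf 124)))))) (.node (.node (.node (.node (.node (.leaf 2) (.leaf 67)) (.node (.leaf 33) (.leaf 98))) (.node (.node (.leaf 17) (.leaf 82)) (.node (.leaf 49) (.leaf 113)))) (.node (.node (.node (.leaf 10) (.leaf 74)) (.node (.leaf 42) (.leaf 106))) (.node (.node (.leaf 26) (.leaf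 90)) (.node (.leaf 59) (.leaf 122))))) (.node (.node (.node (.node (.leaf 6) (.leaf 71)) (.node (.leaf 37) (.leaf 102))) (.node (.node (.leaf 21) (.leaf 86)) (.node (.leaf 55) (.leaf 118)))) (.node (.node (.node (.leaf 14) (.leaf 78)) (.node (.leaf 46) (.leaf 109))) (.node (.node (.leaf 30) (.leaf 94)) (.node (.leaf 60) (.leaf 125))))))) (.node (.node (.node (.node (.node (.node (.leaf 1) (.leaf 63)) (.node (.leaf 34) (.leaf 96))) (.node (.node (.leaf 18) (.leaf 80)) (.node (.leaf 50) (.leaf 114)))) (.node (.node (.node (.leaf 8) (.leaf 73)) (.node (.leaf 40) (.leaf 105))) (.node (.node (.leaf 24) (.leaf 89)) (.node (.leaf 57) (.leaf 120))))) (.node (.node (.node (.node (.leaf 4) (.leaf 69)) (.node (.leaf 38) (.leaf 100))) (.node (.node (.leaf 22) (.leaf 84)) (.node (.leaf 53) (.leaf 116)))) (.node (.node (.node (.leaf 13) (.leaf 77)) (.node (.leaf 44) (.leaf 110))) (.node (.node (.leaf 28) (.leaf 93)) (.node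 (.leaf 64) (.leaf 125)))))) (.node (.node (.node (.node (.node (.leaf 3) (.leaf 66)) (.node (.leaf 35) (.leaf 99))) (.node (.node (.leaf 19) (.leaf 83)) (.node (.leaf 51) (.leaf 115)))) (.node (.node (.node (.leaf 12) (.leaf 76)) (.node (.leaf 43) (.leaf 108))) (.node (.node (.leaf 27) (.leaf 92)) (.node (.leaf 58) (.leaf 123))))) (.node (.node (.node (.node (.leaf 7) (.leaf 70)) (.node (.leaf 39) (.leaf 104))) (.node (.node (.leaf 23) (.leaf 88)) (.node (.leaf 54) (.leaf 119)))) (.node (.node (.node (.leaf 16) (.leaf 79)) (.node (.leaf 47) (.leaf 111))) (.node (.node (.leaf 31) (.leaf 95)) (.node (.leaf 65) (.leaf 125)))))))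

noncomputable def eta5 : Trie (ℤ) := .node (.node (.node (.node (.node (.node (.node (.leaf 1) (.leaf (-1))) (.node (.leaf 1) (.leaf 1))) (.node (.node (.leaf 1) (.leaf 1)) (.node (.leaf 1) (.leaf 1)))) (.node (.node (.node (.leaf (-1)) (.leaf 1)) (.node (.leaf (-1)) (.leaf (-1)))) (.node (.node (.leaf (-1)) (.leaf (-1))) (.node (.leaf 1) (.leaf 1))))) (.node (.node (.node (.node (.leaf (-1)) (.leaf 1)) (.node (.leaf 1) (.leaf 1))) (.node (.node (.leaf 1) (.leaf 1)) (.node (.leaf 1) (.leaf 1)))) (.node (.node (.node (.leaf 1) (.leaf (-1))) (.node (.leaf (-1)) (.leaf (-1)))) (.node (.node (.leaf (-1)) (.leaf (-1))) (.node (.leaf 1) (.leaf 1)))))) (.node (.node (.node (.node (.node (.leaf 1) (.leaf 1)) (.node (.leaf 1) (.leaf 1))) (.node (.node (.leaf 1) (.leaf 1)) (.node (.leaf 1) (.leaf (-1))))) (.node (.node (.node (.leaf 1) (.leaf 1)) (.node (.leaf 1) (.leaf 1))) (.node (.node (.leaf 1) (.leaf 1)) (.node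 (.leaf (-1)) (.leaf 1))))) (.node (.node (.node (.node (.leaf 1) (.leaf 1)) (.node (.leaf 1) (.leaf 1))) (.node (.node (.leaf 1) (.leaf 1)) (.node (.leaf (-1)) (.leaf 1)))) (.node (.node (.node (.leaf 1) (.leaf 1)) (.node (.leaf 1) (.leaf (-1)))) (.node (.node (.leaf 1) (.leaf 1)) (.node (.leaf (-1)) (.leaf 1))))))) (.node (.node (.node (.node (.node (.node (.leaf 1) (.leaf 1)) (.node (.leaf (-1)) (.leaf (-1)))) (.node (.node (.leaf (-1)) (.leaf (-1))) (.node (.leaf (-1)) (.leaf 1)))) (.node (.node (.node (.leaf 1) (.leaf 1)) (.node (.leaf 1) (.leaf 1))) (.node (.node (.leaf 1) (.leaf 1)) (.node (.leaf 1) (.leaf (-1)))))) (.node (.node (.node (.node (.leaf 1) (.leaf 1)) (.node (.leaf (-1)) (.leaf (-1)))) (.node (.node (.leaf (-1)) (.leaf (-1))) (.node (.leaf 1) (.leaf (-1))))) (.node (.node (.node (.leaf 1) (.leaf 1)) (.node (.leaf 1) (.leaf 1))) (.node (.node (.leaf 1) (.leaf 1)) (.node (.leaf (-1)) (.leaf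 1)))))) (.node (.node (.node (.node (.node (.leaf 1) (.leaf (-1))) (.node (.leaf 1) (.leaf 1))) (.node (.node (.leaf 1) (.leaf 1)) (.node (.leaf 1) (.leaf 1)))) (.node (.node (.node (.leaf (-1)) (.leaf 1)) (.node (.leaf 1) (.leaf 1))) (.node (.node (.leaf 1) (.leaf 1)) (.node (.leaf 1) (.leaf 1))))) (.node (.node (.node (.node (.leaf 1) (.leaf (-1))) (.node (.leaf 1) (.leaf 1))) (.node (.node (.leaf 1) (.leaf 1)) (.node (.leaf 1) (.leaf 1)))) (.node (.node (.node (.leaf (-1)) (.leaf 1)) (.node (.leaf 1) (.leaf 1))) (.node (.node (.leaf 1) (.leaf 1)) (.node (.leaf (-1)) (.leaf 1)))))))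

noncomputable def car5 : Trie (ℤ) := .node (.node (.node (.node (.node (.node (.node (.leaf 0) (.leaf 2)) (.node (.leaf 0) (.leaf (-1)))) (.node (.node (.leaf 1) (.leaf (-1))) (.node (.leaf 0) (.leaf 0)))) (.node (.node (.node (.leaf (-1)) (.leaf 0)) (.node (.leaf (-1)) (.leaf 1))) (.node (.node (.leaf (-1)) (.leaf 1)) (.node (.leaf 0) (.leaf (-1)))))) (.node (.node (.node (.node (.leaf (-1)) (.leaf 0)) (.node (.leaf 0) (.leaf (-1)))) (.node (.node (.leaf 0) (.leaf (-1))) (.node (.leaf 0) (.leaf (-1))))) (.node (.node (.node (.leaf 1) (.leaf 1)) (.node (.leaf (-1)) (.leaf 1))) (.node (.node (.leaf (-1)) (.leaf 1)) (.node (.leaf (-1)) (.leaf 0)))))) (.node (.node (.node (.node (.node (.leaf 0) (.leaf (-1))) (.node (.leaf 1) (.leaf 0))) (.node (.node (.leaf 1) (.leaf 0)) (.node (.leaf 1) (.leaf 1)))) (.node (.node (.node (.leaf 0) (.leaf 0)) (.node (.leaf 0) (.leaf 0))) (.node (.node (.leaf 0) (.leaf 0)) (.node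 (.leaf (-1)) (.leaf 0))))) (.node (.node (.node (.node (.leaf 0) (.leaf (-1))) (.node (.leaf 1) (.leaf 0))) (.node (.node (.leaf 1) (.leaf 0)) (.node (.leaf (-1)) (.leaf 0)))) (.node (.node (.node (.leaf 0) (.leaf 0)) (.node (.leaf 0) (.leaf 1))) (.node (.node (.leaf 0) (.leaf 0)) (.node (.leaf 1) (.leaf 0))))))) (.node (.node (.node (.node (.node (.node (.leaf 0) (.leaf 1)) (.node (.leaf (-1)) (.leaf 1))) (.node (.node (.leaf (-1)) (.leaf 1)) (.node (.leaf (-1)) (.leaf (-1))))) (.node (.node (.node (.leaf 1) (.leaf 0)) (.node (.leaf 1) (.leaf 0))) (.node (.node (.leaf 1) (.leaf 0)) (.node (.leaf 0) (.leaf 1))))) (.node (.node (.node (.node (.leaf 1) (.leaf 0)) (.node (.leaf (-1)) (.leaf 1))) (.node (.node (.leaf (-1)) (.leaf 1)) (.node (.leaf 0) (.leaf 1)))) (.node (.node (.node (.leaf 0) (.leaf 0)) (.node (.leaf 1) (.leaf (-1)))) (.node (.node (.leaf 1) (.leaf 0)) (.node (.leaf (-2)) (.leaf 0)))))) (.node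 (.node (.node (.node (.node (.leaf 0) (.leaf 1)) (.node (.leaf 0) (.leaf 0))) (.node (.node (.leaf 0) (.leaf 0)) (.node (.leaf 0) (.leaf 0)))) (.node (.node (.node (.leaf (-1)) (.leaf (-1))) (.node (.leaf 0) (.leaf (-1)))) (.node (.node (.leaf 0) (.leaf (-1))) (.node (.leaf 1) (.leaf 0))))) (.node (.node (.node (.node (.leaf 0) (.leaf 1)) (.node (.leaf 0) (.leaf (-1)))) (.node (.node (.leaf 0) (.leaf (-1))) (.node (.leaf 1) (.leaf 0)))) (.node (.node (.node (.leaf (-1)) (.leaf 0)) (.node (.leaf 0) (.leaf 0))) (.node (.node (.leaf 0) (.leaf 0)) (.node (.leaf (-1)) (.leaf 0)))))))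

noncomputable def pos5 : Trie (ℕ) := .node (.node (.node (.node (.node (.node (.node (.leaf 550) (.leaf 0)) (.node (.leaf 599) (.leaf 156))) (.node (.node (.leaf 272) (.leaf 158)) (.node (.leaf 572) (.leaf 850)))) (.node (.node (.node (.leaf 11) (.leaf 725)) (.node (.leaf 60) (.leaf 398))) (.node (.node (.leaf 59) (.leaf 397)) (.node (.leaf 580) (.leaf 214))))) (.node (.node (.node (.node (.leaf 9) (.leaf 723)) (.node (.leaf 556) (.leaf 167))) (.node (.node (.leaf 554) (.leaf 165)) (.node (.leaf 595) (.leaf 213)))) (.node (.node (.node (.leaf 238) (.leaf 379)) (.node (.leaf 63) (.leaf 432))) (.node (.node (.leaf 61) (.leaf 431)) (.node (.leaf 152) (.leaf 856)))))) (.node (.node (.node (.node (.node (.leaf 553) (.leaf 153)) (.node (.leaf 240) (.leaf 750))) (.node (.node (.leaf 239) (.leaf 727)) (.node (.leaf 286) (.leaf 436)))) (.node (.node (.node (.leaf 570) (.leaf 601)) (.node (.leaf 562) (.leaf 849)))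 (.node (.node (.leaf 560) (.leaf 848)) (.node (.leaf 65) (.leaf 854))))) (.node (.node (.node (.node (.leaf 558) (.leaf 154)) (.node (.leaf 280) (.leaf 752))) (.node (.node (.leaf 278) (.leaf 748)) (.node (.leaf 64) (.leaf 853)))) (.node (.node (.node (.leaf 552) (.leaf 582)) (.node (.leaf 563) (.leaf 401))) (.node (.node (.leaf 574) (.leaf 605)) (.node (.leaf 376) (.leaf 857))))))) (.node (.node (.node (.node (.node (.node (.leaf 551) (.leaf 290)) (.node (.leaf 16) (.leaf 380))) (.node (.node (.leaf 15) (.leaf 382)) (.node (.leaf 62) (.leaf 212)))) (.node (.node (.node (.leaf 235) (.leaf 600)) (.node (.leaf 284) (.leaf 756))) (.node (.node (.leaf 283) (.leaf 755)) (.node (.leaf 594) (.leaf 438))))) (.node (.node (.node (.node (.leaf 233) (.leaf 596)) (.node (.leaf 56) (.leaf 391))) (.node (.node (.leaf 54) (.leaf 389)) (.node (.leaf 576) (.leaf 437)))) (.node (.node (.node (.leaf 592) (.leaf 745)) (.node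 (.leaf 287) (.leaf 177))) (.node (.node (.leaf 285) (.leaf 604)) (.node (.leaf 0) (.leaf 857)))))) (.node (.node (.node (.node (.node (.leaf 555) (.leaf 377)) (.node (.leaf 603) (.leaf 607))) (.node (.node (.leaf 598) (.leaf 602)) (.node (.leaf 578) (.leaf 851)))) (.node (.node (.node (.leaf 14) (.leaf 155)) (.node (.leaf 561) (.leaf 208))) (.node (.node (.leaf 568) (.leaf 207)) (.node (.leaf 289) (.leaf 855))))) (.node (.node (.node (.node (.leaf 566) (.leaf 378)) (.node (.leaf 559) (.leaf 174))) (.node (.node (.leaf 557) (.leaf 173)) (.node (.leaf 288) (.leaf 852)))) (.node (.node (.node (.leaf 48) (.leaf 597)) (.node (.leaf 564) (.leaf 757))) (.node (.node (.leaf 593) (.leaf 606)) (.node (.leaf 66) (.leaf 857)))))))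

noncomputable def pi6 : Trie (ℕ) := .node (.node (.node (.node (.node (.node (.node (.leaf 0) (.leaf 65)) (.node (.leaf 32) (.leaf 96))) (.node (.node (.leaf 16) (.leaf 80)) (.node (.leaf 49) (.leaf 113)))) (.node (.node (.node (.leaf 8) (.leaf 71)) (.node (.leaf 39) (.leaf 105))) (.node (.node (.leaf 23) (.leaf 89)) (.node (.leaf 56) (.leaf 119))))) (.node (.node (.node (.node (.leaf 4) (.leaf 67)) (.node (.leaf 37) (.leaf 100))) (.node (.node (.leaf 21) (.leaf 84)) (.node (.leaf 52) (.leaf 115)))) (.node (.node (.node (.leaf 13) (.leaf 77)) (.node (.leaf 43) (.leaf 108))) (.node (.node (.leaf 27) (.leaf 92)) (.node (.leaf 61) (.leaf 124)))))) (.node (.node (.node (.node (.node (.leaf 2) (.leaf 66)) (.node (.leaf 35) (.leaf 97))) (.node (.node (.leaf 19) (.leaf 81)) (.node (.leaf 50) (.leaf 114)))) (.node (.node (.node (.leaf 9) (.leaf 74)) (.node (.leaf 42) (.leaf 107))) (.node (.node (.leaf 26) (.leaf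 91)) (.node (.leaf 57) (.leaf 122))))) (.node (.node (.node (.node (.leaf 5) (.leaf 70)) (.node (.leaf 38) (.leaf 101))) (.node (.node (.leaf 22) (.leaf 85)) (.node (.leaf 53) (.leaf 118)))) (.node (.node (.node (.leaf 15) (.leaf 78)) (.node (.leaf 46) (.leaf 111))) (.node (.node (.leaf 30) (.leaf 94)) (.node (.leaf 63) (.leaf 125))))))) (.node (.node (.node (.node (.node (.node (.leaf 1) (.leaf 64)) (.node (.leaf 33) (.leaf 98))) (.node (.node (.leaf 17) (.leaf 82)) (.node (.leaf 48) (.leaf 112)))) (.node (.node (.node (.leaf 10) (.leaf 73)) (.node (.leaf 41) (.leaf 104))) (.node (.node (.leaf 25) (.leaf 88)) (.node (.leaf 58) (.leaf 121))))) (.node (.node (.node (.node (.leaf 6) (.leaf 69)) (.node (.leaf 36) (.leaf 102))) (.node (.node (.leaf 20) (.leaf 86)) (.node (.leaf 54) (.leaf 117)))) (.node (.node (.node (.leaf 12) (.leaf 76)) (.node (.leaf 45) (.leaf 109))) (.node (.node (.leaf 29) (.leaf 93)) (.node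 (.leaf 60) (.leaf 125)))))) (.node (.node (.node (.node (.node (.leaf 3) (.leaf 68)) (.node (.leaf 34) (.leaf 99))) (.node (.node (.leaf 18) (.leaf 83)) (.node (.leaf 51) (.leaf 116)))) (.node (.node (.node (.leaf 11) (.leaf 75)) (.node (.leaf 44) (.leaf 106))) (.node (.node (.leaf 28) (.leaf 90)) (.node (.leaf 59) (.leaf 123))))) (.node (.node (.node (.node (.leaf 7) (.leaf 72)) (.node (.leaf 40) (.leaf 103))) (.node (.node (.leaf 24) (.leaf 87)) (.node (.leaf 55) (.leaf 120)))) (.node (.node (.node (.leaf 14) (.leaf 79)) (.node (.leaf 47) (.leaf 110))) (.node (.node (.leaf 31) (.leaf 95)) (.node (.leaf 62) (.leaf 125)))))))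

noncomputable def eta6 : Trie (ℤ) := .node (.node (.node (.node (.node (.node (.node (.leaf 1) (.leaf 1)) (.node (.leaf 1) (.leaf 1))) (.node (.node (.leaf 1) (.leaf 1)) (.node (.leaf (-1)) (.leaf 1)))) (.node (.node (.node (.leaf 1) (.leaf (-1))) (.node (.leaf 1) (.leaf 1))) (.node (.node (.leaf 1) (.leaf 1)) (.node (.leaf 1) (.leaf (-1)))))) (.node (.node (.node (.node (.leaf 1) (.leaf (-1))) (.node (.leaf (-1)) (.leaf 1))) (.node (.node (.leaf (-1)) (.leaf 1)) (.node (.leaf 1) (.leaf (-1))))) (.node (.node (.node (.leaf (-1)) (.leaf 1)) (.node (.leaf 1) (.leaf 1))) (.node (.node (.leaf 1) (.leaf 1)) (.node (.leaf (-1)) (.leaf 1)))))) (.node (.node (.node (.node (.node (.leaf 1) (.leaf 1)) (.node (.leaf (-1)) (.leaf (-1)))) (.node (.node (.leaf (-1)) (.leaf (-1))) (.node (.leaf 1) (.leaf 1)))) (.node (.node (.node (.leaf 1) (.leaf 1)) (.node (.leaf 1) (.leaf 1))) (.node (.node (.leaf 1) (.leaf 1)) (.node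 (.leaf 1) (.leaf 1))))) (.node (.node (.node (.node (.leaf 1) (.leaf 1)) (.node (.leaf 1) (.leaf (-1)))) (.node (.node (.leaf 1) (.leaf (-1))) (.node (.leaf 1) (.leaf 1)))) (.node (.node (.node (.leaf (-1)) (.leaf 1)) (.node (.leaf 1) (.leaf 1))) (.node (.node (.leaf 1) (.leaf 1)) (.node (.leaf (-1)) (.leaf 1))))))) (.node (.node (.node (.node (.node (.node (.leaf 1) (.leaf (-1))) (.node (.leaf 1) (.leaf 1))) (.node (.node (.leaf 1) (.leaf 1)) (.node (.leaf 1) (.leaf (-1))))) (.node (.node (.node (.leaf (-1)) (.leaf 1)) (.node (.leaf 1) (.leaf (-1)))) (.node (.node (.leaf 1) (.leaf (-1))) (.node (.leaf (-1)) (.leaf 1))))) (.node (.node (.node (.node (.leaf (-1)) (.leaf 1)) (.node (.leaf 1) (.leaf 1))) (.node (.node (.leaf 1) (.leaf 1)) (.node (.leaf (-1)) (.leaf 1)))) (.node (.node (.node (.leaf 1) (.leaf (-1))) (.node (.leaf 1) (.leaf 1))) (.node (.node (.leaf 1) (.leaf 1)) (.node (.leaf 1) (.leaf 1))))))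 (.node (.node (.node (.node (.node (.leaf 1) (.leaf 1)) (.node (.leaf 1) (.leaf 1))) (.node (.node (.leaf 1) (.leaf 1)) (.node (.leaf 1) (.leaf 1)))) (.node (.node (.node (.leaf 1) (.leaf 1)) (.node (.leaf (-1)) (.leaf (-1)))) (.node (.node (.leaf (-1)) (.leaf (-1))) (.node (.leaf 1) (.leaf 1))))) (.node (.node (.node (.node (.leaf 1) (.leaf 1)) (.node (.leaf (-1)) (.leaf 1))) (.node (.node (.leaf (-1)) (.leaf 1)) (.node (.leaf 1) (.leaf 1)))) (.node (.node (.node (.leaf 1) (.leaf 1)) (.node (.leaf 1) (.leaf (-1)))) (.node (.node (.leaf 1) (.leaf 1)) (.node (.leaf (-1)) (.leaf 1)))))))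

noncomputable def car6 : Trie (ℤ) := .node (.node (.node (.node (.node (.node (.node (.leaf 0) (.leaf (-1))) (.node (.leaf 0) (.leaf 0))) (.node (.node (.leaf 0) (.leaf 0)) (.node (.leaf (-1)) (.leaf (-1))))) (.node (.node (.node (.leaf 0) (.leaf 1)) (.node (.leaf 1) (.leaf (-1)))) (.node (.node (.leaf 1) (.leaf (-1))) (.node (.leaf 0) (.leaf 1))))) (.node (.node (.node (.node (.leaf 0) (.leaf 1)) (.node (.leaf (-1)) (.leaf 0))) (.node (.node (.leaf (-1)) (.leaf 0)) (.node (.leaf 0) (.leaf 1)))) (.node (.node (.node (.leaf (-1)) (.leaf (-1))) (.node (.leaf 1) (.leaf 0))) (.node (.node (.leaf 1) (.leaf 0)) (.node (.leaf (-1)) (.leaf 0)))))) (.node (.node (.node (.node (.node (.leaf 0) (.leaf 0)) (.node (.leaf (-1)) (.leaf 1))) (.node (.node (.leaf (-1)) (.leaf 1)) (.node (.leaf 0) (.leaf 0)))) (.node (.node (.node (.leaf 1) (.leaf 0)) (.node (.leaf 0) (.leaf (-1)))) (.node (.node (.leaf 0) (.leaf (-1))) (.node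 (.leaf 1) (.leaf 0))))) (.node (.node (.node (.node (.leaf 1) (.leaf 0)) (.node (.leaf 0) (.leaf 1))) (.node (.node (.leaf 0) (.leaf 1)) (.node (.leaf 1) (.leaf 0)))) (.node (.node (.node (.leaf (-1)) (.leaf 0)) (.node (.leaf 0) (.leaf (-1)))) (.node (.node (.leaf 0) (.leaf 0)) (.node (.leaf (-2)) (.leaf 0))))))) (.node (.node (.node (.node (.node (.node (.leaf 0) (.leaf 1)) (.node (.leaf 0) (.leaf (-1)))) (.node (.node (.leaf 0) (.leaf (-1))) (.node (.leaf 1) (.leaf 1)))) (.node (.node (.node (.leaf (-1)) (.leaf 0)) (.node (.leaf 0) (.leaf 1))) (.node (.node (.leaf 0) (.leaf 1)) (.node (.leaf (-1)) (.leaf 0))))) (.node (.node (.node (.node (.leaf (-1)) (.leaf 0)) (.node (.leaf 1) (.leaf (-1)))) (.node (.node (.leaf 1) (.leaf (-1))) (.node (.leaf (-1)) (.leaf 0)))) (.node (.node (.node (.leaf 1) (.leaf 1)) (.node (.leaf 0) (.leaf 0))) (.node (.node (.leaf 0) (.leaf 0)) (.node (.leaf 1) (.leaf 0)))))) (.node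 (.node (.node (.node (.node (.leaf 0) (.leaf (-1))) (.node (.leaf 1) (.leaf 0))) (.node (.node (.leaf 1) (.leaf 0)) (.node (.leaf 0) (.leaf (-1))))) (.node (.node (.node (.leaf 0) (.leaf 0)) (.node (.leaf (-1)) (.leaf 1))) (.node (.node (.leaf (-1)) (.leaf 1)) (.node (.leaf 0) (.leaf 0))))) (.node (.node (.node (.node (.leaf 0) (.leaf (-1))) (.node (.leaf (-1)) (.leaf 0))) (.node (.node (.leaf (-1)) (.leaf 0)) (.node (.leaf 0) (.leaf (-1))))) (.node (.node (.node (.leaf 1) (.leaf 0)) (.node (.leaf 0) (.leaf 1))) (.node (.node (.leaf 0) (.leaf 0)) (.node (.leaf 2) (.leaf 0)))))))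

noncomputable def pos6 : Trie (ℕ) := .node (.node (.node (.node (.node (.node (.node (.leaf 608) (.leaf 179)) (.node (.leaf 668) (.leaf 700))) (.node (.node (.leaf 610) (.leaf 696)) (.node (.leaf 40) (.leaf 204)))) (.node (.node (.node (.leaf 628) (.leaf 405)) (.node (.leaf 262) (.leaf 195))) (.node (.node (.leaf 261) (.leaf 194)) (.node (.leaf 638) (.leaf 430))))) (.node (.node (.node (.node (.leaf 616) (.leaf 404)) (.node (.leaf 35) (.leaf 702))) (.node (.node (.leaf 33) (.leaf 698)) (.node (.leaf 662) (.leaf 429)))) (.node (.node (.node (.leaf 24) (.leaf 182)) (.node (.leaf 265) (.leaf 859))) (.node (.node (.leaf 263) (.leaf 858)) (.node (.leaf 44) (.leaf 866)))))) (.node (.node (.node (.node (.node (.leaf 611) (.leaf 694)) (.node (.leaf 28) (.leaf 407))) (.node (.node (.leaf 26) (.leaf 408)) (.node (.leaf 630) (.leaf 860)))) (.node (.node (.node (.leaf 243) (.leaf 672)) (.node (.leaf 620) (.leaf 203)))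 (.node (.node (.leaf 618) (.leaf 202)) (.node (.leaf 267) (.leaf 864))))) (.node (.node (.node (.node (.leaf 241) (.leaf 695)) (.node (.leaf 614) (.leaf 413))) (.node (.node (.leaf 612) (.leaf 411)) (.node (.leaf 266) (.leaf 863)))) (.node (.node (.node (.leaf 32) (.leaf 640)) (.node (.leaf 621) (.leaf 199))) (.node (.node (.leaf 632) (.leaf 680)) (.node (.leaf 0) (.leaf 867))))))) (.node (.node (.node (.node (.node (.node (.leaf 609) (.leaf 403)) (.node (.leaf 676) (.leaf 183))) (.node (.node (.leaf 666) (.leaf 184)) (.node (.leaf 264) (.leaf 428)))) (.node (.node (.node (.leaf 19) (.leaf 670)) (.node (.leaf 617) (.leaf 419))) (.node (.node (.leaf 615) (.leaf 418)) (.node (.leaf 43) (.leaf 862))))) (.node (.node (.node (.node (.leaf 17) (.leaf 663)) (.node (.leaf 259) (.leaf 189))) (.node (.node (.leaf 257) (.leaf 187)) (.node (.leaf 42) (.leaf 861)))) (.node (.node (.node (.leaf 248) (.leaf 406)) (.node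 (.leaf 619) (.leaf 706))) (.node (.node (.leaf 626) (.leaf 678)) (.node (.leaf 268) (.leaf 867)))))) (.node (.node (.node (.node (.node (.leaf 613) (.leaf 180)) (.node (.leaf 252) (.leaf 684))) (.node (.node (.leaf 250) (.leaf 674)) (.node (.leaf 636) (.leaf 205)))) (.node (.node (.node (.leaf 659) (.leaf 697)) (.node (.leaf 41) (.leaf 427))) (.node (.node (.leaf 39) (.leaf 426)) (.node (.leaf 661) (.leaf 865))))) (.node (.node (.node (.node (.leaf 624) (.leaf 181)) (.node (.leaf 38) (.leaf 705))) (.node (.node (.leaf 37) (.leaf 704)) (.node (.leaf 634) (.leaf 206)))) (.node (.node (.node (.leaf 256) (.leaf 664)) (.node (.leaf 622) (.leaf 423))) (.node (.node (.leaf 660) (.leaf 682)) (.node (.leaf 0) (.leaf 867)))))))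

/-- The tables. -/
noncomputable def tbl : Tbl where
  l := 7
  n := 126
  vec := vec
  wt := [4826809, 371293, 28561, 2197, 169, 13, 1]
  pi := [pi0, pi1, pi2, pi3, pi4, pi5, pi6]
  eta := [eta0, eta1, eta2, eta3, eta4, eta5, eta6]
  rows := rows
  cor := cor
  car := [car0, car1, car2, car3, car4, car5, car6]
  simple := [93, 78, 73, 69, 66, 64, 63]
  bez := bez
  dsc := dsc
  reps := [(93, 0), (93, 1), (93, 2)]
  cert := cert
  ncert := 868
  pos := [pos0, pos1, pos2, pos3, pos4, pos5, pos6]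

end CfsgLib.Chev.DataE7
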