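import Cfsg.Agent.Chev.Engine

/-! Tables of the datum of type E8, generated from the definition; verified in `Chev.InstE8`. -/

set_option autoImplicit false
set_option maxRecDepth 100000
set_option linter.style.longLine false

namespace CfsgLib.Chev.DataE8

open CfsgLib.Chev

noncomputable def vec : Trie (List ℤ) := .node (.node (.node (.node (.node (.node (.node (.node (.leaf [-2, -3, -4, -6, -5, -4, -3, -2]) (.leaf [0, 0, 0, 0, 1, 1, 1, 0])) (.node (.leaf [-1, -1, -1, -2, -1, -1, 0, 0]) (.leaf [1, 1, 2, 2, 2, 2, 1, 1]))) (.node (.node (.leaf [-1, -2, -2, -3, -2, -2, -1, 0]) (.leaf [0, 1, 1, 2, 2, 2, 1, 1])) (.node (.leaf [0, -1, 0, -1, -1, 0, 0, 0]) (.leaf [1, 2, 3, 5, 4, 3, 2, 1])))) (.node (.node (.node (.leaf [-1, -2, -3, -4, -4, -3, -2, -1]) (.leaf [0, 1, 0, 1, 1, 1, 0, 0])) (.node (.leaf [0, -1, -1, -2, -2, -2, -1, 0]) (.leaf [1, 2, 2, 3, 2, 2, 1, 1]))) (.node (.node (.leaf [-1, -1, -2, -2, -2, -2, -1, 0]) (.leaf [1,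 1, 1, 2, 1, 1, 1, 0])) (.node (.leaf [0, 0, 0, 0, -1, -1, 0, 0]) (.leaf [2, 3, 4, 6, 5, 4, 3, 2]))))) (.node (.node (.node (.node (.leaf [-2, -2, -3, -5, -4, -3, -2, -1]) (.leaf [0, 0, 1, 1, 0, 0, 0, 0])) (.node (.leaf [-1, 0, -1, -1, -1, -1, -1, 0]) (.leaf [1, 1, 2, 3, 3, 2, 1, 0]))) (.node (.node (.leaf [-1, -1, -2, -3, -2, -2, -2, -1]) (.leaf [1, 0, 1, 1, 1, 1, 1, 1])) (.node (.leaf [0, 0, -1, 0, 0, 0, 0, 0]) (.leaf [2, 2, 4, 5, 4, 3, 2, 1])))) (.node (.node (.node (.leaf [-1, -2, -2, -4, -3, -2, -1, -1]) (.leaf [0, 1, 1, 2, 1, 0, 0, 0])) (.node (.leaf [0, -1, -1, -1, -1, -1, -1, -1]) (.leaf [1, 2, 2, 4, 3, 2, 2, 1]))) (.node (.node (.leaf [-1, -1, -1, -2, -2, -2, -2, -1]) (.leaf [1, 1, 2, 2, 1, 0, 0, 0])) (.node (.leaf [0, 0, 0, 0, 0, 0, 0, 1]) (.leaf [2, 3, 4, 6, 5, 4, 3, 2])))))) (.node (.node (.node (.node (.node (.leaf [-2, -3, -4, -6, -4, -3, -2, -1]) (.leaf [0, 0, 0, 1, 1, 1, 0, 0])) (.node (.leaf [-1, -1, -1, -1,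 -1, -1, 0, 0]) (.leaf [1, 1, 2, 3, 2, 1, 1, 1]))) (.node (.node (.leaf [-1, -1, -2, -3, -3, -3, -2, -1]) (.leaf [1, 0, 1, 1, 0, 0, 0, 0])) (.node (.leaf [0, 0, -1, -1, -1, -1, -1, 0]) (.leaf [2, 2, 3, 4, 3, 2, 2, 1])))) (.node (.node (.node (.leaf [-1, -2, -3, -4, -3, -2, -1, 0]) (.leaf [0, 1, 1, 1, 1, 0, 0, 0])) (.node (.leaf [0, -1, -1, -2, -1, -1, -1, -1]) (.leaf [1, 2, 2, 3, 3, 2, 2, 1]))) (.node (.node (.leaf [-1, -1, -2, -2, -1, -1, -1, -1]) (.leaf [1, 1, 1, 2, 2, 1, 1, 1])) (.node (.leaf [0, 0, 0, 0, 0, -1, 0, 0]) (.leaf [2, 3, 4, 6, 5, 4, 3, 2]))))) (.node (.node (.node (.node (.leaf [-2, -2, -3, -4, -3, -2, -1, -1]) (.leaf [0, 0, 1, 1, 1, 1, 1, 1])) (.node (.leaf [-1, 0, -1, 0, 0, 0, 0, 0]) (.leaf [1, 2, 2, 3, 2, 1, 0, 0]))) (.node (.node (.leaf [-1, -1, -2, -3, -2, -1, -1, 0]) (.leaf [1, 1, 1, 1, 1, 1, 1, 0])) (.node (.leaf [0, 0, 0, -1, -1, 0, 0, 0]) (.leaf [2, 3, 4, 6, 5, 3, 2, 1])))) (.node (.node (.node (.leaf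 [-1, -2, -2, -3, -3, -2, -1, -1]) (.leaf [0, 1, 1, 2, 2, 1, 0, 0])) (.node (.leaf [0, -1, -1, -1, 0, 0, 0, 0]) (.leaf [1, 2, 3, 4, 3, 2, 1, 1]))) (.node (.node (.leaf [-1, -1, -1, -2, -2, -1, -1, 0]) (.leaf [1, 1, 2, 2, 2, 1, 0, 0])) (.node (.leaf [0, 0, 0, 0, 0, 1, 1, 0]) (.leaf [2, 3, 4, 6, 5, 4, 3, 2]))))))) (.node (.node (.node (.node (.node (.node (.leaf [-2, -3, -4, -6, -5, -4, -2, -1]) (.leaf [0, 0, 0, 1, 0, 0, 0, 0])) (.node (.leaf [-1, -1, -1, -1, -1, -1, -1, -1]) (.leaf [1, 1, 2, 3, 2, 1, 0, 0]))) (.node (.node (.leaf [-1, -2, -2, -3, -2, -1, -1, 0]) (.leaf [1, 0, 0, 0, 0, 0, 0, 0])) (.node (.leaf [0, -1, 0, 0, 0, 0, 0, 0]) (.leaf [2, 2, 3, 4, 3, 2, 1, 0])))) (.node (.node (.node (.leaf [-1, -2, -3, -4, -3, -2, -2, -1]) (.leaf [0, 1, 0, 1, 1, 1, 1, 1])) (.node (.leaf [0, -1, -1, -2, -2, -1, -1, 0]) (.leaf [1, 2, 2, 3, 3, 2, 1, 0]))) (.node (.node (.leaf [-1, -1, -2, -2, -2, -1, -1, 0]) (.leaf [1, 1, 1, 2, 2, 1, 0,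 0])) (.node (.leaf [0, 0, 0, 0, 0, -1, -1, -1]) (.leaf [2, 3, 4, 6, 5, 4, 3, 2]))))) (.node (.node (.node (.node (.leaf [-2, -2, -3, -4, -3, -3, -2, -1]) (.leaf [0, 0, 1, 1, 1, 1, 0, 0])) (.node (.leaf [-1, 0, -1, -1, -1, 0, 0, 0]) (.leaf [1, 1, 2, 3, 3, 2, 2, 1]))) (.node (.node (.leaf [-1, -1, -2, -3, -2, -2, -1, 0]) (.leaf [1, 1, 1, 1, 1, 0, 0, 0])) (.node (.leaf [0, 0, 0, -1, -1, -1, -1, 0]) (.leaf [2, 3, 4, 5, 4, 3, 2, 1])))) (.node (.node (.node (.leaf [-1, -2, -2, -3, -3, -3, -2, -1]) (.leaf [0, 1, 1, 2, 1, 1, 1, 0])) (.node (.leaf [0, -1, -1, -1, -1, -1, 0, 0]) (.leaf [1, 2, 2, 4, 4, 3, 2, 1]))) (.node (.node (.leaf [-1, -1, -1, -2, -2, -2, -1, 0]) (.leaf [1, 1, 2, 2, 1, 1, 1, 0])) (.node (.leaf [0, 0, 0, 0, 0, 0, 1, 1]) (.leaf [2, 3, 4, 6, 5, 4, 3, 2])))))) (.node (.node (.node (.node (.node (.leaf [-2, -3, -3, -5, -4, -3, -2, -1]) (.leaf [0, 0, 0, 1, 1, 1, 1, 1])) (.node (.leaf [-1, -1, -1, -1, 0, 0, 0, 0]) (.leaf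 [1, 1, 2, 3, 2, 2, 1, 1]))) (.node (.node (.leaf [-1, -1, -2, -3, -3, -2, -1, -1]) (.leaf [1, 0, 1, 1, 1, 1, 0, 0])) (.node (.leaf [0, 0, -1, -1, -1, 0, 0, 0]) (.leaf [2, 2, 3, 4, 4, 3, 2, 1])))) (.node (.node (.node (.leaf [-1, -2, -2, -4, -3, -3, -2, -1]) (.leaf [0, 1, 1, 1, 1, 1, 1, 0])) (.node (.leaf [0, -1, -1, -2, -1, -1, 0, 0]) (.leaf [1, 2, 2, 4, 3, 2, 1, 0]))) (.node (.node (.leaf [-1, -1, -2, -2, -1, -1, 0, 0]) (.leaf [1, 1, 1, 2, 2, 2, 1, 1])) (.node (.leaf [0, 0, 0, 0, 0, 0, -1, 0]) (.leaf [2, 3, 4, 6, 5, 4, 3, 2]))))) (.node (.node (.node (.node (.leaf [-1, -3, -3, -5, -4, -3, -2, -1]) (.leaf [0, 1, 0, 1, 0, 0, 0, 0])) (.node (.leaf [0, -1, -1, -2, -2, -2, -2, -1]) (.leaf [1, 2, 2, 3, 2, 1, 1, 1]))) (.node (.node (.leaf [-1, -1, -2, -2, -2, -2, -2, -1]) (.leaf [1, 1, 1, 2, 1, 0, 0, 0])) (.node (.leaf [0, 0, 0, 0, -1, -1, -1, -1]) (.leaf [2, 3, 4, 6, 5, 4, 3, 1])))) (.node (.node (.node (.leaf [-1, -2, -2, -3,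 -2, -2, -2, -1]) (.leaf [0, 1, 1, 2, 2, 1, 1, 1])) (.node (.leaf [0, -1, 0, -1, -1, -1, -1, 0]) (.leaf [1, 2, 3, 4, 3, 3, 2, 1]))) (.node (.node (.leaf [-1, -1, -1, -2, -1, -1, -1, -1]) (.leaf [1, 1, 2, 2, 2, 1, 1, 1])) (.node (.leaf [0, 0, 0, 0, 1, 0, 0, 0]) (.leaf [2, 3, 4, 6, 5, 4, 3, 2])))))))) (.node (.node (.node (.node (.node (.node (.node (.leaf [-2, -3, -4, -6, -5, -4, -3, -1]) (.leaf [0, 0, 0, 0, 1, 1, 1, 1])) (.node (.leaf [-1, -1, -1, -2, -1, 0, 0, 0]) (.leaf [1, 1, 2, 2, 2, 2, 2, 1]))) (.node (.node (.leaf [-1, -2, -2, -3, -2, -1, -1, -1]) (.leaf [0, 1, 1, 2, 2, 2, 2, 1])) (.node (.leaf [0, -1, 0, -1, 0, 0, 0, 0]) (.leaf [1, 3, 3, 5, 4, 3, 2, 1])))) (.node (.node (.node (.leaf [-1, -2, -3, -4, -3, -3, -2, -1]) (.leaf [0, 1, 0, 1, 1, 1, 1, 0])) (.node (.leaf [0, -1, -1, -2, -2, -1, -1, -1]) (.leaf [1, 2, 2, 3, 2, 2, 2, 1]))) (.node (.node (.leaf [-1, -1, -2, -2, -2, -1, -1, -1]) (.leaf [1, 1, 1, 2, 1, 1, 1, 1]))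 (.node (.leaf [0, 0, 0, 0, -1, 0, 0, 0]) (.leaf [2, 3, 4, 6, 5, 4, 3, 2]))))) (.node (.node (.node (.node (.leaf [-2, -2, -3, -4, -4, -3, -2, -1]) (.leaf [0, 0, 1, 1, 1, 0, 0, 0])) (.node (.leaf [-1, 0, -1, -1, -1, -1, 0, 0]) (.leaf [1, 1, 2, 3, 3, 2, 1, 1]))) (.node (.node (.leaf [-1, -1, -2, -3, -2, -2, -1, -1]) (.leaf [1, 1, 1, 1, 0, 0, 0, 0])) (.node (.leaf [0, 0, 0, -1, -1, -1, -1, -1]) (.leaf [2, 3, 3, 5, 4, 3, 2, 1])))) (.node (.node (.node (.leaf [-1, -2, -2, -4, -3, -2, -1, 0]) (.leaf [0, 1, 1, 2, 1, 1, 0, 0])) (.node (.leaf [0, -1, -1, -1, -1, -1, -1, 0]) (.leaf [1, 2, 2, 4, 3, 3, 2, 1]))) (.node (.node (.leaf [-1, -1, -1, -2, -2, -2, -1, -1]) (.leaf [1, 1, 2, 2, 1, 1, 0, 0])) (.node (.leaf [0, 0, 0, 0, 0, 0, 1, 0]) (.leaf [2, 3, 4, 6, 5, 4, 3, 2])))))) (.node (.node (.node (.node (.node (.leaf [-2, -3, -4, -5, -4, -3, -2, -1]) (.leaf [0, 0, 0, 1, 1, 1, 1, 0])) (.node (.leaf [-1, -1, -1, -1, -1, 0, 0, 0]) (.leaf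 [1, 1, 2, 3, 2, 2, 1, 0]))) (.node (.node (.leaf [-1, -1, -2, -3, -3, -2, -2, -1]) (.leaf [1, 0, 1, 1, 1, 0, 0, 0])) (.node (.leaf [0, 0, -1, -1, -1, -1, 0, 0]) (.leaf [2, 2, 3, 4, 3, 3, 2, 1])))) (.node (.node (.node (.leaf [-1, -2, -2, -4, -4, -3, -2, -1]) (.leaf [0, 1, 1, 1, 1, 1, 0, 0])) (.node (.leaf [0, -1, -1, -2, -1, -1, -1, 0]) (.leaf [1, 2, 2, 3, 3, 3, 2, 1]))) (.node (.node (.leaf [-1, -1, -2, -2, -1, -1, -1, 0]) (.leaf [1, 1, 1, 2, 2, 2, 1, 0])) (.node (.leaf [0, 0, 0, 0, 0, 0, -1, -1]) (.leaf [2, 3, 4, 6, 5, 4, 3, 2]))))) (.node (.node (.node (.node (.leaf [-2, -2, -3, -4, -3, -2, -1, 0]) (.leaf [0, 1, 0, 0, 0, 0, 0, 0])) (.node (.leaf [-1, 0, 0, 0, 0, 0, 0, 0]) (.leaf [1, 2, 2, 3, 2, 1, 1, 0]))) (.node (.node (.leaf [-1, -1, -2, -3, -2, -1, 0, 0]) (.leaf [1, 1, 1, 1, 1, 1, 1, 1])) (.node (.leaf [0, 0, 0, -1, 0, 0, 0, 0]) (.leaf [2, 3, 4, 6, 5, 4, 2, 1])))) (.node (.node (.node (.leaf [-1, -2, -2, -3, -3, -2,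 -1, 0]) (.leaf [0, 1, 1, 2, 2, 1, 1, 0])) (.node (.leaf [0, -1, 0, -1, -1, -1, -1, -1]) (.leaf [1, 2, 3, 4, 3, 2, 2, 1]))) (.node (.node (.leaf [-1, -1, -1, -2, -2, -1, 0, 0]) (.leaf [1, 1, 2, 2, 2, 1, 1, 0])) (.node (.leaf [0, 0, 0, 0, 0, 1, 1, 1]) (.leaf [2, 3, 4, 6, 5, 4, 3, 2]))))))) (.node (.node (.node (.node (.node (.node (.leaf [-2, -3, -4, -6, -5, -3, -2, -1]) (.leaf [0, 0, 0, 1, 1, 0, 0, 0])) (.node (.leaf [-1, -1, -1, -1, -1, -1, -1, 0]) (.leaf [1, 1, 2, 3, 2, 1, 1, 0]))) (.node (.node (.leaf [-1, -2, -2, -3, -2, -1, 0, 0]) (.leaf [1, 0, 1, 0, 0, 0, 0, 0])) (.node (.leaf [0, 0, -1, -1, -1, -1, -1, -1]) (.leaf [2, 2, 3, 4, 3, 2, 1, 1])))) (.node (.node (.node (.leaf [-1, -2, -3, -4, -3, -2, -1, -1]) (.leaf [0, 1, 1, 1, 0, 0, 0, 0])) (.node (.leaf [0, -1, -1, -2, -2, -1, 0, 0]) (.leaf [1, 2, 2, 3, 3, 2, 1, 1]))) (.node (.node (.leaf [-1, -1, -2, -2, -2, -1, 0, 0]) (.leaf [1, 1, 1, 2, 2, 1, 1, 0])) (.node (.leaf [0,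 0, 0, 0, 0, -1, -1, 0]) (.leaf [2, 3, 4, 6, 5, 4, 3, 2]))))) (.node (.node (.node (.node (.leaf [-2, -2, -3, -4, -3, -2, -2, -1]) (.leaf [0, 0, 1, 1, 1, 1, 1, 0])) (.node (.leaf [-1, 0, -1, -1, 0, 0, 0, 0]) (.leaf [1, 1, 2, 3, 3, 3, 2, 1]))) (.node (.node (.leaf [-1, -1, -2, -3, -2, -1, -1, -1]) (.leaf [1, 1, 1, 1, 1, 1, 0, 0])) (.node (.leaf [0, 0, 0, -1, -1, -1, 0, 0]) (.leaf [2, 3, 4, 6, 4, 3, 2, 1])))) (.node (.node (.node (.leaf [-1, -2, -2, -3, -3, -2, -2, -1]) (.leaf [0, 1, 1, 2, 1, 1, 1, 1])) (.node (.leaf [0, -1, -1, -1, -1, 0, 0, 0]) (.leaf [1, 2, 3, 4, 3, 2, 1, 0]))) (.node (.node (.leaf [-1, -1, -1, -2, -2, -1, -1, -1]) (.leaf [1, 1, 2, 2, 1, 1, 1, 1])) (.node (.leaf [0, 0, 0, 0, 0, 1, 0, 0]) (.leaf [2, 3, 4, 6, 5, 4, 3, 2])))))) (.node (.node (.node (.node (.node (.leaf [-2, -2, -4, -5, -4, -3, -2, -1]) (.leaf [0, 0, 1, 0, 0, 0, 0, 0])) (.node (.leaf [-1, 0, -1, -1, -1, -1, -1, -1]) (.leaf [1, 1, 2, 3, 2, 2, 2,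 1]))) (.node (.node (.leaf [-1, -1, -2, -3, -3, -2, -1, 0]) (.leaf [1, 0, 1, 1, 1, 1, 1, 0])) (.node (.leaf [0, 0, -1, -1, 0, 0, 0, 0]) (.leaf [2, 2, 3, 5, 4, 3, 2, 1])))) (.node (.node (.node (.leaf [-1, -2, -2, -4, -3, -2, -2, -1]) (.leaf [0, 1, 1, 1, 1, 1, 1, 1])) (.node (.leaf [0, -1, -1, -2, -1, 0, 0, 0]) (.leaf [1, 2, 2, 4, 3, 2, 1, 1]))) (.node (.node (.leaf [-1, -1, -2, -2, -1, 0, 0, 0]) (.leaf [1, 1, 1, 2, 2, 2, 2, 1])) (.node (.leaf [0, 0, 0, 0, 0, 0, 0, -1]) (.leaf [2, 3, 4, 6, 5, 4, 3, 2]))))) (.node (.node (.node (.node (.leaf [-1, -2, -3, -5, -4, -3, -2, -1]) (.leaf [0, 1, 0, 1, 1, 0, 0, 0])) (.node (.leaf [0, -1, -1, -2, -2, -2, -1, -1]) (.leaf [1, 2, 2, 3, 2, 2, 1, 0]))) (.node (.node (.leaf [-1, -1, -2, -2, -2, -2, -1, -1]) (.leaf [1, 1, 1, 2, 1, 1, 0, 0])) (.node (.leaf [0, 0, 0, 0, -1, -1, -1, 0]) (.leaf [2, 3, 4, 6, 5, 4, 3, 2])))) (.node (.node (.node (.leaf [-1, -2, -2, -3, -2, -2, -1, -1]) (.leaf [0,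 1, 1, 2, 2, 2, 1, 0])) (.node (.leaf [0, -1, 0, -1, -1, -1, 0, 0]) (.leaf [1, 2, 3, 4, 4, 3, 2, 1]))) (.node (.node (.leaf [-1, -1, -1, -2, -1, -1, -1, 0]) (.leaf [1, 1, 2, 2, 2, 2, 1, 0])) (.node (.leaf [0, 0, 0, 0, 1, 1, 0, 0]) (.leaf [2, 3, 4, 6, 5, 4, 3, 2]))))))))

noncomputable def rows : Trie (List (ℕ × List (ℕ × ℤ))) := .node (.node (.node (.node (.node (.node (.node (.node (.leaf [(120, [(1, 1)]), (122, [(2, 1)]), (125, [(3, 1)]), (129, [(4, 1)]), (134, [(5, 1)]), (140, [(6, 1)]), (146, [(7, 1)]), (151, [(8, -1)]), (155, [(9, 1)]), (158, [(10, -1)]), (160, [(11, 1)]), (161, [(12, -1)]), (168, [(14, 1)]), (173, [(15, -1)]), (177, [(16, 1)]), (180, [(17, -1)]), (182, [(18, 1)]), (183, [(19, -1)]), (187, [(21, -1)]), (190, [(22, 1)]), (192, [(23, -1)]), (193, [(24, 1)]), (196, [(26, -1)]), (198, [(27, 1)]), (199, [(28, -1)]), (201, [(30, -1)]), (202, [(31, 1)]), (203, [(33, -1)]), (206, [(36, 1)]), (208, [(37, -1)]), (209, [(38, 1)]), (211, [(40, 1)]), (212, [(41, -1)]), (213, [(43, 1)]), (215, [(46, -1)]), (216, [(47, 1)]), (217, [(49, -1)]), (218, [(52, 1)]), (220, [(56, 1)]), (221, [(57, -1)]), (222, [(59, 1)]), (223, [(62, -1)]), (224, [(66, 1)]), (225, [(71, -1)]), (227, [(78, 1)]), (228, [(79, -1)]), (229, [(81, 1)]), (230, [(84, -1)]), (231, [(88, 1)]), (232, [(93, -1)]), (233, [(99, -1)]), (234, [(105, -1)]), (235, [(110, -1)]), (236, [(114, -1)]), (237, [(117, -1)]), (238, [(119, -1)])]) (.leaf [(1, [(4, -1)]), (9, [(12, -1)]), (16, [(19, -1)]), (21, [(24, -1)]), (26, [(31, 1)]), (27, [(33, 1)]), (29, [(35, -1)]), (36, [(41, 1)]), (37, [(43, 1)]), (39, [(45, -1)]), (46, [(52, -1)]), (48, [(54, 1)]), (50, [(55, 1)]), (56, [(62, -1)]), (58, [(64, 1)]), (60, [(65, 1)]), (67, [(70, -1)]), (72, [(75, -1)]), (78, [(84, -1)]), (80, [(86, 1)]), (82, [(87, 1)]), (89, [(92, -1)]), (94, [(97, -1)]), (100, [(103, -1)]), (106, [(109, -1)]), (110, [(119, 1)]), (112, [(121, 1)]), (113, [(124, 1)]), (115, [(126, -1)]), (118, [(127, -1)]), (120, [(129, -1)]), (130, [(133, 1)]), (136, [(139, 1)]), (142, [(145, 1)]), (147, [(150, 1)]), (152, [(157, -1)]), (153, [(159, -1)]), (155, [(161, 1)]), (164, [(167, 1)]), (169, [(172, 1)]), (174, [(179, -1)]), (175, [(181, -1)]), (177, [(183, 1)]), (184, [(189, -1)]), (185, [(191, -1)]), (187, [(193, 1)]), (194, [(200, 1)]), (196, [(202, -1)]), (198, [(203, -1)]), (204, [(210, 1)]), (206, [(212, -1)]), (208, [(213, -1)]), (215, [(218, 1)]), (220, [(223, 1)]), (227, [(230, 1)]), (235, [(238, 1)])])) (.node (.leaf [(16, [(2, -1)]), (18, [(4, 1)]), (27, [(6, -1)]), (37, [(8, -1)]), (46, [(10, 1)]), (49, [(12, -1)]), (50, [(13, -1)]), (78, [(22, 1)]), (81, [(24, -1)]), (82, [(25, -1)]), (88, [(31, 1)]), (89, [(32, 1)]), (91, [(35, -1)]), (99, [(41, 1)]), (100, [(42, 1)]), (102, [(45, -1)]), (104, [(54, 1)]), (110, [(57, -1)]), (111, [(58, -1)]), (113, [(61, 1)]), (117, [(62, 1)]), (118, [(63, 1)]), (123, [(65, 1)]), (130, [(68, 1)]), (132, [(70, -1)]), (142, [(73, 1)]), (144, [(75, -1)]), (153, [(77, 1)]), (162, [(86, -1)]), (164, [(95, 1)]), (166, [(97, -1)]), (169, [(107, 1)]), (171, [(109, -1)]), (174, [(116, -1)]), (176, [(121, -1)]), (177, [(122, -1)]), (178, [(126, -1)]), (181, [(128, 1)]), (182, [(129, 1)]), (185, [(135, -1)]), (194, [(137, 1)]), (197, [(139, -1)]), (198, [(140, -1)]), (204, [(148, 1)]), (207, [(150, -1)]), (208, [(151, -1)]), (214, [(157, 1)]), (215, [(158, 1)]), (217, [(161, -1)]), (226, [(189, 1)]), (227, [(190, 1)]), (229, [(193, -1)]), (231, [(202, 1)]), (233, [(212, 1)]), (235, [(221, -1)]), (237, [(223, 1)])]) (.leaf [(0, [(23, 1)]), (2, [(25, -1)]), (5, [(34, -1)]), (7, [(44, -1)]), (9, [(60, 1)]), (10, [(63, 1)]), (12, [(65, -1)]), (16, [(82, -1)]), (17, [(85, -1)]), (19, [(87, 1)]), (26, [(94, 1)]), (28, [(96, -1)]), (31, [(97, -1)]), (36, [(106, -1)]), (38, [(108, 1)]), (41, [(109, 1)]), (46, [(118, 1)]), (48, [(120, 1)]), (49, [(123, 1)]), (51, [(125, -1)]), (52, [(127, 1)]), (54, [(129, -1)]), (57, [(135, 1)]), (66, [(138, -1)]), (68, [(140, 1)]), (71, [(149, 1)]), (73, [(151, -1)]), (76, [(160, 1)]), (79, [(163, -1)]), (88, [(166, 1)]), (90, [(168, -1)]), (99, [(171, -1)]), (101, [(173, 1)]), (104, [(182, -1)]), (110, [(185, 1)]), (112, [(187, -1)]), (114, [(188, 1)]), (116, [(190, -1)]), (119, [(191, -1)]), (121, [(193, -1)]), (130, [(198, -1)]), (131, [(201, -1)]), (133, [(203, 1)]), (142, [(208, 1)]), (143, [(211, 1)]), (145, [(213, -1)]), (152, [(220, -1)]), (154, [(222, 1)]), (157, [(223, 1)]), (174, [(227, 1)]), (176, [(229, -1)]), (179, [(230, -1)]), (195, [(232, 1)]), (205, [(234, 1)]), (214, [(237, 1)]), (216, [(239, -1)])]))) (.node (.node (.leaf [(37, [(1, 1)]), (38, [(2, 1)]), (43, [(4, -1)]), (49, [(5, -1)]), (59, [(6, -1)]), (71, [(10, -1)]), (74, [(13, -1)]), (81, [(14, 1)]), (99, [(17, 1)]), (102, [(20, 1)]), (105, [(22, -1)]), (108, [(25, -1)]), (110, [(26, 1)]), (113, [(29, 1)]), (117, [(30, -1)]), (119, [(31, 1)]), (123, [(34, 1)]), (124, [(35, -1)]), (141, [(42, 1)]), (142, [(48, -1)]), (144, [(53, 1)]), (145, [(54, -1)]), (147, [(58, 1)]), (149, [(63, -1)]), (150, [(64, 1)]), (153, [(67, 1)]), (154, [(68, -1)]), (159, [(70, 1)]), (169, [(80, -1)]), (171, [(85, 1)]), (172, [(86, -1)]), (175, [(89, -1)]), (176, [(90, 1)]), (181, [(92, -1)]), (185, [(94, 1)]), (186, [(95, -1)]), (191, [(97, 1)]), (197, [(98, -1)]), (204, [(115, 1)]), (205, [(116, -1)]), (208, [(120, -1)]), (209, [(122, 1)]), (210, [(126, -1)]), (213, [(129, -1)]), (214, [(131, 1)]), (217, [(134, 1)]), (219, [(137, -1)]), (222, [(140, -1)]), (225, [(158, -1)]), (226, [(165, 1)]), (229, [(168, 1)]), (233, [(180, 1)]), (234, [(190, 1)]), (235, [(196, 1)]), (237, [(201, -1)]), (238, [(202, -1)])]) (.leaf [(0, [(11, -1)]), (2, [(13, 1)]), (14, [(34, 1)]), (15, [(44, 1)]), (16, [(50, 1)]), (17, [(53, 1)]), (19, [(55, -1)]), (21, [(60, 1)]), (22, [(63, 1)]), (24, [(65, -1)]), (26, [(67, 1)]), (28, [(69, -1)]), (31, [(70, -1)]), (36, [(72, 1)]), (38, [(74, -1)]), (41, [(75, -1)]), (47, [(76, -1)]), (57, [(77, -1)]), (78, [(118, 1)]), (80, [(120, 1)]), (81, [(123, 1)]), (83, [(125, -1)]), (84, [(127, 1)]), (86, [(129, -1)]), (88, [(132, 1)]), (90, [(134, -1)]), (93, [(138, 1)]), (95, [(140, -1)]), (99, [(144, 1)]), (101, [(146, -1)]), (105, [(149, 1)]), (107, [(151, -1)]), (110, [(153, 1)]), (112, [(155, -1)]), (114, [(156, 1)]), (116, [(158, -1)]), (119, [(159, -1)]), (121, [(161, -1)]), (162, [(182, 1)]), (163, [(192, 1)]), (164, [(198, 1)]), (165, [(201, 1)]), (167, [(203, -1)]), (169, [(208, 1)]), (170, [(211, 1)]), (172, [(213, -1)]), (174, [(215, 1)]), (176, [(217, -1)]), (179, [(218, -1)]), (184, [(220, 1)]), (186, [(222, -1)]), (189, [(223, -1)]), (195, [(224, -1)]), (205, [(225, -1)]), (226, [(237, -1)]), (228, [(239, 1)])])) (.node (.leaf [(7, [(3, -1)]), (10, [(6, -1)]), (17, [(14, -1)]), (36, [(21, -1)]), (40, [(23, 1)]), (41, [(24, 1)]), (42, [(25, 1)]), (46, [(27, 1)]), (47, [(28, 1)]), (48, [(29, 1)]), (52, [(33, -1)]), (53, [(34, -1)]), (54, [(35, -1)]), (71, [(59, -1)]), (72, [(60, -1)]), (73, [(61, -1)]), (75, [(65, 1)]), (76, [(69, 1)]), (99, [(81, -1)]), (100, [(82, -1)]), (101, [(83, -1)]), (103, [(87, 1)]), (104, [(91, 1)]), (114, [(93, 1)]), (115, [(94, 1)]), (116, [(95, 1)]), (126, [(97, 1)]), (131, [(98, 1)]), (141, [(108, -1)]), (142, [(113, -1)]), (144, [(123, -1)]), (145, [(124, -1)]), (146, [(125, -1)]), (148, [(135, -1)]), (152, [(136, -1)]), (156, [(138, 1)]), (157, [(139, 1)]), (158, [(140, 1)]), (170, [(163, -1)]), (174, [(164, -1)]), (178, [(166, 1)]), (179, [(167, 1)]), (180, [(168, 1)]), (204, [(185, 1)]), (205, [(186, 1)]), (206, [(187, 1)]), (210, [(191, -1)]), (211, [(192, -1)]), (212, [(193, -1)]), (214, [(197, -1)]), (215, [(198, -1)]), (216, [(199, -1)]), (218, [(203, 1)]), (225, [(222, 1)]), (233, [(229, 1)]), (236, [(232, 1)])]) (.leaf [(0, [(66, -1)]), (1, [(67, -1)]), (2, [(68, -1)]), (3, [(69, -1)]), (4, [(70, -1)]), (7, [(76, 1)]), (8, [(77, 1)]), (14, [(98, 1)]), (16, [(130, 1)]), (17, [(131, -1)]), (18, [(132, 1)]), (19, [(133, -1)]), (20, [(134, 1)]), (21, [(136, 1)]), (22, [(137, -1)]), (23, [(138, 1)]), (24, [(139, -1)]), (25, [(140, 1)]), (36, [(152, 1)]), (37, [(153, -1)]), (38, [(154, 1)]), (39, [(155, -1)]), (40, [(156, 1)]), (41, [(157, -1)]), (42, [(158, 1)]), (43, [(159, 1)]), (44, [(160, -1)]), (45, [(161, 1)]), (78, [(194, -1)]), (79, [(195, 1)]), (80, [(196, -1)]), (81, [(197, -1)]), (82, [(198, 1)]), (83, [(199, -1)]), (84, [(200, 1)]), (85, [(201, -1)]), (86, [(202, 1)]), (87, [(203, -1)]), (99, [(214, -1)]), (100, [(215, 1)]), (101, [(216, -1)]), (102, [(217, 1)]), (103, [(218, -1)]), (105, [(219, -1)]), (106, [(220, 1)]), (107, [(221, -1)]), (108, [(222, 1)]), (109, [(223, -1)]), (141, [(225, -1)]), (162, [(231, -1)]), (163, [(232, -1)]), (169, [(235, 1)]), (170, [(236, 1)]), (171, [(237, 1)]), (172, [(238, 1)]), (173, [(239, 1)])])))) (.node (.node (.node (.leaf [(62, [(0, 1)]), (63, [(1, 1)]), (64, [(2, 1)]), (65, [(3, 1)]), (70, [(5, -1)]), (75, [(7, -1)]), (77, [(9, 1)]), (97, [(14, -1)]), (109, [(15, 1)]), (126, [(17, 1)]), (127, [(18, -1)]), (128, [(19, 1)]), (129, [(20, -1)]), (135, [(21, 1)]), (137, [(26, -1)]), (138, [(27, 1)]), (139, [(28, -1)]), (140, [(29, 1)]), (148, [(36, 1)]), (149, [(37, -1)]), (150, [(38, 1)]), (151, [(39, -1)]), (156, [(46, 1)]), (157, [(47, -1)]), (158, [(48, 1)]), (159, [(49, 1)]), (160, [(50, -1)]), (161, [(51, 1)]), (188, [(78, -1)]), (189, [(79, 1)]), (190, [(80, -1)]), (191, [(81, -1)]), (192, [(82, 1)]), (193, [(83, -1)]), (200, [(88, 1)]), (201, [(89, -1)]), (202, [(90, 1)]), (203, [(91, -1)]), (210, [(99, -1)]), (211, [(100, 1)]), (212, [(101, -1)]), (213, [(102, 1)]), (218, [(104, -1)]), (219, [(110, 1)]), (220, [(111, -1)]), (221, [(112, 1)]), (222, [(113, -1)]), (224, [(130, -1)]), (225, [(142, 1)]), (230, [(162, -1)]), (232, [(164, 1)]), (234, [(169, 1)]), (236, [(174, -1)]), (237, [(175, -1)]), (238, [(176, -1)]), (239, [(177, -1)])]) (.leaf [(2, [(7, -1)]), (6, [(11, 1)]), (14, [(18, 1)]), (21, [(37, 1)]), (22, [(40, 1)]), (24, [(43, -1)]), (25, [(44, -1)]), (26, [(46, 1)]), (28, [(49, -1)]), (29, [(50, -1)]), (31, [(52, -1)]), (32, [(53, -1)]), (35, [(55, 1)]), (57, [(71, -1)]), (58, [(72, -1)]), (61, [(74, 1)]), (64, [(75, 1)]), (68, [(76, 1)]), (79, [(99, -1)]), (80, [(100, -1)]), (83, [(102, 1)]), (86, [(103, 1)]), (90, [(104, 1)]), (93, [(117, 1)]), (94, [(118, 1)]), (96, [(123, 1)]), (97, [(127, 1)]), (98, [(132, 1)]), (107, [(141, -1)]), (112, [(142, -1)]), (116, [(143, -1)]), (121, [(145, -1)]), (122, [(146, -1)]), (135, [(149, -1)]), (136, [(153, -1)]), (137, [(156, -1)]), (139, [(159, 1)]), (140, [(160, 1)]), (163, [(171, -1)]), (164, [(175, -1)]), (165, [(178, -1)]), (167, [(181, 1)]), (168, [(182, 1)]), (184, [(204, -1)]), (186, [(207, 1)]), (187, [(208, 1)]), (189, [(210, 1)]), (190, [(211, 1)]), (193, [(213, -1)]), (195, [(214, 1)]), (196, [(215, 1)]), (199, [(217, -1)]), (202, [(218, -1)]), (221, [(225, -1)]), (228, [(233, -1)]), (232, [(237, 1)])])) (.node (.leaf [(11, [(1, -1)]), (12, [(2, -1)]), (33, [(14, -1)]), (43, [(15, -1)]), (49, [(16, -1)]), (52, [(17, -1)]), (55, [(20, -1)]), (59, [(21, -1)]), (62, [(22, -1)]), (65, [(25, -1)]), (66, [(26, -1)]), (69, [(29, -1)]), (70, [(32, -1)]), (71, [(36, -1)]), (74, [(39, -1)]), (75, [(42, -1)]), (76, [(48, -1)]), (77, [(58, -1)]), (117, [(78, -1)]), (119, [(79, 1)]), (123, [(82, 1)]), (124, [(83, -1)]), (127, [(85, 1)]), (128, [(86, -1)]), (132, [(89, 1)]), (133, [(90, -1)]), (138, [(94, 1)]), (139, [(95, -1)]), (144, [(100, 1)]), (145, [(101, -1)]), (149, [(106, 1)]), (150, [(107, -1)]), (153, [(111, 1)]), (154, [(112, -1)]), (156, [(115, 1)]), (157, [(116, -1)]), (160, [(120, -1)]), (161, [(122, 1)]), (181, [(162, 1)]), (191, [(163, 1)]), (197, [(164, 1)]), (200, [(165, 1)]), (203, [(168, 1)]), (207, [(169, 1)]), (210, [(170, 1)]), (213, [(173, 1)]), (214, [(174, 1)]), (217, [(177, 1)]), (218, [(180, 1)]), (219, [(184, 1)]), (222, [(187, 1)]), (223, [(190, 1)]), (224, [(196, 1)]), (225, [(206, 1)]), (237, [(227, 1)]), (238, [(228, 1)])]) (.leaf [(0, [(37, 1)]), (2, [(39, -1)]), (4, [(44, 1)]), (5, [(50, 1)]), (6, [(60, 1)]), (10, [(72, 1)]), (12, [(74, -1)]), (14, [(82, -1)]), (17, [(100, -1)]), (19, [(102, 1)]), (22, [(106, 1)]), (24, [(108, -1)]), (26, [(111, -1)]), (28, [(113, 1)]), (30, [(118, 1)]), (32, [(120, 1)]), (33, [(123, 1)]), (35, [(125, -1)]), (41, [(141, 1)]), (47, [(142, -1)]), (52, [(144, 1)]), (54, [(146, -1)]), (57, [(147, 1)]), (62, [(149, -1)]), (64, [(151, 1)]), (66, [(153, 1)]), (68, [(155, -1)]), (70, [(160, 1)]), (79, [(169, -1)]), (84, [(171, 1)]), (86, [(173, -1)]), (88, [(175, -1)]), (90, [(177, 1)]), (92, [(182, -1)]), (93, [(185, 1)]), (95, [(187, -1)]), (97, [(192, 1)]), (98, [(198, -1)]), (114, [(204, 1)]), (116, [(206, -1)]), (119, [(207, -1)]), (121, [(209, -1)]), (126, [(211, -1)]), (128, [(213, 1)]), (131, [(215, 1)]), (133, [(217, -1)]), (137, [(220, -1)]), (139, [(222, 1)]), (157, [(225, 1)]), (165, [(227, 1)]), (167, [(229, -1)]), (179, [(233, -1)]), (189, [(234, -1)]), (195, [(235, -1)]), (200, [(237, 1)]), (202, [(239, -1)])]))) (.node (.node (.leaf [(23, [(1, 1)]), (24, [(2, 1)]), (33, [(5, 1)]), (43, [(7, 1)]), (59, [(9, -1)]), (62, [(10, -1)]), (65, [(13, -1)]), (81, [(16, 1)]), (84, [(17, 1)]), (87, [(20, 1)]), (93, [(26, -1)]), (96, [(29, -1)]), (97, [(32, -1)]), (105, [(36, 1)]), (108, [(39, 1)]), (109, [(42, 1)]), (117, [(46, -1)]), (119, [(47, 1)]), (123, [(50, 1)]), (124, [(51, -1)]), (127, [(53, 1)]), (128, [(54, -1)]), (135, [(58, 1)]), (138, [(67, -1)]), (139, [(68, 1)]), (149, [(72, 1)]), (150, [(73, -1)]), (159, [(76, 1)]), (163, [(80, -1)]), (166, [(89, 1)]), (167, [(90, -1)]), (171, [(100, -1)]), (172, [(101, 1)]), (181, [(104, -1)]), (185, [(111, 1)]), (186, [(112, -1)]), (188, [(115, 1)]), (189, [(116, -1)]), (192, [(120, -1)]), (193, [(122, 1)]), (197, [(130, -1)]), (200, [(131, -1)]), (203, [(134, -1)]), (207, [(142, 1)]), (210, [(143, 1)]), (213, [(146, 1)]), (219, [(152, -1)]), (222, [(155, -1)]), (223, [(158, -1)]), (226, [(174, 1)]), (229, [(177, 1)]), (230, [(180, 1)]), (232, [(196, -1)]), (234, [(206, -1)]), (237, [(215, -1)]), (238, [(216, -1)])]) (.leaf [(1, [(16, -1)]), (4, [(19, -1)]), (6, [(28, 1)]), (8, [(38, 1)]), (10, [(47, -1)]), (11, [(49, -1)]), (13, [(51, 1)]), (22, [(79, -1)]), (23, [(81, -1)]), (25, [(83, 1)]), (30, [(88, 1)]), (32, [(90, -1)]), (34, [(91, -1)]), (40, [(99, 1)]), (42, [(101, -1)]), (44, [(102, -1)]), (53, [(104, 1)]), (56, [(110, -1)]), (58, [(112, 1)]), (60, [(113, 1)]), (62, [(119, 1)]), (64, [(121, 1)]), (65, [(124, 1)]), (67, [(130, 1)]), (70, [(133, -1)]), (72, [(142, 1)]), (75, [(145, -1)]), (77, [(154, 1)]), (85, [(162, -1)]), (94, [(164, 1)]), (97, [(167, -1)]), (106, [(169, 1)]), (109, [(172, -1)]), (115, [(174, -1)]), (118, [(175, -1)]), (120, [(177, -1)]), (126, [(179, -1)]), (127, [(181, -1)]), (129, [(183, 1)]), (135, [(186, -1)]), (137, [(195, 1)]), (138, [(197, 1)]), (140, [(199, -1)]), (148, [(205, 1)]), (149, [(207, 1)]), (151, [(209, -1)]), (156, [(214, -1)]), (158, [(216, 1)]), (160, [(217, 1)]), (188, [(226, -1)]), (190, [(228, 1)]), (192, [(229, 1)]), (201, [(231, -1)]), (211, [(233, -1)]), (220, [(235, 1)]), (223, [(238, 1)])])) (.node (.leaf [(4, [(2, -1)]), (11, [(9, 1)]), (18, [(16, 1)]), (23, [(21, 1)]), (30, [(26, -1)]), (33, [(28, 1)]), (34, [(29, 1)]), (40, [(36, -1)]), (43, [(38, 1)]), (44, [(39, 1)]), (52, [(47, -1)]), (53, [(48, -1)]), (55, [(51, 1)]), (62, [(57, -1)]), (63, [(58, -1)]), (65, [(61, 1)]), (70, [(68, -1)]), (75, [(73, -1)]), (84, [(79, -1)]), (85, [(80, -1)]), (87, [(83, 1)]), (92, [(90, -1)]), (97, [(95, -1)]), (103, [(101, -1)]), (109, [(107, -1)]), (117, [(110, 1)]), (118, [(111, 1)]), (123, [(113, 1)]), (126, [(116, -1)]), (128, [(121, -1)]), (129, [(122, -1)]), (132, [(130, 1)]), (138, [(136, 1)]), (144, [(142, 1)]), (149, [(147, 1)]), (156, [(152, -1)]), (159, [(154, 1)]), (160, [(155, 1)]), (166, [(164, 1)]), (171, [(169, 1)]), (178, [(174, -1)]), (181, [(176, 1)]), (182, [(177, 1)]), (188, [(184, -1)]), (191, [(186, 1)]), (192, [(187, 1)]), (200, [(195, -1)]), (201, [(196, -1)]), (203, [(199, 1)]), (210, [(205, -1)]), (211, [(206, -1)]), (213, [(209, 1)]), (218, [(216, -1)]), (223, [(221, -1)]), (230, [(228, -1)]), (237, [(235, 1)])]) (.leaf [(1, [(120, 1)]), (2, [(122, 1)]), (3, [(125, 1)]), (4, [(129, 1)]), (5, [(134, 1)]), (6, [(140, 1)]), (7, [(146, 1)]), (8, [(151, -1)]), (9, [(155, 1)]), (10, [(158, -1)]), (11, [(160, 1)]), (12, [(161, -1)]), (14, [(168, 1)]), (15, [(173, -1)]), (16, [(177, 1)]), (17, [(180, -1)]), (18, [(182, 1)]), (19, [(183, -1)]), (21, [(187, -1)]), (22, [(190, 1)]), (23, [(192, -1)]), (24, [(193, 1)]), (26, [(196, -1)]), (27, [(198, 1)]), (28, [(199, -1)]), (30, [(201, -1)]), (31, [(202, 1)]), (33, [(203, -1)]), (36, [(206, 1)]), (37, [(208, -1)]), (38, [(209, 1)]), (40, [(211, 1)]), (41, [(212, -1)]), (43, [(213, 1)]), (46, [(215, -1)]), (47, [(216, 1)]), (49, [(217, -1)]), (52, [(218, 1)]), (56, [(220, 1)]), (57, [(221, -1)]), (59, [(222, 1)]), (62, [(223, -1)]), (66, [(224, 1)]), (71, [(225, -1)]), (78, [(227, 1)]), (79, [(228, -1)]), (81, [(229, 1)]), (84, [(230, -1)]), (88, [(231, 1)]), (93, [(232, -1)]), (99, [(233, -1)]), (105, [(234, -1)]), (110, [(235, -1)]), (114, [(236, -1)]), (117, [(237, -1)]), (119, [(238, -1)])]))))) (.node (.node (.node (.node (.leaf [(88, [(0, -1)]), (89, [(1, -1)]), (90, [(2, -1)]), (91, [(3, -1)]), (92, [(4, -1)]), (98, [(6, 1)]), (104, [(7, 1)]), (130, [(9, 1)]), (131, [(10, -1)]), (132, [(11, 1)]), (133, [(12, -1)]), (134, [(13, 1)]), (162, [(15, 1)]), (164, [(21, -1)]), (165, [(22, 1)]), (166, [(23, -1)]), (167, [(24, 1)]), (168, [(25, -1)]), (174, [(36, -1)]), (175, [(37, 1)]), (176, [(38, -1)]), (177, [(39, 1)]), (178, [(40, -1)]), (179, [(41, 1)]), (180, [(42, -1)]), (181, [(43, -1)]), (182, [(44, 1)]), (183, [(45, -1)]), (194, [(56, 1)]), (195, [(57, -1)]), (196, [(58, 1)]), (197, [(59, 1)]), (198, [(60, -1)]), (199, [(61, 1)]), (200, [(62, -1)]), (201, [(63, 1)]), (202, [(64, -1)]), (203, [(65, 1)]), (214, [(71, 1)]), (215, [(72, -1)]), (216, [(73, 1)]), (217, [(74, -1)]), (218, [(75, 1)]), (224, [(77, -1)]), (226, [(105, -1)]), (227, [(106, 1)]), (228, [(107, -1)]), (229, [(108, 1)]), (230, [(109, -1)]), (232, [(135, -1)]), (233, [(141, -1)]), (235, [(147, 1)]), (236, [(148, 1)]), (237, [(149, 1)]), (238, [(150, 1)]), (239, [(151, 1)])]) (.leaf [(4, [(6, -1)]), (7, [(9, 1)]), (15, [(21, -1)]), (17, [(26, 1)]), (18, [(27, 1)]), (19, [(28, 1)]), (20, [(29, 1)]), (40, [(56, -1)]), (41, [(57, -1)]), (42, [(58, -1)]), (43, [(59, -1)]), (44, [(60, -1)]), (45, [(61, -1)]), (52, [(66, 1)]), (53, [(67, 1)]), (54, [(68, 1)]), (55, [(69, 1)]), (75, [(77, -1)]), (84, [(93, -1)]), (85, [(94, -1)]), (86, [(95, -1)]), (87, [(96, -1)]), (92, [(98, 1)]), (99, [(110, 1)]), (100, [(111, 1)]), (101, [(112, 1)]), (102, [(113, 1)]), (104, [(130, 1)]), (109, [(135, -1)]), (126, [(137, -1)]), (127, [(138, -1)]), (128, [(139, -1)]), (129, [(140, -1)]), (141, [(147, -1)]), (143, [(152, 1)]), (144, [(153, 1)]), (145, [(154, 1)]), (146, [(155, 1)]), (162, [(164, 1)]), (170, [(184, -1)]), (171, [(185, -1)]), (172, [(186, -1)]), (173, [(187, -1)]), (178, [(194, 1)]), (179, [(195, 1)]), (180, [(196, 1)]), (181, [(197, 1)]), (182, [(198, 1)]), (183, [(199, 1)]), (210, [(219, -1)]), (211, [(220, -1)]), (212, [(221, -1)]), (213, [(222, -1)]), (218, [(224, 1)]), (230, [(232, -1)]), (233, [(235, 1)])])) (.node (.leaf [(14, [(1, -1)]), (19, [(7, -1)]), (24, [(8, -1)]), (28, [(9, -1)]), (31, [(10, -1)]), (33, [(11, -1)]), (35, [(13, 1)]), (79, [(36, -1)]), (81, [(37, -1)]), (83, [(39, 1)]), (84, [(40, -1)]), (86, [(42, 1)]), (87, [(44, 1)]), (88, [(46, -1)]), (90, [(48, 1)]), (91, [(50, 1)]), (92, [(53, 1)]), (93, [(56, -1)]), (95, [(58, 1)]), (96, [(60, 1)]), (97, [(63, 1)]), (98, [(67, 1)]), (119, [(71, 1)]), (121, [(73, 1)]), (124, [(74, 1)]), (128, [(75, 1)]), (133, [(76, 1)]), (139, [(77, 1)]), (162, [(100, -1)]), (163, [(106, -1)]), (164, [(111, -1)]), (165, [(115, -1)]), (166, [(118, -1)]), (168, [(120, -1)]), (172, [(141, -1)]), (176, [(142, -1)]), (179, [(143, -1)]), (181, [(144, -1)]), (183, [(146, 1)]), (186, [(147, -1)]), (189, [(148, -1)]), (191, [(149, -1)]), (193, [(151, 1)]), (195, [(152, -1)]), (197, [(153, -1)]), (199, [(155, 1)]), (200, [(156, -1)]), (202, [(158, 1)]), (203, [(160, 1)]), (226, [(204, -1)]), (228, [(206, 1)]), (229, [(208, 1)]), (230, [(211, 1)]), (231, [(215, 1)]), (232, [(220, 1)]), (238, [(225, 1)])]) (.leaf [(1, [(30, 1)]), (2, [(31, 1)]), (3, [(33, 1)]), (7, [(52, 1)]), (8, [(62, 1)]), (9, [(66, 1)]), (13, [(70, -1)]), (15, [(84, -1)]), (16, [(88, -1)]), (20, [(92, 1)]), (21, [(93, -1)]), (25, [(97, 1)]), (29, [(98, 1)]), (36, [(114, 1)]), (37, [(117, -1)]), (38, [(119, 1)]), (42, [(126, 1)]), (44, [(127, -1)]), (45, [(128, 1)]), (48, [(131, 1)]), (50, [(132, -1)]), (51, [(133, 1)]), (58, [(137, 1)]), (60, [(138, -1)]), (61, [(139, 1)]), (72, [(156, 1)]), (73, [(157, -1)]), (74, [(159, 1)]), (80, [(165, -1)]), (82, [(166, 1)]), (83, [(167, -1)]), (100, [(178, -1)]), (101, [(179, 1)]), (102, [(181, -1)]), (106, [(188, -1)]), (107, [(189, 1)]), (108, [(191, -1)]), (111, [(194, -1)]), (112, [(195, 1)]), (113, [(197, -1)]), (120, [(201, -1)]), (122, [(202, 1)]), (125, [(203, -1)]), (141, [(210, -1)]), (142, [(214, -1)]), (146, [(218, 1)]), (147, [(219, -1)]), (151, [(223, 1)]), (155, [(224, 1)]), (169, [(226, 1)]), (173, [(230, -1)]), (177, [(231, -1)]), (187, [(232, -1)]), (206, [(236, -1)]), (208, [(237, -1)]), (209, [(238, -1)])]))) (.node (.node (.leaf [(28, [(0, 1)]), (29, [(1, 1)]), (35, [(4, 1)]), (51, [(7, -1)]), (61, [(8, -1)]), (68, [(10, 1)]), (69, [(11, 1)]), (83, [(15, 1)]), (90, [(17, -1)]), (91, [(18, -1)]), (95, [(22, -1)]), (96, [(23, -1)]), (98, [(30, 1)]), (112, [(36, 1)]), (113, [(37, 1)]), (121, [(41, 1)]), (122, [(42, -1)]), (124, [(43, 1)]), (125, [(44, -1)]), (130, [(46, 1)]), (133, [(52, -1)]), (134, [(53, 1)]), (136, [(56, 1)]), (139, [(62, -1)]), (140, [(63, 1)]), (154, [(71, 1)]), (155, [(72, -1)]), (161, [(75, 1)]), (164, [(78, -1)]), (167, [(84, 1)]), (168, [(85, -1)]), (176, [(99, -1)]), (177, [(100, 1)]), (183, [(103, -1)]), (186, [(105, -1)]), (187, [(106, 1)]), (193, [(109, -1)]), (195, [(114, 1)]), (196, [(115, -1)]), (197, [(117, 1)]), (198, [(118, -1)]), (202, [(126, -1)]), (203, [(127, -1)]), (209, [(141, -1)]), (216, [(143, 1)]), (217, [(144, 1)]), (221, [(148, 1)]), (222, [(149, 1)]), (224, [(156, -1)]), (228, [(170, -1)]), (229, [(171, -1)]), (231, [(178, 1)]), (232, [(188, 1)]), (235, [(204, -1)]), (238, [(210, -1)]), (239, [(211, -1)])]) (.leaf [(0, [(14, -1)]), (7, [(20, 1)]), (8, [(25, 1)]), (9, [(29, 1)]), (10, [(32, 1)]), (11, [(34, 1)]), (12, [(35, 1)]), (36, [(80, 1)]), (37, [(82, 1)]), (38, [(83, 1)]), (40, [(85, 1)]), (41, [(86, 1)]), (43, [(87, 1)]), (46, [(89, 1)]), (47, [(90, 1)]), (49, [(91, 1)]), (52, [(92, 1)]), (56, [(94, 1)]), (57, [(95, 1)]), (59, [(96, 1)]), (62, [(97, 1)]), (66, [(98, 1)]), (72, [(120, 1)]), (73, [(122, 1)]), (74, [(125, 1)]), (75, [(129, 1)]), (76, [(134, 1)]), (77, [(140, 1)]), (99, [(162, -1)]), (105, [(163, -1)]), (110, [(164, -1)]), (114, [(165, -1)]), (117, [(166, -1)]), (119, [(167, -1)]), (141, [(173, -1)]), (142, [(177, -1)]), (143, [(180, -1)]), (144, [(182, -1)]), (145, [(183, -1)]), (147, [(187, -1)]), (148, [(190, -1)]), (149, [(192, -1)]), (150, [(193, -1)]), (152, [(196, -1)]), (153, [(198, -1)]), (154, [(199, -1)]), (156, [(201, -1)]), (157, [(202, -1)]), (159, [(203, -1)]), (204, [(227, -1)]), (205, [(228, -1)]), (207, [(229, -1)]), (210, [(230, -1)]), (214, [(231, -1)]), (219, [(232, -1)]), (225, [(239, 1)])])) (.node (.leaf [(6, [(5, -1)]), (8, [(7, -1)]), (21, [(16, -1)]), (22, [(17, -1)]), (23, [(18, -1)]), (24, [(19, -1)]), (25, [(20, -1)]), (56, [(46, -1)]), (57, [(47, -1)]), (58, [(48, -1)]), (59, [(49, -1)]), (60, [(50, -1)]), (61, [(51, -1)]), (62, [(52, -1)]), (63, [(53, -1)]), (64, [(54, -1)]), (65, [(55, -1)]), (77, [(76, -1)]), (93, [(88, -1)]), (94, [(89, -1)]), (95, [(90, -1)]), (96, [(91, -1)]), (97, [(92, -1)]), (105, [(99, 1)]), (106, [(100, 1)]), (107, [(101, 1)]), (108, [(102, 1)]), (109, [(103, 1)]), (136, [(130, -1)]), (137, [(131, -1)]), (138, [(132, -1)]), (139, [(133, -1)]), (140, [(134, -1)]), (147, [(142, 1)]), (148, [(143, 1)]), (149, [(144, 1)]), (150, [(145, 1)]), (151, [(146, 1)]), (163, [(162, 1)]), (184, [(174, 1)]), (185, [(175, 1)]), (186, [(176, 1)]), (187, [(177, 1)]), (188, [(178, 1)]), (189, [(179, 1)]), (190, [(180, 1)]), (191, [(181, 1)]), (192, [(182, 1)]), (193, [(183, 1)]), (219, [(214, 1)]), (220, [(215, 1)]), (221, [(216, 1)]), (222, [(217, 1)]), (223, [(218, 1)]), (232, [(231, 1)]), (234, [(233, 1)])]) (.leaf [(0, [(93, 1)]), (1, [(94, 1)]), (2, [(95, 1)]), (3, [(96, 1)]), (4, [(97, 1)]), (5, [(98, 1)]), (8, [(135, 1)]), (9, [(136, -1)]), (10, [(137, 1)]), (11, [(138, -1)]), (12, [(139, 1)]), (13, [(140, -1)]), (15, [(163, 1)]), (16, [(164, -1)]), (17, [(165, 1)]), (18, [(166, -1)]), (19, [(167, 1)]), (20, [(168, -1)]), (36, [(184, -1)]), (37, [(185, 1)]), (38, [(186, -1)]), (39, [(187, 1)]), (40, [(188, -1)]), (41, [(189, 1)]), (42, [(190, -1)]), (43, [(191, -1)]), (44, [(192, 1)]), (45, [(193, -1)]), (46, [(194, 1)]), (47, [(195, -1)]), (48, [(196, 1)]), (49, [(197, 1)]), (50, [(198, -1)]), (51, [(199, 1)]), (52, [(200, -1)]), (53, [(201, 1)]), (54, [(202, -1)]), (55, [(203, 1)]), (71, [(219, 1)]), (72, [(220, -1)]), (73, [(221, 1)]), (74, [(222, -1)]), (75, [(223, 1)]), (76, [(224, -1)]), (99, [(226, 1)]), (100, [(227, -1)]), (101, [(228, 1)]), (102, [(229, -1)]), (103, [(230, 1)]), (104, [(231, -1)]), (141, [(234, -1)]), (142, [(235, -1)]), (143, [(236, -1)]), (144, [(237, -1)]), (145, [(238, -1)]), (146, [(239, -1)])])))) (.node (.node (.node (.leaf [(46, [(0, 1)]), (48, [(2, -1)]), (50, [(3, -1)]), (53, [(4, -1)]), (67, [(6, 1)]), (72, [(8, 1)]), (76, [(12, -1)]), (89, [(14, -1)]), (100, [(15, -1)]), (104, [(19, 1)]), (111, [(21, 1)]), (115, [(22, -1)]), (118, [(23, 1)]), (120, [(25, 1)]), (130, [(28, 1)]), (131, [(31, -1)]), (132, [(33, 1)]), (134, [(35, -1)]), (142, [(38, 1)]), (143, [(41, -1)]), (144, [(43, 1)]), (146, [(45, -1)]), (152, [(57, 1)]), (153, [(59, -1)]), (155, [(61, 1)]), (156, [(62, 1)]), (158, [(64, -1)]), (160, [(65, 1)]), (174, [(79, -1)]), (175, [(81, 1)]), (177, [(83, -1)]), (178, [(84, -1)]), (180, [(86, 1)]), (182, [(87, -1)]), (194, [(93, 1)]), (196, [(95, -1)]), (198, [(96, 1)]), (201, [(97, -1)]), (204, [(105, 1)]), (206, [(107, -1)]), (208, [(108, 1)]), (211, [(109, -1)]), (214, [(119, -1)]), (216, [(121, -1)]), (217, [(124, 1)]), (218, [(128, -1)]), (220, [(135, -1)]), (224, [(139, 1)]), (225, [(150, 1)]), (227, [(163, 1)]), (231, [(167, -1)]), (233, [(172, -1)]), (235, [(186, 1)]), (236, [(189, 1)]), (237, [(191, 1)]), (239, [(193, -1)])]) (.leaf [(3, [(9, -1)]), (4, [(10, -1)]), (14, [(26, -1)]), (15, [(36, -1)]), (18, [(46, -1)]), (19, [(47, -1)]), (20, [(48, -1)]), (23, [(56, -1)]), (24, [(57, -1)]), (25, [(58, -1)]), (33, [(66, -1)]), (34, [(67, -1)]), (35, [(68, -1)]), (43, [(71, -1)]), (44, [(72, -1)]), (45, [(73, -1)]), (55, [(76, -1)]), (65, [(77, -1)]), (81, [(110, -1)]), (82, [(111, -1)]), (83, [(112, -1)]), (84, [(114, 1)]), (85, [(115, 1)]), (86, [(116, 1)]), (91, [(130, 1)]), (92, [(131, -1)]), (96, [(136, 1)]), (97, [(137, -1)]), (102, [(142, 1)]), (103, [(143, -1)]), (108, [(147, 1)]), (109, [(148, -1)]), (123, [(153, -1)]), (124, [(154, -1)]), (125, [(155, -1)]), (127, [(156, 1)]), (128, [(157, 1)]), (129, [(158, 1)]), (162, [(174, 1)]), (163, [(184, 1)]), (166, [(194, 1)]), (167, [(195, 1)]), (168, [(196, 1)]), (171, [(204, 1)]), (172, [(205, 1)]), (173, [(206, 1)]), (181, [(214, 1)]), (182, [(215, 1)]), (183, [(216, 1)]), (191, [(219, 1)]), (192, [(220, 1)]), (193, [(221, 1)]), (203, [(224, 1)]), (213, [(225, 1)]), (229, [(235, 1)]), (230, [(236, 1)])])) (.node (.leaf [(8, [(0, 1)]), (13, [(5, 1)]), (25, [(14, -1)]), (39, [(16, 1)]), (42, [(17, 1)]), (44, [(18, 1)]), (45, [(19, 1)]), (58, [(26, -1)]), (60, [(27, -1)]), (61, [(28, -1)]), (63, [(30, -1)]), (64, [(31, -1)]), (65, [(33, -1)]), (72, [(46, 1)]), (73, [(47, 1)]), (74, [(49, 1)]), (75, [(52, 1)]), (77, [(66, -1)]), (106, [(78, 1)]), (107, [(79, 1)]), (108, [(81, 1)]), (109, [(84, 1)]), (120, [(89, 1)]), (122, [(90, 1)]), (125, [(91, 1)]), (129, [(92, 1)]), (135, [(93, 1)]), (140, [(98, -1)]), (141, [(99, 1)]), (146, [(104, -1)]), (147, [(110, -1)]), (148, [(114, -1)]), (149, [(117, -1)]), (150, [(119, -1)]), (155, [(130, -1)]), (158, [(131, -1)]), (160, [(132, -1)]), (161, [(133, -1)]), (173, [(162, 1)]), (187, [(164, -1)]), (190, [(165, -1)]), (192, [(166, -1)]), (193, [(167, -1)]), (206, [(174, 1)]), (208, [(175, 1)]), (209, [(176, 1)]), (211, [(178, 1)]), (212, [(179, 1)]), (213, [(181, 1)]), (220, [(194, -1)]), (221, [(195, -1)]), (222, [(197, -1)]), (223, [(200, -1)]), (225, [(214, 1)]), (234, [(226, -1)]), (239, [(231, -1)])]) (.leaf [(0, [(47, -1)]), (1, [(48, -1)]), (3, [(51, 1)]), (4, [(54, 1)]), (6, [(68, -1)]), (8, [(73, -1)]), (11, [(76, -1)]), (14, [(90, 1)]), (15, [(101, 1)]), (18, [(104, 1)]), (21, [(112, -1)]), (22, [(116, 1)]), (24, [(121, 1)]), (25, [(122, -1)]), (27, [(130, 1)]), (30, [(131, -1)]), (33, [(133, 1)]), (34, [(134, -1)]), (37, [(142, 1)]), (40, [(143, -1)]), (43, [(145, 1)]), (44, [(146, -1)]), (56, [(152, 1)]), (59, [(154, -1)]), (60, [(155, 1)]), (62, [(157, 1)]), (63, [(158, -1)]), (65, [(161, 1)]), (78, [(174, -1)]), (81, [(176, 1)]), (82, [(177, -1)]), (84, [(179, -1)]), (85, [(180, 1)]), (87, [(183, -1)]), (93, [(195, 1)]), (94, [(196, -1)]), (96, [(199, 1)]), (97, [(202, -1)]), (105, [(205, 1)]), (106, [(206, -1)]), (108, [(209, 1)]), (109, [(212, -1)]), (117, [(214, 1)]), (118, [(215, -1)]), (123, [(217, -1)]), (127, [(218, 1)]), (135, [(221, -1)]), (138, [(224, -1)]), (149, [(225, -1)]), (163, [(228, 1)]), (166, [(231, 1)]), (171, [(233, 1)]), (185, [(235, -1)]), (188, [(236, -1)]), (191, [(238, 1)]), (192, [(239, 1)])]))) (.node (.node (.leaf [(19, [(0, 1)]), (20, [(1, 1)]), (35, [(6, 1)]), (45, [(8, 1)]), (51, [(9, 1)]), (54, [(10, 1)]), (55, [(11, 1)]), (83, [(21, 1)]), (86, [(22, 1)]), (87, [(23, 1)]), (90, [(26, 1)]), (91, [(27, 1)]), (92, [(30, 1)]), (101, [(36, 1)]), (102, [(37, 1)]), (103, [(40, 1)]), (104, [(46, 1)]), (121, [(57, 1)]), (122, [(58, -1)]), (124, [(59, 1)]), (125, [(60, -1)]), (128, [(62, 1)]), (129, [(63, -1)]), (133, [(66, 1)]), (134, [(67, -1)]), (145, [(71, 1)]), (146, [(72, -1)]), (161, [(77, 1)]), (162, [(78, -1)]), (167, [(93, 1)]), (168, [(94, -1)]), (172, [(105, 1)]), (173, [(106, -1)]), (176, [(110, 1)]), (177, [(111, -1)]), (179, [(114, 1)]), (180, [(115, -1)]), (181, [(117, 1)]), (182, [(118, -1)]), (193, [(135, -1)]), (199, [(136, -1)]), (202, [(137, -1)]), (203, [(138, -1)]), (209, [(147, -1)]), (212, [(148, -1)]), (213, [(149, -1)]), (216, [(152, -1)]), (217, [(153, -1)]), (218, [(156, -1)]), (228, [(184, -1)]), (229, [(185, -1)]), (230, [(188, -1)]), (231, [(194, -1)]), (233, [(204, -1)]), (238, [(219, -1)]), (239, [(220, -1)])]) (.leaf [(3, [(21, 1)]), (4, [(22, 1)]), (5, [(26, 1)]), (7, [(36, 1)]), (11, [(56, -1)]), (12, [(57, -1)]), (13, [(58, -1)]), (18, [(78, 1)]), (19, [(79, 1)]), (20, [(80, 1)]), (33, [(93, -1)]), (34, [(94, -1)]), (35, [(95, -1)]), (43, [(105, 1)]), (44, [(106, 1)]), (45, [(107, 1)]), (49, [(110, -1)]), (50, [(111, -1)]), (51, [(112, -1)]), (52, [(114, 1)]), (53, [(115, 1)]), (54, [(116, 1)]), (65, [(135, 1)]), (69, [(136, -1)]), (70, [(137, 1)]), (74, [(147, 1)]), (75, [(148, -1)]), (76, [(152, 1)]), (87, [(163, -1)]), (91, [(164, 1)]), (92, [(165, -1)]), (102, [(169, -1)]), (103, [(170, 1)]), (104, [(174, -1)]), (123, [(185, -1)]), (124, [(186, -1)]), (125, [(187, -1)]), (127, [(188, 1)]), (128, [(189, 1)]), (129, [(190, 1)]), (132, [(194, -1)]), (133, [(195, -1)]), (134, [(196, -1)]), (144, [(204, 1)]), (145, [(205, 1)]), (146, [(206, 1)]), (159, [(219, -1)]), (160, [(220, -1)]), (161, [(221, -1)]), (181, [(226, 1)]), (182, [(227, 1)]), (183, [(228, 1)]), (203, [(232, -1)]), (213, [(234, -1)]), (217, [(235, -1)]), (218, [(236, -1)])])) (.node (.leaf [(0, [(1, -1)]), (12, [(13, -1)]), (19, [(20, -1)]), (24, [(25, -1)]), (28, [(29, -1)]), (31, [(32, -1)]), (33, [(34, -1)]), (38, [(39, -1)]), (41, [(42, -1)]), (43, [(44, -1)]), (47, [(48, -1)]), (49, [(50, -1)]), (52, [(53, -1)]), (57, [(58, -1)]), (59, [(60, -1)]), (62, [(63, -1)]), (66, [(67, -1)]), (71, [(72, -1)]), (79, [(80, -1)]), (81, [(82, -1)]), (84, [(85, -1)]), (88, [(89, -1)]), (93, [(94, -1)]), (99, [(100, -1)]), (105, [(106, -1)]), (110, [(111, -1)]), (114, [(115, -1)]), (117, [(118, -1)]), (121, [(122, 1)]), (124, [(125, 1)]), (128, [(129, 1)]), (133, [(134, 1)]), (139, [(140, 1)]), (145, [(146, 1)]), (150, [(151, 1)]), (154, [(155, 1)]), (157, [(158, 1)]), (159, [(160, 1)]), (167, [(168, 1)]), (172, [(173, 1)]), (176, [(177, 1)]), (179, [(180, 1)]), (181, [(182, 1)]), (186, [(187, 1)]), (189, [(190, 1)]), (191, [(192, 1)]), (195, [(196, 1)]), (197, [(198, 1)]), (200, [(201, 1)]), (205, [(206, 1)]), (207, [(208, 1)]), (210, [(211, 1)]), (214, [(215, 1)]), (219, [(220, 1)]), (226, [(227, 1)]), (238, [(239, 1)])]) (.leaf [(1, [(120, 1)]), (2, [(122, 1)]), (3, [(125, 1)]), (4, [(129, 1)]), (5, [(134, 1)]), (6, [(140, 1)]), (7, [(146, 1)]), (8, [(151, -1)]), (9, [(155, 1)]), (10, [(158, -1)]), (11, [(160, 1)]), (12, [(161, -1)]), (14, [(168, 1)]), (15, [(173, -1)]), (16, [(177, 1)]), (17, [(180, -1)]), (18, [(182, 1)]), (19, [(183, -1)]), (21, [(187, -1)]), (22, [(190, 1)]), (23, [(192, -1)]), (24, [(193, 1)]), (26, [(196, -1)]), (27, [(198, 1)]), (28, [(199, -1)]), (30, [(201, -1)]), (31, [(202, 1)]), (33, [(203, -1)]), (36, [(206, 1)]), (37, [(208, -1)]), (38, [(209, 1)]), (40, [(211, 1)]), (41, [(212, -1)]), (43, [(213, 1)]), (46, [(215, -1)]), (47, [(216, 1)]), (49, [(217, -1)]), (52, [(218, 1)]), (56, [(220, 1)]), (57, [(221, -1)]), (59, [(222, 1)]), (62, [(223, -1)]), (66, [(224, 1)]), (71, [(225, -1)]), (78, [(227, 1)]), (79, [(228, -1)]), (81, [(229, 1)]), (84, [(230, -1)]), (88, [(231, 1)]), (93, [(232, -1)]), (99, [(233, -1)]), (105, [(234, -1)]), (110, [(235, -1)]), (114, [(236, -1)]), (117, [(237, -1)]), (119, [(238, -1)])])))))) (.node (.node (.node (.node (.node (.leaf [(110, [(0, 1)]), (111, [(1, 1)]), (112, [(2, 1)]), (113, [(3, 1)]), (130, [(5, 1)]), (136, [(6, 1)]), (142, [(7, 1)]), (147, [(8, -1)]), (152, [(10, 1)]), (153, [(11, -1)]), (154, [(12, 1)]), (155, [(13, -1)]), (164, [(14, 1)]), (169, [(15, -1)]), (174, [(17, 1)]), (175, [(18, -1)]), (176, [(19, 1)]), (177, [(20, -1)]), (184, [(22, -1)]), (185, [(23, 1)]), (186, [(24, -1)]), (187, [(25, 1)]), (194, [(30, -1)]), (195, [(31, 1)]), (196, [(32, -1)]), (197, [(33, -1)]), (198, [(34, 1)]), (199, [(35, -1)]), (204, [(40, 1)]), (205, [(41, -1)]), (206, [(42, 1)]), (207, [(43, 1)]), (208, [(44, -1)]), (209, [(45, 1)]), (214, [(52, -1)]), (215, [(53, 1)]), (216, [(54, -1)]), (217, [(55, 1)]), (219, [(62, 1)]), (220, [(63, -1)]), (221, [(64, 1)]), (222, [(65, -1)]), (224, [(70, 1)]), (225, [(75, -1)]), (226, [(84, 1)]), (227, [(85, -1)]), (228, [(86, 1)]), (229, [(87, -1)]), (231, [(92, 1)]), (232, [(97, -1)]), (233, [(103, -1)]), (234, [(109, -1)]), (236, [(126, -1)]), (237, [(127, -1)]), (238, [(128, -1)]), (239, [(129, -1)])]) (.leaf [(2, [(5, -1)]), (8, [(11, -1)]), (15, [(18, -1)]), (21, [(27, 1)]), (22, [(30, 1)]), (24, [(33, -1)]), (25, [(34, -1)]), (36, [(46, -1)]), (38, [(49, 1)]), (39, [(50, 1)]), (41, [(52, 1)]), (42, [(53, 1)]), (45, [(55, -1)]), (57, [(66, -1)]), (58, [(67, -1)]), (61, [(69, 1)]), (64, [(70, 1)]), (73, [(76, -1)]), (79, [(88, -1)]), (80, [(89, -1)]), (83, [(91, 1)]), (86, [(92, 1)]), (95, [(98, -1)]), (101, [(104, -1)]), (105, [(117, 1)]), (106, [(118, 1)]), (108, [(123, 1)]), (109, [(127, 1)]), (112, [(130, -1)]), (116, [(131, -1)]), (121, [(133, -1)]), (122, [(134, -1)]), (135, [(138, 1)]), (141, [(144, 1)]), (147, [(153, -1)]), (148, [(156, -1)]), (150, [(159, 1)]), (151, [(160, 1)]), (163, [(166, 1)]), (169, [(175, -1)]), (170, [(178, -1)]), (172, [(181, 1)]), (173, [(182, 1)]), (184, [(194, 1)]), (186, [(197, -1)]), (187, [(198, -1)]), (189, [(200, -1)]), (190, [(201, -1)]), (193, [(203, 1)]), (205, [(214, 1)]), (206, [(215, 1)]), (209, [(217, -1)]), (212, [(218, -1)]), (221, [(224, 1)]), (228, [(231, 1)]), (234, [(237, 1)])])) (.node (.leaf [(15, [(2, 1)]), (18, [(5, 1)]), (23, [(6, 1)]), (37, [(9, -1)]), (40, [(10, -1)]), (43, [(12, 1)]), (44, [(13, 1)]), (78, [(26, 1)]), (81, [(28, -1)]), (82, [(29, -1)]), (84, [(31, -1)]), (85, [(32, -1)]), (87, [(35, 1)]), (99, [(47, 1)]), (100, [(48, 1)]), (102, [(51, -1)]), (103, [(54, -1)]), (105, [(57, -1)]), (106, [(58, -1)]), (108, [(61, 1)]), (109, [(64, 1)]), (117, [(66, 1)]), (118, [(67, 1)]), (123, [(69, 1)]), (127, [(70, 1)]), (141, [(73, 1)]), (144, [(76, -1)]), (149, [(77, 1)]), (162, [(90, -1)]), (163, [(95, 1)]), (166, [(98, -1)]), (169, [(112, -1)]), (170, [(116, -1)]), (172, [(121, -1)]), (173, [(122, -1)]), (175, [(130, -1)]), (178, [(131, -1)]), (181, [(133, 1)]), (182, [(134, 1)]), (185, [(136, 1)]), (188, [(137, 1)]), (191, [(139, -1)]), (192, [(140, -1)]), (204, [(152, -1)]), (207, [(154, 1)]), (208, [(155, 1)]), (210, [(157, 1)]), (211, [(158, 1)]), (213, [(161, -1)]), (226, [(195, -1)]), (227, [(196, -1)]), (229, [(199, 1)]), (230, [(202, 1)]), (233, [(216, -1)]), (234, [(221, -1)]), (237, [(224, -1)])]) (.leaf [(0, [(26, 1)]), (3, [(29, 1)]), (4, [(32, 1)]), (7, [(48, -1)]), (8, [(58, -1)]), (11, [(67, -1)]), (12, [(68, -1)]), (15, [(80, 1)]), (18, [(89, 1)]), (19, [(90, 1)]), (23, [(94, 1)]), (24, [(95, 1)]), (33, [(98, 1)]), (37, [(111, -1)]), (38, [(112, -1)]), (40, [(115, 1)]), (41, [(116, 1)]), (44, [(120, 1)]), (45, [(122, 1)]), (49, [(130, 1)]), (52, [(131, -1)]), (55, [(134, 1)]), (59, [(136, 1)]), (62, [(137, -1)]), (65, [(140, 1)]), (71, [(152, 1)]), (74, [(155, -1)]), (75, [(158, 1)]), (81, [(164, -1)]), (84, [(165, 1)]), (87, [(168, -1)]), (99, [(174, -1)]), (102, [(177, 1)]), (103, [(180, -1)]), (105, [(184, -1)]), (108, [(187, 1)]), (109, [(190, -1)]), (117, [(194, -1)]), (119, [(195, -1)]), (123, [(198, -1)]), (124, [(199, -1)]), (127, [(201, 1)]), (128, [(202, 1)]), (141, [(206, -1)]), (144, [(215, -1)]), (145, [(216, -1)]), (149, [(220, -1)]), (150, [(221, -1)]), (159, [(224, -1)]), (171, [(227, 1)]), (172, [(228, 1)]), (181, [(231, 1)]), (191, [(232, 1)]), (207, [(235, -1)]), (210, [(236, -1)]), (213, [(239, -1)])]))) (.node (.node (.leaf [(33, [(0, 1)]), (34, [(1, 1)]), (35, [(2, 1)]), (55, [(7, -1)]), (65, [(8, -1)]), (69, [(9, -1)]), (70, [(10, -1)]), (87, [(15, 1)]), (91, [(16, 1)]), (92, [(17, 1)]), (96, [(21, 1)]), (97, [(22, 1)]), (98, [(26, 1)]), (123, [(37, 1)]), (124, [(38, -1)]), (125, [(39, 1)]), (127, [(40, 1)]), (128, [(41, -1)]), (129, [(42, 1)]), (132, [(46, 1)]), (133, [(47, -1)]), (134, [(48, 1)]), (138, [(56, 1)]), (139, [(57, -1)]), (140, [(58, 1)]), (159, [(71, 1)]), (160, [(72, -1)]), (161, [(73, 1)]), (166, [(78, -1)]), (167, [(79, 1)]), (168, [(80, -1)]), (181, [(99, -1)]), (182, [(100, 1)]), (183, [(101, -1)]), (191, [(105, -1)]), (192, [(106, 1)]), (193, [(107, -1)]), (197, [(110, -1)]), (198, [(111, 1)]), (199, [(112, -1)]), (200, [(114, -1)]), (201, [(115, 1)]), (202, [(116, -1)]), (213, [(141, -1)]), (217, [(142, -1)]), (218, [(143, -1)]), (222, [(147, -1)]), (223, [(148, -1)]), (224, [(152, -1)]), (229, [(169, 1)]), (230, [(170, 1)]), (231, [(174, 1)]), (232, [(184, 1)]), (237, [(204, -1)]), (238, [(205, -1)]), (239, [(206, -1)])]) (.leaf [(4, [(14, -1)]), (7, [(16, 1)]), (8, [(21, 1)]), (10, [(26, -1)]), (11, [(27, -1)]), (12, [(28, -1)]), (13, [(29, -1)]), (40, [(78, 1)]), (41, [(79, 1)]), (42, [(80, 1)]), (43, [(81, 1)]), (44, [(82, 1)]), (45, [(83, 1)]), (52, [(88, -1)]), (53, [(89, -1)]), (54, [(90, -1)]), (55, [(91, -1)]), (62, [(93, -1)]), (63, [(94, -1)]), (64, [(95, -1)]), (65, [(96, -1)]), (70, [(98, 1)]), (71, [(110, 1)]), (72, [(111, 1)]), (73, [(112, 1)]), (74, [(113, 1)]), (76, [(130, 1)]), (77, [(136, 1)]), (103, [(162, -1)]), (109, [(163, -1)]), (126, [(165, -1)]), (127, [(166, -1)]), (128, [(167, -1)]), (129, [(168, -1)]), (141, [(169, -1)]), (143, [(174, 1)]), (144, [(175, 1)]), (145, [(176, 1)]), (146, [(177, 1)]), (148, [(184, 1)]), (149, [(185, 1)]), (150, [(186, 1)]), (151, [(187, 1)]), (156, [(194, -1)]), (157, [(195, -1)]), (158, [(196, -1)]), (159, [(197, -1)]), (160, [(198, -1)]), (161, [(199, -1)]), (210, [(226, 1)]), (211, [(227, 1)]), (212, [(228, 1)]), (213, [(229, 1)]), (218, [(231, -1)]), (223, [(232, -1)]), (225, [(235, 1)])])) (.node (.leaf [(6, [(1, -1)]), (12, [(7, -1)]), (24, [(15, 1)]), (28, [(16, 1)]), (31, [(17, 1)]), (33, [(18, 1)]), (35, [(20, -1)]), (57, [(36, 1)]), (59, [(37, 1)]), (61, [(39, -1)]), (62, [(40, 1)]), (64, [(42, -1)]), (65, [(44, -1)]), (66, [(46, 1)]), (68, [(48, -1)]), (69, [(50, -1)]), (70, [(53, -1)]), (77, [(72, -1)]), (93, [(78, -1)]), (95, [(80, 1)]), (96, [(82, 1)]), (97, [(85, 1)]), (98, [(89, 1)]), (119, [(99, 1)]), (121, [(101, 1)]), (124, [(102, 1)]), (128, [(103, 1)]), (133, [(104, 1)]), (135, [(106, -1)]), (136, [(111, -1)]), (137, [(115, -1)]), (138, [(118, -1)]), (140, [(120, -1)]), (150, [(141, -1)]), (154, [(142, -1)]), (157, [(143, -1)]), (159, [(144, -1)]), (161, [(146, 1)]), (167, [(162, 1)]), (186, [(169, 1)]), (189, [(170, 1)]), (191, [(171, 1)]), (193, [(173, -1)]), (195, [(174, 1)]), (197, [(175, 1)]), (199, [(177, -1)]), (200, [(178, 1)]), (202, [(180, -1)]), (203, [(182, -1)]), (219, [(204, 1)]), (221, [(206, -1)]), (222, [(208, -1)]), (223, [(211, -1)]), (224, [(215, -1)]), (232, [(227, 1)]), (238, [(233, 1)])]) (.leaf [(0, [(79, 1)]), (1, [(80, 1)]), (3, [(83, -1)]), (4, [(86, -1)]), (5, [(90, -1)]), (6, [(95, -1)]), (7, [(101, -1)]), (8, [(107, 1)]), (9, [(112, -1)]), (10, [(116, 1)]), (12, [(121, 1)]), (13, [(122, -1)]), (18, [(162, 1)]), (23, [(163, -1)]), (27, [(164, 1)]), (30, [(165, -1)]), (33, [(167, 1)]), (34, [(168, -1)]), (37, [(169, -1)]), (40, [(170, 1)]), (43, [(172, -1)]), (44, [(173, 1)]), (46, [(174, -1)]), (49, [(176, 1)]), (50, [(177, -1)]), (52, [(179, -1)]), (53, [(180, 1)]), (55, [(183, -1)]), (56, [(184, 1)]), (59, [(186, -1)]), (60, [(187, 1)]), (62, [(189, 1)]), (63, [(190, -1)]), (65, [(193, 1)]), (66, [(195, -1)]), (67, [(196, 1)]), (69, [(199, -1)]), (70, [(202, 1)]), (71, [(205, 1)]), (72, [(206, -1)]), (74, [(209, 1)]), (75, [(212, -1)]), (76, [(216, 1)]), (77, [(221, -1)]), (117, [(226, 1)]), (118, [(227, -1)]), (123, [(229, -1)]), (127, [(230, 1)]), (132, [(231, -1)]), (138, [(232, 1)]), (144, [(233, 1)]), (149, [(234, 1)]), (153, [(235, 1)]), (156, [(236, 1)]), (159, [(238, -1)]), (160, [(239, -1)])])))) (.node (.node (.node (.leaf [(56, [(1, -1)]), (57, [(2, -1)]), (59, [(3, -1)]), (62, [(4, -1)]), (66, [(5, -1)]), (71, [(7, -1)]), (77, [(13, 1)]), (93, [(14, -1)]), (105, [(15, 1)]), (110, [(16, -1)]), (114, [(17, 1)]), (117, [(18, -1)]), (119, [(19, 1)]), (135, [(25, 1)]), (136, [(29, -1)]), (137, [(32, 1)]), (138, [(34, -1)]), (139, [(35, 1)]), (147, [(39, 1)]), (148, [(42, -1)]), (149, [(44, 1)]), (150, [(45, -1)]), (152, [(48, 1)]), (153, [(50, -1)]), (154, [(51, 1)]), (156, [(53, 1)]), (157, [(54, -1)]), (159, [(55, 1)]), (184, [(80, -1)]), (185, [(82, 1)]), (186, [(83, -1)]), (188, [(85, -1)]), (189, [(86, 1)]), (191, [(87, -1)]), (194, [(89, 1)]), (195, [(90, -1)]), (197, [(91, 1)]), (200, [(92, -1)]), (204, [(100, -1)]), (205, [(101, 1)]), (207, [(102, -1)]), (210, [(103, 1)]), (214, [(104, -1)]), (220, [(120, -1)]), (221, [(122, 1)]), (222, [(125, -1)]), (223, [(129, 1)]), (224, [(134, -1)]), (225, [(146, 1)]), (226, [(162, -1)]), (232, [(168, 1)]), (234, [(173, 1)]), (235, [(177, 1)]), (236, [(180, 1)]), (237, [(182, 1)]), (238, [(183, 1)])]) (.leaf [(3, [(8, 1)]), (5, [(10, -1)]), (14, [(22, 1)]), (16, [(36, -1)]), (18, [(40, 1)]), (19, [(41, 1)]), (20, [(42, 1)]), (27, [(56, -1)]), (28, [(57, -1)]), (29, [(58, -1)]), (33, [(62, 1)]), (34, [(63, 1)]), (35, [(64, 1)]), (49, [(71, -1)]), (50, [(72, -1)]), (51, [(73, -1)]), (55, [(75, 1)]), (69, [(77, -1)]), (81, [(105, -1)]), (82, [(106, -1)]), (83, [(107, -1)]), (87, [(109, 1)]), (88, [(114, 1)]), (89, [(115, 1)]), (90, [(116, 1)]), (92, [(126, 1)]), (96, [(135, 1)]), (98, [(137, -1)]), (102, [(141, 1)]), (104, [(143, -1)]), (113, [(147, -1)]), (123, [(149, -1)]), (124, [(150, -1)]), (125, [(151, -1)]), (130, [(152, -1)]), (132, [(156, 1)]), (133, [(157, 1)]), (134, [(158, 1)]), (162, [(170, 1)]), (164, [(184, -1)]), (166, [(188, 1)]), (167, [(189, 1)]), (168, [(190, 1)]), (175, [(204, -1)]), (176, [(205, -1)]), (177, [(206, -1)]), (181, [(210, 1)]), (182, [(211, 1)]), (183, [(212, 1)]), (197, [(219, -1)]), (198, [(220, -1)]), (199, [(221, -1)]), (203, [(223, 1)]), (217, [(225, -1)]), (229, [(234, 1)]), (231, [(236, -1)])])) (.node (.leaf [(9, [(0, -1)]), (13, [(4, 1)]), (29, [(14, 1)]), (39, [(15, 1)]), (48, [(17, -1)]), (50, [(18, -1)]), (51, [(19, -1)]), (58, [(22, -1)]), (60, [(23, -1)]), (61, [(24, -1)]), (67, [(30, 1)]), (68, [(31, 1)]), (69, [(33, 1)]), (72, [(40, 1)]), (73, [(41, 1)]), (74, [(43, 1)]), (76, [(52, -1)]), (77, [(62, -1)]), (111, [(78, 1)]), (112, [(79, 1)]), (113, [(81, 1)]), (120, [(85, 1)]), (122, [(86, 1)]), (125, [(87, 1)]), (130, [(88, 1)]), (134, [(92, -1)]), (136, [(93, 1)]), (140, [(97, -1)]), (142, [(99, 1)]), (146, [(103, -1)]), (147, [(105, 1)]), (151, [(109, -1)]), (152, [(114, -1)]), (153, [(117, -1)]), (154, [(119, -1)]), (158, [(126, -1)]), (160, [(127, -1)]), (161, [(128, -1)]), (177, [(162, 1)]), (187, [(163, 1)]), (196, [(165, -1)]), (198, [(166, -1)]), (199, [(167, -1)]), (206, [(170, -1)]), (208, [(171, -1)]), (209, [(172, -1)]), (215, [(178, 1)]), (216, [(179, 1)]), (217, [(181, 1)]), (220, [(188, 1)]), (221, [(189, 1)]), (222, [(191, 1)]), (224, [(200, -1)]), (225, [(210, -1)]), (235, [(226, -1)]), (239, [(230, 1)])]) (.leaf [(0, [(41, 1)]), (1, [(42, 1)]), (3, [(45, -1)]), (5, [(54, 1)]), (6, [(64, 1)]), (9, [(73, -1)]), (11, [(75, 1)]), (14, [(86, -1)]), (16, [(101, 1)]), (18, [(103, -1)]), (21, [(107, -1)]), (23, [(109, 1)]), (26, [(116, 1)]), (28, [(121, 1)]), (29, [(122, -1)]), (30, [(126, 1)]), (33, [(128, -1)]), (34, [(129, 1)]), (37, [(141, 1)]), (46, [(143, -1)]), (49, [(145, 1)]), (50, [(146, -1)]), (56, [(148, 1)]), (59, [(150, -1)]), (60, [(151, 1)]), (66, [(157, 1)]), (67, [(158, -1)]), (69, [(161, 1)]), (78, [(170, -1)]), (81, [(172, 1)]), (82, [(173, -1)]), (88, [(179, -1)]), (89, [(180, 1)]), (91, [(183, -1)]), (93, [(189, 1)]), (94, [(190, -1)]), (96, [(193, 1)]), (98, [(202, -1)]), (110, [(205, -1)]), (111, [(206, 1)]), (113, [(209, -1)]), (117, [(210, 1)]), (118, [(211, -1)]), (123, [(213, -1)]), (130, [(216, -1)]), (132, [(218, 1)]), (136, [(221, 1)]), (138, [(223, -1)]), (153, [(225, 1)]), (164, [(228, -1)]), (166, [(230, 1)]), (175, [(233, -1)]), (185, [(234, -1)]), (194, [(236, 1)]), (197, [(238, -1)]), (198, [(239, -1)])]))) (.node (.node (.leaf [(21, [(0, 1)]), (25, [(4, -1)]), (29, [(5, -1)]), (39, [(7, -1)]), (58, [(10, -1)]), (60, [(11, -1)]), (61, [(12, -1)]), (80, [(17, 1)]), (82, [(18, 1)]), (83, [(19, 1)]), (94, [(30, 1)]), (95, [(31, 1)]), (96, [(33, 1)]), (106, [(40, -1)]), (107, [(41, -1)]), (108, [(43, -1)]), (111, [(46, 1)]), (112, [(47, 1)]), (113, [(49, 1)]), (120, [(53, 1)]), (122, [(54, 1)]), (125, [(55, 1)]), (135, [(62, 1)]), (136, [(66, -1)]), (140, [(70, 1)]), (147, [(71, 1)]), (151, [(75, -1)]), (155, [(76, 1)]), (163, [(84, -1)]), (164, [(88, 1)]), (168, [(92, -1)]), (169, [(99, -1)]), (173, [(103, 1)]), (177, [(104, -1)]), (184, [(114, -1)]), (185, [(117, -1)]), (186, [(119, -1)]), (190, [(126, -1)]), (192, [(127, -1)]), (193, [(128, -1)]), (196, [(131, 1)]), (198, [(132, 1)]), (199, [(133, 1)]), (206, [(143, -1)]), (208, [(144, -1)]), (209, [(145, -1)]), (220, [(156, -1)]), (221, [(157, -1)]), (222, [(159, -1)]), (227, [(178, 1)]), (228, [(179, 1)]), (229, [(181, 1)]), (232, [(200, 1)]), (234, [(210, 1)]), (235, [(214, 1)]), (239, [(218, -1)])]) (.leaf [(0, [(17, 1)]), (3, [(20, 1)]), (6, [(32, 1)]), (8, [(42, 1)]), (9, [(48, 1)]), (11, [(53, -1)]), (12, [(54, -1)]), (21, [(80, 1)]), (23, [(85, -1)]), (24, [(86, -1)]), (27, [(89, -1)]), (28, [(90, -1)]), (33, [(92, 1)]), (37, [(100, -1)]), (38, [(101, -1)]), (43, [(103, 1)]), (49, [(104, 1)]), (56, [(115, 1)]), (57, [(116, 1)]), (60, [(120, 1)]), (61, [(122, 1)]), (62, [(126, 1)]), (65, [(129, -1)]), (66, [(131, 1)]), (69, [(134, -1)]), (71, [(143, 1)]), (74, [(146, -1)]), (77, [(158, 1)]), (81, [(162, -1)]), (93, [(165, 1)]), (96, [(168, -1)]), (105, [(170, 1)]), (108, [(173, -1)]), (110, [(174, 1)]), (113, [(177, -1)]), (117, [(178, -1)]), (119, [(179, -1)]), (123, [(182, -1)]), (124, [(183, -1)]), (135, [(190, -1)]), (136, [(196, -1)]), (138, [(201, 1)]), (139, [(202, 1)]), (147, [(206, -1)]), (149, [(211, 1)]), (150, [(212, 1)]), (153, [(215, 1)]), (154, [(216, 1)]), (159, [(218, -1)]), (185, [(227, 1)]), (186, [(228, 1)]), (191, [(230, -1)]), (197, [(231, -1)]), (207, [(233, -1)]), (219, [(236, -1)]), (222, [(239, -1)])])) (.node (.leaf [(3, [(2, -1)]), (11, [(10, -1)]), (18, [(17, -1)]), (23, [(22, -1)]), (27, [(26, -1)]), (33, [(31, -1)]), (34, [(32, -1)]), (37, [(36, -1)]), (43, [(41, -1)]), (44, [(42, -1)]), (49, [(47, -1)]), (50, [(48, -1)]), (55, [(54, -1)]), (59, [(57, -1)]), (60, [(58, -1)]), (65, [(64, -1)]), (69, [(68, -1)]), (74, [(73, -1)]), (81, [(79, -1)]), (82, [(80, -1)]), (87, [(86, -1)]), (91, [(90, -1)]), (96, [(95, -1)]), (102, [(101, -1)]), (108, [(107, -1)]), (113, [(112, -1)]), (117, [(114, 1)]), (118, [(115, 1)]), (124, [(121, -1)]), (125, [(122, -1)]), (127, [(126, 1)]), (132, [(131, 1)]), (138, [(137, 1)]), (144, [(143, 1)]), (149, [(148, 1)]), (153, [(152, 1)]), (159, [(157, 1)]), (160, [(158, 1)]), (166, [(165, 1)]), (171, [(170, 1)]), (175, [(174, 1)]), (181, [(179, 1)]), (182, [(180, 1)]), (185, [(184, 1)]), (191, [(189, 1)]), (192, [(190, 1)]), (197, [(195, 1)]), (198, [(196, 1)]), (203, [(202, 1)]), (207, [(205, 1)]), (208, [(206, 1)]), (213, [(212, 1)]), (217, [(216, 1)]), (222, [(221, 1)]), (229, [(228, 1)]), (237, [(236, 1)])]) (.leaf [(1, [(120, 1)]), (2, [(122, 1)]), (3, [(125, 1)]), (4, [(129, 1)]), (5, [(134, 1)]), (6, [(140, 1)]), (7, [(146, 1)]), (8, [(151, -1)]), (9, [(155, 1)]), (10, [(158, -1)]), (11, [(160, 1)]), (12, [(161, -1)]), (14, [(168, 1)]), (15, [(173, -1)]), (16, [(177, 1)]), (17, [(180, -1)]), (18, [(182, 1)]), (19, [(183, -1)]), (21, [(187, -1)]), (22, [(190, 1)]), (23, [(192, -1)]), (24, [(193, 1)]), (26, [(196, -1)]), (27, [(198, 1)]), (28, [(199, -1)]), (30, [(201, -1)]), (31, [(202, 1)]), (33, [(203, -1)]), (36, [(206, 1)]), (37, [(208, -1)]), (38, [(209, 1)]), (40, [(211, 1)]), (41, [(212, -1)]), (43, [(213, 1)]), (46, [(215, -1)]), (47, [(216, 1)]), (49, [(217, -1)]), (52, [(218, 1)]), (56, [(220, 1)]), (57, [(221, -1)]), (59, [(222, 1)]), (62, [(223, -1)]), (66, [(224, 1)]), (71, [(225, -1)]), (78, [(227, 1)]), (79, [(228, -1)]), (81, [(229, 1)]), (84, [(230, -1)]), (88, [(231, 1)]), (93, [(232, -1)]), (99, [(233, -1)]), (105, [(234, -1)]), (110, [(235, -1)]), (114, [(236, -1)]), (117, [(237, -1)]), (119, [(238, -1)])]))))) (.node (.node (.node (.node (.leaf [(78, [(0, -1)]), (80, [(2, 1)]), (82, [(3, 1)]), (85, [(4, 1)]), (89, [(5, 1)]), (94, [(6, 1)]), (100, [(7, 1)]), (106, [(8, -1)]), (111, [(9, 1)]), (115, [(10, -1)]), (118, [(11, 1)]), (120, [(13, 1)]), (162, [(19, 1)]), (163, [(24, -1)]), (164, [(28, 1)]), (165, [(31, -1)]), (166, [(33, 1)]), (168, [(35, -1)]), (169, [(38, -1)]), (170, [(41, 1)]), (171, [(43, -1)]), (173, [(45, 1)]), (174, [(47, -1)]), (175, [(49, 1)]), (177, [(51, -1)]), (178, [(52, -1)]), (180, [(54, 1)]), (182, [(55, -1)]), (184, [(57, 1)]), (185, [(59, -1)]), (187, [(61, 1)]), (188, [(62, 1)]), (190, [(64, -1)]), (192, [(65, 1)]), (194, [(66, -1)]), (196, [(68, 1)]), (198, [(69, -1)]), (201, [(70, 1)]), (204, [(71, 1)]), (206, [(73, -1)]), (208, [(74, 1)]), (211, [(75, -1)]), (215, [(76, 1)]), (220, [(77, -1)]), (226, [(119, -1)]), (228, [(121, -1)]), (229, [(124, 1)]), (230, [(128, -1)]), (231, [(133, 1)]), (232, [(139, -1)]), (233, [(145, -1)]), (234, [(150, -1)]), (235, [(154, -1)]), (236, [(157, -1)]), (237, [(159, -1)]), (239, [(161, 1)])]) (.leaf [(0, [(6, -1)]), (7, [(13, 1)]), (15, [(25, -1)]), (16, [(29, -1)]), (17, [(32, -1)]), (18, [(34, -1)]), (19, [(35, -1)]), (36, [(58, -1)]), (37, [(60, -1)]), (38, [(61, -1)]), (40, [(63, -1)]), (41, [(64, -1)]), (43, [(65, -1)]), (46, [(67, -1)]), (47, [(68, -1)]), (49, [(69, -1)]), (52, [(70, -1)]), (71, [(77, -1)]), (78, [(94, 1)]), (79, [(95, 1)]), (81, [(96, 1)]), (84, [(97, 1)]), (88, [(98, 1)]), (100, [(120, 1)]), (101, [(122, 1)]), (102, [(125, 1)]), (103, [(129, 1)]), (104, [(134, 1)]), (105, [(135, -1)]), (110, [(136, -1)]), (114, [(137, -1)]), (117, [(138, -1)]), (119, [(139, -1)]), (141, [(151, -1)]), (142, [(155, -1)]), (143, [(158, -1)]), (144, [(160, -1)]), (145, [(161, -1)]), (162, [(168, 1)]), (169, [(187, 1)]), (170, [(190, 1)]), (171, [(192, 1)]), (172, [(193, 1)]), (174, [(196, 1)]), (175, [(198, 1)]), (176, [(199, 1)]), (178, [(201, 1)]), (179, [(202, 1)]), (181, [(203, 1)]), (204, [(220, 1)]), (205, [(221, 1)]), (207, [(222, 1)]), (210, [(223, 1)]), (214, [(224, 1)]), (226, [(232, -1)]), (233, [(239, 1)])])) (.node (.leaf [(14, [(5, -1)]), (15, [(7, -1)]), (21, [(9, 1)]), (22, [(10, 1)]), (23, [(11, 1)]), (24, [(12, 1)]), (25, [(13, 1)]), (78, [(46, 1)]), (79, [(47, 1)]), (80, [(48, 1)]), (81, [(49, 1)]), (82, [(50, 1)]), (83, [(51, 1)]), (84, [(52, 1)]), (85, [(53, 1)]), (86, [(54, 1)]), (87, [(55, 1)]), (93, [(66, -1)]), (94, [(67, -1)]), (95, [(68, -1)]), (96, [(69, -1)]), (97, [(70, -1)]), (105, [(71, 1)]), (106, [(72, 1)]), (107, [(73, 1)]), (108, [(74, 1)]), (109, [(75, 1)]), (135, [(77, 1)]), (162, [(104, -1)]), (164, [(130, -1)]), (165, [(131, -1)]), (166, [(132, -1)]), (167, [(133, -1)]), (168, [(134, -1)]), (169, [(142, 1)]), (170, [(143, 1)]), (171, [(144, 1)]), (172, [(145, 1)]), (173, [(146, 1)]), (184, [(152, -1)]), (185, [(153, -1)]), (186, [(154, -1)]), (187, [(155, -1)]), (188, [(156, -1)]), (189, [(157, -1)]), (190, [(158, -1)]), (191, [(159, -1)]), (192, [(160, -1)]), (193, [(161, -1)]), (226, [(214, -1)]), (227, [(215, -1)]), (228, [(216, -1)]), (229, [(217, -1)]), (230, [(218, -1)]), (232, [(224, 1)]), (234, [(225, 1)])]) (.leaf [(2, [(36, -1)]), (3, [(37, -1)]), (4, [(40, -1)]), (5, [(46, -1)]), (6, [(56, -1)]), (12, [(71, -1)]), (13, [(72, -1)]), (14, [(78, 1)]), (19, [(99, 1)]), (20, [(100, 1)]), (24, [(105, -1)]), (25, [(106, -1)]), (28, [(110, 1)]), (29, [(111, 1)]), (31, [(114, -1)]), (32, [(115, -1)]), (33, [(117, 1)]), (34, [(118, 1)]), (45, [(141, 1)]), (51, [(142, -1)]), (54, [(143, 1)]), (55, [(144, -1)]), (61, [(147, 1)]), (64, [(148, -1)]), (65, [(149, 1)]), (68, [(152, 1)]), (69, [(153, -1)]), (70, [(156, 1)]), (83, [(169, -1)]), (86, [(170, 1)]), (87, [(171, -1)]), (90, [(174, -1)]), (91, [(175, 1)]), (92, [(178, -1)]), (95, [(184, 1)]), (96, [(185, -1)]), (97, [(188, 1)]), (98, [(194, -1)]), (121, [(205, -1)]), (122, [(206, -1)]), (124, [(207, 1)]), (125, [(208, 1)]), (128, [(210, -1)]), (129, [(211, -1)]), (133, [(214, 1)]), (134, [(215, 1)]), (139, [(219, -1)]), (140, [(220, -1)]), (161, [(225, -1)]), (167, [(226, 1)]), (168, [(227, 1)]), (183, [(233, 1)]), (193, [(234, 1)]), (199, [(235, 1)]), (202, [(236, 1)]), (203, [(237, 1)])]))) (.node (.node (.leaf [(26, [(1, 1)]), (28, [(3, -1)]), (31, [(4, -1)]), (47, [(7, 1)]), (57, [(8, 1)]), (66, [(11, 1)]), (68, [(13, -1)]), (79, [(15, -1)]), (88, [(18, -1)]), (90, [(20, 1)]), (93, [(23, -1)]), (95, [(25, 1)]), (98, [(34, 1)]), (110, [(37, 1)]), (112, [(39, -1)]), (114, [(40, -1)]), (116, [(42, 1)]), (119, [(43, 1)]), (121, [(45, 1)]), (130, [(50, 1)]), (131, [(53, -1)]), (133, [(55, 1)]), (136, [(60, 1)]), (137, [(63, -1)]), (139, [(65, 1)]), (152, [(72, 1)]), (154, [(74, -1)]), (157, [(75, 1)]), (164, [(82, -1)]), (165, [(85, 1)]), (167, [(87, -1)]), (174, [(100, -1)]), (176, [(102, 1)]), (179, [(103, -1)]), (184, [(106, -1)]), (186, [(108, 1)]), (189, [(109, -1)]), (194, [(118, -1)]), (196, [(120, -1)]), (197, [(123, -1)]), (199, [(125, 1)]), (200, [(127, 1)]), (202, [(129, -1)]), (205, [(141, -1)]), (214, [(144, -1)]), (216, [(146, 1)]), (219, [(149, -1)]), (221, [(151, 1)]), (224, [(160, 1)]), (226, [(171, 1)]), (228, [(173, -1)]), (231, [(182, -1)]), (232, [(192, -1)]), (235, [(208, 1)]), (236, [(211, 1)]), (238, [(213, -1)])]) (.leaf [(1, [(15, 1)]), (5, [(19, -1)]), (6, [(24, -1)]), (9, [(38, 1)]), (10, [(41, 1)]), (11, [(43, 1)]), (13, [(45, -1)]), (26, [(79, -1)]), (27, [(81, -1)]), (29, [(83, 1)]), (30, [(84, -1)]), (32, [(86, 1)]), (34, [(87, 1)]), (46, [(99, 1)]), (48, [(101, -1)]), (50, [(102, -1)]), (53, [(103, -1)]), (56, [(105, -1)]), (58, [(107, 1)]), (60, [(108, 1)]), (63, [(109, 1)]), (66, [(119, 1)]), (68, [(121, 1)]), (69, [(124, 1)]), (70, [(128, 1)]), (72, [(141, 1)]), (76, [(145, -1)]), (77, [(150, 1)]), (89, [(162, -1)]), (94, [(163, 1)]), (98, [(167, -1)]), (111, [(169, -1)]), (115, [(170, -1)]), (118, [(171, -1)]), (120, [(173, -1)]), (130, [(176, -1)]), (131, [(179, -1)]), (132, [(181, -1)]), (134, [(183, 1)]), (136, [(186, 1)]), (137, [(189, 1)]), (138, [(191, 1)]), (140, [(193, -1)]), (152, [(205, -1)]), (153, [(207, -1)]), (155, [(209, 1)]), (156, [(210, -1)]), (158, [(212, 1)]), (160, [(213, 1)]), (194, [(226, 1)]), (196, [(228, -1)]), (198, [(229, -1)]), (201, [(230, -1)]), (215, [(233, 1)]), (220, [(234, 1)]), (224, [(238, -1)])])) (.node (.leaf [(5, [(3, -1)]), (10, [(8, 1)]), (17, [(15, 1)]), (26, [(21, -1)]), (30, [(23, 1)]), (31, [(24, 1)]), (32, [(25, 1)]), (46, [(37, -1)]), (47, [(38, -1)]), (48, [(39, -1)]), (52, [(43, 1)]), (53, [(44, 1)]), (54, [(45, 1)]), (66, [(59, -1)]), (67, [(60, -1)]), (68, [(61, -1)]), (70, [(65, 1)]), (76, [(74, -1)]), (88, [(81, -1)]), (89, [(82, -1)]), (90, [(83, -1)]), (92, [(87, 1)]), (98, [(96, -1)]), (104, [(102, -1)]), (114, [(105, 1)]), (115, [(106, 1)]), (116, [(107, 1)]), (126, [(109, 1)]), (130, [(113, -1)]), (132, [(123, -1)]), (133, [(124, -1)]), (134, [(125, -1)]), (137, [(135, 1)]), (143, [(141, 1)]), (152, [(147, -1)]), (156, [(149, 1)]), (157, [(150, 1)]), (158, [(151, 1)]), (165, [(163, 1)]), (174, [(169, -1)]), (178, [(171, 1)]), (179, [(172, 1)]), (180, [(173, 1)]), (194, [(185, -1)]), (195, [(186, -1)]), (196, [(187, -1)]), (200, [(191, 1)]), (201, [(192, 1)]), (202, [(193, 1)]), (214, [(207, -1)]), (215, [(208, -1)]), (216, [(209, -1)]), (218, [(213, 1)]), (224, [(222, -1)]), (231, [(229, -1)]), (236, [(234, 1)])]) (.leaf [(0, [(114, 1)]), (1, [(115, 1)]), (2, [(116, 1)]), (4, [(126, 1)]), (5, [(131, 1)]), (6, [(137, 1)]), (7, [(143, 1)]), (8, [(148, -1)]), (9, [(152, 1)]), (11, [(156, -1)]), (12, [(157, 1)]), (13, [(158, -1)]), (14, [(165, 1)]), (15, [(170, -1)]), (16, [(174, 1)]), (18, [(178, -1)]), (19, [(179, 1)]), (20, [(180, -1)]), (21, [(184, -1)]), (23, [(188, 1)]), (24, [(189, -1)]), (25, [(190, 1)]), (27, [(194, -1)]), (28, [(195, 1)]), (29, [(196, -1)]), (33, [(200, -1)]), (34, [(201, 1)]), (35, [(202, -1)]), (37, [(204, 1)]), (38, [(205, -1)]), (39, [(206, 1)]), (43, [(210, 1)]), (44, [(211, -1)]), (45, [(212, 1)]), (49, [(214, -1)]), (50, [(215, 1)]), (51, [(216, -1)]), (55, [(218, 1)]), (59, [(219, 1)]), (60, [(220, -1)]), (61, [(221, 1)]), (65, [(223, -1)]), (69, [(224, 1)]), (74, [(225, -1)]), (81, [(226, 1)]), (82, [(227, -1)]), (83, [(228, 1)]), (87, [(230, -1)]), (91, [(231, 1)]), (96, [(232, -1)]), (102, [(233, -1)]), (108, [(234, -1)]), (113, [(235, -1)]), (123, [(237, -1)]), (124, [(238, -1)]), (125, [(239, -1)])])))) (.node (.node (.node (.leaf [(40, [(0, -1)]), (42, [(2, 1)]), (44, [(3, 1)]), (53, [(5, -1)]), (63, [(6, -1)]), (72, [(9, 1)]), (75, [(12, 1)]), (85, [(14, 1)]), (100, [(16, -1)]), (103, [(19, -1)]), (106, [(21, 1)]), (109, [(24, 1)]), (115, [(26, -1)]), (118, [(27, 1)]), (120, [(29, 1)]), (126, [(31, 1)]), (127, [(33, -1)]), (129, [(35, 1)]), (141, [(38, 1)]), (143, [(47, -1)]), (144, [(49, 1)]), (146, [(51, -1)]), (148, [(57, 1)]), (149, [(59, -1)]), (151, [(61, 1)]), (156, [(66, 1)]), (158, [(68, -1)]), (160, [(69, 1)]), (170, [(79, -1)]), (171, [(81, 1)]), (173, [(83, -1)]), (178, [(88, -1)]), (180, [(90, 1)]), (182, [(91, -1)]), (188, [(93, 1)]), (190, [(95, -1)]), (192, [(96, 1)]), (201, [(98, -1)]), (204, [(110, -1)]), (206, [(112, 1)]), (208, [(113, -1)]), (210, [(119, -1)]), (212, [(121, -1)]), (213, [(124, 1)]), (215, [(130, -1)]), (218, [(133, -1)]), (220, [(136, 1)]), (223, [(139, 1)]), (225, [(154, -1)]), (227, [(164, -1)]), (230, [(167, -1)]), (233, [(176, 1)]), (234, [(186, 1)]), (236, [(195, -1)]), (237, [(197, -1)]), (239, [(199, 1)])]) (.leaf [(2, [(10, 1)]), (3, [(11, 1)]), (14, [(30, -1)]), (15, [(40, -1)]), (16, [(46, -1)]), (19, [(52, -1)]), (20, [(53, -1)]), (21, [(56, -1)]), (24, [(62, -1)]), (25, [(63, -1)]), (28, [(66, -1)]), (29, [(67, -1)]), (35, [(70, -1)]), (38, [(71, -1)]), (39, [(72, -1)]), (45, [(75, -1)]), (51, [(76, -1)]), (61, [(77, -1)]), (79, [(114, -1)]), (80, [(115, -1)]), (81, [(117, 1)]), (82, [(118, 1)]), (86, [(126, 1)]), (87, [(127, -1)]), (90, [(131, 1)]), (91, [(132, -1)]), (95, [(137, 1)]), (96, [(138, -1)]), (101, [(143, 1)]), (102, [(144, -1)]), (107, [(148, 1)]), (108, [(149, -1)]), (112, [(152, 1)]), (113, [(153, -1)]), (121, [(157, -1)]), (122, [(158, -1)]), (124, [(159, 1)]), (125, [(160, 1)]), (162, [(178, 1)]), (163, [(188, 1)]), (164, [(194, 1)]), (167, [(200, 1)]), (168, [(201, 1)]), (169, [(204, 1)]), (172, [(210, 1)]), (173, [(211, 1)]), (176, [(214, 1)]), (177, [(215, 1)]), (183, [(218, 1)]), (186, [(219, 1)]), (187, [(220, 1)]), (193, [(223, 1)]), (199, [(224, 1)]), (209, [(225, 1)]), (228, [(236, -1)]), (229, [(237, -1)])])) (.node (.leaf [(8, [(4, 1)]), (9, [(5, 1)]), (21, [(14, -1)]), (36, [(17, -1)]), (37, [(18, -1)]), (38, [(19, -1)]), (39, [(20, -1)]), (56, [(30, -1)]), (57, [(31, -1)]), (58, [(32, -1)]), (59, [(33, -1)]), (60, [(34, -1)]), (61, [(35, -1)]), (71, [(52, -1)]), (72, [(53, -1)]), (73, [(54, -1)]), (74, [(55, -1)]), (77, [(70, -1)]), (105, [(84, -1)]), (106, [(85, -1)]), (107, [(86, -1)]), (108, [(87, -1)]), (110, [(88, 1)]), (111, [(89, 1)]), (112, [(90, 1)]), (113, [(91, 1)]), (135, [(97, 1)]), (136, [(98, -1)]), (141, [(103, 1)]), (142, [(104, -1)]), (148, [(126, -1)]), (149, [(127, -1)]), (150, [(128, -1)]), (151, [(129, -1)]), (152, [(131, 1)]), (153, [(132, 1)]), (154, [(133, 1)]), (155, [(134, 1)]), (169, [(162, 1)]), (184, [(165, 1)]), (185, [(166, 1)]), (186, [(167, 1)]), (187, [(168, 1)]), (204, [(178, 1)]), (205, [(179, 1)]), (206, [(180, 1)]), (207, [(181, 1)]), (208, [(182, 1)]), (209, [(183, 1)]), (219, [(200, 1)]), (220, [(201, 1)]), (221, [(202, 1)]), (222, [(203, 1)]), (225, [(218, 1)]), (234, [(230, -1)]), (235, [(231, -1)])]) (.leaf [(0, [(56, -1)]), (2, [(58, 1)]), (3, [(60, 1)]), (4, [(63, 1)]), (5, [(67, 1)]), (7, [(72, 1)]), (12, [(77, 1)]), (14, [(94, 1)]), (15, [(106, -1)]), (16, [(111, 1)]), (17, [(115, -1)]), (18, [(118, 1)]), (20, [(120, 1)]), (24, [(135, 1)]), (28, [(136, -1)]), (31, [(137, 1)]), (33, [(138, -1)]), (35, [(140, 1)]), (38, [(147, 1)]), (41, [(148, -1)]), (43, [(149, 1)]), (45, [(151, -1)]), (47, [(152, 1)]), (49, [(153, -1)]), (51, [(155, 1)]), (52, [(156, 1)]), (54, [(158, -1)]), (55, [(160, 1)]), (79, [(184, -1)]), (81, [(185, 1)]), (83, [(187, -1)]), (84, [(188, -1)]), (86, [(190, 1)]), (87, [(192, -1)]), (88, [(194, 1)]), (90, [(196, -1)]), (91, [(198, 1)]), (92, [(201, -1)]), (99, [(204, -1)]), (101, [(206, 1)]), (102, [(208, -1)]), (103, [(211, 1)]), (104, [(215, -1)]), (119, [(219, -1)]), (121, [(221, -1)]), (124, [(222, 1)]), (128, [(223, -1)]), (133, [(224, 1)]), (145, [(225, -1)]), (162, [(227, -1)]), (167, [(232, -1)]), (172, [(234, -1)]), (176, [(235, -1)]), (179, [(236, -1)]), (181, [(237, -1)]), (183, [(239, 1)])]))) (.node (.node (.leaf [(17, [(1, 1)]), (19, [(3, -1)]), (31, [(6, -1)]), (41, [(8, -1)]), (47, [(9, -1)]), (52, [(11, 1)]), (54, [(13, -1)]), (79, [(21, -1)]), (84, [(23, 1)]), (86, [(25, -1)]), (88, [(27, 1)]), (90, [(29, -1)]), (92, [(34, 1)]), (99, [(37, 1)]), (101, [(39, -1)]), (103, [(44, 1)]), (104, [(50, 1)]), (114, [(56, -1)]), (116, [(58, 1)]), (119, [(59, 1)]), (121, [(61, 1)]), (126, [(63, 1)]), (128, [(65, -1)]), (131, [(67, 1)]), (133, [(69, -1)]), (143, [(72, 1)]), (145, [(74, -1)]), (157, [(77, 1)]), (162, [(82, -1)]), (165, [(94, 1)]), (167, [(96, -1)]), (170, [(106, 1)]), (172, [(108, -1)]), (174, [(111, 1)]), (176, [(113, -1)]), (178, [(118, -1)]), (180, [(120, -1)]), (181, [(123, -1)]), (183, [(125, 1)]), (189, [(135, -1)]), (195, [(136, -1)]), (200, [(138, 1)]), (202, [(140, -1)]), (205, [(147, -1)]), (210, [(149, 1)]), (212, [(151, -1)]), (214, [(153, 1)]), (216, [(155, -1)]), (218, [(160, 1)]), (226, [(185, 1)]), (228, [(187, -1)]), (230, [(192, 1)]), (231, [(198, 1)]), (233, [(208, 1)]), (236, [(220, 1)]), (238, [(222, -1)])]) (.leaf [(2, [(22, -1)]), (3, [(23, -1)]), (5, [(30, 1)]), (7, [(40, 1)]), (9, [(56, -1)]), (12, [(62, -1)]), (13, [(63, -1)]), (16, [(78, 1)]), (19, [(84, 1)]), (20, [(85, 1)]), (28, [(93, -1)]), (29, [(94, -1)]), (35, [(97, -1)]), (38, [(105, 1)]), (39, [(106, 1)]), (45, [(109, 1)]), (47, [(114, -1)]), (48, [(115, -1)]), (49, [(117, 1)]), (50, [(118, 1)]), (54, [(126, 1)]), (55, [(127, -1)]), (61, [(135, 1)]), (68, [(137, -1)]), (69, [(138, 1)]), (73, [(148, 1)]), (74, [(149, -1)]), (76, [(156, 1)]), (83, [(163, -1)]), (90, [(165, 1)]), (91, [(166, -1)]), (101, [(170, -1)]), (102, [(171, 1)]), (104, [(178, -1)]), (112, [(184, 1)]), (113, [(185, -1)]), (121, [(189, -1)]), (122, [(190, -1)]), (124, [(191, 1)]), (125, [(192, 1)]), (130, [(194, -1)]), (133, [(200, -1)]), (134, [(201, -1)]), (142, [(204, 1)]), (145, [(210, 1)]), (146, [(211, 1)]), (154, [(219, -1)]), (155, [(220, -1)]), (161, [(223, -1)]), (176, [(226, 1)]), (177, [(227, 1)]), (183, [(230, 1)]), (199, [(232, -1)]), (209, [(234, -1)]), (216, [(236, 1)]), (217, [(237, 1)])])) (.node (.leaf [(1, [(3, -1)]), (10, [(12, 1)]), (17, [(19, 1)]), (22, [(24, 1)]), (26, [(28, 1)]), (30, [(33, -1)]), (32, [(35, 1)]), (36, [(38, 1)]), (40, [(43, -1)]), (42, [(45, 1)]), (46, [(49, -1)]), (48, [(51, 1)]), (53, [(55, -1)]), (56, [(59, -1)]), (58, [(61, 1)]), (63, [(65, -1)]), (67, [(69, -1)]), (72, [(74, -1)]), (78, [(81, -1)]), (80, [(83, 1)]), (85, [(87, -1)]), (89, [(91, -1)]), (94, [(96, -1)]), (100, [(102, -1)]), (106, [(108, -1)]), (111, [(113, -1)]), (114, [(119, 1)]), (116, [(121, 1)]), (118, [(123, -1)]), (120, [(125, -1)]), (126, [(128, 1)]), (131, [(133, 1)]), (137, [(139, 1)]), (143, [(145, 1)]), (148, [(150, 1)]), (152, [(154, 1)]), (156, [(159, -1)]), (158, [(161, 1)]), (165, [(167, 1)]), (170, [(172, 1)]), (174, [(176, 1)]), (178, [(181, -1)]), (180, [(183, 1)]), (184, [(186, 1)]), (188, [(191, -1)]), (190, [(193, 1)]), (194, [(197, -1)]), (196, [(199, 1)]), (201, [(203, -1)]), (204, [(207, -1)]), (206, [(209, 1)]), (211, [(213, -1)]), (215, [(217, -1)]), (220, [(222, -1)]), (227, [(229, -1)]), (236, [(238, 1)])]) (.leaf [(1, [(120, 1)]), (2, [(122, 1)]), (3, [(125, 1)]), (4, [(129, 1)]), (5, [(134, 1)]), (6, [(140, 1)]), (7, [(146, 1)]), (8, [(151, -1)]), (9, [(155, 1)]), (10, [(158, -1)]), (11, [(160, 1)]), (12, [(161, -1)]), (14, [(168, 1)]), (15, [(173, -1)]), (16, [(177, 1)]), (17, [(180, -1)]), (18, [(182, 1)]), (19, [(183, -1)]), (21, [(187, -1)]), (22, [(190, 1)]), (23, [(192, -1)]), (24, [(193, 1)]), (26, [(196, -1)]), (27, [(198, 1)]), (28, [(199, -1)]), (30, [(201, -1)]), (31, [(202, 1)]), (33, [(203, -1)]), (36, [(206, 1)]), (37, [(208, -1)]), (38, [(209, 1)]), (40, [(211, 1)]), (41, [(212, -1)]), (43, [(213, 1)]), (46, [(215, -1)]), (47, [(216, 1)]), (49, [(217, -1)]), (52, [(218, 1)]), (56, [(220, 1)]), (57, [(221, -1)]), (59, [(222, 1)]), (62, [(223, -1)]), (66, [(224, 1)]), (71, [(225, -1)]), (78, [(227, 1)]), (79, [(228, -1)]), (81, [(229, 1)]), (84, [(230, -1)]), (88, [(231, 1)]), (93, [(232, -1)]), (99, [(233, -1)]), (105, [(234, -1)]), (110, [(235, -1)]), (114, [(236, -1)]), (117, [(237, -1)]), (119, [(238, -1)])]))))))) (.node (.node (.node (.node (.node (.node (.leaf [(117, [(0, 1)]), (118, [(1, 1)]), (123, [(3, 1)]), (127, [(4, 1)]), (132, [(5, 1)]), (138, [(6, 1)]), (144, [(7, 1)]), (149, [(8, -1)]), (153, [(9, 1)]), (156, [(10, -1)]), (159, [(12, 1)]), (160, [(13, -1)]), (166, [(14, 1)]), (171, [(15, -1)]), (175, [(16, 1)]), (178, [(17, -1)]), (181, [(19, 1)]), (182, [(20, -1)]), (185, [(21, -1)]), (188, [(22, 1)]), (191, [(24, -1)]), (192, [(25, 1)]), (194, [(26, -1)]), (197, [(28, 1)]), (198, [(29, -1)]), (200, [(31, -1)]), (201, [(32, 1)]), (203, [(35, -1)]), (204, [(36, 1)]), (207, [(38, -1)]), (208, [(39, 1)]), (210, [(41, 1)]), (211, [(42, -1)]), (213, [(45, 1)]), (214, [(47, -1)]), (215, [(48, 1)]), (217, [(51, -1)]), (218, [(54, 1)]), (219, [(57, 1)]), (220, [(58, -1)]), (222, [(61, 1)]), (223, [(64, -1)]), (224, [(68, 1)]), (225, [(73, -1)]), (226, [(79, 1)]), (227, [(80, -1)]), (229, [(83, 1)]), (230, [(86, -1)]), (231, [(90, 1)]), (232, [(95, -1)]), (233, [(101, -1)]), (234, [(107, -1)]), (235, [(112, -1)]), (236, [(116, -1)]), (238, [(121, -1)]), (239, [(122, -1)])]) (.leaf [(4, [(5, -1)]), (8, [(9, -1)]), (15, [(16, -1)]), (22, [(26, -1)]), (23, [(27, -1)]), (24, [(28, -1)]), (25, [(29, -1)]), (40, [(46, -1)]), (41, [(47, -1)]), (42, [(48, -1)]), (43, [(49, -1)]), (44, [(50, -1)]), (45, [(51, -1)]), (62, [(66, -1)]), (63, [(67, -1)]), (64, [(68, -1)]), (65, [(69, -1)]), (75, [(76, -1)]), (84, [(88, -1)]), (85, [(89, -1)]), (86, [(90, -1)]), (87, [(91, -1)]), (97, [(98, -1)]), (103, [(104, -1)]), (105, [(110, 1)]), (106, [(111, 1)]), (107, [(112, 1)]), (108, [(113, 1)]), (126, [(131, -1)]), (127, [(132, -1)]), (128, [(133, -1)]), (129, [(134, -1)]), (135, [(136, 1)]), (141, [(142, 1)]), (148, [(152, 1)]), (149, [(153, 1)]), (150, [(154, 1)]), (151, [(155, 1)]), (163, [(164, 1)]), (170, [(174, 1)]), (171, [(175, 1)]), (172, [(176, 1)]), (173, [(177, 1)]), (188, [(194, 1)]), (189, [(195, 1)]), (190, [(196, 1)]), (191, [(197, 1)]), (192, [(198, 1)]), (193, [(199, 1)]), (210, [(214, 1)]), (211, [(215, 1)]), (212, [(216, 1)]), (213, [(217, 1)]), (223, [(224, 1)]), (230, [(231, 1)]), (234, [(235, 1)])])) (.node (.leaf [(15, [(0, 1)]), (20, [(5, 1)]), (25, [(6, 1)]), (39, [(9, -1)]), (42, [(10, -1)]), (44, [(11, -1)]), (45, [(12, -1)]), (80, [(26, 1)]), (82, [(27, 1)]), (83, [(28, 1)]), (85, [(30, 1)]), (86, [(31, 1)]), (87, [(33, 1)]), (100, [(46, -1)]), (101, [(47, -1)]), (102, [(49, -1)]), (103, [(52, -1)]), (106, [(56, 1)]), (107, [(57, 1)]), (108, [(59, 1)]), (109, [(62, 1)]), (120, [(67, 1)]), (122, [(68, 1)]), (125, [(69, 1)]), (129, [(70, 1)]), (141, [(71, 1)]), (146, [(76, -1)]), (151, [(77, 1)]), (162, [(88, -1)]), (163, [(93, 1)]), (168, [(98, -1)]), (169, [(110, -1)]), (170, [(114, -1)]), (171, [(117, -1)]), (172, [(119, -1)]), (177, [(130, -1)]), (180, [(131, -1)]), (182, [(132, -1)]), (183, [(133, -1)]), (187, [(136, 1)]), (190, [(137, 1)]), (192, [(138, 1)]), (193, [(139, 1)]), (206, [(152, -1)]), (208, [(153, -1)]), (209, [(154, -1)]), (211, [(156, -1)]), (212, [(157, -1)]), (213, [(159, -1)]), (227, [(194, 1)]), (228, [(195, 1)]), (229, [(197, 1)]), (230, [(200, 1)]), (233, [(214, -1)]), (234, [(219, -1)]), (239, [(224, -1)])]) (.leaf [(2, [(26, 1)]), (3, [(27, 1)]), (4, [(30, 1)]), (7, [(46, -1)]), (8, [(56, -1)]), (12, [(66, 1)]), (13, [(67, 1)]), (15, [(78, 1)]), (19, [(88, -1)]), (20, [(89, -1)]), (24, [(93, -1)]), (25, [(94, -1)]), (35, [(98, 1)]), (38, [(110, 1)]), (39, [(111, 1)]), (41, [(114, -1)]), (42, [(115, -1)]), (43, [(117, 1)]), (44, [(118, 1)]), (51, [(130, 1)]), (54, [(131, -1)]), (55, [(132, 1)]), (61, [(136, 1)]), (64, [(137, -1)]), (65, [(138, 1)]), (73, [(152, 1)]), (74, [(153, -1)]), (75, [(156, 1)]), (83, [(164, -1)]), (86, [(165, 1)]), (87, [(166, -1)]), (101, [(174, -1)]), (102, [(175, 1)]), (103, [(178, -1)]), (107, [(184, -1)]), (108, [(185, 1)]), (109, [(188, -1)]), (121, [(195, -1)]), (122, [(196, -1)]), (124, [(197, 1)]), (125, [(198, 1)]), (128, [(200, -1)]), (129, [(201, -1)]), (141, [(204, -1)]), (145, [(214, 1)]), (146, [(215, 1)]), (150, [(219, 1)]), (151, [(220, 1)]), (161, [(224, -1)]), (172, [(226, -1)]), (173, [(227, -1)]), (183, [(231, 1)]), (193, [(232, 1)]), (209, [(235, -1)]), (212, [(236, -1)]), (213, [(237, -1)])]))) (.node (.node (.leaf [(36, [(1, -1)]), (38, [(3, 1)]), (41, [(4, 1)]), (47, [(5, 1)]), (57, [(6, 1)]), (71, [(11, -1)]), (73, [(13, 1)]), (79, [(14, -1)]), (99, [(18, 1)]), (101, [(20, -1)]), (105, [(23, -1)]), (107, [(25, 1)]), (110, [(27, 1)]), (112, [(29, -1)]), (114, [(30, -1)]), (116, [(32, 1)]), (119, [(33, 1)]), (121, [(35, 1)]), (141, [(44, 1)]), (142, [(50, -1)]), (143, [(53, 1)]), (145, [(55, -1)]), (147, [(60, 1)]), (148, [(63, -1)]), (150, [(65, 1)]), (152, [(67, 1)]), (154, [(69, -1)]), (157, [(70, 1)]), (169, [(82, -1)]), (170, [(85, 1)]), (172, [(87, -1)]), (174, [(89, -1)]), (176, [(91, 1)]), (179, [(92, -1)]), (184, [(94, 1)]), (186, [(96, -1)]), (189, [(97, 1)]), (195, [(98, -1)]), (204, [(118, -1)]), (206, [(120, -1)]), (207, [(123, -1)]), (209, [(125, 1)]), (210, [(127, 1)]), (212, [(129, -1)]), (214, [(132, -1)]), (216, [(134, 1)]), (219, [(138, 1)]), (221, [(140, -1)]), (225, [(160, 1)]), (226, [(166, -1)]), (228, [(168, 1)]), (233, [(182, -1)]), (234, [(192, -1)]), (235, [(198, -1)]), (236, [(201, -1)]), (238, [(203, 1)])]) (.leaf [(6, [(14, -1)]), (8, [(15, -1)]), (9, [(16, -1)]), (10, [(17, -1)]), (11, [(18, -1)]), (12, [(19, -1)]), (13, [(20, -1)]), (56, [(78, 1)]), (57, [(79, 1)]), (58, [(80, 1)]), (59, [(81, 1)]), (60, [(82, 1)]), (61, [(83, 1)]), (62, [(84, 1)]), (63, [(85, 1)]), (64, [(86, 1)]), (65, [(87, 1)]), (66, [(88, 1)]), (67, [(89, 1)]), (68, [(90, 1)]), (69, [(91, 1)]), (70, [(92, 1)]), (71, [(99, 1)]), (72, [(100, 1)]), (73, [(101, 1)]), (74, [(102, 1)]), (75, [(103, 1)]), (76, [(104, 1)]), (135, [(163, -1)]), (136, [(164, -1)]), (137, [(165, -1)]), (138, [(166, -1)]), (139, [(167, -1)]), (140, [(168, -1)]), (147, [(169, -1)]), (148, [(170, -1)]), (149, [(171, -1)]), (150, [(172, -1)]), (151, [(173, -1)]), (152, [(174, -1)]), (153, [(175, -1)]), (154, [(176, -1)]), (155, [(177, -1)]), (156, [(178, -1)]), (157, [(179, -1)]), (158, [(180, -1)]), (159, [(181, -1)]), (160, [(182, -1)]), (161, [(183, -1)]), (219, [(226, 1)]), (220, [(227, 1)]), (221, [(228, 1)]), (222, [(229, 1)]), (223, [(230, 1)]), (224, [(231, 1)]), (225, [(233, 1)])])) (.node (.leaf [(7, [(5, -1)]), (8, [(6, -1)]), (15, [(14, -1)]), (36, [(26, -1)]), (37, [(27, -1)]), (38, [(28, -1)]), (39, [(29, -1)]), (40, [(30, -1)]), (41, [(31, -1)]), (42, [(32, -1)]), (43, [(33, -1)]), (44, [(34, -1)]), (45, [(35, -1)]), (71, [(66, -1)]), (72, [(67, -1)]), (73, [(68, -1)]), (74, [(69, -1)]), (75, [(70, -1)]), (99, [(88, -1)]), (100, [(89, -1)]), (101, [(90, -1)]), (102, [(91, -1)]), (103, [(92, -1)]), (105, [(93, 1)]), (106, [(94, 1)]), (107, [(95, 1)]), (108, [(96, 1)]), (109, [(97, 1)]), (142, [(130, -1)]), (143, [(131, -1)]), (144, [(132, -1)]), (145, [(133, -1)]), (146, [(134, -1)]), (147, [(136, 1)]), (148, [(137, 1)]), (149, [(138, 1)]), (150, [(139, 1)]), (151, [(140, 1)]), (169, [(164, 1)]), (170, [(165, 1)]), (171, [(166, 1)]), (172, [(167, 1)]), (173, [(168, 1)]), (204, [(194, 1)]), (205, [(195, 1)]), (206, [(196, 1)]), (207, [(197, 1)]), (208, [(198, 1)]), (209, [(199, 1)]), (210, [(200, 1)]), (211, [(201, 1)]), (212, [(202, 1)]), (213, [(203, 1)]), (225, [(224, 1)]), (233, [(231, 1)]), (234, [(232, 1)])]) (.leaf [(1, [(78, -1)]), (2, [(79, -1)]), (3, [(81, -1)]), (4, [(84, -1)]), (5, [(88, -1)]), (6, [(93, -1)]), (7, [(99, -1)]), (8, [(105, 1)]), (9, [(110, -1)]), (10, [(114, 1)]), (11, [(117, -1)]), (12, [(119, 1)]), (20, [(162, 1)]), (25, [(163, -1)]), (29, [(164, 1)]), (32, [(165, -1)]), (34, [(166, 1)]), (35, [(167, -1)]), (39, [(169, -1)]), (42, [(170, 1)]), (44, [(171, -1)]), (45, [(172, 1)]), (48, [(174, -1)]), (50, [(175, 1)]), (51, [(176, -1)]), (53, [(178, -1)]), (54, [(179, 1)]), (55, [(181, -1)]), (58, [(184, 1)]), (60, [(185, -1)]), (61, [(186, 1)]), (63, [(188, 1)]), (64, [(189, -1)]), (65, [(191, 1)]), (67, [(194, -1)]), (68, [(195, 1)]), (69, [(197, -1)]), (70, [(200, 1)]), (72, [(204, 1)]), (73, [(205, -1)]), (74, [(207, 1)]), (75, [(210, -1)]), (76, [(214, 1)]), (77, [(219, -1)]), (120, [(227, -1)]), (122, [(228, 1)]), (125, [(229, -1)]), (129, [(230, 1)]), (134, [(231, -1)]), (140, [(232, 1)]), (146, [(233, 1)]), (151, [(234, 1)]), (155, [(235, 1)]), (158, [(236, 1)]), (160, [(237, 1)]), (161, [(238, 1)])])))) (.node (.node (.node (.leaf [(57, [(0, 1)]), (58, [(1, 1)]), (61, [(3, -1)]), (64, [(4, -1)]), (68, [(5, -1)]), (73, [(7, -1)]), (77, [(11, 1)]), (95, [(14, -1)]), (107, [(15, 1)]), (112, [(16, -1)]), (116, [(17, 1)]), (121, [(19, 1)]), (122, [(20, -1)]), (135, [(23, 1)]), (136, [(27, -1)]), (137, [(30, 1)]), (139, [(33, -1)]), (140, [(34, 1)]), (147, [(37, 1)]), (148, [(40, -1)]), (150, [(43, 1)]), (151, [(44, -1)]), (152, [(46, 1)]), (154, [(49, -1)]), (155, [(50, 1)]), (157, [(52, 1)]), (158, [(53, -1)]), (161, [(55, 1)]), (184, [(78, -1)]), (186, [(81, 1)]), (187, [(82, -1)]), (189, [(84, -1)]), (190, [(85, 1)]), (193, [(87, -1)]), (195, [(88, 1)]), (196, [(89, -1)]), (199, [(91, 1)]), (202, [(92, -1)]), (205, [(99, -1)]), (206, [(100, 1)]), (209, [(102, -1)]), (212, [(103, 1)]), (216, [(104, -1)]), (219, [(117, 1)]), (220, [(118, -1)]), (222, [(123, -1)]), (223, [(127, 1)]), (224, [(132, -1)]), (225, [(144, 1)]), (228, [(162, -1)]), (232, [(166, 1)]), (234, [(171, 1)]), (235, [(175, 1)]), (236, [(178, 1)]), (238, [(181, -1)]), (239, [(182, -1)])]) (.leaf [(0, [(7, -1)]), (6, [(13, 1)]), (14, [(20, 1)]), (21, [(39, 1)]), (22, [(42, 1)]), (23, [(44, 1)]), (24, [(45, 1)]), (26, [(48, 1)]), (27, [(50, 1)]), (28, [(51, 1)]), (30, [(53, 1)]), (31, [(54, 1)]), (33, [(55, 1)]), (56, [(72, 1)]), (57, [(73, 1)]), (59, [(74, 1)]), (62, [(75, 1)]), (66, [(76, 1)]), (78, [(100, 1)]), (79, [(101, 1)]), (81, [(102, 1)]), (84, [(103, 1)]), (88, [(104, 1)]), (94, [(120, 1)]), (95, [(122, 1)]), (96, [(125, 1)]), (97, [(129, 1)]), (98, [(134, 1)]), (105, [(141, -1)]), (110, [(142, -1)]), (114, [(143, -1)]), (117, [(144, -1)]), (119, [(145, -1)]), (135, [(151, -1)]), (136, [(155, -1)]), (137, [(158, -1)]), (138, [(160, -1)]), (139, [(161, -1)]), (163, [(173, -1)]), (164, [(177, -1)]), (165, [(180, -1)]), (166, [(182, -1)]), (167, [(183, -1)]), (184, [(206, -1)]), (185, [(208, -1)]), (186, [(209, -1)]), (188, [(211, -1)]), (189, [(212, -1)]), (191, [(213, -1)]), (194, [(215, -1)]), (195, [(216, -1)]), (197, [(217, -1)]), (200, [(218, -1)]), (219, [(225, -1)]), (226, [(233, -1)]), (232, [(239, 1)])])) (.node (.leaf [(10, [(1, 1)]), (12, [(3, -1)]), (31, [(14, 1)]), (41, [(15, 1)]), (47, [(16, 1)]), (52, [(18, -1)]), (54, [(20, 1)]), (57, [(21, 1)]), (62, [(23, -1)]), (64, [(25, 1)]), (66, [(27, -1)]), (68, [(29, 1)]), (70, [(34, -1)]), (71, [(37, -1)]), (73, [(39, 1)]), (75, [(44, -1)]), (76, [(50, -1)]), (77, [(60, -1)]), (114, [(78, -1)]), (116, [(80, 1)]), (119, [(81, 1)]), (121, [(83, 1)]), (126, [(85, 1)]), (128, [(87, -1)]), (131, [(89, 1)]), (133, [(91, -1)]), (137, [(94, 1)]), (139, [(96, -1)]), (143, [(100, 1)]), (145, [(102, -1)]), (148, [(106, 1)]), (150, [(108, -1)]), (152, [(111, 1)]), (154, [(113, -1)]), (156, [(118, -1)]), (158, [(120, -1)]), (159, [(123, -1)]), (161, [(125, 1)]), (179, [(162, 1)]), (189, [(163, 1)]), (195, [(164, 1)]), (200, [(166, -1)]), (202, [(168, 1)]), (205, [(169, 1)]), (210, [(171, -1)]), (212, [(173, 1)]), (214, [(175, -1)]), (216, [(177, 1)]), (218, [(182, -1)]), (219, [(185, -1)]), (221, [(187, 1)]), (223, [(192, -1)]), (224, [(198, -1)]), (225, [(208, -1)]), (236, [(227, 1)]), (238, [(229, -1)])]) (.leaf [(1, [(40, -1)]), (2, [(41, -1)]), (3, [(43, -1)]), (5, [(52, 1)]), (6, [(62, 1)]), (9, [(71, -1)]), (13, [(75, 1)]), (14, [(84, -1)]), (16, [(99, 1)]), (20, [(103, -1)]), (21, [(105, -1)]), (25, [(109, 1)]), (26, [(114, 1)]), (27, [(117, -1)]), (28, [(119, 1)]), (32, [(126, 1)]), (34, [(127, -1)]), (35, [(128, 1)]), (39, [(141, 1)]), (48, [(143, -1)]), (50, [(144, 1)]), (51, [(145, -1)]), (58, [(148, 1)]), (60, [(149, -1)]), (61, [(150, 1)]), (67, [(156, 1)]), (68, [(157, -1)]), (69, [(159, 1)]), (80, [(170, -1)]), (82, [(171, 1)]), (83, [(172, -1)]), (89, [(178, -1)]), (90, [(179, 1)]), (91, [(181, -1)]), (94, [(188, 1)]), (95, [(189, -1)]), (96, [(191, 1)]), (98, [(200, -1)]), (111, [(204, -1)]), (112, [(205, 1)]), (113, [(207, -1)]), (120, [(211, -1)]), (122, [(212, 1)]), (125, [(213, -1)]), (130, [(214, -1)]), (134, [(218, 1)]), (136, [(219, 1)]), (140, [(223, -1)]), (155, [(225, 1)]), (164, [(226, -1)]), (168, [(230, 1)]), (177, [(233, -1)]), (187, [(234, -1)]), (196, [(236, 1)]), (198, [(237, 1)]), (199, [(238, 1)])]))) (.node (.node (.leaf [(22, [(1, -1)]), (24, [(3, 1)]), (31, [(5, -1)]), (41, [(7, -1)]), (57, [(9, 1)]), (62, [(11, -1)]), (64, [(13, 1)]), (79, [(16, -1)]), (84, [(18, 1)]), (86, [(20, -1)]), (93, [(27, -1)]), (95, [(29, 1)]), (97, [(34, -1)]), (105, [(37, 1)]), (107, [(39, -1)]), (109, [(44, 1)]), (114, [(46, -1)]), (116, [(48, 1)]), (119, [(49, 1)]), (121, [(51, 1)]), (126, [(53, 1)]), (128, [(55, -1)]), (135, [(60, 1)]), (137, [(67, -1)]), (139, [(69, 1)]), (148, [(72, 1)]), (150, [(74, -1)]), (157, [(76, 1)]), (163, [(82, -1)]), (165, [(89, 1)]), (167, [(91, -1)]), (170, [(100, -1)]), (172, [(102, 1)]), (179, [(104, -1)]), (184, [(111, 1)]), (186, [(113, -1)]), (188, [(118, -1)]), (190, [(120, -1)]), (191, [(123, -1)]), (193, [(125, 1)]), (195, [(130, -1)]), (200, [(132, 1)]), (202, [(134, -1)]), (205, [(142, 1)]), (210, [(144, -1)]), (212, [(146, 1)]), (219, [(153, 1)]), (221, [(155, -1)]), (223, [(160, 1)]), (226, [(175, -1)]), (228, [(177, 1)]), (230, [(182, -1)]), (232, [(198, 1)]), (234, [(208, 1)]), (236, [(215, -1)]), (238, [(217, 1)])]) (.leaf [(2, [(17, 1)]), (3, [(18, 1)]), (6, [(30, 1)]), (8, [(40, 1)]), (9, [(46, 1)]), (12, [(52, 1)]), (13, [(53, 1)]), (21, [(78, 1)]), (24, [(84, 1)]), (25, [(85, 1)]), (28, [(88, 1)]), (29, [(89, 1)]), (35, [(92, 1)]), (38, [(99, 1)]), (39, [(100, 1)]), (45, [(103, 1)]), (51, [(104, 1)]), (57, [(114, -1)]), (58, [(115, -1)]), (59, [(117, 1)]), (60, [(118, 1)]), (64, [(126, 1)]), (65, [(127, -1)]), (68, [(131, 1)]), (69, [(132, -1)]), (73, [(143, 1)]), (74, [(144, -1)]), (77, [(156, 1)]), (83, [(162, -1)]), (95, [(165, 1)]), (96, [(166, -1)]), (107, [(170, 1)]), (108, [(171, -1)]), (112, [(174, 1)]), (113, [(175, -1)]), (121, [(179, -1)]), (122, [(180, -1)]), (124, [(181, 1)]), (125, [(182, 1)]), (135, [(188, -1)]), (136, [(194, -1)]), (139, [(200, -1)]), (140, [(201, -1)]), (147, [(204, -1)]), (150, [(210, -1)]), (151, [(211, -1)]), (154, [(214, -1)]), (155, [(215, -1)]), (161, [(218, -1)]), (186, [(226, -1)]), (187, [(227, -1)]), (193, [(230, -1)]), (199, [(231, -1)]), (209, [(233, -1)]), (221, [(236, -1)]), (222, [(237, -1)])])) (.node (.leaf [(3, [(0, -1)]), (13, [(10, -1)]), (20, [(17, -1)]), (25, [(22, -1)]), (29, [(26, -1)]), (34, [(30, 1)]), (35, [(31, 1)]), (39, [(36, -1)]), (44, [(40, 1)]), (45, [(41, 1)]), (50, [(46, 1)]), (51, [(47, 1)]), (55, [(52, -1)]), (60, [(56, 1)]), (61, [(57, 1)]), (65, [(62, -1)]), (69, [(66, -1)]), (74, [(71, -1)]), (82, [(78, 1)]), (83, [(79, 1)]), (87, [(84, -1)]), (91, [(88, -1)]), (96, [(93, -1)]), (102, [(99, -1)]), (108, [(105, -1)]), (113, [(110, -1)]), (120, [(115, 1)]), (122, [(116, 1)]), (123, [(117, -1)]), (124, [(119, -1)]), (129, [(126, 1)]), (134, [(131, 1)]), (140, [(137, 1)]), (146, [(143, 1)]), (151, [(148, 1)]), (155, [(152, 1)]), (160, [(156, -1)]), (161, [(157, -1)]), (168, [(165, 1)]), (173, [(170, 1)]), (177, [(174, 1)]), (182, [(178, -1)]), (183, [(179, -1)]), (187, [(184, 1)]), (192, [(188, -1)]), (193, [(189, -1)]), (198, [(194, -1)]), (199, [(195, -1)]), (203, [(200, 1)]), (208, [(204, -1)]), (209, [(205, -1)]), (213, [(210, 1)]), (217, [(214, 1)]), (222, [(219, 1)]), (229, [(226, 1)]), (239, [(236, 1)])]) (.leaf [(1, [(120, 1)]), (2, [(122, 1)]), (3, [(125, 1)]), (4, [(129, 1)]), (5, [(134, 1)]), (6, [(140, 1)]), (7, [(146, 1)]), (8, [(151, -1)]), (9, [(155, 1)]), (10, [(158, -1)]), (11, [(160, 1)]), (12, [(161, -1)]), (14, [(168, 1)]), (15, [(173, -1)]), (16, [(177, 1)]), (17, [(180, -1)]), (18, [(182, 1)]), (19, [(183, -1)]), (21, [(187, -1)]), (22, [(190, 1)]), (23, [(192, -1)]), (24, [(193, 1)]), (26, [(196, -1)]), (27, [(198, 1)]), (28, [(199, -1)]), (30, [(201, -1)]), (31, [(202, 1)]), (33, [(203, -1)]), (36, [(206, 1)]), (37, [(208, -1)]), (38, [(209, 1)]), (40, [(211, 1)]), (41, [(212, -1)]), (43, [(213, 1)]), (46, [(215, -1)]), (47, [(216, 1)]), (49, [(217, -1)]), (52, [(218, 1)]), (56, [(220, 1)]), (57, [(221, -1)]), (59, [(222, 1)]), (62, [(223, -1)]), (66, [(224, 1)]), (71, [(225, -1)]), (78, [(227, 1)]), (79, [(228, -1)]), (81, [(229, 1)]), (84, [(230, -1)]), (88, [(231, 1)]), (93, [(232, -1)]), (99, [(233, -1)]), (105, [(234, -1)]), (110, [(235, -1)]), (114, [(236, -1)]), (117, [(237, -1)]), (119, [(238, -1)])]))))) (.node (.node (.node (.node (.leaf [(81, [(0, -1)]), (82, [(1, -1)]), (83, [(2, -1)]), (87, [(4, 1)]), (91, [(5, 1)]), (96, [(6, 1)]), (102, [(7, 1)]), (108, [(8, -1)]), (113, [(9, 1)]), (123, [(11, 1)]), (124, [(12, -1)]), (125, [(13, 1)]), (162, [(17, 1)]), (163, [(22, -1)]), (164, [(26, 1)]), (166, [(30, -1)]), (167, [(31, 1)]), (168, [(32, -1)]), (169, [(36, -1)]), (171, [(40, 1)]), (172, [(41, -1)]), (173, [(42, 1)]), (175, [(46, -1)]), (176, [(47, 1)]), (177, [(48, -1)]), (181, [(52, -1)]), (182, [(53, 1)]), (183, [(54, -1)]), (185, [(56, 1)]), (186, [(57, -1)]), (187, [(58, 1)]), (191, [(62, 1)]), (192, [(63, -1)]), (193, [(64, 1)]), (197, [(66, -1)]), (198, [(67, 1)]), (199, [(68, -1)]), (203, [(70, 1)]), (207, [(71, 1)]), (208, [(72, -1)]), (209, [(73, 1)]), (213, [(75, -1)]), (217, [(76, 1)]), (222, [(77, -1)]), (226, [(114, -1)]), (227, [(115, 1)]), (228, [(116, -1)]), (230, [(126, -1)]), (231, [(131, 1)]), (232, [(137, -1)]), (233, [(143, -1)]), (234, [(148, -1)]), (235, [(152, -1)]), (237, [(156, 1)]), (238, [(157, 1)]), (239, [(158, 1)])]) (.leaf [(2, [(6, -1)]), (7, [(11, 1)]), (15, [(23, -1)]), (16, [(27, -1)]), (17, [(30, -1)]), (19, [(33, 1)]), (20, [(34, 1)]), (36, [(56, -1)]), (38, [(59, 1)]), (39, [(60, 1)]), (41, [(62, 1)]), (42, [(63, 1)]), (45, [(65, -1)]), (47, [(66, 1)]), (48, [(67, 1)]), (51, [(69, -1)]), (54, [(70, -1)]), (73, [(77, -1)]), (79, [(93, -1)]), (80, [(94, -1)]), (83, [(96, 1)]), (86, [(97, 1)]), (90, [(98, 1)]), (99, [(117, 1)]), (100, [(118, 1)]), (102, [(123, 1)]), (103, [(127, 1)]), (104, [(132, 1)]), (107, [(135, -1)]), (112, [(136, -1)]), (116, [(137, -1)]), (121, [(139, -1)]), (122, [(140, -1)]), (141, [(149, -1)]), (142, [(153, -1)]), (143, [(156, -1)]), (145, [(159, 1)]), (146, [(160, 1)]), (162, [(166, 1)]), (169, [(185, 1)]), (170, [(188, 1)]), (172, [(191, -1)]), (173, [(192, -1)]), (174, [(194, 1)]), (176, [(197, -1)]), (177, [(198, -1)]), (179, [(200, -1)]), (180, [(201, -1)]), (183, [(203, 1)]), (205, [(219, -1)]), (206, [(220, -1)]), (209, [(222, 1)]), (212, [(223, 1)]), (216, [(224, 1)]), (228, [(232, -1)]), (233, [(237, 1)])])) (.node (.leaf [(14, [(3, -1)]), (17, [(7, -1)]), (22, [(8, -1)]), (26, [(9, -1)]), (30, [(11, 1)]), (31, [(12, 1)]), (32, [(13, 1)]), (78, [(37, 1)]), (79, [(38, 1)]), (80, [(39, 1)]), (84, [(43, -1)]), (85, [(44, -1)]), (86, [(45, -1)]), (88, [(49, -1)]), (89, [(50, -1)]), (90, [(51, -1)]), (92, [(55, 1)]), (93, [(59, -1)]), (94, [(60, -1)]), (95, [(61, -1)]), (97, [(65, 1)]), (98, [(69, 1)]), (114, [(71, 1)]), (115, [(72, 1)]), (116, [(73, 1)]), (126, [(75, 1)]), (131, [(76, 1)]), (137, [(77, 1)]), (162, [(102, -1)]), (163, [(108, -1)]), (164, [(113, -1)]), (166, [(123, -1)]), (167, [(124, -1)]), (168, [(125, -1)]), (170, [(141, -1)]), (174, [(142, -1)]), (178, [(144, 1)]), (179, [(145, 1)]), (180, [(146, 1)]), (184, [(147, -1)]), (188, [(149, 1)]), (189, [(150, 1)]), (190, [(151, 1)]), (194, [(153, 1)]), (195, [(154, 1)]), (196, [(155, 1)]), (200, [(159, -1)]), (201, [(160, -1)]), (202, [(161, -1)]), (226, [(207, -1)]), (227, [(208, -1)]), (228, [(209, -1)]), (230, [(213, 1)]), (231, [(217, 1)]), (232, [(222, 1)]), (236, [(225, 1)])]) (.leaf [(0, [(31, -1)]), (1, [(32, -1)]), (3, [(35, 1)]), (7, [(54, 1)]), (8, [(64, 1)]), (9, [(68, 1)]), (11, [(70, -1)]), (15, [(86, -1)]), (16, [(90, -1)]), (18, [(92, 1)]), (21, [(95, -1)]), (23, [(97, 1)]), (27, [(98, 1)]), (36, [(116, 1)]), (38, [(121, 1)]), (39, [(122, -1)]), (40, [(126, 1)]), (43, [(128, -1)]), (44, [(129, 1)]), (46, [(131, 1)]), (49, [(133, -1)]), (50, [(134, 1)]), (56, [(137, 1)]), (59, [(139, -1)]), (60, [(140, 1)]), (71, [(157, 1)]), (72, [(158, -1)]), (74, [(161, 1)]), (78, [(165, -1)]), (81, [(167, 1)]), (82, [(168, -1)]), (99, [(179, -1)]), (100, [(180, 1)]), (102, [(183, -1)]), (105, [(189, -1)]), (106, [(190, 1)]), (108, [(193, -1)]), (110, [(195, -1)]), (111, [(196, 1)]), (113, [(199, -1)]), (117, [(200, 1)]), (118, [(201, -1)]), (123, [(203, -1)]), (141, [(212, -1)]), (142, [(216, -1)]), (144, [(218, 1)]), (147, [(221, -1)]), (149, [(223, 1)]), (153, [(224, 1)]), (169, [(228, 1)]), (171, [(230, -1)]), (175, [(231, -1)]), (185, [(232, -1)]), (204, [(236, -1)]), (207, [(238, 1)]), (208, [(239, 1)])]))) (.node (.node (.leaf [(27, [(1, -1)]), (28, [(2, -1)]), (33, [(4, 1)]), (49, [(7, -1)]), (59, [(8, -1)]), (66, [(10, 1)]), (69, [(13, 1)]), (81, [(15, 1)]), (88, [(17, -1)]), (91, [(20, -1)]), (93, [(22, -1)]), (96, [(25, -1)]), (98, [(32, 1)]), (110, [(36, 1)]), (113, [(39, 1)]), (117, [(40, -1)]), (119, [(41, 1)]), (123, [(44, 1)]), (124, [(45, -1)]), (130, [(48, 1)]), (132, [(53, -1)]), (133, [(54, 1)]), (136, [(58, 1)]), (138, [(63, -1)]), (139, [(64, 1)]), (153, [(72, 1)]), (154, [(73, -1)]), (159, [(75, 1)]), (164, [(80, -1)]), (166, [(85, 1)]), (167, [(86, -1)]), (175, [(100, -1)]), (176, [(101, 1)]), (181, [(103, -1)]), (185, [(106, -1)]), (186, [(107, 1)]), (191, [(109, -1)]), (194, [(115, 1)]), (195, [(116, -1)]), (198, [(120, -1)]), (199, [(122, 1)]), (200, [(126, -1)]), (203, [(129, -1)]), (207, [(141, -1)]), (214, [(143, 1)]), (217, [(146, 1)]), (219, [(148, 1)]), (222, [(151, 1)]), (224, [(158, -1)]), (226, [(170, -1)]), (229, [(173, -1)]), (231, [(180, 1)]), (232, [(190, 1)]), (235, [(206, -1)]), (237, [(211, 1)]), (238, [(212, 1)])]) (.leaf [(3, [(15, 1)]), (5, [(17, -1)]), (6, [(22, -1)]), (9, [(36, 1)]), (11, [(40, -1)]), (12, [(41, -1)]), (13, [(42, -1)]), (27, [(78, 1)]), (28, [(79, 1)]), (29, [(80, 1)]), (33, [(84, -1)]), (34, [(85, -1)]), (35, [(86, -1)]), (49, [(99, 1)]), (50, [(100, 1)]), (51, [(101, 1)]), (55, [(103, -1)]), (59, [(105, -1)]), (60, [(106, -1)]), (61, [(107, -1)]), (65, [(109, 1)]), (66, [(114, 1)]), (67, [(115, 1)]), (68, [(116, 1)]), (70, [(126, 1)]), (74, [(141, 1)]), (76, [(143, -1)]), (77, [(148, 1)]), (91, [(162, -1)]), (96, [(163, 1)]), (98, [(165, -1)]), (113, [(169, -1)]), (123, [(171, -1)]), (124, [(172, -1)]), (125, [(173, -1)]), (130, [(174, -1)]), (132, [(178, 1)]), (133, [(179, 1)]), (134, [(180, 1)]), (136, [(184, 1)]), (138, [(188, -1)]), (139, [(189, -1)]), (140, [(190, -1)]), (153, [(204, 1)]), (154, [(205, 1)]), (155, [(206, 1)]), (159, [(210, -1)]), (160, [(211, -1)]), (161, [(212, -1)]), (197, [(226, 1)]), (198, [(227, 1)]), (199, [(228, 1)]), (203, [(230, -1)]), (217, [(233, 1)]), (222, [(234, 1)]), (224, [(236, -1)])])) (.node (.leaf [(5, [(1, -1)]), (12, [(8, 1)]), (19, [(15, 1)]), (28, [(21, -1)]), (31, [(22, -1)]), (33, [(23, -1)]), (35, [(25, 1)]), (47, [(36, 1)]), (49, [(37, 1)]), (51, [(39, -1)]), (52, [(40, 1)]), (54, [(42, -1)]), (55, [(44, -1)]), (66, [(56, -1)]), (68, [(58, 1)]), (69, [(60, 1)]), (70, [(63, 1)]), (76, [(72, -1)]), (88, [(78, -1)]), (90, [(80, 1)]), (91, [(82, 1)]), (92, [(85, 1)]), (98, [(94, -1)]), (104, [(100, -1)]), (119, [(105, 1)]), (121, [(107, 1)]), (124, [(108, 1)]), (128, [(109, 1)]), (130, [(111, -1)]), (131, [(115, -1)]), (132, [(118, -1)]), (134, [(120, -1)]), (139, [(135, 1)]), (145, [(141, 1)]), (154, [(147, -1)]), (157, [(148, -1)]), (159, [(149, -1)]), (161, [(151, 1)]), (167, [(163, 1)]), (176, [(169, -1)]), (179, [(170, -1)]), (181, [(171, -1)]), (183, [(173, 1)]), (195, [(184, 1)]), (197, [(185, 1)]), (199, [(187, -1)]), (200, [(188, 1)]), (202, [(190, -1)]), (203, [(192, -1)]), (214, [(204, -1)]), (216, [(206, 1)]), (217, [(208, 1)]), (218, [(211, 1)]), (224, [(220, -1)]), (231, [(227, -1)]), (238, [(234, 1)])]) (.leaf [(0, [(105, 1)]), (1, [(106, 1)]), (2, [(107, 1)]), (3, [(108, 1)]), (4, [(109, 1)]), (6, [(135, 1)]), (7, [(141, 1)]), (9, [(147, -1)]), (10, [(148, 1)]), (11, [(149, -1)]), (12, [(150, 1)]), (13, [(151, -1)]), (14, [(163, 1)]), (16, [(169, -1)]), (17, [(170, 1)]), (18, [(171, -1)]), (19, [(172, 1)]), (20, [(173, -1)]), (26, [(184, -1)]), (27, [(185, 1)]), (28, [(186, -1)]), (29, [(187, 1)]), (30, [(188, -1)]), (31, [(189, 1)]), (32, [(190, -1)]), (33, [(191, -1)]), (34, [(192, 1)]), (35, [(193, -1)]), (46, [(204, 1)]), (47, [(205, -1)]), (48, [(206, 1)]), (49, [(207, 1)]), (50, [(208, -1)]), (51, [(209, 1)]), (52, [(210, -1)]), (53, [(211, 1)]), (54, [(212, -1)]), (55, [(213, 1)]), (66, [(219, 1)]), (67, [(220, -1)]), (68, [(221, 1)]), (69, [(222, -1)]), (70, [(223, 1)]), (76, [(225, -1)]), (88, [(226, 1)]), (89, [(227, -1)]), (90, [(228, 1)]), (91, [(229, -1)]), (92, [(230, 1)]), (98, [(232, -1)]), (104, [(233, -1)]), (130, [(235, -1)]), (131, [(236, -1)]), (132, [(237, -1)]), (133, [(238, -1)]), (134, [(239, -1)])])))) (.node (.node (.node (.leaf [(43, [(0, -1)]), (44, [(1, -1)]), (45, [(2, -1)]), (55, [(5, -1)]), (65, [(6, -1)]), (74, [(9, 1)]), (75, [(10, 1)]), (87, [(14, 1)]), (102, [(16, -1)]), (103, [(17, -1)]), (108, [(21, 1)]), (109, [(22, 1)]), (123, [(27, 1)]), (124, [(28, -1)]), (125, [(29, 1)]), (127, [(30, 1)]), (128, [(31, -1)]), (129, [(32, 1)]), (141, [(36, 1)]), (144, [(46, -1)]), (145, [(47, 1)]), (146, [(48, -1)]), (149, [(56, 1)]), (150, [(57, -1)]), (151, [(58, 1)]), (159, [(66, 1)]), (160, [(67, -1)]), (161, [(68, 1)]), (171, [(78, -1)]), (172, [(79, 1)]), (173, [(80, -1)]), (181, [(88, -1)]), (182, [(89, 1)]), (183, [(90, -1)]), (191, [(93, 1)]), (192, [(94, -1)]), (193, [(95, 1)]), (203, [(98, -1)]), (207, [(110, -1)]), (208, [(111, 1)]), (209, [(112, -1)]), (210, [(114, -1)]), (211, [(115, 1)]), (212, [(116, -1)]), (217, [(130, -1)]), (218, [(131, -1)]), (222, [(136, 1)]), (223, [(137, 1)]), (225, [(152, -1)]), (229, [(164, -1)]), (230, [(165, -1)]), (233, [(174, 1)]), (234, [(184, 1)]), (237, [(194, 1)]), (238, [(195, 1)]), (239, [(196, 1)])]) (.leaf [(1, [(9, -1)]), (4, [(12, -1)]), (14, [(28, -1)]), (15, [(38, -1)]), (17, [(47, 1)]), (18, [(49, 1)]), (20, [(51, -1)]), (22, [(57, 1)]), (23, [(59, 1)]), (25, [(61, -1)]), (30, [(66, -1)]), (32, [(68, 1)]), (34, [(69, 1)]), (40, [(71, -1)]), (42, [(73, 1)]), (44, [(74, 1)]), (53, [(76, -1)]), (63, [(77, -1)]), (78, [(110, -1)]), (80, [(112, 1)]), (82, [(113, 1)]), (84, [(119, 1)]), (86, [(121, 1)]), (87, [(124, 1)]), (89, [(130, 1)]), (92, [(133, -1)]), (94, [(136, 1)]), (97, [(139, -1)]), (100, [(142, 1)]), (103, [(145, -1)]), (106, [(147, 1)]), (109, [(150, -1)]), (115, [(152, -1)]), (118, [(153, -1)]), (120, [(155, -1)]), (126, [(157, -1)]), (127, [(159, -1)]), (129, [(161, 1)]), (162, [(176, 1)]), (163, [(186, 1)]), (165, [(195, -1)]), (166, [(197, -1)]), (168, [(199, 1)]), (170, [(205, -1)]), (171, [(207, -1)]), (173, [(209, 1)]), (178, [(214, 1)]), (180, [(216, -1)]), (182, [(217, -1)]), (188, [(219, 1)]), (190, [(221, -1)]), (192, [(222, -1)]), (201, [(224, 1)]), (211, [(225, 1)]), (227, [(235, 1)]), (230, [(238, 1)])])) (.node (.leaf [(8, [(2, 1)]), (11, [(5, 1)]), (23, [(14, -1)]), (37, [(16, 1)]), (40, [(17, 1)]), (43, [(19, -1)]), (44, [(20, -1)]), (56, [(26, -1)]), (59, [(28, 1)]), (60, [(29, 1)]), (62, [(31, 1)]), (63, [(32, 1)]), (65, [(35, -1)]), (71, [(47, -1)]), (72, [(48, -1)]), (74, [(51, 1)]), (75, [(54, 1)]), (77, [(68, -1)]), (105, [(79, -1)]), (106, [(80, -1)]), (108, [(83, 1)]), (109, [(86, 1)]), (117, [(88, 1)]), (118, [(89, 1)]), (123, [(91, 1)]), (127, [(92, 1)]), (135, [(95, 1)]), (138, [(98, -1)]), (141, [(101, 1)]), (144, [(104, -1)]), (147, [(112, -1)]), (148, [(116, -1)]), (150, [(121, -1)]), (151, [(122, -1)]), (153, [(130, -1)]), (156, [(131, -1)]), (159, [(133, 1)]), (160, [(134, 1)]), (171, [(162, 1)]), (185, [(164, -1)]), (188, [(165, -1)]), (191, [(167, 1)]), (192, [(168, 1)]), (204, [(174, 1)]), (207, [(176, -1)]), (208, [(177, -1)]), (210, [(179, -1)]), (211, [(180, -1)]), (213, [(183, 1)]), (219, [(195, 1)]), (220, [(196, 1)]), (222, [(199, -1)]), (223, [(202, -1)]), (225, [(216, 1)]), (234, [(228, -1)]), (237, [(231, -1)])]) (.leaf [(0, [(52, -1)]), (1, [(53, -1)]), (2, [(54, -1)]), (3, [(55, -1)]), (6, [(70, -1)]), (8, [(75, -1)]), (9, [(76, -1)]), (14, [(92, 1)]), (15, [(103, 1)]), (16, [(104, 1)]), (22, [(126, 1)]), (23, [(127, -1)]), (24, [(128, 1)]), (25, [(129, -1)]), (26, [(131, 1)]), (27, [(132, -1)]), (28, [(133, 1)]), (29, [(134, -1)]), (36, [(143, 1)]), (37, [(144, -1)]), (38, [(145, 1)]), (39, [(146, -1)]), (56, [(156, 1)]), (57, [(157, -1)]), (58, [(158, 1)]), (59, [(159, 1)]), (60, [(160, -1)]), (61, [(161, 1)]), (78, [(178, -1)]), (79, [(179, 1)]), (80, [(180, -1)]), (81, [(181, -1)]), (82, [(182, 1)]), (83, [(183, -1)]), (93, [(200, 1)]), (94, [(201, -1)]), (95, [(202, 1)]), (96, [(203, -1)]), (105, [(210, 1)]), (106, [(211, -1)]), (107, [(212, 1)]), (108, [(213, -1)]), (110, [(214, 1)]), (111, [(215, -1)]), (112, [(216, 1)]), (113, [(217, -1)]), (135, [(223, -1)]), (136, [(224, -1)]), (147, [(225, -1)]), (163, [(230, 1)]), (164, [(231, 1)]), (169, [(233, 1)]), (184, [(236, 1)]), (185, [(237, 1)]), (186, [(238, 1)]), (187, [(239, 1)])]))) (.node (.node (.leaf [(18, [(1, -1)]), (19, [(2, -1)]), (33, [(6, 1)]), (43, [(8, 1)]), (49, [(9, 1)]), (52, [(10, 1)]), (55, [(13, 1)]), (81, [(21, 1)]), (84, [(22, 1)]), (87, [(25, 1)]), (88, [(26, 1)]), (91, [(29, 1)]), (92, [(32, 1)]), (99, [(36, 1)]), (102, [(39, 1)]), (103, [(42, 1)]), (104, [(48, 1)]), (117, [(56, -1)]), (119, [(57, 1)]), (123, [(60, 1)]), (124, [(61, -1)]), (127, [(63, 1)]), (128, [(64, -1)]), (132, [(67, 1)]), (133, [(68, -1)]), (144, [(72, 1)]), (145, [(73, -1)]), (159, [(77, 1)]), (162, [(80, -1)]), (166, [(94, 1)]), (167, [(95, -1)]), (171, [(106, 1)]), (172, [(107, -1)]), (175, [(111, 1)]), (176, [(112, -1)]), (178, [(115, 1)]), (179, [(116, -1)]), (182, [(120, -1)]), (183, [(122, 1)]), (191, [(135, -1)]), (197, [(136, -1)]), (200, [(137, -1)]), (203, [(140, -1)]), (207, [(147, -1)]), (210, [(148, -1)]), (213, [(151, -1)]), (214, [(152, -1)]), (217, [(155, -1)]), (218, [(158, -1)]), (226, [(184, -1)]), (229, [(187, -1)]), (230, [(190, -1)]), (231, [(196, -1)]), (233, [(206, -1)]), (237, [(220, 1)]), (238, [(221, 1)])]) (.leaf [(1, [(21, 1)]), (4, [(24, 1)]), (5, [(28, 1)]), (7, [(38, 1)]), (10, [(57, 1)]), (11, [(59, 1)]), (13, [(61, -1)]), (17, [(79, -1)]), (18, [(81, -1)]), (20, [(83, 1)]), (30, [(93, -1)]), (32, [(95, 1)]), (34, [(96, 1)]), (40, [(105, 1)]), (42, [(107, -1)]), (44, [(108, -1)]), (46, [(110, -1)]), (48, [(112, 1)]), (50, [(113, 1)]), (52, [(119, 1)]), (54, [(121, 1)]), (55, [(124, 1)]), (63, [(135, 1)]), (67, [(136, -1)]), (70, [(139, 1)]), (72, [(147, 1)]), (75, [(150, -1)]), (76, [(154, 1)]), (85, [(163, -1)]), (89, [(164, 1)]), (92, [(167, -1)]), (100, [(169, -1)]), (103, [(172, 1)]), (104, [(176, -1)]), (115, [(184, -1)]), (118, [(185, -1)]), (120, [(187, -1)]), (126, [(189, -1)]), (127, [(191, -1)]), (129, [(193, 1)]), (131, [(195, 1)]), (132, [(197, 1)]), (134, [(199, -1)]), (143, [(205, -1)]), (144, [(207, -1)]), (146, [(209, 1)]), (156, [(219, -1)]), (158, [(221, 1)]), (160, [(222, 1)]), (178, [(226, 1)]), (180, [(228, -1)]), (182, [(229, -1)]), (201, [(232, -1)]), (211, [(234, -1)]), (215, [(235, -1)]), (218, [(238, -1)])])) (.node (.leaf [(0, [(2, -1)]), (11, [(13, 1)]), (18, [(20, 1)]), (23, [(25, 1)]), (27, [(29, 1)]), (30, [(32, 1)]), (33, [(35, -1)]), (37, [(39, 1)]), (40, [(42, 1)]), (43, [(45, -1)]), (46, [(48, 1)]), (49, [(51, -1)]), (52, [(54, -1)]), (56, [(58, 1)]), (59, [(61, -1)]), (62, [(64, -1)]), (66, [(68, -1)]), (71, [(73, -1)]), (78, [(80, 1)]), (81, [(83, -1)]), (84, [(86, -1)]), (88, [(90, -1)]), (93, [(95, -1)]), (99, [(101, -1)]), (105, [(107, -1)]), (110, [(112, -1)]), (114, [(116, -1)]), (118, [(120, 1)]), (119, [(121, -1)]), (123, [(125, 1)]), (127, [(129, 1)]), (132, [(134, 1)]), (138, [(140, 1)]), (144, [(146, 1)]), (149, [(151, 1)]), (153, [(155, 1)]), (156, [(158, 1)]), (159, [(161, -1)]), (166, [(168, 1)]), (171, [(173, 1)]), (175, [(177, 1)]), (178, [(180, 1)]), (181, [(183, -1)]), (185, [(187, 1)]), (188, [(190, 1)]), (191, [(193, -1)]), (194, [(196, 1)]), (197, [(199, -1)]), (200, [(202, -1)]), (204, [(206, 1)]), (207, [(209, -1)]), (210, [(212, -1)]), (214, [(216, -1)]), (219, [(221, -1)]), (226, [(228, -1)]), (237, [(239, 1)])]) (.leaf [(1, [(120, 1)]), (2, [(122, 1)]), (3, [(125, 1)]), (4, [(129, 1)]), (5, [(134, 1)]), (6, [(140, 1)]), (7, [(146, 1)]), (8, [(151, -1)]), (9, [(155, 1)]), (10, [(158, -1)]), (11, [(160, 1)]), (12, [(161, -1)]), (14, [(168, 1)]), (15, [(173, -1)]), (16, [(177, 1)]), (17, [(180, -1)]), (18, [(182, 1)]), (19, [(183, -1)]), (21, [(187, -1)]), (22, [(190, 1)]), (23, [(192, -1)]), (24, [(193, 1)]), (26, [(196, -1)]), (27, [(198, 1)]), (28, [(199, -1)]), (30, [(201, -1)]), (31, [(202, 1)]), (33, [(203, -1)]), (36, [(206, 1)]), (37, [(208, -1)]), (38, [(209, 1)]), (40, [(211, 1)]), (41, [(212, -1)]), (43, [(213, 1)]), (46, [(215, -1)]), (47, [(216, 1)]), (49, [(217, -1)]), (52, [(218, 1)]), (56, [(220, 1)]), (57, [(221, -1)]), (59, [(222, 1)]), (62, [(223, -1)]), (66, [(224, 1)]), (71, [(225, -1)]), (78, [(227, 1)]), (79, [(228, -1)]), (81, [(229, 1)]), (84, [(230, -1)]), (88, [(231, 1)]), (93, [(232, -1)]), (99, [(233, -1)]), (105, [(234, -1)]), (110, [(235, -1)]), (114, [(236, -1)]), (117, [(237, -1)]), (119, [(238, -1)])])))))) (.node (.node (.node (.node (.node (.leaf [(99, [(0, 1)]), (100, [(1, 1)]), (101, [(2, 1)]), (102, [(3, 1)]), (103, [(4, 1)]), (104, [(5, 1)]), (141, [(8, 1)]), (142, [(9, -1)]), (143, [(10, 1)]), (144, [(11, -1)]), (145, [(12, 1)]), (146, [(13, -1)]), (162, [(14, 1)]), (169, [(21, -1)]), (170, [(22, 1)]), (171, [(23, -1)]), (172, [(24, 1)]), (173, [(25, -1)]), (174, [(26, -1)]), (175, [(27, 1)]), (176, [(28, -1)]), (177, [(29, 1)]), (178, [(30, -1)]), (179, [(31, 1)]), (180, [(32, -1)]), (181, [(33, -1)]), (182, [(34, 1)]), (183, [(35, -1)]), (204, [(56, 1)]), (205, [(57, -1)]), (206, [(58, 1)]), (207, [(59, 1)]), (208, [(60, -1)]), (209, [(61, 1)]), (210, [(62, -1)]), (211, [(63, 1)]), (212, [(64, -1)]), (213, [(65, 1)]), (214, [(66, 1)]), (215, [(67, -1)]), (216, [(68, 1)]), (217, [(69, -1)]), (218, [(70, 1)]), (225, [(77, -1)]), (226, [(93, 1)]), (227, [(94, -1)]), (228, [(95, 1)]), (229, [(96, -1)]), (230, [(97, 1)]), (231, [(98, -1)]), (234, [(135, -1)]), (235, [(136, -1)]), (236, [(137, -1)]), (237, [(138, -1)]), (238, [(139, -1)]), (239, [(140, -1)])]) (.leaf [(0, [(5, -1)]), (8, [(13, -1)]), (15, [(20, -1)]), (21, [(29, 1)]), (22, [(32, 1)]), (23, [(34, 1)]), (24, [(35, 1)]), (36, [(48, -1)]), (37, [(50, -1)]), (38, [(51, -1)]), (40, [(53, -1)]), (41, [(54, -1)]), (43, [(55, -1)]), (56, [(67, 1)]), (57, [(68, 1)]), (59, [(69, 1)]), (62, [(70, 1)]), (71, [(76, -1)]), (78, [(89, 1)]), (79, [(90, 1)]), (81, [(91, 1)]), (84, [(92, 1)]), (93, [(98, -1)]), (99, [(104, -1)]), (106, [(120, 1)]), (107, [(122, 1)]), (108, [(125, 1)]), (109, [(129, 1)]), (110, [(130, -1)]), (114, [(131, -1)]), (117, [(132, -1)]), (119, [(133, -1)]), (135, [(140, 1)]), (141, [(146, 1)]), (147, [(155, -1)]), (148, [(158, -1)]), (149, [(160, -1)]), (150, [(161, -1)]), (163, [(168, 1)]), (169, [(177, -1)]), (170, [(180, -1)]), (171, [(182, -1)]), (172, [(183, -1)]), (184, [(196, 1)]), (185, [(198, 1)]), (186, [(199, 1)]), (188, [(201, 1)]), (189, [(202, 1)]), (191, [(203, 1)]), (204, [(215, -1)]), (205, [(216, -1)]), (207, [(217, -1)]), (210, [(218, -1)]), (219, [(224, 1)]), (226, [(231, 1)]), (234, [(239, 1)])])) (.node (.leaf [(15, [(4, 1)]), (16, [(5, 1)]), (21, [(6, 1)]), (36, [(10, 1)]), (37, [(11, 1)]), (38, [(12, 1)]), (39, [(13, 1)]), (78, [(30, 1)]), (79, [(31, 1)]), (80, [(32, 1)]), (81, [(33, 1)]), (82, [(34, 1)]), (83, [(35, 1)]), (99, [(52, 1)]), (100, [(53, 1)]), (101, [(54, 1)]), (102, [(55, 1)]), (105, [(62, -1)]), (106, [(63, -1)]), (107, [(64, -1)]), (108, [(65, -1)]), (110, [(66, 1)]), (111, [(67, 1)]), (112, [(68, 1)]), (113, [(69, 1)]), (141, [(75, 1)]), (142, [(76, -1)]), (147, [(77, 1)]), (162, [(92, -1)]), (163, [(97, 1)]), (164, [(98, -1)]), (170, [(126, -1)]), (171, [(127, -1)]), (172, [(128, -1)]), (173, [(129, -1)]), (174, [(131, 1)]), (175, [(132, 1)]), (176, [(133, 1)]), (177, [(134, 1)]), (184, [(137, -1)]), (185, [(138, -1)]), (186, [(139, -1)]), (187, [(140, -1)]), (204, [(156, -1)]), (205, [(157, -1)]), (206, [(158, -1)]), (207, [(159, -1)]), (208, [(160, -1)]), (209, [(161, -1)]), (226, [(200, -1)]), (227, [(201, -1)]), (228, [(202, -1)]), (229, [(203, -1)]), (233, [(218, -1)]), (234, [(223, -1)]), (235, [(224, -1)])]) (.leaf [(0, [(27, -1)]), (2, [(29, 1)]), (4, [(34, -1)]), (7, [(50, 1)]), (8, [(60, 1)]), (10, [(67, -1)]), (12, [(69, 1)]), (15, [(82, -1)]), (17, [(89, 1)]), (19, [(91, -1)]), (22, [(94, 1)]), (24, [(96, -1)]), (31, [(98, 1)]), (36, [(111, -1)]), (38, [(113, 1)]), (40, [(118, 1)]), (42, [(120, 1)]), (43, [(123, 1)]), (45, [(125, -1)]), (47, [(130, 1)]), (52, [(132, -1)]), (54, [(134, 1)]), (57, [(136, 1)]), (62, [(138, -1)]), (64, [(140, 1)]), (71, [(153, 1)]), (73, [(155, -1)]), (75, [(160, 1)]), (79, [(164, -1)]), (84, [(166, 1)]), (86, [(168, -1)]), (99, [(175, -1)]), (101, [(177, 1)]), (103, [(182, -1)]), (105, [(185, -1)]), (107, [(187, 1)]), (109, [(192, -1)]), (114, [(194, 1)]), (116, [(196, -1)]), (119, [(197, -1)]), (121, [(199, -1)]), (126, [(201, -1)]), (128, [(203, 1)]), (141, [(208, -1)]), (143, [(215, 1)]), (145, [(217, -1)]), (148, [(220, 1)]), (150, [(222, -1)]), (157, [(224, 1)]), (170, [(227, -1)]), (172, [(229, 1)]), (179, [(231, -1)]), (189, [(232, -1)]), (205, [(235, 1)]), (210, [(237, -1)]), (212, [(239, 1)])]))) (.node (.node (.leaf [(30, [(0, 1)]), (32, [(2, -1)]), (34, [(3, -1)]), (53, [(7, -1)]), (63, [(8, -1)]), (67, [(9, -1)]), (70, [(12, -1)]), (85, [(15, 1)]), (89, [(16, 1)]), (92, [(19, 1)]), (94, [(21, 1)]), (97, [(24, 1)]), (98, [(28, 1)]), (115, [(36, -1)]), (118, [(37, 1)]), (120, [(39, 1)]), (126, [(41, 1)]), (127, [(43, -1)]), (129, [(45, 1)]), (131, [(47, 1)]), (132, [(49, -1)]), (134, [(51, 1)]), (137, [(57, 1)]), (138, [(59, -1)]), (140, [(61, 1)]), (156, [(71, 1)]), (158, [(73, -1)]), (160, [(74, 1)]), (165, [(79, -1)]), (166, [(81, 1)]), (168, [(83, -1)]), (178, [(99, -1)]), (180, [(101, 1)]), (182, [(102, -1)]), (188, [(105, -1)]), (190, [(107, 1)]), (192, [(108, -1)]), (194, [(110, -1)]), (196, [(112, 1)]), (198, [(113, -1)]), (200, [(119, -1)]), (202, [(121, -1)]), (203, [(124, 1)]), (211, [(141, -1)]), (215, [(142, -1)]), (218, [(145, -1)]), (220, [(147, -1)]), (223, [(150, -1)]), (224, [(154, -1)]), (227, [(169, 1)]), (230, [(172, 1)]), (231, [(176, 1)]), (232, [(186, 1)]), (236, [(205, 1)]), (237, [(207, 1)]), (239, [(209, -1)])]) (.leaf [(2, [(14, -1)]), (7, [(18, 1)]), (8, [(23, 1)]), (9, [(27, 1)]), (10, [(30, 1)]), (12, [(33, -1)]), (13, [(34, -1)]), (36, [(78, 1)]), (38, [(81, -1)]), (39, [(82, -1)]), (41, [(84, -1)]), (42, [(85, -1)]), (45, [(87, 1)]), (47, [(88, -1)]), (48, [(89, -1)]), (51, [(91, 1)]), (54, [(92, 1)]), (57, [(93, -1)]), (58, [(94, -1)]), (61, [(96, 1)]), (64, [(97, 1)]), (68, [(98, 1)]), (71, [(117, 1)]), (72, [(118, 1)]), (74, [(123, 1)]), (75, [(127, 1)]), (76, [(132, 1)]), (77, [(138, 1)]), (101, [(162, -1)]), (107, [(163, -1)]), (112, [(164, -1)]), (116, [(165, -1)]), (121, [(167, -1)]), (122, [(168, -1)]), (141, [(171, -1)]), (142, [(175, -1)]), (143, [(178, -1)]), (145, [(181, 1)]), (146, [(182, 1)]), (147, [(185, -1)]), (148, [(188, -1)]), (150, [(191, 1)]), (151, [(192, 1)]), (152, [(194, -1)]), (154, [(197, 1)]), (155, [(198, 1)]), (157, [(200, 1)]), (158, [(201, 1)]), (161, [(203, -1)]), (205, [(226, 1)]), (206, [(227, 1)]), (209, [(229, -1)]), (212, [(230, -1)]), (216, [(231, -1)]), (221, [(232, -1)]), (225, [(237, 1)])])) (.node (.leaf [(6, [(3, -1)]), (10, [(7, -1)]), (22, [(15, 1)]), (26, [(16, 1)]), (30, [(18, -1)]), (31, [(19, -1)]), (32, [(20, -1)]), (56, [(37, -1)]), (57, [(38, -1)]), (58, [(39, -1)]), (62, [(43, 1)]), (63, [(44, 1)]), (64, [(45, 1)]), (66, [(49, 1)]), (67, [(50, 1)]), (68, [(51, 1)]), (70, [(55, -1)]), (77, [(74, -1)]), (93, [(81, -1)]), (94, [(82, -1)]), (95, [(83, -1)]), (97, [(87, 1)]), (98, [(91, 1)]), (114, [(99, 1)]), (115, [(100, 1)]), (116, [(101, 1)]), (126, [(103, 1)]), (131, [(104, 1)]), (135, [(108, -1)]), (136, [(113, -1)]), (138, [(123, -1)]), (139, [(124, -1)]), (140, [(125, -1)]), (148, [(141, -1)]), (152, [(142, -1)]), (156, [(144, 1)]), (157, [(145, 1)]), (158, [(146, 1)]), (165, [(162, 1)]), (184, [(169, 1)]), (188, [(171, -1)]), (189, [(172, -1)]), (190, [(173, -1)]), (194, [(175, -1)]), (195, [(176, -1)]), (196, [(177, -1)]), (200, [(181, 1)]), (201, [(182, 1)]), (202, [(183, 1)]), (219, [(207, 1)]), (220, [(208, 1)]), (221, [(209, 1)]), (223, [(213, -1)]), (224, [(217, -1)]), (232, [(229, 1)]), (236, [(233, 1)])]) (.leaf [(0, [(84, 1)]), (1, [(85, 1)]), (2, [(86, 1)]), (3, [(87, 1)]), (5, [(92, -1)]), (6, [(97, -1)]), (7, [(103, -1)]), (8, [(109, 1)]), (10, [(126, 1)]), (11, [(127, -1)]), (12, [(128, 1)]), (13, [(129, -1)]), (16, [(162, 1)]), (21, [(163, -1)]), (26, [(165, 1)]), (27, [(166, -1)]), (28, [(167, 1)]), (29, [(168, -1)]), (36, [(170, -1)]), (37, [(171, 1)]), (38, [(172, -1)]), (39, [(173, 1)]), (46, [(178, -1)]), (47, [(179, 1)]), (48, [(180, -1)]), (49, [(181, -1)]), (50, [(182, 1)]), (51, [(183, -1)]), (56, [(188, 1)]), (57, [(189, -1)]), (58, [(190, 1)]), (59, [(191, 1)]), (60, [(192, -1)]), (61, [(193, 1)]), (66, [(200, -1)]), (67, [(201, 1)]), (68, [(202, -1)]), (69, [(203, 1)]), (71, [(210, 1)]), (72, [(211, -1)]), (73, [(212, 1)]), (74, [(213, -1)]), (76, [(218, 1)]), (77, [(223, -1)]), (110, [(226, 1)]), (111, [(227, -1)]), (112, [(228, 1)]), (113, [(229, -1)]), (130, [(231, -1)]), (136, [(232, 1)]), (142, [(233, 1)]), (147, [(234, 1)]), (152, [(236, -1)]), (153, [(237, -1)]), (154, [(238, -1)]), (155, [(239, -1)])])))) (.node (.node (.node (.leaf [(49, [(0, 1)]), (50, [(1, 1)]), (51, [(2, 1)]), (55, [(4, -1)]), (69, [(6, 1)]), (74, [(8, 1)]), (76, [(10, -1)]), (91, [(14, -1)]), (102, [(15, -1)]), (104, [(17, 1)]), (113, [(21, 1)]), (123, [(23, 1)]), (124, [(24, -1)]), (125, [(25, 1)]), (130, [(26, 1)]), (132, [(30, -1)]), (133, [(31, 1)]), (134, [(32, -1)]), (142, [(36, 1)]), (144, [(40, -1)]), (145, [(41, 1)]), (146, [(42, -1)]), (153, [(56, 1)]), (154, [(57, -1)]), (155, [(58, 1)]), (159, [(62, 1)]), (160, [(63, -1)]), (161, [(64, 1)]), (175, [(78, -1)]), (176, [(79, 1)]), (177, [(80, -1)]), (181, [(84, -1)]), (182, [(85, 1)]), (183, [(86, -1)]), (197, [(93, 1)]), (198, [(94, -1)]), (199, [(95, 1)]), (203, [(97, -1)]), (207, [(105, 1)]), (208, [(106, -1)]), (209, [(107, 1)]), (213, [(109, -1)]), (214, [(114, -1)]), (215, [(115, 1)]), (216, [(116, -1)]), (218, [(126, -1)]), (222, [(135, -1)]), (224, [(137, 1)]), (225, [(148, 1)]), (229, [(163, 1)]), (231, [(165, -1)]), (233, [(170, -1)]), (235, [(184, 1)]), (237, [(188, -1)]), (238, [(189, -1)]), (239, [(190, -1)])]) (.leaf [(1, [(8, 1)]), (5, [(12, -1)]), (14, [(24, 1)]), (16, [(38, -1)]), (17, [(41, -1)]), (18, [(43, -1)]), (20, [(45, 1)]), (26, [(57, 1)]), (27, [(59, 1)]), (29, [(61, -1)]), (30, [(62, 1)]), (32, [(64, -1)]), (34, [(65, -1)]), (46, [(71, -1)]), (48, [(73, 1)]), (50, [(74, 1)]), (53, [(75, 1)]), (67, [(77, -1)]), (78, [(105, -1)]), (80, [(107, 1)]), (82, [(108, 1)]), (85, [(109, 1)]), (88, [(119, 1)]), (90, [(121, 1)]), (91, [(124, 1)]), (92, [(128, 1)]), (94, [(135, 1)]), (98, [(139, -1)]), (100, [(141, 1)]), (104, [(145, -1)]), (111, [(147, -1)]), (115, [(148, -1)]), (118, [(149, -1)]), (120, [(151, -1)]), (130, [(154, -1)]), (131, [(157, -1)]), (132, [(159, -1)]), (134, [(161, 1)]), (162, [(172, 1)]), (164, [(186, -1)]), (165, [(189, -1)]), (166, [(191, -1)]), (168, [(193, 1)]), (174, [(205, 1)]), (175, [(207, 1)]), (177, [(209, -1)]), (178, [(210, 1)]), (180, [(212, -1)]), (182, [(213, -1)]), (194, [(219, -1)]), (196, [(221, 1)]), (198, [(222, 1)]), (201, [(223, 1)]), (215, [(225, -1)]), (227, [(234, 1)]), (231, [(238, -1)])])) (.node (.leaf [(9, [(2, -1)]), (11, [(4, 1)]), (27, [(14, 1)]), (37, [(15, 1)]), (46, [(17, -1)]), (49, [(19, 1)]), (50, [(20, 1)]), (56, [(22, -1)]), (59, [(24, 1)]), (60, [(25, 1)]), (66, [(31, -1)]), (67, [(32, -1)]), (69, [(35, 1)]), (71, [(41, -1)]), (72, [(42, -1)]), (74, [(45, 1)]), (76, [(54, -1)]), (77, [(64, -1)]), (110, [(79, -1)]), (111, [(80, -1)]), (113, [(83, 1)]), (117, [(84, 1)]), (118, [(85, 1)]), (123, [(87, 1)]), (130, [(90, 1)]), (132, [(92, -1)]), (136, [(95, 1)]), (138, [(97, -1)]), (142, [(101, 1)]), (144, [(103, -1)]), (147, [(107, 1)]), (149, [(109, -1)]), (152, [(116, -1)]), (154, [(121, -1)]), (155, [(122, -1)]), (156, [(126, -1)]), (159, [(128, 1)]), (160, [(129, 1)]), (175, [(162, 1)]), (185, [(163, 1)]), (194, [(165, -1)]), (197, [(167, 1)]), (198, [(168, 1)]), (204, [(170, -1)]), (207, [(172, 1)]), (208, [(173, 1)]), (214, [(179, -1)]), (215, [(180, -1)]), (217, [(183, 1)]), (219, [(189, -1)]), (220, [(190, -1)]), (222, [(193, 1)]), (224, [(202, -1)]), (225, [(212, -1)]), (235, [(228, -1)]), (237, [(230, 1)])]) (.leaf [(1, [(46, 1)]), (2, [(47, 1)]), (3, [(49, 1)]), (4, [(52, 1)]), (6, [(66, -1)]), (8, [(71, -1)]), (13, [(76, -1)]), (14, [(88, 1)]), (15, [(99, 1)]), (20, [(104, 1)]), (21, [(110, -1)]), (22, [(114, 1)]), (23, [(117, -1)]), (24, [(119, 1)]), (29, [(130, 1)]), (32, [(131, -1)]), (34, [(132, 1)]), (35, [(133, -1)]), (39, [(142, 1)]), (42, [(143, -1)]), (44, [(144, 1)]), (45, [(145, -1)]), (58, [(152, 1)]), (60, [(153, -1)]), (61, [(154, 1)]), (63, [(156, 1)]), (64, [(157, -1)]), (65, [(159, 1)]), (80, [(174, -1)]), (82, [(175, 1)]), (83, [(176, -1)]), (85, [(178, -1)]), (86, [(179, 1)]), (87, [(181, -1)]), (94, [(194, 1)]), (95, [(195, -1)]), (96, [(197, 1)]), (97, [(200, -1)]), (106, [(204, 1)]), (107, [(205, -1)]), (108, [(207, 1)]), (109, [(210, -1)]), (120, [(215, -1)]), (122, [(216, 1)]), (125, [(217, -1)]), (129, [(218, 1)]), (135, [(219, -1)]), (140, [(224, -1)]), (151, [(225, -1)]), (163, [(226, 1)]), (168, [(231, 1)]), (173, [(233, 1)]), (187, [(235, -1)]), (190, [(236, -1)]), (192, [(237, -1)]), (193, [(238, -1)])]))) (.node (.node (.leaf [(21, [(2, 1)]), (23, [(4, -1)]), (27, [(5, -1)]), (37, [(7, -1)]), (56, [(10, -1)]), (59, [(12, 1)]), (60, [(13, 1)]), (78, [(17, 1)]), (81, [(19, -1)]), (82, [(20, -1)]), (93, [(31, -1)]), (94, [(32, -1)]), (96, [(35, 1)]), (105, [(41, 1)]), (106, [(42, 1)]), (108, [(45, -1)]), (110, [(47, -1)]), (111, [(48, -1)]), (113, [(51, 1)]), (117, [(52, 1)]), (118, [(53, 1)]), (123, [(55, 1)]), (135, [(64, 1)]), (136, [(68, -1)]), (138, [(70, 1)]), (147, [(73, 1)]), (149, [(75, -1)]), (153, [(76, 1)]), (163, [(86, -1)]), (164, [(90, 1)]), (166, [(92, -1)]), (169, [(101, -1)]), (171, [(103, 1)]), (175, [(104, -1)]), (184, [(116, -1)]), (186, [(121, -1)]), (187, [(122, -1)]), (188, [(126, -1)]), (191, [(128, 1)]), (192, [(129, 1)]), (194, [(131, 1)]), (197, [(133, -1)]), (198, [(134, -1)]), (204, [(143, -1)]), (207, [(145, 1)]), (208, [(146, 1)]), (219, [(157, 1)]), (220, [(158, 1)]), (222, [(161, -1)]), (226, [(179, -1)]), (227, [(180, -1)]), (229, [(183, 1)]), (232, [(202, 1)]), (234, [(212, 1)]), (235, [(216, 1)]), (237, [(218, -1)])]) (.leaf [(0, [(18, -1)]), (2, [(20, 1)]), (6, [(34, -1)]), (8, [(44, -1)]), (9, [(50, -1)]), (10, [(53, -1)]), (12, [(55, 1)]), (21, [(82, -1)]), (22, [(85, -1)]), (24, [(87, 1)]), (26, [(89, -1)]), (28, [(91, 1)]), (31, [(92, 1)]), (36, [(100, -1)]), (38, [(102, 1)]), (41, [(103, 1)]), (47, [(104, 1)]), (56, [(118, 1)]), (58, [(120, 1)]), (59, [(123, 1)]), (61, [(125, -1)]), (62, [(127, 1)]), (64, [(129, -1)]), (66, [(132, 1)]), (68, [(134, -1)]), (71, [(144, 1)]), (73, [(146, -1)]), (77, [(160, 1)]), (79, [(162, -1)]), (93, [(166, 1)]), (95, [(168, -1)]), (105, [(171, 1)]), (107, [(173, -1)]), (110, [(175, 1)]), (112, [(177, -1)]), (114, [(178, 1)]), (116, [(180, -1)]), (119, [(181, -1)]), (121, [(183, -1)]), (135, [(192, -1)]), (136, [(198, -1)]), (137, [(201, -1)]), (139, [(203, 1)]), (147, [(208, -1)]), (148, [(211, -1)]), (150, [(213, 1)]), (152, [(215, -1)]), (154, [(217, 1)]), (157, [(218, 1)]), (184, [(227, -1)]), (186, [(229, 1)]), (189, [(230, 1)]), (195, [(231, 1)]), (205, [(233, 1)]), (219, [(237, -1)]), (221, [(239, 1)])])) (.node (.leaf [(2, [(1, -1)]), (12, [(11, -1)]), (19, [(18, -1)]), (24, [(23, -1)]), (28, [(27, -1)]), (31, [(30, -1)]), (35, [(34, -1)]), (38, [(37, -1)]), (41, [(40, -1)]), (45, [(44, -1)]), (47, [(46, -1)]), (51, [(50, -1)]), (54, [(53, -1)]), (57, [(56, -1)]), (61, [(60, -1)]), (64, [(63, -1)]), (68, [(67, -1)]), (73, [(72, -1)]), (79, [(78, -1)]), (83, [(82, -1)]), (86, [(85, -1)]), (90, [(89, -1)]), (95, [(94, -1)]), (101, [(100, -1)]), (107, [(106, -1)]), (112, [(111, -1)]), (116, [(115, -1)]), (119, [(117, 1)]), (122, [(120, -1)]), (124, [(123, 1)]), (128, [(127, 1)]), (133, [(132, 1)]), (139, [(138, 1)]), (145, [(144, 1)]), (150, [(149, 1)]), (154, [(153, 1)]), (157, [(156, 1)]), (161, [(160, 1)]), (167, [(166, 1)]), (172, [(171, 1)]), (176, [(175, 1)]), (179, [(178, 1)]), (183, [(182, 1)]), (186, [(185, 1)]), (189, [(188, 1)]), (193, [(192, 1)]), (195, [(194, 1)]), (199, [(198, 1)]), (202, [(201, 1)]), (205, [(204, 1)]), (209, [(208, 1)]), (212, [(211, 1)]), (216, [(215, 1)]), (221, [(220, 1)]), (228, [(227, 1)]), (238, [(237, 1)])]) (.leaf [(1, [(120, 1)]), (2, [(122, 1)]), (3, [(125, 1)]), (4, [(129, 1)]), (5, [(134, 1)]), (6, [(140, 1)]), (7, [(146, 1)]), (8, [(151, -1)]), (9, [(155, 1)]), (10, [(158, -1)]), (11, [(160, 1)]), (12, [(161, -1)]), (14, [(168, 1)]), (15, [(173, -1)]), (16, [(177, 1)]), (17, [(180, -1)]), (18, [(182, 1)]), (19, [(183, -1)]), (21, [(187, -1)]), (22, [(190, 1)]), (23, [(192, -1)]), (24, [(193, 1)]), (26, [(196, -1)]), (27, [(198, 1)]), (28, [(199, -1)]), (30, [(201, -1)]), (31, [(202, 1)]), (33, [(203, -1)]), (36, [(206, 1)]), (37, [(208, -1)]), (38, [(209, 1)]), (40, [(211, 1)]), (41, [(212, -1)]), (43, [(213, 1)]), (46, [(215, -1)]), (47, [(216, 1)]), (49, [(217, -1)]), (52, [(218, 1)]), (56, [(220, 1)]), (57, [(221, -1)]), (59, [(222, 1)]), (62, [(223, -1)]), (66, [(224, 1)]), (71, [(225, -1)]), (78, [(227, 1)]), (79, [(228, -1)]), (81, [(229, 1)]), (84, [(230, -1)]), (88, [(231, 1)]), (93, [(232, -1)]), (99, [(233, -1)]), (105, [(234, -1)]), (110, [(235, -1)]), (114, [(236, -1)]), (117, [(237, -1)]), (119, [(238, -1)])]))))) (.node (.node (.node (.node (.leaf [(71, [(0, 1)]), (72, [(1, 1)]), (73, [(2, 1)]), (74, [(3, 1)]), (75, [(4, 1)]), (76, [(5, 1)]), (77, [(6, 1)]), (141, [(15, 1)]), (142, [(16, -1)]), (143, [(17, 1)]), (144, [(18, -1)]), (145, [(19, 1)]), (146, [(20, -1)]), (147, [(21, 1)]), (148, [(22, -1)]), (149, [(23, 1)]), (150, [(24, -1)]), (151, [(25, 1)]), (152, [(26, 1)]), (153, [(27, -1)]), (154, [(28, 1)]), (155, [(29, -1)]), (156, [(30, 1)]), (157, [(31, -1)]), (158, [(32, 1)]), (159, [(33, 1)]), (160, [(34, -1)]), (161, [(35, 1)]), (204, [(78, -1)]), (205, [(79, 1)]), (206, [(80, -1)]), (207, [(81, -1)]), (208, [(82, 1)]), (209, [(83, -1)]), (210, [(84, 1)]), (211, [(85, -1)]), (212, [(86, 1)]), (213, [(87, -1)]), (214, [(88, -1)]), (215, [(89, 1)]), (216, [(90, -1)]), (217, [(91, 1)]), (218, [(92, -1)]), (219, [(93, 1)]), (220, [(94, -1)]), (221, [(95, 1)]), (222, [(96, -1)]), (223, [(97, 1)]), (224, [(98, -1)]), (233, [(162, -1)]), (234, [(163, -1)]), (235, [(164, -1)]), (236, [(165, -1)]), (237, [(166, -1)]), (238, [(167, -1)]), (239, [(168, -1)])]) (.leaf [(4, [(7, -1)]), (6, [(9, 1)]), (14, [(16, 1)]), (22, [(36, -1)]), (23, [(37, -1)]), (24, [(38, -1)]), (25, [(39, -1)]), (30, [(46, 1)]), (31, [(47, 1)]), (32, [(48, 1)]), (33, [(49, 1)]), (34, [(50, 1)]), (35, [(51, 1)]), (62, [(71, -1)]), (63, [(72, -1)]), (64, [(73, -1)]), (65, [(74, -1)]), (70, [(76, 1)]), (84, [(99, -1)]), (85, [(100, -1)]), (86, [(101, -1)]), (87, [(102, -1)]), (92, [(104, 1)]), (93, [(110, 1)]), (94, [(111, 1)]), (95, [(112, 1)]), (96, [(113, 1)]), (98, [(130, 1)]), (109, [(141, -1)]), (126, [(143, -1)]), (127, [(144, -1)]), (128, [(145, -1)]), (129, [(146, -1)]), (135, [(147, -1)]), (137, [(152, 1)]), (138, [(153, 1)]), (139, [(154, 1)]), (140, [(155, 1)]), (163, [(169, -1)]), (165, [(174, 1)]), (166, [(175, 1)]), (167, [(176, 1)]), (168, [(177, 1)]), (188, [(204, -1)]), (189, [(205, -1)]), (190, [(206, -1)]), (191, [(207, -1)]), (192, [(208, -1)]), (193, [(209, -1)]), (200, [(214, 1)]), (201, [(215, 1)]), (202, [(216, 1)]), (203, [(217, 1)]), (223, [(225, -1)]), (230, [(233, -1)]), (232, [(235, 1)])])) (.node (.leaf [(12, [(0, 1)]), (13, [(1, 1)]), (35, [(14, -1)]), (45, [(15, -1)]), (51, [(16, -1)]), (54, [(17, -1)]), (55, [(18, -1)]), (61, [(21, -1)]), (64, [(22, -1)]), (65, [(23, -1)]), (68, [(26, -1)]), (69, [(27, -1)]), (70, [(30, -1)]), (73, [(36, -1)]), (74, [(37, -1)]), (75, [(40, -1)]), (76, [(46, -1)]), (77, [(56, -1)]), (121, [(79, 1)]), (122, [(80, -1)]), (124, [(81, 1)]), (125, [(82, -1)]), (128, [(84, 1)]), (129, [(85, -1)]), (133, [(88, 1)]), (134, [(89, -1)]), (139, [(93, 1)]), (140, [(94, -1)]), (145, [(99, 1)]), (146, [(100, -1)]), (150, [(105, 1)]), (151, [(106, -1)]), (154, [(110, 1)]), (155, [(111, -1)]), (157, [(114, 1)]), (158, [(115, -1)]), (159, [(117, 1)]), (160, [(118, -1)]), (183, [(162, 1)]), (193, [(163, 1)]), (199, [(164, 1)]), (202, [(165, 1)]), (203, [(166, 1)]), (209, [(169, 1)]), (212, [(170, 1)]), (213, [(171, 1)]), (216, [(174, 1)]), (217, [(175, 1)]), (218, [(178, 1)]), (221, [(184, 1)]), (222, [(185, 1)]), (223, [(188, 1)]), (224, [(194, 1)]), (225, [(204, 1)]), (238, [(226, -1)]), (239, [(227, -1)])]) (.leaf [(0, [(36, -1)]), (3, [(39, -1)]), (4, [(42, -1)]), (5, [(48, -1)]), (6, [(58, -1)]), (11, [(72, 1)]), (12, [(73, 1)]), (14, [(80, 1)]), (18, [(100, -1)]), (19, [(101, -1)]), (23, [(106, 1)]), (24, [(107, 1)]), (27, [(111, -1)]), (28, [(112, -1)]), (30, [(115, 1)]), (31, [(116, 1)]), (34, [(120, 1)]), (35, [(122, 1)]), (43, [(141, 1)]), (49, [(142, -1)]), (52, [(143, 1)]), (55, [(146, -1)]), (59, [(147, 1)]), (62, [(148, -1)]), (65, [(151, 1)]), (66, [(152, 1)]), (69, [(155, -1)]), (70, [(158, 1)]), (81, [(169, -1)]), (84, [(170, 1)]), (87, [(173, -1)]), (88, [(174, -1)]), (91, [(177, 1)]), (92, [(180, -1)]), (93, [(184, 1)]), (96, [(187, -1)]), (97, [(190, 1)]), (98, [(196, -1)]), (117, [(204, -1)]), (119, [(205, -1)]), (123, [(208, -1)]), (124, [(209, -1)]), (127, [(211, 1)]), (128, [(212, 1)]), (132, [(215, -1)]), (133, [(216, -1)]), (138, [(220, 1)]), (139, [(221, 1)]), (159, [(225, -1)]), (166, [(227, -1)]), (167, [(228, -1)]), (181, [(233, 1)]), (191, [(234, 1)]), (197, [(235, 1)]), (200, [(236, 1)]), (203, [(239, 1)])]))) (.node (.node (.leaf [(24, [(0, -1)]), (25, [(1, -1)]), (35, [(5, 1)]), (45, [(7, 1)]), (61, [(9, -1)]), (64, [(10, -1)]), (65, [(11, -1)]), (83, [(16, 1)]), (86, [(17, 1)]), (87, [(18, 1)]), (95, [(26, -1)]), (96, [(27, -1)]), (97, [(30, -1)]), (107, [(36, 1)]), (108, [(37, 1)]), (109, [(40, 1)]), (121, [(47, 1)]), (122, [(48, -1)]), (124, [(49, 1)]), (125, [(50, -1)]), (128, [(52, 1)]), (129, [(53, -1)]), (135, [(56, 1)]), (139, [(66, -1)]), (140, [(67, 1)]), (150, [(71, 1)]), (151, [(72, -1)]), (161, [(76, 1)]), (163, [(78, -1)]), (167, [(88, 1)]), (168, [(89, -1)]), (172, [(99, -1)]), (173, [(100, 1)]), (183, [(104, -1)]), (186, [(110, 1)]), (187, [(111, -1)]), (189, [(114, 1)]), (190, [(115, -1)]), (191, [(117, 1)]), (192, [(118, -1)]), (199, [(130, -1)]), (202, [(131, -1)]), (203, [(132, -1)]), (209, [(142, 1)]), (212, [(143, 1)]), (213, [(144, 1)]), (221, [(152, -1)]), (222, [(153, -1)]), (223, [(156, -1)]), (228, [(174, 1)]), (229, [(175, 1)]), (230, [(178, 1)]), (232, [(194, -1)]), (234, [(204, -1)]), (238, [(214, 1)]), (239, [(215, 1)])]) (.leaf [(3, [(16, -1)]), (4, [(17, -1)]), (6, [(26, 1)]), (8, [(36, 1)]), (11, [(46, 1)]), (12, [(47, 1)]), (13, [(48, 1)]), (23, [(78, 1)]), (24, [(79, 1)]), (25, [(80, 1)]), (33, [(88, 1)]), (34, [(89, 1)]), (35, [(90, 1)]), (43, [(99, 1)]), (44, [(100, 1)]), (45, [(101, 1)]), (55, [(104, 1)]), (59, [(110, -1)]), (60, [(111, -1)]), (61, [(112, -1)]), (62, [(114, 1)]), (63, [(115, 1)]), (64, [(116, 1)]), (69, [(130, 1)]), (70, [(131, -1)]), (74, [(142, 1)]), (75, [(143, -1)]), (77, [(152, 1)]), (87, [(162, -1)]), (96, [(164, 1)]), (97, [(165, -1)]), (108, [(169, 1)]), (109, [(170, -1)]), (123, [(175, -1)]), (124, [(176, -1)]), (125, [(177, -1)]), (127, [(178, 1)]), (128, [(179, 1)]), (129, [(180, 1)]), (135, [(184, -1)]), (138, [(194, -1)]), (139, [(195, -1)]), (140, [(196, -1)]), (149, [(204, -1)]), (150, [(205, -1)]), (151, [(206, -1)]), (159, [(214, -1)]), (160, [(215, -1)]), (161, [(216, -1)]), (191, [(226, -1)]), (192, [(227, -1)]), (193, [(228, -1)]), (203, [(231, -1)]), (213, [(233, -1)]), (222, [(235, 1)]), (223, [(236, 1)])])) (.node (.leaf [(4, [(0, -1)]), (13, [(9, 1)]), (20, [(16, 1)]), (25, [(21, 1)]), (32, [(26, -1)]), (34, [(27, -1)]), (35, [(28, -1)]), (42, [(36, -1)]), (44, [(37, -1)]), (45, [(38, -1)]), (53, [(46, 1)]), (54, [(47, 1)]), (55, [(49, 1)]), (63, [(56, 1)]), (64, [(57, 1)]), (65, [(59, 1)]), (70, [(66, -1)]), (75, [(71, -1)]), (85, [(78, 1)]), (86, [(79, 1)]), (87, [(81, 1)]), (92, [(88, -1)]), (97, [(93, -1)]), (103, [(99, -1)]), (109, [(105, -1)]), (120, [(111, 1)]), (122, [(112, 1)]), (125, [(113, 1)]), (126, [(114, -1)]), (127, [(117, -1)]), (128, [(119, -1)]), (134, [(130, 1)]), (140, [(136, 1)]), (146, [(142, 1)]), (151, [(147, 1)]), (158, [(152, -1)]), (160, [(153, -1)]), (161, [(154, -1)]), (168, [(164, 1)]), (173, [(169, 1)]), (180, [(174, -1)]), (182, [(175, -1)]), (183, [(176, -1)]), (190, [(184, -1)]), (192, [(185, -1)]), (193, [(186, -1)]), (201, [(194, 1)]), (202, [(195, 1)]), (203, [(197, 1)]), (211, [(204, 1)]), (212, [(205, 1)]), (213, [(207, 1)]), (218, [(214, -1)]), (223, [(219, -1)]), (230, [(226, -1)]), (239, [(235, 1)])]) (.leaf [(0, [(119, 1)]), (2, [(121, 1)]), (3, [(124, 1)]), (4, [(128, 1)]), (5, [(133, 1)]), (6, [(139, 1)]), (7, [(145, 1)]), (8, [(150, -1)]), (9, [(154, 1)]), (10, [(157, -1)]), (11, [(159, 1)]), (13, [(161, -1)]), (14, [(167, 1)]), (15, [(172, -1)]), (16, [(176, 1)]), (17, [(179, -1)]), (18, [(181, 1)]), (20, [(183, -1)]), (21, [(186, -1)]), (22, [(189, 1)]), (23, [(191, -1)]), (25, [(193, 1)]), (26, [(195, -1)]), (27, [(197, 1)]), (29, [(199, -1)]), (30, [(200, -1)]), (32, [(202, 1)]), (34, [(203, -1)]), (36, [(205, 1)]), (37, [(207, -1)]), (39, [(209, 1)]), (40, [(210, 1)]), (42, [(212, -1)]), (44, [(213, 1)]), (46, [(214, -1)]), (48, [(216, 1)]), (50, [(217, -1)]), (53, [(218, 1)]), (56, [(219, 1)]), (58, [(221, -1)]), (60, [(222, 1)]), (63, [(223, -1)]), (67, [(224, 1)]), (72, [(225, -1)]), (78, [(226, 1)]), (80, [(228, -1)]), (82, [(229, 1)]), (85, [(230, -1)]), (89, [(231, 1)]), (94, [(232, -1)]), (100, [(233, -1)]), (106, [(234, -1)]), (111, [(235, -1)]), (115, [(236, -1)]), (118, [(237, -1)]), (120, [(239, -1)])])))) (.node (.node (.node (.leaf [(38, [(0, -1)]), (39, [(1, -1)]), (45, [(4, -1)]), (51, [(5, -1)]), (61, [(6, -1)]), (73, [(10, -1)]), (74, [(11, -1)]), (83, [(14, 1)]), (101, [(17, 1)]), (102, [(18, 1)]), (107, [(22, -1)]), (108, [(23, -1)]), (112, [(26, 1)]), (113, [(27, 1)]), (121, [(31, 1)]), (122, [(32, -1)]), (124, [(33, 1)]), (125, [(34, -1)]), (141, [(40, 1)]), (142, [(46, -1)]), (145, [(52, 1)]), (146, [(53, -1)]), (147, [(56, 1)]), (150, [(62, -1)]), (151, [(63, 1)]), (154, [(66, 1)]), (155, [(67, -1)]), (161, [(70, 1)]), (169, [(78, -1)]), (172, [(84, 1)]), (173, [(85, -1)]), (176, [(88, -1)]), (177, [(89, 1)]), (183, [(92, -1)]), (186, [(93, 1)]), (187, [(94, -1)]), (193, [(97, 1)]), (199, [(98, -1)]), (205, [(114, 1)]), (206, [(115, -1)]), (207, [(117, 1)]), (208, [(118, -1)]), (212, [(126, -1)]), (213, [(127, -1)]), (216, [(131, 1)]), (217, [(132, 1)]), (221, [(137, -1)]), (222, [(138, -1)]), (225, [(156, -1)]), (228, [(165, 1)]), (229, [(166, 1)]), (233, [(178, 1)]), (234, [(188, 1)]), (235, [(194, 1)]), (238, [(200, 1)]), (239, [(201, 1)])]) (.leaf [(0, [(10, 1)]), (3, [(13, 1)]), (14, [(32, -1)]), (15, [(42, -1)]), (16, [(48, -1)]), (18, [(53, 1)]), (19, [(54, 1)]), (21, [(58, -1)]), (23, [(63, 1)]), (24, [(64, 1)]), (27, [(67, 1)]), (28, [(68, 1)]), (33, [(70, -1)]), (37, [(72, 1)]), (38, [(73, 1)]), (43, [(75, -1)]), (49, [(76, -1)]), (59, [(77, -1)]), (78, [(115, 1)]), (79, [(116, 1)]), (82, [(120, 1)]), (83, [(122, 1)]), (84, [(126, 1)]), (87, [(129, -1)]), (88, [(131, 1)]), (91, [(134, -1)]), (93, [(137, 1)]), (96, [(140, -1)]), (99, [(143, 1)]), (102, [(146, -1)]), (105, [(148, 1)]), (108, [(151, -1)]), (110, [(152, 1)]), (113, [(155, -1)]), (117, [(156, -1)]), (119, [(157, -1)]), (123, [(160, -1)]), (124, [(161, -1)]), (162, [(180, 1)]), (163, [(190, 1)]), (164, [(196, 1)]), (166, [(201, -1)]), (167, [(202, -1)]), (169, [(206, 1)]), (171, [(211, -1)]), (172, [(212, -1)]), (175, [(215, -1)]), (176, [(216, -1)]), (181, [(218, 1)]), (185, [(220, -1)]), (186, [(221, -1)]), (191, [(223, 1)]), (197, [(224, 1)]), (207, [(225, 1)]), (226, [(236, -1)]), (229, [(239, -1)])])) (.node (.leaf [(7, [(1, -1)]), (12, [(6, -1)]), (19, [(14, -1)]), (38, [(21, -1)]), (41, [(22, -1)]), (43, [(23, -1)]), (45, [(25, 1)]), (47, [(26, -1)]), (49, [(27, -1)]), (51, [(29, 1)]), (52, [(30, -1)]), (54, [(32, 1)]), (55, [(34, 1)]), (71, [(56, -1)]), (73, [(58, 1)]), (74, [(60, 1)]), (75, [(63, 1)]), (76, [(67, 1)]), (99, [(78, -1)]), (101, [(80, 1)]), (102, [(82, 1)]), (103, [(85, 1)]), (104, [(89, 1)]), (119, [(93, 1)]), (121, [(95, 1)]), (124, [(96, 1)]), (128, [(97, 1)]), (133, [(98, 1)]), (141, [(106, -1)]), (142, [(111, -1)]), (143, [(115, -1)]), (144, [(118, -1)]), (146, [(120, -1)]), (150, [(135, -1)]), (154, [(136, -1)]), (157, [(137, -1)]), (159, [(138, -1)]), (161, [(140, 1)]), (172, [(163, -1)]), (176, [(164, -1)]), (179, [(165, -1)]), (181, [(166, -1)]), (183, [(168, 1)]), (205, [(184, -1)]), (207, [(185, -1)]), (209, [(187, 1)]), (210, [(188, -1)]), (212, [(190, 1)]), (213, [(192, 1)]), (214, [(194, -1)]), (216, [(196, 1)]), (217, [(198, 1)]), (218, [(201, 1)]), (225, [(220, 1)]), (233, [(227, 1)]), (238, [(232, 1)])]) (.leaf [(0, [(59, -1)]), (1, [(60, -1)]), (2, [(61, -1)]), (4, [(65, 1)]), (5, [(69, 1)]), (7, [(74, 1)]), (10, [(77, 1)]), (14, [(96, 1)]), (15, [(108, -1)]), (16, [(113, 1)]), (18, [(123, 1)]), (19, [(124, -1)]), (20, [(125, 1)]), (22, [(135, 1)]), (26, [(136, -1)]), (30, [(138, 1)]), (31, [(139, -1)]), (32, [(140, 1)]), (36, [(147, 1)]), (40, [(149, -1)]), (41, [(150, 1)]), (42, [(151, -1)]), (46, [(153, 1)]), (47, [(154, -1)]), (48, [(155, 1)]), (52, [(159, 1)]), (53, [(160, -1)]), (54, [(161, 1)]), (78, [(185, -1)]), (79, [(186, 1)]), (80, [(187, -1)]), (84, [(191, -1)]), (85, [(192, 1)]), (86, [(193, -1)]), (88, [(197, 1)]), (89, [(198, -1)]), (90, [(199, 1)]), (92, [(203, -1)]), (99, [(207, -1)]), (100, [(208, 1)]), (101, [(209, -1)]), (103, [(213, 1)]), (104, [(217, -1)]), (114, [(219, -1)]), (115, [(220, 1)]), (116, [(221, -1)]), (126, [(223, -1)]), (131, [(224, 1)]), (143, [(225, -1)]), (162, [(229, -1)]), (165, [(232, -1)]), (170, [(234, -1)]), (174, [(235, -1)]), (178, [(237, 1)]), (179, [(238, 1)]), (180, [(239, 1)])]))) (.node (.node (.leaf [(16, [(0, -1)]), (20, [(4, 1)]), (29, [(6, -1)]), (39, [(8, -1)]), (48, [(10, 1)]), (50, [(11, 1)]), (51, [(12, 1)]), (80, [(22, 1)]), (82, [(23, 1)]), (83, [(24, 1)]), (89, [(30, -1)]), (90, [(31, -1)]), (91, [(33, -1)]), (100, [(40, -1)]), (101, [(41, -1)]), (102, [(43, -1)]), (104, [(52, 1)]), (111, [(56, 1)]), (112, [(57, 1)]), (113, [(59, 1)]), (120, [(63, 1)]), (122, [(64, 1)]), (125, [(65, 1)]), (130, [(66, 1)]), (134, [(70, -1)]), (142, [(71, 1)]), (146, [(75, -1)]), (155, [(77, 1)]), (162, [(84, -1)]), (164, [(93, 1)]), (168, [(97, -1)]), (169, [(105, 1)]), (173, [(109, -1)]), (174, [(114, -1)]), (175, [(117, -1)]), (176, [(119, -1)]), (180, [(126, -1)]), (182, [(127, -1)]), (183, [(128, -1)]), (187, [(135, -1)]), (196, [(137, 1)]), (198, [(138, 1)]), (199, [(139, 1)]), (206, [(148, 1)]), (208, [(149, 1)]), (209, [(150, 1)]), (215, [(156, -1)]), (216, [(157, -1)]), (217, [(159, -1)]), (227, [(188, -1)]), (228, [(189, -1)]), (229, [(191, -1)]), (231, [(200, 1)]), (233, [(210, 1)]), (235, [(219, -1)]), (239, [(223, 1)])]) (.leaf [(0, [(22, -1)]), (3, [(25, -1)]), (5, [(32, 1)]), (7, [(42, 1)]), (9, [(58, -1)]), (11, [(63, 1)]), (12, [(64, 1)]), (16, [(80, 1)]), (18, [(85, -1)]), (19, [(86, -1)]), (27, [(94, 1)]), (28, [(95, 1)]), (33, [(97, -1)]), (37, [(106, -1)]), (38, [(107, -1)]), (43, [(109, 1)]), (46, [(115, 1)]), (47, [(116, 1)]), (50, [(120, 1)]), (51, [(122, 1)]), (52, [(126, 1)]), (55, [(129, -1)]), (59, [(135, 1)]), (66, [(137, -1)]), (69, [(140, 1)]), (71, [(148, 1)]), (74, [(151, -1)]), (76, [(158, 1)]), (81, [(163, -1)]), (88, [(165, 1)]), (91, [(168, -1)]), (99, [(170, -1)]), (102, [(173, 1)]), (104, [(180, -1)]), (110, [(184, 1)]), (113, [(187, -1)]), (117, [(188, -1)]), (119, [(189, -1)]), (123, [(192, -1)]), (124, [(193, -1)]), (130, [(196, -1)]), (132, [(201, 1)]), (133, [(202, 1)]), (142, [(206, 1)]), (144, [(211, -1)]), (145, [(212, -1)]), (153, [(220, 1)]), (154, [(221, 1)]), (159, [(223, -1)]), (175, [(227, -1)]), (176, [(228, -1)]), (181, [(230, 1)]), (197, [(232, -1)]), (207, [(234, -1)]), (214, [(236, 1)]), (217, [(239, 1)])])) (.node (.leaf [(3, [(4, -1)]), (9, [(10, -1)]), (16, [(17, -1)]), (21, [(22, -1)]), (27, [(30, -1)]), (28, [(31, -1)]), (29, [(32, -1)]), (37, [(40, -1)]), (38, [(41, -1)]), (39, [(42, -1)]), (49, [(52, -1)]), (50, [(53, -1)]), (51, [(54, -1)]), (59, [(62, -1)]), (60, [(63, -1)]), (61, [(64, -1)]), (69, [(70, -1)]), (74, [(75, -1)]), (81, [(84, -1)]), (82, [(85, -1)]), (83, [(86, -1)]), (91, [(92, -1)]), (96, [(97, -1)]), (102, [(103, -1)]), (108, [(109, -1)]), (110, [(114, 1)]), (111, [(115, 1)]), (112, [(116, 1)]), (123, [(127, -1)]), (124, [(128, -1)]), (125, [(129, -1)]), (130, [(131, 1)]), (136, [(137, 1)]), (142, [(143, 1)]), (147, [(148, 1)]), (153, [(156, 1)]), (154, [(157, 1)]), (155, [(158, 1)]), (164, [(165, 1)]), (169, [(170, 1)]), (175, [(178, 1)]), (176, [(179, 1)]), (177, [(180, 1)]), (185, [(188, 1)]), (186, [(189, 1)]), (187, [(190, 1)]), (197, [(200, 1)]), (198, [(201, 1)]), (199, [(202, 1)]), (207, [(210, 1)]), (208, [(211, 1)]), (209, [(212, 1)]), (217, [(218, 1)]), (222, [(223, 1)]), (229, [(230, 1)]), (235, [(236, 1)])]) (.leaf [(1, [(120, 1)]), (2, [(122, 1)]), (3, [(125, 1)]), (4, [(129, 1)]), (5, [(134, 1)]), (6, [(140, 1)]), (7, [(146, 1)]), (8, [(151, -1)]), (9, [(155, 1)]), (10, [(158, -1)]), (11, [(160, 1)]), (12, [(161, -1)]), (14, [(168, 1)]), (15, [(173, -1)]), (16, [(177, 1)]), (17, [(180, -1)]), (18, [(182, 1)]), (19, [(183, -1)]), (21, [(187, -1)]), (22, [(190, 1)]), (23, [(192, -1)]), (24, [(193, 1)]), (26, [(196, -1)]), (27, [(198, 1)]), (28, [(199, -1)]), (30, [(201, -1)]), (31, [(202, 1)]), (33, [(203, -1)]), (36, [(206, 1)]), (37, [(208, -1)]), (38, [(209, 1)]), (40, [(211, 1)]), (41, [(212, -1)]), (43, [(213, 1)]), (46, [(215, -1)]), (47, [(216, 1)]), (49, [(217, -1)]), (52, [(218, 1)]), (56, [(220, 1)]), (57, [(221, -1)]), (59, [(222, 1)]), (62, [(223, -1)]), (66, [(224, 1)]), (71, [(225, -1)]), (78, [(227, 1)]), (79, [(228, -1)]), (81, [(229, 1)]), (84, [(230, -1)]), (88, [(231, 1)]), (93, [(232, -1)]), (99, [(233, -1)]), (105, [(234, -1)]), (110, [(235, -1)]), (114, [(236, -1)]), (117, [(237, -1)]), (119, [(238, -1)])])))))))) (.node (.node (.node (.node (.node (.node (.node (.leaf [(119, [(0, 1)]), (121, [(2, 1)]), (124, [(3, 1)]), (128, [(4, 1)]), (133, [(5, 1)]), (139, [(6, 1)]), (145, [(7, 1)]), (150, [(8, -1)]), (154, [(9, 1)]), (157, [(10, -1)]), (159, [(11, 1)]), (161, [(13, -1)]), (167, [(14, 1)]), (172, [(15, -1)]), (176, [(16, 1)]), (179, [(17, -1)]), (181, [(18, 1)]), (183, [(20, -1)]), (186, [(21, -1)]), (189, [(22, 1)]), (191, [(23, -1)]), (193, [(25, 1)]), (195, [(26, -1)]), (197, [(27, 1)]), (199, [(29, -1)]), (200, [(30, -1)]), (202, [(32, 1)]), (203, [(34, -1)]), (205, [(36, 1)]), (207, [(37, -1)]), (209, [(39, 1)]), (210, [(40, 1)]), (212, [(42, -1)]), (213, [(44, 1)]), (214, [(46, -1)]), (216, [(48, 1)]), (217, [(50, -1)]), (218, [(53, 1)]), (219, [(56, 1)]), (221, [(58, -1)]), (222, [(60, 1)]), (223, [(63, -1)]), (224, [(67, 1)]), (225, [(72, -1)]), (226, [(78, 1)]), (228, [(80, -1)]), (229, [(82, 1)]), (230, [(85, -1)]), (231, [(89, 1)]), (232, [(94, -1)]), (233, [(100, -1)]), (234, [(106, -1)]), (235, [(111, -1)]), (236, [(115, -1)]), (237, [(118, -1)]), (239, [(120, -1)])]) (.leaf [(0, [(4, -1)]), (9, [(13, 1)]), (16, [(20, 1)]), (21, [(25, 1)]), (26, [(32, -1)]), (27, [(34, -1)]), (28, [(35, -1)]), (36, [(42, -1)]), (37, [(44, -1)]), (38, [(45, -1)]), (46, [(53, 1)]), (47, [(54, 1)]), (49, [(55, 1)]), (56, [(63, 1)]), (57, [(64, 1)]), (59, [(65, 1)]), (66, [(70, -1)]), (71, [(75, -1)]), (78, [(85, 1)]), (79, [(86, 1)]), (81, [(87, 1)]), (88, [(92, -1)]), (93, [(97, -1)]), (99, [(103, -1)]), (105, [(109, -1)]), (111, [(120, 1)]), (112, [(122, 1)]), (113, [(125, 1)]), (114, [(126, -1)]), (117, [(127, -1)]), (119, [(128, -1)]), (130, [(134, 1)]), (136, [(140, 1)]), (142, [(146, 1)]), (147, [(151, 1)]), (152, [(158, -1)]), (153, [(160, -1)]), (154, [(161, -1)]), (164, [(168, 1)]), (169, [(173, 1)]), (174, [(180, -1)]), (175, [(182, -1)]), (176, [(183, -1)]), (184, [(190, -1)]), (185, [(192, -1)]), (186, [(193, -1)]), (194, [(201, 1)]), (195, [(202, 1)]), (197, [(203, 1)]), (204, [(211, 1)]), (205, [(212, 1)]), (207, [(213, 1)]), (214, [(218, -1)]), (219, [(223, -1)]), (226, [(230, -1)]), (235, [(239, 1)])])) (.node (.leaf [(16, [(3, -1)]), (17, [(4, -1)]), (26, [(6, 1)]), (36, [(8, 1)]), (46, [(11, 1)]), (47, [(12, 1)]), (48, [(13, 1)]), (78, [(23, 1)]), (79, [(24, 1)]), (80, [(25, 1)]), (88, [(33, 1)]), (89, [(34, 1)]), (90, [(35, 1)]), (99, [(43, 1)]), (100, [(44, 1)]), (101, [(45, 1)]), (104, [(55, 1)]), (110, [(59, -1)]), (111, [(60, -1)]), (112, [(61, -1)]), (114, [(62, 1)]), (115, [(63, 1)]), (116, [(64, 1)]), (130, [(69, 1)]), (131, [(70, -1)]), (142, [(74, 1)]), (143, [(75, -1)]), (152, [(77, 1)]), (162, [(87, -1)]), (164, [(96, 1)]), (165, [(97, -1)]), (169, [(108, 1)]), (170, [(109, -1)]), (175, [(123, -1)]), (176, [(124, -1)]), (177, [(125, -1)]), (178, [(127, 1)]), (179, [(128, 1)]), (180, [(129, 1)]), (184, [(135, -1)]), (194, [(138, -1)]), (195, [(139, -1)]), (196, [(140, -1)]), (204, [(149, -1)]), (205, [(150, -1)]), (206, [(151, -1)]), (214, [(159, -1)]), (215, [(160, -1)]), (216, [(161, -1)]), (226, [(191, -1)]), (227, [(192, -1)]), (228, [(193, -1)]), (231, [(203, -1)]), (233, [(213, -1)]), (235, [(222, 1)]), (236, [(223, 1)])]) (.leaf [(0, [(24, -1)]), (1, [(25, -1)]), (5, [(35, 1)]), (7, [(45, 1)]), (9, [(61, -1)]), (10, [(64, -1)]), (11, [(65, -1)]), (16, [(83, 1)]), (17, [(86, 1)]), (18, [(87, 1)]), (26, [(95, -1)]), (27, [(96, -1)]), (30, [(97, -1)]), (36, [(107, 1)]), (37, [(108, 1)]), (40, [(109, 1)]), (47, [(121, 1)]), (48, [(122, -1)]), (49, [(124, 1)]), (50, [(125, -1)]), (52, [(128, 1)]), (53, [(129, -1)]), (56, [(135, 1)]), (66, [(139, -1)]), (67, [(140, 1)]), (71, [(150, 1)]), (72, [(151, -1)]), (76, [(161, 1)]), (78, [(163, -1)]), (88, [(167, 1)]), (89, [(168, -1)]), (99, [(172, -1)]), (100, [(173, 1)]), (104, [(183, -1)]), (110, [(186, 1)]), (111, [(187, -1)]), (114, [(189, 1)]), (115, [(190, -1)]), (117, [(191, 1)]), (118, [(192, -1)]), (130, [(199, -1)]), (131, [(202, -1)]), (132, [(203, -1)]), (142, [(209, 1)]), (143, [(212, 1)]), (144, [(213, 1)]), (152, [(221, -1)]), (153, [(222, -1)]), (156, [(223, -1)]), (174, [(228, 1)]), (175, [(229, 1)]), (178, [(230, 1)]), (194, [(232, -1)]), (204, [(234, -1)]), (214, [(238, 1)]), (215, [(239, 1)])]))) (.node (.node (.leaf [(36, [(0, -1)]), (39, [(3, -1)]), (42, [(4, -1)]), (48, [(5, -1)]), (58, [(6, -1)]), (72, [(11, 1)]), (73, [(12, 1)]), (80, [(14, 1)]), (100, [(18, -1)]), (101, [(19, -1)]), (106, [(23, 1)]), (107, [(24, 1)]), (111, [(27, -1)]), (112, [(28, -1)]), (115, [(30, 1)]), (116, [(31, 1)]), (120, [(34, 1)]), (122, [(35, 1)]), (141, [(43, 1)]), (142, [(49, -1)]), (143, [(52, 1)]), (146, [(55, -1)]), (147, [(59, 1)]), (148, [(62, -1)]), (151, [(65, 1)]), (152, [(66, 1)]), (155, [(69, -1)]), (158, [(70, 1)]), (169, [(81, -1)]), (170, [(84, 1)]), (173, [(87, -1)]), (174, [(88, -1)]), (177, [(91, 1)]), (180, [(92, -1)]), (184, [(93, 1)]), (187, [(96, -1)]), (190, [(97, 1)]), (196, [(98, -1)]), (204, [(117, -1)]), (205, [(119, -1)]), (208, [(123, -1)]), (209, [(124, -1)]), (211, [(127, 1)]), (212, [(128, 1)]), (215, [(132, -1)]), (216, [(133, -1)]), (220, [(138, 1)]), (221, [(139, 1)]), (225, [(159, -1)]), (227, [(166, -1)]), (228, [(167, -1)]), (233, [(181, 1)]), (234, [(191, 1)]), (235, [(197, 1)]), (236, [(200, 1)]), (239, [(203, 1)])]) (.leaf [(0, [(12, 1)]), (1, [(13, 1)]), (14, [(35, -1)]), (15, [(45, -1)]), (16, [(51, -1)]), (17, [(54, -1)]), (18, [(55, -1)]), (21, [(61, -1)]), (22, [(64, -1)]), (23, [(65, -1)]), (26, [(68, -1)]), (27, [(69, -1)]), (30, [(70, -1)]), (36, [(73, -1)]), (37, [(74, -1)]), (40, [(75, -1)]), (46, [(76, -1)]), (56, [(77, -1)]), (79, [(121, 1)]), (80, [(122, -1)]), (81, [(124, 1)]), (82, [(125, -1)]), (84, [(128, 1)]), (85, [(129, -1)]), (88, [(133, 1)]), (89, [(134, -1)]), (93, [(139, 1)]), (94, [(140, -1)]), (99, [(145, 1)]), (100, [(146, -1)]), (105, [(150, 1)]), (106, [(151, -1)]), (110, [(154, 1)]), (111, [(155, -1)]), (114, [(157, 1)]), (115, [(158, -1)]), (117, [(159, 1)]), (118, [(160, -1)]), (162, [(183, 1)]), (163, [(193, 1)]), (164, [(199, 1)]), (165, [(202, 1)]), (166, [(203, 1)]), (169, [(209, 1)]), (170, [(212, 1)]), (171, [(213, 1)]), (174, [(216, 1)]), (175, [(217, 1)]), (178, [(218, 1)]), (184, [(221, 1)]), (185, [(222, 1)]), (188, [(223, 1)]), (194, [(224, 1)]), (204, [(225, 1)]), (226, [(238, -1)]), (227, [(239, -1)])])) (.node (.leaf [(7, [(4, -1)]), (9, [(6, 1)]), (16, [(14, 1)]), (36, [(22, -1)]), (37, [(23, -1)]), (38, [(24, -1)]), (39, [(25, -1)]), (46, [(30, 1)]), (47, [(31, 1)]), (48, [(32, 1)]), (49, [(33, 1)]), (50, [(34, 1)]), (51, [(35, 1)]), (71, [(62, -1)]), (72, [(63, -1)]), (73, [(64, -1)]), (74, [(65, -1)]), (76, [(70, 1)]), (99, [(84, -1)]), (100, [(85, -1)]), (101, [(86, -1)]), (102, [(87, -1)]), (104, [(92, 1)]), (110, [(93, 1)]), (111, [(94, 1)]), (112, [(95, 1)]), (113, [(96, 1)]), (130, [(98, 1)]), (141, [(109, -1)]), (143, [(126, -1)]), (144, [(127, -1)]), (145, [(128, -1)]), (146, [(129, -1)]), (147, [(135, -1)]), (152, [(137, 1)]), (153, [(138, 1)]), (154, [(139, 1)]), (155, [(140, 1)]), (169, [(163, -1)]), (174, [(165, 1)]), (175, [(166, 1)]), (176, [(167, 1)]), (177, [(168, 1)]), (204, [(188, -1)]), (205, [(189, -1)]), (206, [(190, -1)]), (207, [(191, -1)]), (208, [(192, -1)]), (209, [(193, -1)]), (214, [(200, 1)]), (215, [(201, 1)]), (216, [(202, 1)]), (217, [(203, 1)]), (225, [(223, -1)]), (233, [(230, -1)]), (235, [(232, 1)])]) (.leaf [(0, [(71, 1)]), (1, [(72, 1)]), (2, [(73, 1)]), (3, [(74, 1)]), (4, [(75, 1)]), (5, [(76, 1)]), (6, [(77, 1)]), (15, [(141, 1)]), (16, [(142, -1)]), (17, [(143, 1)]), (18, [(144, -1)]), (19, [(145, 1)]), (20, [(146, -1)]), (21, [(147, 1)]), (22, [(148, -1)]), (23, [(149, 1)]), (24, [(150, -1)]), (25, [(151, 1)]), (26, [(152, 1)]), (27, [(153, -1)]), (28, [(154, 1)]), (29, [(155, -1)]), (30, [(156, 1)]), (31, [(157, -1)]), (32, [(158, 1)]), (33, [(159, 1)]), (34, [(160, -1)]), (35, [(161, 1)]), (78, [(204, -1)]), (79, [(205, 1)]), (80, [(206, -1)]), (81, [(207, -1)]), (82, [(208, 1)]), (83, [(209, -1)]), (84, [(210, 1)]), (85, [(211, -1)]), (86, [(212, 1)]), (87, [(213, -1)]), (88, [(214, -1)]), (89, [(215, 1)]), (90, [(216, -1)]), (91, [(217, 1)]), (92, [(218, -1)]), (93, [(219, 1)]), (94, [(220, -1)]), (95, [(221, 1)]), (96, [(222, -1)]), (97, [(223, 1)]), (98, [(224, -1)]), (162, [(233, -1)]), (163, [(234, -1)]), (164, [(235, -1)]), (165, [(236, -1)]), (166, [(237, -1)]), (167, [(238, -1)]), (168, [(239, -1)])])))) (.node (.node (.node (.leaf [(59, [(0, -1)]), (60, [(1, -1)]), (61, [(2, -1)]), (65, [(4, 1)]), (69, [(5, 1)]), (74, [(7, 1)]), (77, [(10, 1)]), (96, [(14, 1)]), (108, [(15, -1)]), (113, [(16, 1)]), (123, [(18, 1)]), (124, [(19, -1)]), (125, [(20, 1)]), (135, [(22, 1)]), (136, [(26, -1)]), (138, [(30, 1)]), (139, [(31, -1)]), (140, [(32, 1)]), (147, [(36, 1)]), (149, [(40, -1)]), (150, [(41, 1)]), (151, [(42, -1)]), (153, [(46, 1)]), (154, [(47, -1)]), (155, [(48, 1)]), (159, [(52, 1)]), (160, [(53, -1)]), (161, [(54, 1)]), (185, [(78, -1)]), (186, [(79, 1)]), (187, [(80, -1)]), (191, [(84, -1)]), (192, [(85, 1)]), (193, [(86, -1)]), (197, [(88, 1)]), (198, [(89, -1)]), (199, [(90, 1)]), (203, [(92, -1)]), (207, [(99, -1)]), (208, [(100, 1)]), (209, [(101, -1)]), (213, [(103, 1)]), (217, [(104, -1)]), (219, [(114, -1)]), (220, [(115, 1)]), (221, [(116, -1)]), (223, [(126, -1)]), (224, [(131, 1)]), (225, [(143, -1)]), (229, [(162, -1)]), (232, [(165, -1)]), (234, [(170, -1)]), (235, [(174, -1)]), (237, [(178, 1)]), (238, [(179, 1)]), (239, [(180, 1)])]) (.leaf [(1, [(7, -1)]), (6, [(12, -1)]), (14, [(19, -1)]), (21, [(38, -1)]), (22, [(41, -1)]), (23, [(43, -1)]), (25, [(45, 1)]), (26, [(47, -1)]), (27, [(49, -1)]), (29, [(51, 1)]), (30, [(52, -1)]), (32, [(54, 1)]), (34, [(55, 1)]), (56, [(71, -1)]), (58, [(73, 1)]), (60, [(74, 1)]), (63, [(75, 1)]), (67, [(76, 1)]), (78, [(99, -1)]), (80, [(101, 1)]), (82, [(102, 1)]), (85, [(103, 1)]), (89, [(104, 1)]), (93, [(119, 1)]), (95, [(121, 1)]), (96, [(124, 1)]), (97, [(128, 1)]), (98, [(133, 1)]), (106, [(141, -1)]), (111, [(142, -1)]), (115, [(143, -1)]), (118, [(144, -1)]), (120, [(146, -1)]), (135, [(150, -1)]), (136, [(154, -1)]), (137, [(157, -1)]), (138, [(159, -1)]), (140, [(161, 1)]), (163, [(172, -1)]), (164, [(176, -1)]), (165, [(179, -1)]), (166, [(181, -1)]), (168, [(183, 1)]), (184, [(205, -1)]), (185, [(207, -1)]), (187, [(209, 1)]), (188, [(210, -1)]), (190, [(212, 1)]), (192, [(213, 1)]), (194, [(214, -1)]), (196, [(216, 1)]), (198, [(217, 1)]), (201, [(218, 1)]), (220, [(225, 1)]), (227, [(233, 1)]), (232, [(238, 1)])])) (.node (.leaf [(10, [(0, 1)]), (13, [(3, 1)]), (32, [(14, -1)]), (42, [(15, -1)]), (48, [(16, -1)]), (53, [(18, 1)]), (54, [(19, 1)]), (58, [(21, -1)]), (63, [(23, 1)]), (64, [(24, 1)]), (67, [(27, 1)]), (68, [(28, 1)]), (70, [(33, -1)]), (72, [(37, 1)]), (73, [(38, 1)]), (75, [(43, -1)]), (76, [(49, -1)]), (77, [(59, -1)]), (115, [(78, 1)]), (116, [(79, 1)]), (120, [(82, 1)]), (122, [(83, 1)]), (126, [(84, 1)]), (129, [(87, -1)]), (131, [(88, 1)]), (134, [(91, -1)]), (137, [(93, 1)]), (140, [(96, -1)]), (143, [(99, 1)]), (146, [(102, -1)]), (148, [(105, 1)]), (151, [(108, -1)]), (152, [(110, 1)]), (155, [(113, -1)]), (156, [(117, -1)]), (157, [(119, -1)]), (160, [(123, -1)]), (161, [(124, -1)]), (180, [(162, 1)]), (190, [(163, 1)]), (196, [(164, 1)]), (201, [(166, -1)]), (202, [(167, -1)]), (206, [(169, 1)]), (211, [(171, -1)]), (212, [(172, -1)]), (215, [(175, -1)]), (216, [(176, -1)]), (218, [(181, 1)]), (220, [(185, -1)]), (221, [(186, -1)]), (223, [(191, 1)]), (224, [(197, 1)]), (225, [(207, 1)]), (236, [(226, -1)]), (239, [(229, -1)])]) (.leaf [(0, [(38, -1)]), (1, [(39, -1)]), (4, [(45, -1)]), (5, [(51, -1)]), (6, [(61, -1)]), (10, [(73, -1)]), (11, [(74, -1)]), (14, [(83, 1)]), (17, [(101, 1)]), (18, [(102, 1)]), (22, [(107, -1)]), (23, [(108, -1)]), (26, [(112, 1)]), (27, [(113, 1)]), (31, [(121, 1)]), (32, [(122, -1)]), (33, [(124, 1)]), (34, [(125, -1)]), (40, [(141, 1)]), (46, [(142, -1)]), (52, [(145, 1)]), (53, [(146, -1)]), (56, [(147, 1)]), (62, [(150, -1)]), (63, [(151, 1)]), (66, [(154, 1)]), (67, [(155, -1)]), (70, [(161, 1)]), (78, [(169, -1)]), (84, [(172, 1)]), (85, [(173, -1)]), (88, [(176, -1)]), (89, [(177, 1)]), (92, [(183, -1)]), (93, [(186, 1)]), (94, [(187, -1)]), (97, [(193, 1)]), (98, [(199, -1)]), (114, [(205, 1)]), (115, [(206, -1)]), (117, [(207, 1)]), (118, [(208, -1)]), (126, [(212, -1)]), (127, [(213, -1)]), (131, [(216, 1)]), (132, [(217, 1)]), (137, [(221, -1)]), (138, [(222, -1)]), (156, [(225, -1)]), (165, [(228, 1)]), (166, [(229, 1)]), (178, [(233, 1)]), (188, [(234, 1)]), (194, [(235, 1)]), (200, [(238, 1)]), (201, [(239, 1)])]))) (.node (.node (.leaf [(22, [(0, -1)]), (25, [(3, -1)]), (32, [(5, 1)]), (42, [(7, 1)]), (58, [(9, -1)]), (63, [(11, 1)]), (64, [(12, 1)]), (80, [(16, 1)]), (85, [(18, -1)]), (86, [(19, -1)]), (94, [(27, 1)]), (95, [(28, 1)]), (97, [(33, -1)]), (106, [(37, -1)]), (107, [(38, -1)]), (109, [(43, 1)]), (115, [(46, 1)]), (116, [(47, 1)]), (120, [(50, 1)]), (122, [(51, 1)]), (126, [(52, 1)]), (129, [(55, -1)]), (135, [(59, 1)]), (137, [(66, -1)]), (140, [(69, 1)]), (148, [(71, 1)]), (151, [(74, -1)]), (158, [(76, 1)]), (163, [(81, -1)]), (165, [(88, 1)]), (168, [(91, -1)]), (170, [(99, -1)]), (173, [(102, 1)]), (180, [(104, -1)]), (184, [(110, 1)]), (187, [(113, -1)]), (188, [(117, -1)]), (189, [(119, -1)]), (192, [(123, -1)]), (193, [(124, -1)]), (196, [(130, -1)]), (201, [(132, 1)]), (202, [(133, 1)]), (206, [(142, 1)]), (211, [(144, -1)]), (212, [(145, -1)]), (220, [(153, 1)]), (221, [(154, 1)]), (223, [(159, -1)]), (227, [(175, -1)]), (228, [(176, -1)]), (230, [(181, 1)]), (232, [(197, -1)]), (234, [(207, -1)]), (236, [(214, 1)]), (239, [(217, 1)])]) (.leaf [(0, [(16, -1)]), (4, [(20, 1)]), (6, [(29, -1)]), (8, [(39, -1)]), (10, [(48, 1)]), (11, [(50, 1)]), (12, [(51, 1)]), (22, [(80, 1)]), (23, [(82, 1)]), (24, [(83, 1)]), (30, [(89, -1)]), (31, [(90, -1)]), (33, [(91, -1)]), (40, [(100, -1)]), (41, [(101, -1)]), (43, [(102, -1)]), (52, [(104, 1)]), (56, [(111, 1)]), (57, [(112, 1)]), (59, [(113, 1)]), (63, [(120, 1)]), (64, [(122, 1)]), (65, [(125, 1)]), (66, [(130, 1)]), (70, [(134, -1)]), (71, [(142, 1)]), (75, [(146, -1)]), (77, [(155, 1)]), (84, [(162, -1)]), (93, [(164, 1)]), (97, [(168, -1)]), (105, [(169, 1)]), (109, [(173, -1)]), (114, [(174, -1)]), (117, [(175, -1)]), (119, [(176, -1)]), (126, [(180, -1)]), (127, [(182, -1)]), (128, [(183, -1)]), (135, [(187, -1)]), (137, [(196, 1)]), (138, [(198, 1)]), (139, [(199, 1)]), (148, [(206, 1)]), (149, [(208, 1)]), (150, [(209, 1)]), (156, [(215, -1)]), (157, [(216, -1)]), (159, [(217, -1)]), (188, [(227, -1)]), (189, [(228, -1)]), (191, [(229, -1)]), (200, [(231, 1)]), (210, [(233, 1)]), (219, [(235, -1)]), (223, [(239, 1)])])) (.node (.leaf [(4, [(3, -1)]), (10, [(9, -1)]), (17, [(16, -1)]), (22, [(21, -1)]), (30, [(27, -1)]), (31, [(28, -1)]), (32, [(29, -1)]), (40, [(37, -1)]), (41, [(38, -1)]), (42, [(39, -1)]), (52, [(49, -1)]), (53, [(50, -1)]), (54, [(51, -1)]), (62, [(59, -1)]), (63, [(60, -1)]), (64, [(61, -1)]), (70, [(69, -1)]), (75, [(74, -1)]), (84, [(81, -1)]), (85, [(82, -1)]), (86, [(83, -1)]), (92, [(91, -1)]), (97, [(96, -1)]), (103, [(102, -1)]), (109, [(108, -1)]), (114, [(110, 1)]), (115, [(111, 1)]), (116, [(112, 1)]), (127, [(123, -1)]), (128, [(124, -1)]), (129, [(125, -1)]), (131, [(130, 1)]), (137, [(136, 1)]), (143, [(142, 1)]), (148, [(147, 1)]), (156, [(153, 1)]), (157, [(154, 1)]), (158, [(155, 1)]), (165, [(164, 1)]), (170, [(169, 1)]), (178, [(175, 1)]), (179, [(176, 1)]), (180, [(177, 1)]), (188, [(185, 1)]), (189, [(186, 1)]), (190, [(187, 1)]), (200, [(197, 1)]), (201, [(198, 1)]), (202, [(199, 1)]), (210, [(207, 1)]), (211, [(208, 1)]), (212, [(209, 1)]), (218, [(217, 1)]), (223, [(222, 1)]), (230, [(229, 1)]), (236, [(235, 1)])]) (.leaf [(1, [(120, 1)]), (2, [(122, 1)]), (3, [(125, 1)]), (4, [(129, 1)]), (5, [(134, 1)]), (6, [(140, 1)]), (7, [(146, 1)]), (8, [(151, -1)]), (9, [(155, 1)]), (10, [(158, -1)]), (11, [(160, 1)]), (12, [(161, -1)]), (14, [(168, 1)]), (15, [(173, -1)]), (16, [(177, 1)]), (17, [(180, -1)]), (18, [(182, 1)]), (19, [(183, -1)]), (21, [(187, -1)]), (22, [(190, 1)]), (23, [(192, -1)]), (24, [(193, 1)]), (26, [(196, -1)]), (27, [(198, 1)]), (28, [(199, -1)]), (30, [(201, -1)]), (31, [(202, 1)]), (33, [(203, -1)]), (36, [(206, 1)]), (37, [(208, -1)]), (38, [(209, 1)]), (40, [(211, 1)]), (41, [(212, -1)]), (43, [(213, 1)]), (46, [(215, -1)]), (47, [(216, 1)]), (49, [(217, -1)]), (52, [(218, 1)]), (56, [(220, 1)]), (57, [(221, -1)]), (59, [(222, 1)]), (62, [(223, -1)]), (66, [(224, 1)]), (71, [(225, -1)]), (78, [(227, 1)]), (79, [(228, -1)]), (81, [(229, 1)]), (84, [(230, -1)]), (88, [(231, 1)]), (93, [(232, -1)]), (99, [(233, -1)]), (105, [(234, -1)]), (110, [(235, -1)]), (114, [(236, -1)]), (117, [(237, -1)]), (119, [(238, -1)])]))))) (.node (.node (.node (.node (.leaf [(84, [(0, 1)]), (85, [(1, 1)]), (86, [(2, 1)]), (87, [(3, 1)]), (92, [(5, -1)]), (97, [(6, -1)]), (103, [(7, -1)]), (109, [(8, 1)]), (126, [(10, 1)]), (127, [(11, -1)]), (128, [(12, 1)]), (129, [(13, -1)]), (162, [(16, 1)]), (163, [(21, -1)]), (165, [(26, 1)]), (166, [(27, -1)]), (167, [(28, 1)]), (168, [(29, -1)]), (170, [(36, -1)]), (171, [(37, 1)]), (172, [(38, -1)]), (173, [(39, 1)]), (178, [(46, -1)]), (179, [(47, 1)]), (180, [(48, -1)]), (181, [(49, -1)]), (182, [(50, 1)]), (183, [(51, -1)]), (188, [(56, 1)]), (189, [(57, -1)]), (190, [(58, 1)]), (191, [(59, 1)]), (192, [(60, -1)]), (193, [(61, 1)]), (200, [(66, -1)]), (201, [(67, 1)]), (202, [(68, -1)]), (203, [(69, 1)]), (210, [(71, 1)]), (211, [(72, -1)]), (212, [(73, 1)]), (213, [(74, -1)]), (218, [(76, 1)]), (223, [(77, -1)]), (226, [(110, 1)]), (227, [(111, -1)]), (228, [(112, 1)]), (229, [(113, -1)]), (231, [(130, -1)]), (232, [(136, 1)]), (233, [(142, 1)]), (234, [(147, 1)]), (236, [(152, -1)]), (237, [(153, -1)]), (238, [(154, -1)]), (239, [(155, -1)])]) (.leaf [(3, [(6, -1)]), (7, [(10, -1)]), (15, [(22, 1)]), (16, [(26, 1)]), (18, [(30, -1)]), (19, [(31, -1)]), (20, [(32, -1)]), (37, [(56, -1)]), (38, [(57, -1)]), (39, [(58, -1)]), (43, [(62, 1)]), (44, [(63, 1)]), (45, [(64, 1)]), (49, [(66, 1)]), (50, [(67, 1)]), (51, [(68, 1)]), (55, [(70, -1)]), (74, [(77, -1)]), (81, [(93, -1)]), (82, [(94, -1)]), (83, [(95, -1)]), (87, [(97, 1)]), (91, [(98, 1)]), (99, [(114, 1)]), (100, [(115, 1)]), (101, [(116, 1)]), (103, [(126, 1)]), (104, [(131, 1)]), (108, [(135, -1)]), (113, [(136, -1)]), (123, [(138, -1)]), (124, [(139, -1)]), (125, [(140, -1)]), (141, [(148, -1)]), (142, [(152, -1)]), (144, [(156, 1)]), (145, [(157, 1)]), (146, [(158, 1)]), (162, [(165, 1)]), (169, [(184, 1)]), (171, [(188, -1)]), (172, [(189, -1)]), (173, [(190, -1)]), (175, [(194, -1)]), (176, [(195, -1)]), (177, [(196, -1)]), (181, [(200, 1)]), (182, [(201, 1)]), (183, [(202, 1)]), (207, [(219, 1)]), (208, [(220, 1)]), (209, [(221, 1)]), (213, [(223, -1)]), (217, [(224, -1)]), (229, [(232, 1)]), (233, [(236, 1)])])) (.node (.leaf [(14, [(2, -1)]), (18, [(7, 1)]), (23, [(8, 1)]), (27, [(9, 1)]), (30, [(10, 1)]), (33, [(12, -1)]), (34, [(13, -1)]), (78, [(36, 1)]), (81, [(38, -1)]), (82, [(39, -1)]), (84, [(41, -1)]), (85, [(42, -1)]), (87, [(45, 1)]), (88, [(47, -1)]), (89, [(48, -1)]), (91, [(51, 1)]), (92, [(54, 1)]), (93, [(57, -1)]), (94, [(58, -1)]), (96, [(61, 1)]), (97, [(64, 1)]), (98, [(68, 1)]), (117, [(71, 1)]), (118, [(72, 1)]), (123, [(74, 1)]), (127, [(75, 1)]), (132, [(76, 1)]), (138, [(77, 1)]), (162, [(101, -1)]), (163, [(107, -1)]), (164, [(112, -1)]), (165, [(116, -1)]), (167, [(121, -1)]), (168, [(122, -1)]), (171, [(141, -1)]), (175, [(142, -1)]), (178, [(143, -1)]), (181, [(145, 1)]), (182, [(146, 1)]), (185, [(147, -1)]), (188, [(148, -1)]), (191, [(150, 1)]), (192, [(151, 1)]), (194, [(152, -1)]), (197, [(154, 1)]), (198, [(155, 1)]), (200, [(157, 1)]), (201, [(158, 1)]), (203, [(161, -1)]), (226, [(205, 1)]), (227, [(206, 1)]), (229, [(209, -1)]), (230, [(212, -1)]), (231, [(216, -1)]), (232, [(221, -1)]), (237, [(225, 1)])]) (.leaf [(0, [(30, 1)]), (2, [(32, -1)]), (3, [(34, -1)]), (7, [(53, -1)]), (8, [(63, -1)]), (9, [(67, -1)]), (12, [(70, -1)]), (15, [(85, 1)]), (16, [(89, 1)]), (19, [(92, 1)]), (21, [(94, 1)]), (24, [(97, 1)]), (28, [(98, 1)]), (36, [(115, -1)]), (37, [(118, 1)]), (39, [(120, 1)]), (41, [(126, 1)]), (43, [(127, -1)]), (45, [(129, 1)]), (47, [(131, 1)]), (49, [(132, -1)]), (51, [(134, 1)]), (57, [(137, 1)]), (59, [(138, -1)]), (61, [(140, 1)]), (71, [(156, 1)]), (73, [(158, -1)]), (74, [(160, 1)]), (79, [(165, -1)]), (81, [(166, 1)]), (83, [(168, -1)]), (99, [(178, -1)]), (101, [(180, 1)]), (102, [(182, -1)]), (105, [(188, -1)]), (107, [(190, 1)]), (108, [(192, -1)]), (110, [(194, -1)]), (112, [(196, 1)]), (113, [(198, -1)]), (119, [(200, -1)]), (121, [(202, -1)]), (124, [(203, 1)]), (141, [(211, -1)]), (142, [(215, -1)]), (145, [(218, -1)]), (147, [(220, -1)]), (150, [(223, -1)]), (154, [(224, -1)]), (169, [(227, 1)]), (172, [(230, 1)]), (176, [(231, 1)]), (186, [(232, 1)]), (205, [(236, 1)]), (207, [(237, 1)]), (209, [(239, -1)])]))) (.node (.node (.leaf [(27, [(0, -1)]), (29, [(2, 1)]), (34, [(4, -1)]), (50, [(7, 1)]), (60, [(8, 1)]), (67, [(10, -1)]), (69, [(12, 1)]), (82, [(15, -1)]), (89, [(17, 1)]), (91, [(19, -1)]), (94, [(22, 1)]), (96, [(24, -1)]), (98, [(31, 1)]), (111, [(36, -1)]), (113, [(38, 1)]), (118, [(40, 1)]), (120, [(42, 1)]), (123, [(43, 1)]), (125, [(45, -1)]), (130, [(47, 1)]), (132, [(52, -1)]), (134, [(54, 1)]), (136, [(57, 1)]), (138, [(62, -1)]), (140, [(64, 1)]), (153, [(71, 1)]), (155, [(73, -1)]), (160, [(75, 1)]), (164, [(79, -1)]), (166, [(84, 1)]), (168, [(86, -1)]), (175, [(99, -1)]), (177, [(101, 1)]), (182, [(103, -1)]), (185, [(105, -1)]), (187, [(107, 1)]), (192, [(109, -1)]), (194, [(114, 1)]), (196, [(116, -1)]), (197, [(119, -1)]), (199, [(121, -1)]), (201, [(126, -1)]), (203, [(128, 1)]), (208, [(141, -1)]), (215, [(143, 1)]), (217, [(145, -1)]), (220, [(148, 1)]), (222, [(150, -1)]), (224, [(157, 1)]), (227, [(170, -1)]), (229, [(172, 1)]), (231, [(179, -1)]), (232, [(189, -1)]), (235, [(205, 1)]), (237, [(210, -1)]), (239, [(212, 1)])]) (.leaf [(4, [(15, 1)]), (5, [(16, 1)]), (6, [(21, 1)]), (10, [(36, 1)]), (11, [(37, 1)]), (12, [(38, 1)]), (13, [(39, 1)]), (30, [(78, 1)]), (31, [(79, 1)]), (32, [(80, 1)]), (33, [(81, 1)]), (34, [(82, 1)]), (35, [(83, 1)]), (52, [(99, 1)]), (53, [(100, 1)]), (54, [(101, 1)]), (55, [(102, 1)]), (62, [(105, -1)]), (63, [(106, -1)]), (64, [(107, -1)]), (65, [(108, -1)]), (66, [(110, 1)]), (67, [(111, 1)]), (68, [(112, 1)]), (69, [(113, 1)]), (75, [(141, 1)]), (76, [(142, -1)]), (77, [(147, 1)]), (92, [(162, -1)]), (97, [(163, 1)]), (98, [(164, -1)]), (126, [(170, -1)]), (127, [(171, -1)]), (128, [(172, -1)]), (129, [(173, -1)]), (131, [(174, 1)]), (132, [(175, 1)]), (133, [(176, 1)]), (134, [(177, 1)]), (137, [(184, -1)]), (138, [(185, -1)]), (139, [(186, -1)]), (140, [(187, -1)]), (156, [(204, -1)]), (157, [(205, -1)]), (158, [(206, -1)]), (159, [(207, -1)]), (160, [(208, -1)]), (161, [(209, -1)]), (200, [(226, -1)]), (201, [(227, -1)]), (202, [(228, -1)]), (203, [(229, -1)]), (218, [(233, -1)]), (223, [(234, -1)]), (224, [(235, -1)])])) (.node (.leaf [(5, [(0, -1)]), (13, [(8, -1)]), (20, [(15, -1)]), (29, [(21, 1)]), (32, [(22, 1)]), (34, [(23, 1)]), (35, [(24, 1)]), (48, [(36, -1)]), (50, [(37, -1)]), (51, [(38, -1)]), (53, [(40, -1)]), (54, [(41, -1)]), (55, [(43, -1)]), (67, [(56, 1)]), (68, [(57, 1)]), (69, [(59, 1)]), (70, [(62, 1)]), (76, [(71, -1)]), (89, [(78, 1)]), (90, [(79, 1)]), (91, [(81, 1)]), (92, [(84, 1)]), (98, [(93, -1)]), (104, [(99, -1)]), (120, [(106, 1)]), (122, [(107, 1)]), (125, [(108, 1)]), (129, [(109, 1)]), (130, [(110, -1)]), (131, [(114, -1)]), (132, [(117, -1)]), (133, [(119, -1)]), (140, [(135, 1)]), (146, [(141, 1)]), (155, [(147, -1)]), (158, [(148, -1)]), (160, [(149, -1)]), (161, [(150, -1)]), (168, [(163, 1)]), (177, [(169, -1)]), (180, [(170, -1)]), (182, [(171, -1)]), (183, [(172, -1)]), (196, [(184, 1)]), (198, [(185, 1)]), (199, [(186, 1)]), (201, [(188, 1)]), (202, [(189, 1)]), (203, [(191, 1)]), (215, [(204, -1)]), (216, [(205, -1)]), (217, [(207, -1)]), (218, [(210, -1)]), (224, [(219, 1)]), (231, [(226, 1)]), (239, [(234, 1)])]) (.leaf [(0, [(99, 1)]), (1, [(100, 1)]), (2, [(101, 1)]), (3, [(102, 1)]), (4, [(103, 1)]), (5, [(104, 1)]), (8, [(141, 1)]), (9, [(142, -1)]), (10, [(143, 1)]), (11, [(144, -1)]), (12, [(145, 1)]), (13, [(146, -1)]), (14, [(162, 1)]), (21, [(169, -1)]), (22, [(170, 1)]), (23, [(171, -1)]), (24, [(172, 1)]), (25, [(173, -1)]), (26, [(174, -1)]), (27, [(175, 1)]), (28, [(176, -1)]), (29, [(177, 1)]), (30, [(178, -1)]), (31, [(179, 1)]), (32, [(180, -1)]), (33, [(181, -1)]), (34, [(182, 1)]), (35, [(183, -1)]), (56, [(204, 1)]), (57, [(205, -1)]), (58, [(206, 1)]), (59, [(207, 1)]), (60, [(208, -1)]), (61, [(209, 1)]), (62, [(210, -1)]), (63, [(211, 1)]), (64, [(212, -1)]), (65, [(213, 1)]), (66, [(214, 1)]), (67, [(215, -1)]), (68, [(216, 1)]), (69, [(217, -1)]), (70, [(218, 1)]), (77, [(225, -1)]), (93, [(226, 1)]), (94, [(227, -1)]), (95, [(228, 1)]), (96, [(229, -1)]), (97, [(230, 1)]), (98, [(231, -1)]), (135, [(234, -1)]), (136, [(235, -1)]), (137, [(236, -1)]), (138, [(237, -1)]), (139, [(238, -1)]), (140, [(239, -1)])])))) (.node (.node (.node (.leaf [(46, [(1, 1)]), (47, [(2, 1)]), (49, [(3, 1)]), (52, [(4, 1)]), (66, [(6, -1)]), (71, [(8, -1)]), (76, [(13, -1)]), (88, [(14, 1)]), (99, [(15, 1)]), (104, [(20, 1)]), (110, [(21, -1)]), (114, [(22, 1)]), (117, [(23, -1)]), (119, [(24, 1)]), (130, [(29, 1)]), (131, [(32, -1)]), (132, [(34, 1)]), (133, [(35, -1)]), (142, [(39, 1)]), (143, [(42, -1)]), (144, [(44, 1)]), (145, [(45, -1)]), (152, [(58, 1)]), (153, [(60, -1)]), (154, [(61, 1)]), (156, [(63, 1)]), (157, [(64, -1)]), (159, [(65, 1)]), (174, [(80, -1)]), (175, [(82, 1)]), (176, [(83, -1)]), (178, [(85, -1)]), (179, [(86, 1)]), (181, [(87, -1)]), (194, [(94, 1)]), (195, [(95, -1)]), (197, [(96, 1)]), (200, [(97, -1)]), (204, [(106, 1)]), (205, [(107, -1)]), (207, [(108, 1)]), (210, [(109, -1)]), (215, [(120, -1)]), (216, [(122, 1)]), (217, [(125, -1)]), (218, [(129, 1)]), (219, [(135, -1)]), (224, [(140, -1)]), (225, [(151, -1)]), (226, [(163, 1)]), (231, [(168, 1)]), (233, [(173, 1)]), (235, [(187, -1)]), (236, [(190, -1)]), (237, [(192, -1)]), (238, [(193, -1)])]) (.leaf [(2, [(9, -1)]), (4, [(11, 1)]), (14, [(27, 1)]), (15, [(37, 1)]), (17, [(46, -1)]), (19, [(49, 1)]), (20, [(50, 1)]), (22, [(56, -1)]), (24, [(59, 1)]), (25, [(60, 1)]), (31, [(66, -1)]), (32, [(67, -1)]), (35, [(69, 1)]), (41, [(71, -1)]), (42, [(72, -1)]), (45, [(74, 1)]), (54, [(76, -1)]), (64, [(77, -1)]), (79, [(110, -1)]), (80, [(111, -1)]), (83, [(113, 1)]), (84, [(117, 1)]), (85, [(118, 1)]), (87, [(123, 1)]), (90, [(130, 1)]), (92, [(132, -1)]), (95, [(136, 1)]), (97, [(138, -1)]), (101, [(142, 1)]), (103, [(144, -1)]), (107, [(147, 1)]), (109, [(149, -1)]), (116, [(152, -1)]), (121, [(154, -1)]), (122, [(155, -1)]), (126, [(156, -1)]), (128, [(159, 1)]), (129, [(160, 1)]), (162, [(175, 1)]), (163, [(185, 1)]), (165, [(194, -1)]), (167, [(197, 1)]), (168, [(198, 1)]), (170, [(204, -1)]), (172, [(207, 1)]), (173, [(208, 1)]), (179, [(214, -1)]), (180, [(215, -1)]), (183, [(217, 1)]), (189, [(219, -1)]), (190, [(220, -1)]), (193, [(222, 1)]), (202, [(224, -1)]), (212, [(225, -1)]), (228, [(235, -1)]), (230, [(237, 1)])])) (.node (.leaf [(8, [(1, 1)]), (12, [(5, -1)]), (24, [(14, 1)]), (38, [(16, -1)]), (41, [(17, -1)]), (43, [(18, -1)]), (45, [(20, 1)]), (57, [(26, 1)]), (59, [(27, 1)]), (61, [(29, -1)]), (62, [(30, 1)]), (64, [(32, -1)]), (65, [(34, -1)]), (71, [(46, -1)]), (73, [(48, 1)]), (74, [(50, 1)]), (75, [(53, 1)]), (77, [(67, -1)]), (105, [(78, -1)]), (107, [(80, 1)]), (108, [(82, 1)]), (109, [(85, 1)]), (119, [(88, 1)]), (121, [(90, 1)]), (124, [(91, 1)]), (128, [(92, 1)]), (135, [(94, 1)]), (139, [(98, -1)]), (141, [(100, 1)]), (145, [(104, -1)]), (147, [(111, -1)]), (148, [(115, -1)]), (149, [(118, -1)]), (151, [(120, -1)]), (154, [(130, -1)]), (157, [(131, -1)]), (159, [(132, -1)]), (161, [(134, 1)]), (172, [(162, 1)]), (186, [(164, -1)]), (189, [(165, -1)]), (191, [(166, -1)]), (193, [(168, 1)]), (205, [(174, 1)]), (207, [(175, 1)]), (209, [(177, -1)]), (210, [(178, 1)]), (212, [(180, -1)]), (213, [(182, -1)]), (219, [(194, -1)]), (221, [(196, 1)]), (222, [(198, 1)]), (223, [(201, 1)]), (225, [(215, -1)]), (234, [(227, 1)]), (238, [(231, -1)])]) (.leaf [(0, [(49, 1)]), (1, [(50, 1)]), (2, [(51, 1)]), (4, [(55, -1)]), (6, [(69, 1)]), (8, [(74, 1)]), (10, [(76, -1)]), (14, [(91, -1)]), (15, [(102, -1)]), (17, [(104, 1)]), (21, [(113, 1)]), (23, [(123, 1)]), (24, [(124, -1)]), (25, [(125, 1)]), (26, [(130, 1)]), (30, [(132, -1)]), (31, [(133, 1)]), (32, [(134, -1)]), (36, [(142, 1)]), (40, [(144, -1)]), (41, [(145, 1)]), (42, [(146, -1)]), (56, [(153, 1)]), (57, [(154, -1)]), (58, [(155, 1)]), (62, [(159, 1)]), (63, [(160, -1)]), (64, [(161, 1)]), (78, [(175, -1)]), (79, [(176, 1)]), (80, [(177, -1)]), (84, [(181, -1)]), (85, [(182, 1)]), (86, [(183, -1)]), (93, [(197, 1)]), (94, [(198, -1)]), (95, [(199, 1)]), (97, [(203, -1)]), (105, [(207, 1)]), (106, [(208, -1)]), (107, [(209, 1)]), (109, [(213, -1)]), (114, [(214, -1)]), (115, [(215, 1)]), (116, [(216, -1)]), (126, [(218, -1)]), (135, [(222, -1)]), (137, [(224, 1)]), (148, [(225, 1)]), (163, [(229, 1)]), (165, [(231, -1)]), (170, [(233, -1)]), (184, [(235, 1)]), (188, [(237, -1)]), (189, [(238, -1)]), (190, [(239, -1)])]))) (.node (.node (.leaf [(18, [(0, -1)]), (20, [(2, 1)]), (34, [(6, -1)]), (44, [(8, -1)]), (50, [(9, -1)]), (53, [(10, -1)]), (55, [(12, 1)]), (82, [(21, -1)]), (85, [(22, -1)]), (87, [(24, 1)]), (89, [(26, -1)]), (91, [(28, 1)]), (92, [(31, 1)]), (100, [(36, -1)]), (102, [(38, 1)]), (103, [(41, 1)]), (104, [(47, 1)]), (118, [(56, 1)]), (120, [(58, 1)]), (123, [(59, 1)]), (125, [(61, -1)]), (127, [(62, 1)]), (129, [(64, -1)]), (132, [(66, 1)]), (134, [(68, -1)]), (144, [(71, 1)]), (146, [(73, -1)]), (160, [(77, 1)]), (162, [(79, -1)]), (166, [(93, 1)]), (168, [(95, -1)]), (171, [(105, 1)]), (173, [(107, -1)]), (175, [(110, 1)]), (177, [(112, -1)]), (178, [(114, 1)]), (180, [(116, -1)]), (181, [(119, -1)]), (183, [(121, -1)]), (192, [(135, -1)]), (198, [(136, -1)]), (201, [(137, -1)]), (203, [(139, 1)]), (208, [(147, -1)]), (211, [(148, -1)]), (213, [(150, 1)]), (215, [(152, -1)]), (217, [(154, 1)]), (218, [(157, 1)]), (227, [(184, -1)]), (229, [(186, 1)]), (230, [(189, 1)]), (231, [(195, 1)]), (233, [(205, 1)]), (237, [(219, -1)]), (239, [(221, 1)])]) (.leaf [(2, [(21, 1)]), (4, [(23, -1)]), (5, [(27, -1)]), (7, [(37, -1)]), (10, [(56, -1)]), (12, [(59, 1)]), (13, [(60, 1)]), (17, [(78, 1)]), (19, [(81, -1)]), (20, [(82, -1)]), (31, [(93, -1)]), (32, [(94, -1)]), (35, [(96, 1)]), (41, [(105, 1)]), (42, [(106, 1)]), (45, [(108, -1)]), (47, [(110, -1)]), (48, [(111, -1)]), (51, [(113, 1)]), (52, [(117, 1)]), (53, [(118, 1)]), (55, [(123, 1)]), (64, [(135, 1)]), (68, [(136, -1)]), (70, [(138, 1)]), (73, [(147, 1)]), (75, [(149, -1)]), (76, [(153, 1)]), (86, [(163, -1)]), (90, [(164, 1)]), (92, [(166, -1)]), (101, [(169, -1)]), (103, [(171, 1)]), (104, [(175, -1)]), (116, [(184, -1)]), (121, [(186, -1)]), (122, [(187, -1)]), (126, [(188, -1)]), (128, [(191, 1)]), (129, [(192, 1)]), (131, [(194, 1)]), (133, [(197, -1)]), (134, [(198, -1)]), (143, [(204, -1)]), (145, [(207, 1)]), (146, [(208, 1)]), (157, [(219, 1)]), (158, [(220, 1)]), (161, [(222, -1)]), (179, [(226, -1)]), (180, [(227, -1)]), (183, [(229, 1)]), (202, [(232, 1)]), (212, [(234, 1)]), (216, [(235, 1)]), (218, [(237, -1)])])) (.node (.leaf [(1, [(2, -1)]), (11, [(12, -1)]), (18, [(19, -1)]), (23, [(24, -1)]), (27, [(28, -1)]), (30, [(31, -1)]), (34, [(35, -1)]), (37, [(38, -1)]), (40, [(41, -1)]), (44, [(45, -1)]), (46, [(47, -1)]), (50, [(51, -1)]), (53, [(54, -1)]), (56, [(57, -1)]), (60, [(61, -1)]), (63, [(64, -1)]), (67, [(68, -1)]), (72, [(73, -1)]), (78, [(79, -1)]), (82, [(83, -1)]), (85, [(86, -1)]), (89, [(90, -1)]), (94, [(95, -1)]), (100, [(101, -1)]), (106, [(107, -1)]), (111, [(112, -1)]), (115, [(116, -1)]), (117, [(119, 1)]), (120, [(122, -1)]), (123, [(124, 1)]), (127, [(128, 1)]), (132, [(133, 1)]), (138, [(139, 1)]), (144, [(145, 1)]), (149, [(150, 1)]), (153, [(154, 1)]), (156, [(157, 1)]), (160, [(161, 1)]), (166, [(167, 1)]), (171, [(172, 1)]), (175, [(176, 1)]), (178, [(179, 1)]), (182, [(183, 1)]), (185, [(186, 1)]), (188, [(189, 1)]), (192, [(193, 1)]), (194, [(195, 1)]), (198, [(199, 1)]), (201, [(202, 1)]), (204, [(205, 1)]), (208, [(209, 1)]), (211, [(212, 1)]), (215, [(216, 1)]), (220, [(221, 1)]), (227, [(228, 1)]), (237, [(238, 1)])]) (.leaf [(1, [(120, 1)]), (2, [(122, 1)]), (3, [(125, 1)]), (4, [(129, 1)]), (5, [(134, 1)]), (6, [(140, 1)]), (7, [(146, 1)]), (8, [(151, -1)]), (9, [(155, 1)]), (10, [(158, -1)]), (11, [(160, 1)]), (12, [(161, -1)]), (14, [(168, 1)]), (15, [(173, -1)]), (16, [(177, 1)]), (17, [(180, -1)]), (18, [(182, 1)]), (19, [(183, -1)]), (21, [(187, -1)]), (22, [(190, 1)]), (23, [(192, -1)]), (24, [(193, 1)]), (26, [(196, -1)]), (27, [(198, 1)]), (28, [(199, -1)]), (30, [(201, -1)]), (31, [(202, 1)]), (33, [(203, -1)]), (36, [(206, 1)]), (37, [(208, -1)]), (38, [(209, 1)]), (40, [(211, 1)]), (41, [(212, -1)]), (43, [(213, 1)]), (46, [(215, -1)]), (47, [(216, 1)]), (49, [(217, -1)]), (52, [(218, 1)]), (56, [(220, 1)]), (57, [(221, -1)]), (59, [(222, 1)]), (62, [(223, -1)]), (66, [(224, 1)]), (71, [(225, -1)]), (78, [(227, 1)]), (79, [(228, -1)]), (81, [(229, 1)]), (84, [(230, -1)]), (88, [(231, 1)]), (93, [(232, -1)]), (99, [(233, -1)]), (105, [(234, -1)]), (110, [(235, -1)]), (114, [(236, -1)]), (117, [(237, -1)]), (119, [(238, -1)])])))))) (.node (.node (.node (.node (.node (.leaf [(105, [(0, 1)]), (106, [(1, 1)]), (107, [(2, 1)]), (108, [(3, 1)]), (109, [(4, 1)]), (135, [(6, 1)]), (141, [(7, 1)]), (147, [(9, -1)]), (148, [(10, 1)]), (149, [(11, -1)]), (150, [(12, 1)]), (151, [(13, -1)]), (163, [(14, 1)]), (169, [(16, -1)]), (170, [(17, 1)]), (171, [(18, -1)]), (172, [(19, 1)]), (173, [(20, -1)]), (184, [(26, -1)]), (185, [(27, 1)]), (186, [(28, -1)]), (187, [(29, 1)]), (188, [(30, -1)]), (189, [(31, 1)]), (190, [(32, -1)]), (191, [(33, -1)]), (192, [(34, 1)]), (193, [(35, -1)]), (204, [(46, 1)]), (205, [(47, -1)]), (206, [(48, 1)]), (207, [(49, 1)]), (208, [(50, -1)]), (209, [(51, 1)]), (210, [(52, -1)]), (211, [(53, 1)]), (212, [(54, -1)]), (213, [(55, 1)]), (219, [(66, 1)]), (220, [(67, -1)]), (221, [(68, 1)]), (222, [(69, -1)]), (223, [(70, 1)]), (225, [(76, -1)]), (226, [(88, 1)]), (227, [(89, -1)]), (228, [(90, 1)]), (229, [(91, -1)]), (230, [(92, 1)]), (232, [(98, -1)]), (233, [(104, -1)]), (235, [(130, -1)]), (236, [(131, -1)]), (237, [(132, -1)]), (238, [(133, -1)]), (239, [(134, -1)])]) (.leaf [(1, [(5, -1)]), (8, [(12, 1)]), (15, [(19, 1)]), (21, [(28, -1)]), (22, [(31, -1)]), (23, [(33, -1)]), (25, [(35, 1)]), (36, [(47, 1)]), (37, [(49, 1)]), (39, [(51, -1)]), (40, [(52, 1)]), (42, [(54, -1)]), (44, [(55, -1)]), (56, [(66, -1)]), (58, [(68, 1)]), (60, [(69, 1)]), (63, [(70, 1)]), (72, [(76, -1)]), (78, [(88, -1)]), (80, [(90, 1)]), (82, [(91, 1)]), (85, [(92, 1)]), (94, [(98, -1)]), (100, [(104, -1)]), (105, [(119, 1)]), (107, [(121, 1)]), (108, [(124, 1)]), (109, [(128, 1)]), (111, [(130, -1)]), (115, [(131, -1)]), (118, [(132, -1)]), (120, [(134, -1)]), (135, [(139, 1)]), (141, [(145, 1)]), (147, [(154, -1)]), (148, [(157, -1)]), (149, [(159, -1)]), (151, [(161, 1)]), (163, [(167, 1)]), (169, [(176, -1)]), (170, [(179, -1)]), (171, [(181, -1)]), (173, [(183, 1)]), (184, [(195, 1)]), (185, [(197, 1)]), (187, [(199, -1)]), (188, [(200, 1)]), (190, [(202, -1)]), (192, [(203, -1)]), (204, [(214, -1)]), (206, [(216, 1)]), (208, [(217, 1)]), (211, [(218, 1)]), (220, [(224, -1)]), (227, [(231, -1)]), (234, [(238, 1)])])) (.node (.leaf [(15, [(3, 1)]), (17, [(5, -1)]), (22, [(6, -1)]), (36, [(9, 1)]), (40, [(11, -1)]), (41, [(12, -1)]), (42, [(13, -1)]), (78, [(27, 1)]), (79, [(28, 1)]), (80, [(29, 1)]), (84, [(33, -1)]), (85, [(34, -1)]), (86, [(35, -1)]), (99, [(49, 1)]), (100, [(50, 1)]), (101, [(51, 1)]), (103, [(55, -1)]), (105, [(59, -1)]), (106, [(60, -1)]), (107, [(61, -1)]), (109, [(65, 1)]), (114, [(66, 1)]), (115, [(67, 1)]), (116, [(68, 1)]), (126, [(70, 1)]), (141, [(74, 1)]), (143, [(76, -1)]), (148, [(77, 1)]), (162, [(91, -1)]), (163, [(96, 1)]), (165, [(98, -1)]), (169, [(113, -1)]), (171, [(123, -1)]), (172, [(124, -1)]), (173, [(125, -1)]), (174, [(130, -1)]), (178, [(132, 1)]), (179, [(133, 1)]), (180, [(134, 1)]), (184, [(136, 1)]), (188, [(138, -1)]), (189, [(139, -1)]), (190, [(140, -1)]), (204, [(153, 1)]), (205, [(154, 1)]), (206, [(155, 1)]), (210, [(159, -1)]), (211, [(160, -1)]), (212, [(161, -1)]), (226, [(197, 1)]), (227, [(198, 1)]), (228, [(199, 1)]), (230, [(203, -1)]), (233, [(217, 1)]), (234, [(222, 1)]), (236, [(224, -1)])]) (.leaf [(1, [(27, -1)]), (2, [(28, -1)]), (4, [(33, 1)]), (7, [(49, -1)]), (8, [(59, -1)]), (10, [(66, 1)]), (13, [(69, 1)]), (15, [(81, 1)]), (17, [(88, -1)]), (20, [(91, -1)]), (22, [(93, -1)]), (25, [(96, -1)]), (32, [(98, 1)]), (36, [(110, 1)]), (39, [(113, 1)]), (40, [(117, -1)]), (41, [(119, 1)]), (44, [(123, 1)]), (45, [(124, -1)]), (48, [(130, 1)]), (53, [(132, -1)]), (54, [(133, 1)]), (58, [(136, 1)]), (63, [(138, -1)]), (64, [(139, 1)]), (72, [(153, 1)]), (73, [(154, -1)]), (75, [(159, 1)]), (80, [(164, -1)]), (85, [(166, 1)]), (86, [(167, -1)]), (100, [(175, -1)]), (101, [(176, 1)]), (103, [(181, -1)]), (106, [(185, -1)]), (107, [(186, 1)]), (109, [(191, -1)]), (115, [(194, 1)]), (116, [(195, -1)]), (120, [(198, -1)]), (122, [(199, 1)]), (126, [(200, -1)]), (129, [(203, -1)]), (141, [(207, -1)]), (143, [(214, 1)]), (146, [(217, 1)]), (148, [(219, 1)]), (151, [(222, 1)]), (158, [(224, -1)]), (170, [(226, -1)]), (173, [(229, -1)]), (180, [(231, 1)]), (190, [(232, 1)]), (206, [(235, -1)]), (211, [(237, 1)]), (212, [(238, 1)])]))) (.node (.node (.leaf [(31, [(0, -1)]), (32, [(1, -1)]), (35, [(3, 1)]), (54, [(7, 1)]), (64, [(8, 1)]), (68, [(9, 1)]), (70, [(11, -1)]), (86, [(15, -1)]), (90, [(16, -1)]), (92, [(18, 1)]), (95, [(21, -1)]), (97, [(23, 1)]), (98, [(27, 1)]), (116, [(36, 1)]), (121, [(38, 1)]), (122, [(39, -1)]), (126, [(40, 1)]), (128, [(43, -1)]), (129, [(44, 1)]), (131, [(46, 1)]), (133, [(49, -1)]), (134, [(50, 1)]), (137, [(56, 1)]), (139, [(59, -1)]), (140, [(60, 1)]), (157, [(71, 1)]), (158, [(72, -1)]), (161, [(74, 1)]), (165, [(78, -1)]), (167, [(81, 1)]), (168, [(82, -1)]), (179, [(99, -1)]), (180, [(100, 1)]), (183, [(102, -1)]), (189, [(105, -1)]), (190, [(106, 1)]), (193, [(108, -1)]), (195, [(110, -1)]), (196, [(111, 1)]), (199, [(113, -1)]), (200, [(117, 1)]), (201, [(118, -1)]), (203, [(123, -1)]), (212, [(141, -1)]), (216, [(142, -1)]), (218, [(144, 1)]), (221, [(147, -1)]), (223, [(149, 1)]), (224, [(153, 1)]), (228, [(169, 1)]), (230, [(171, -1)]), (231, [(175, -1)]), (232, [(185, -1)]), (236, [(204, -1)]), (238, [(207, 1)]), (239, [(208, 1)])]) (.leaf [(3, [(14, -1)]), (7, [(17, -1)]), (8, [(22, -1)]), (9, [(26, -1)]), (11, [(30, 1)]), (12, [(31, 1)]), (13, [(32, 1)]), (37, [(78, 1)]), (38, [(79, 1)]), (39, [(80, 1)]), (43, [(84, -1)]), (44, [(85, -1)]), (45, [(86, -1)]), (49, [(88, -1)]), (50, [(89, -1)]), (51, [(90, -1)]), (55, [(92, 1)]), (59, [(93, -1)]), (60, [(94, -1)]), (61, [(95, -1)]), (65, [(97, 1)]), (69, [(98, 1)]), (71, [(114, 1)]), (72, [(115, 1)]), (73, [(116, 1)]), (75, [(126, 1)]), (76, [(131, 1)]), (77, [(137, 1)]), (102, [(162, -1)]), (108, [(163, -1)]), (113, [(164, -1)]), (123, [(166, -1)]), (124, [(167, -1)]), (125, [(168, -1)]), (141, [(170, -1)]), (142, [(174, -1)]), (144, [(178, 1)]), (145, [(179, 1)]), (146, [(180, 1)]), (147, [(184, -1)]), (149, [(188, 1)]), (150, [(189, 1)]), (151, [(190, 1)]), (153, [(194, 1)]), (154, [(195, 1)]), (155, [(196, 1)]), (159, [(200, -1)]), (160, [(201, -1)]), (161, [(202, -1)]), (207, [(226, -1)]), (208, [(227, -1)]), (209, [(228, -1)]), (213, [(230, 1)]), (217, [(231, 1)]), (222, [(232, 1)]), (225, [(236, 1)])])) (.node (.leaf [(6, [(2, -1)]), (11, [(7, 1)]), (23, [(15, -1)]), (27, [(16, -1)]), (30, [(17, -1)]), (33, [(19, 1)]), (34, [(20, 1)]), (56, [(36, -1)]), (59, [(38, 1)]), (60, [(39, 1)]), (62, [(41, 1)]), (63, [(42, 1)]), (65, [(45, -1)]), (66, [(47, 1)]), (67, [(48, 1)]), (69, [(51, -1)]), (70, [(54, -1)]), (77, [(73, -1)]), (93, [(79, -1)]), (94, [(80, -1)]), (96, [(83, 1)]), (97, [(86, 1)]), (98, [(90, 1)]), (117, [(99, 1)]), (118, [(100, 1)]), (123, [(102, 1)]), (127, [(103, 1)]), (132, [(104, 1)]), (135, [(107, -1)]), (136, [(112, -1)]), (137, [(116, -1)]), (139, [(121, -1)]), (140, [(122, -1)]), (149, [(141, -1)]), (153, [(142, -1)]), (156, [(143, -1)]), (159, [(145, 1)]), (160, [(146, 1)]), (166, [(162, 1)]), (185, [(169, 1)]), (188, [(170, 1)]), (191, [(172, -1)]), (192, [(173, -1)]), (194, [(174, 1)]), (197, [(176, -1)]), (198, [(177, -1)]), (200, [(179, -1)]), (201, [(180, -1)]), (203, [(183, 1)]), (219, [(205, -1)]), (220, [(206, -1)]), (222, [(209, 1)]), (223, [(212, 1)]), (224, [(216, 1)]), (232, [(228, -1)]), (237, [(233, 1)])]) (.leaf [(0, [(81, -1)]), (1, [(82, -1)]), (2, [(83, -1)]), (4, [(87, 1)]), (5, [(91, 1)]), (6, [(96, 1)]), (7, [(102, 1)]), (8, [(108, -1)]), (9, [(113, 1)]), (11, [(123, 1)]), (12, [(124, -1)]), (13, [(125, 1)]), (17, [(162, 1)]), (22, [(163, -1)]), (26, [(164, 1)]), (30, [(166, -1)]), (31, [(167, 1)]), (32, [(168, -1)]), (36, [(169, -1)]), (40, [(171, 1)]), (41, [(172, -1)]), (42, [(173, 1)]), (46, [(175, -1)]), (47, [(176, 1)]), (48, [(177, -1)]), (52, [(181, -1)]), (53, [(182, 1)]), (54, [(183, -1)]), (56, [(185, 1)]), (57, [(186, -1)]), (58, [(187, 1)]), (62, [(191, 1)]), (63, [(192, -1)]), (64, [(193, 1)]), (66, [(197, -1)]), (67, [(198, 1)]), (68, [(199, -1)]), (70, [(203, 1)]), (71, [(207, 1)]), (72, [(208, -1)]), (73, [(209, 1)]), (75, [(213, -1)]), (76, [(217, 1)]), (77, [(222, -1)]), (114, [(226, -1)]), (115, [(227, 1)]), (116, [(228, -1)]), (126, [(230, -1)]), (131, [(231, 1)]), (137, [(232, -1)]), (143, [(233, -1)]), (148, [(234, -1)]), (152, [(235, -1)]), (156, [(237, 1)]), (157, [(238, 1)]), (158, [(239, 1)])])))) (.node (.node (.node (.leaf [(52, [(0, -1)]), (53, [(1, -1)]), (54, [(2, -1)]), (55, [(3, -1)]), (70, [(6, -1)]), (75, [(8, -1)]), (76, [(9, -1)]), (92, [(14, 1)]), (103, [(15, 1)]), (104, [(16, 1)]), (126, [(22, 1)]), (127, [(23, -1)]), (128, [(24, 1)]), (129, [(25, -1)]), (131, [(26, 1)]), (132, [(27, -1)]), (133, [(28, 1)]), (134, [(29, -1)]), (143, [(36, 1)]), (144, [(37, -1)]), (145, [(38, 1)]), (146, [(39, -1)]), (156, [(56, 1)]), (157, [(57, -1)]), (158, [(58, 1)]), (159, [(59, 1)]), (160, [(60, -1)]), (161, [(61, 1)]), (178, [(78, -1)]), (179, [(79, 1)]), (180, [(80, -1)]), (181, [(81, -1)]), (182, [(82, 1)]), (183, [(83, -1)]), (200, [(93, 1)]), (201, [(94, -1)]), (202, [(95, 1)]), (203, [(96, -1)]), (210, [(105, 1)]), (211, [(106, -1)]), (212, [(107, 1)]), (213, [(108, -1)]), (214, [(110, 1)]), (215, [(111, -1)]), (216, [(112, 1)]), (217, [(113, -1)]), (223, [(135, -1)]), (224, [(136, -1)]), (225, [(147, -1)]), (230, [(163, 1)]), (231, [(164, 1)]), (233, [(169, 1)]), (236, [(184, 1)]), (237, [(185, 1)]), (238, [(186, 1)]), (239, [(187, 1)])]) (.leaf [(2, [(8, 1)]), (5, [(11, 1)]), (14, [(23, -1)]), (16, [(37, 1)]), (17, [(40, 1)]), (19, [(43, -1)]), (20, [(44, -1)]), (26, [(56, -1)]), (28, [(59, 1)]), (29, [(60, 1)]), (31, [(62, 1)]), (32, [(63, 1)]), (35, [(65, -1)]), (47, [(71, -1)]), (48, [(72, -1)]), (51, [(74, 1)]), (54, [(75, 1)]), (68, [(77, -1)]), (79, [(105, -1)]), (80, [(106, -1)]), (83, [(108, 1)]), (86, [(109, 1)]), (88, [(117, 1)]), (89, [(118, 1)]), (91, [(123, 1)]), (92, [(127, 1)]), (95, [(135, 1)]), (98, [(138, -1)]), (101, [(141, 1)]), (104, [(144, -1)]), (112, [(147, -1)]), (116, [(148, -1)]), (121, [(150, -1)]), (122, [(151, -1)]), (130, [(153, -1)]), (131, [(156, -1)]), (133, [(159, 1)]), (134, [(160, 1)]), (162, [(171, 1)]), (164, [(185, -1)]), (165, [(188, -1)]), (167, [(191, 1)]), (168, [(192, 1)]), (174, [(204, 1)]), (176, [(207, -1)]), (177, [(208, -1)]), (179, [(210, -1)]), (180, [(211, -1)]), (183, [(213, 1)]), (195, [(219, 1)]), (196, [(220, 1)]), (199, [(222, -1)]), (202, [(223, -1)]), (216, [(225, 1)]), (228, [(234, -1)]), (231, [(237, -1)])])) (.node (.leaf [(9, [(1, -1)]), (12, [(4, -1)]), (28, [(14, -1)]), (38, [(15, -1)]), (47, [(17, 1)]), (49, [(18, 1)]), (51, [(20, -1)]), (57, [(22, 1)]), (59, [(23, 1)]), (61, [(25, -1)]), (66, [(30, -1)]), (68, [(32, 1)]), (69, [(34, 1)]), (71, [(40, -1)]), (73, [(42, 1)]), (74, [(44, 1)]), (76, [(53, -1)]), (77, [(63, -1)]), (110, [(78, -1)]), (112, [(80, 1)]), (113, [(82, 1)]), (119, [(84, 1)]), (121, [(86, 1)]), (124, [(87, 1)]), (130, [(89, 1)]), (133, [(92, -1)]), (136, [(94, 1)]), (139, [(97, -1)]), (142, [(100, 1)]), (145, [(103, -1)]), (147, [(106, 1)]), (150, [(109, -1)]), (152, [(115, -1)]), (153, [(118, -1)]), (155, [(120, -1)]), (157, [(126, -1)]), (159, [(127, -1)]), (161, [(129, 1)]), (176, [(162, 1)]), (186, [(163, 1)]), (195, [(165, -1)]), (197, [(166, -1)]), (199, [(168, 1)]), (205, [(170, -1)]), (207, [(171, -1)]), (209, [(173, 1)]), (214, [(178, 1)]), (216, [(180, -1)]), (217, [(182, -1)]), (219, [(188, 1)]), (221, [(190, -1)]), (222, [(192, -1)]), (224, [(201, 1)]), (225, [(211, 1)]), (235, [(227, 1)]), (238, [(230, 1)])]) (.leaf [(0, [(43, -1)]), (1, [(44, -1)]), (2, [(45, -1)]), (5, [(55, -1)]), (6, [(65, -1)]), (9, [(74, 1)]), (10, [(75, 1)]), (14, [(87, 1)]), (16, [(102, -1)]), (17, [(103, -1)]), (21, [(108, 1)]), (22, [(109, 1)]), (27, [(123, 1)]), (28, [(124, -1)]), (29, [(125, 1)]), (30, [(127, 1)]), (31, [(128, -1)]), (32, [(129, 1)]), (36, [(141, 1)]), (46, [(144, -1)]), (47, [(145, 1)]), (48, [(146, -1)]), (56, [(149, 1)]), (57, [(150, -1)]), (58, [(151, 1)]), (66, [(159, 1)]), (67, [(160, -1)]), (68, [(161, 1)]), (78, [(171, -1)]), (79, [(172, 1)]), (80, [(173, -1)]), (88, [(181, -1)]), (89, [(182, 1)]), (90, [(183, -1)]), (93, [(191, 1)]), (94, [(192, -1)]), (95, [(193, 1)]), (98, [(203, -1)]), (110, [(207, -1)]), (111, [(208, 1)]), (112, [(209, -1)]), (114, [(210, -1)]), (115, [(211, 1)]), (116, [(212, -1)]), (130, [(217, -1)]), (131, [(218, -1)]), (136, [(222, 1)]), (137, [(223, 1)]), (152, [(225, -1)]), (164, [(229, -1)]), (165, [(230, -1)]), (174, [(233, 1)]), (184, [(234, 1)]), (194, [(237, 1)]), (195, [(238, 1)]), (196, [(239, 1)])]))) (.node (.node (.leaf [(21, [(1, 1)]), (24, [(4, 1)]), (28, [(5, 1)]), (38, [(7, 1)]), (57, [(10, 1)]), (59, [(11, 1)]), (61, [(13, -1)]), (79, [(17, -1)]), (81, [(18, -1)]), (83, [(20, 1)]), (93, [(30, -1)]), (95, [(32, 1)]), (96, [(34, 1)]), (105, [(40, 1)]), (107, [(42, -1)]), (108, [(44, -1)]), (110, [(46, -1)]), (112, [(48, 1)]), (113, [(50, 1)]), (119, [(52, 1)]), (121, [(54, 1)]), (124, [(55, 1)]), (135, [(63, 1)]), (136, [(67, -1)]), (139, [(70, 1)]), (147, [(72, 1)]), (150, [(75, -1)]), (154, [(76, 1)]), (163, [(85, -1)]), (164, [(89, 1)]), (167, [(92, -1)]), (169, [(100, -1)]), (172, [(103, 1)]), (176, [(104, -1)]), (184, [(115, -1)]), (185, [(118, -1)]), (187, [(120, -1)]), (189, [(126, -1)]), (191, [(127, -1)]), (193, [(129, 1)]), (195, [(131, 1)]), (197, [(132, 1)]), (199, [(134, -1)]), (205, [(143, -1)]), (207, [(144, -1)]), (209, [(146, 1)]), (219, [(156, -1)]), (221, [(158, 1)]), (222, [(160, 1)]), (226, [(178, 1)]), (228, [(180, -1)]), (229, [(182, -1)]), (232, [(201, -1)]), (234, [(211, -1)]), (235, [(215, -1)]), (238, [(218, -1)])]) (.leaf [(1, [(18, -1)]), (2, [(19, -1)]), (6, [(33, 1)]), (8, [(43, 1)]), (9, [(49, 1)]), (10, [(52, 1)]), (13, [(55, 1)]), (21, [(81, 1)]), (22, [(84, 1)]), (25, [(87, 1)]), (26, [(88, 1)]), (29, [(91, 1)]), (32, [(92, 1)]), (36, [(99, 1)]), (39, [(102, 1)]), (42, [(103, 1)]), (48, [(104, 1)]), (56, [(117, -1)]), (57, [(119, 1)]), (60, [(123, 1)]), (61, [(124, -1)]), (63, [(127, 1)]), (64, [(128, -1)]), (67, [(132, 1)]), (68, [(133, -1)]), (72, [(144, 1)]), (73, [(145, -1)]), (77, [(159, 1)]), (80, [(162, -1)]), (94, [(166, 1)]), (95, [(167, -1)]), (106, [(171, 1)]), (107, [(172, -1)]), (111, [(175, 1)]), (112, [(176, -1)]), (115, [(178, 1)]), (116, [(179, -1)]), (120, [(182, -1)]), (122, [(183, 1)]), (135, [(191, -1)]), (136, [(197, -1)]), (137, [(200, -1)]), (140, [(203, -1)]), (147, [(207, -1)]), (148, [(210, -1)]), (151, [(213, -1)]), (152, [(214, -1)]), (155, [(217, -1)]), (158, [(218, -1)]), (184, [(226, -1)]), (187, [(229, -1)]), (190, [(230, -1)]), (196, [(231, -1)]), (206, [(233, -1)]), (220, [(237, 1)]), (221, [(238, 1)])])) (.node (.leaf [(2, [(0, -1)]), (13, [(11, 1)]), (20, [(18, 1)]), (25, [(23, 1)]), (29, [(27, 1)]), (32, [(30, 1)]), (35, [(33, -1)]), (39, [(37, 1)]), (42, [(40, 1)]), (45, [(43, -1)]), (48, [(46, 1)]), (51, [(49, -1)]), (54, [(52, -1)]), (58, [(56, 1)]), (61, [(59, -1)]), (64, [(62, -1)]), (68, [(66, -1)]), (73, [(71, -1)]), (80, [(78, 1)]), (83, [(81, -1)]), (86, [(84, -1)]), (90, [(88, -1)]), (95, [(93, -1)]), (101, [(99, -1)]), (107, [(105, -1)]), (112, [(110, -1)]), (116, [(114, -1)]), (120, [(118, 1)]), (121, [(119, -1)]), (125, [(123, 1)]), (129, [(127, 1)]), (134, [(132, 1)]), (140, [(138, 1)]), (146, [(144, 1)]), (151, [(149, 1)]), (155, [(153, 1)]), (158, [(156, 1)]), (161, [(159, -1)]), (168, [(166, 1)]), (173, [(171, 1)]), (177, [(175, 1)]), (180, [(178, 1)]), (183, [(181, -1)]), (187, [(185, 1)]), (190, [(188, 1)]), (193, [(191, -1)]), (196, [(194, 1)]), (199, [(197, -1)]), (202, [(200, -1)]), (206, [(204, 1)]), (209, [(207, -1)]), (212, [(210, -1)]), (216, [(214, -1)]), (221, [(219, -1)]), (228, [(226, -1)]), (239, [(237, 1)])]) (.leaf [(1, [(120, 1)]), (2, [(122, 1)]), (3, [(125, 1)]), (4, [(129, 1)]), (5, [(134, 1)]), (6, [(140, 1)]), (7, [(146, 1)]), (8, [(151, -1)]), (9, [(155, 1)]), (10, [(158, -1)]), (11, [(160, 1)]), (12, [(161, -1)]), (14, [(168, 1)]), (15, [(173, -1)]), (16, [(177, 1)]), (17, [(180, -1)]), (18, [(182, 1)]), (19, [(183, -1)]), (21, [(187, -1)]), (22, [(190, 1)]), (23, [(192, -1)]), (24, [(193, 1)]), (26, [(196, -1)]), (27, [(198, 1)]), (28, [(199, -1)]), (30, [(201, -1)]), (31, [(202, 1)]), (33, [(203, -1)]), (36, [(206, 1)]), (37, [(208, -1)]), (38, [(209, 1)]), (40, [(211, 1)]), (41, [(212, -1)]), (43, [(213, 1)]), (46, [(215, -1)]), (47, [(216, 1)]), (49, [(217, -1)]), (52, [(218, 1)]), (56, [(220, 1)]), (57, [(221, -1)]), (59, [(222, 1)]), (62, [(223, -1)]), (66, [(224, 1)]), (71, [(225, -1)]), (78, [(227, 1)]), (79, [(228, -1)]), (81, [(229, 1)]), (84, [(230, -1)]), (88, [(231, 1)]), (93, [(232, -1)]), (99, [(233, -1)]), (105, [(234, -1)]), (110, [(235, -1)]), (114, [(236, -1)]), (117, [(237, -1)]), (119, [(238, -1)])]))))) (.node (.node (.node (.node (.leaf [(78, [(1, -1)]), (79, [(2, -1)]), (81, [(3, -1)]), (84, [(4, -1)]), (88, [(5, -1)]), (93, [(6, -1)]), (99, [(7, -1)]), (105, [(8, 1)]), (110, [(9, -1)]), (114, [(10, 1)]), (117, [(11, -1)]), (119, [(12, 1)]), (162, [(20, 1)]), (163, [(25, -1)]), (164, [(29, 1)]), (165, [(32, -1)]), (166, [(34, 1)]), (167, [(35, -1)]), (169, [(39, -1)]), (170, [(42, 1)]), (171, [(44, -1)]), (172, [(45, 1)]), (174, [(48, -1)]), (175, [(50, 1)]), (176, [(51, -1)]), (178, [(53, -1)]), (179, [(54, 1)]), (181, [(55, -1)]), (184, [(58, 1)]), (185, [(60, -1)]), (186, [(61, 1)]), (188, [(63, 1)]), (189, [(64, -1)]), (191, [(65, 1)]), (194, [(67, -1)]), (195, [(68, 1)]), (197, [(69, -1)]), (200, [(70, 1)]), (204, [(72, 1)]), (205, [(73, -1)]), (207, [(74, 1)]), (210, [(75, -1)]), (214, [(76, 1)]), (219, [(77, -1)]), (227, [(120, -1)]), (228, [(122, 1)]), (229, [(125, -1)]), (230, [(129, 1)]), (231, [(134, -1)]), (232, [(140, 1)]), (233, [(146, 1)]), (234, [(151, 1)]), (235, [(155, 1)]), (236, [(158, 1)]), (237, [(160, 1)]), (238, [(161, 1)])]) (.leaf [(5, [(7, -1)]), (6, [(8, -1)]), (14, [(15, -1)]), (26, [(36, -1)]), (27, [(37, -1)]), (28, [(38, -1)]), (29, [(39, -1)]), (30, [(40, -1)]), (31, [(41, -1)]), (32, [(42, -1)]), (33, [(43, -1)]), (34, [(44, -1)]), (35, [(45, -1)]), (66, [(71, -1)]), (67, [(72, -1)]), (68, [(73, -1)]), (69, [(74, -1)]), (70, [(75, -1)]), (88, [(99, -1)]), (89, [(100, -1)]), (90, [(101, -1)]), (91, [(102, -1)]), (92, [(103, -1)]), (93, [(105, 1)]), (94, [(106, 1)]), (95, [(107, 1)]), (96, [(108, 1)]), (97, [(109, 1)]), (130, [(142, -1)]), (131, [(143, -1)]), (132, [(144, -1)]), (133, [(145, -1)]), (134, [(146, -1)]), (136, [(147, 1)]), (137, [(148, 1)]), (138, [(149, 1)]), (139, [(150, 1)]), (140, [(151, 1)]), (164, [(169, 1)]), (165, [(170, 1)]), (166, [(171, 1)]), (167, [(172, 1)]), (168, [(173, 1)]), (194, [(204, 1)]), (195, [(205, 1)]), (196, [(206, 1)]), (197, [(207, 1)]), (198, [(208, 1)]), (199, [(209, 1)]), (200, [(210, 1)]), (201, [(211, 1)]), (202, [(212, 1)]), (203, [(213, 1)]), (224, [(225, 1)]), (231, [(233, 1)]), (232, [(234, 1)])])) (.node (.leaf [(14, [(6, -1)]), (15, [(8, -1)]), (16, [(9, -1)]), (17, [(10, -1)]), (18, [(11, -1)]), (19, [(12, -1)]), (20, [(13, -1)]), (78, [(56, 1)]), (79, [(57, 1)]), (80, [(58, 1)]), (81, [(59, 1)]), (82, [(60, 1)]), (83, [(61, 1)]), (84, [(62, 1)]), (85, [(63, 1)]), (86, [(64, 1)]), (87, [(65, 1)]), (88, [(66, 1)]), (89, [(67, 1)]), (90, [(68, 1)]), (91, [(69, 1)]), (92, [(70, 1)]), (99, [(71, 1)]), (100, [(72, 1)]), (101, [(73, 1)]), (102, [(74, 1)]), (103, [(75, 1)]), (104, [(76, 1)]), (163, [(135, -1)]), (164, [(136, -1)]), (165, [(137, -1)]), (166, [(138, -1)]), (167, [(139, -1)]), (168, [(140, -1)]), (169, [(147, -1)]), (170, [(148, -1)]), (171, [(149, -1)]), (172, [(150, -1)]), (173, [(151, -1)]), (174, [(152, -1)]), (175, [(153, -1)]), (176, [(154, -1)]), (177, [(155, -1)]), (178, [(156, -1)]), (179, [(157, -1)]), (180, [(158, -1)]), (181, [(159, -1)]), (182, [(160, -1)]), (183, [(161, -1)]), (226, [(219, 1)]), (227, [(220, 1)]), (228, [(221, 1)]), (229, [(222, 1)]), (230, [(223, 1)]), (231, [(224, 1)]), (233, [(225, 1)])]) (.leaf [(1, [(36, -1)]), (3, [(38, 1)]), (4, [(41, 1)]), (5, [(47, 1)]), (6, [(57, 1)]), (11, [(71, -1)]), (13, [(73, 1)]), (14, [(79, -1)]), (18, [(99, 1)]), (20, [(101, -1)]), (23, [(105, -1)]), (25, [(107, 1)]), (27, [(110, 1)]), (29, [(112, -1)]), (30, [(114, -1)]), (32, [(116, 1)]), (33, [(119, 1)]), (35, [(121, 1)]), (44, [(141, 1)]), (50, [(142, -1)]), (53, [(143, 1)]), (55, [(145, -1)]), (60, [(147, 1)]), (63, [(148, -1)]), (65, [(150, 1)]), (67, [(152, 1)]), (69, [(154, -1)]), (70, [(157, 1)]), (82, [(169, -1)]), (85, [(170, 1)]), (87, [(172, -1)]), (89, [(174, -1)]), (91, [(176, 1)]), (92, [(179, -1)]), (94, [(184, 1)]), (96, [(186, -1)]), (97, [(189, 1)]), (98, [(195, -1)]), (118, [(204, -1)]), (120, [(206, -1)]), (123, [(207, -1)]), (125, [(209, 1)]), (127, [(210, 1)]), (129, [(212, -1)]), (132, [(214, -1)]), (134, [(216, 1)]), (138, [(219, 1)]), (140, [(221, -1)]), (160, [(225, 1)]), (166, [(226, -1)]), (168, [(228, 1)]), (182, [(233, -1)]), (192, [(234, -1)]), (198, [(235, -1)]), (201, [(236, -1)]), (203, [(238, 1)])]))) (.node (.node (.leaf [(26, [(2, 1)]), (27, [(3, 1)]), (30, [(4, 1)]), (46, [(7, -1)]), (56, [(8, -1)]), (66, [(12, 1)]), (67, [(13, 1)]), (78, [(15, 1)]), (88, [(19, -1)]), (89, [(20, -1)]), (93, [(24, -1)]), (94, [(25, -1)]), (98, [(35, 1)]), (110, [(38, 1)]), (111, [(39, 1)]), (114, [(41, -1)]), (115, [(42, -1)]), (117, [(43, 1)]), (118, [(44, 1)]), (130, [(51, 1)]), (131, [(54, -1)]), (132, [(55, 1)]), (136, [(61, 1)]), (137, [(64, -1)]), (138, [(65, 1)]), (152, [(73, 1)]), (153, [(74, -1)]), (156, [(75, 1)]), (164, [(83, -1)]), (165, [(86, 1)]), (166, [(87, -1)]), (174, [(101, -1)]), (175, [(102, 1)]), (178, [(103, -1)]), (184, [(107, -1)]), (185, [(108, 1)]), (188, [(109, -1)]), (195, [(121, -1)]), (196, [(122, -1)]), (197, [(124, 1)]), (198, [(125, 1)]), (200, [(128, -1)]), (201, [(129, -1)]), (204, [(141, -1)]), (214, [(145, 1)]), (215, [(146, 1)]), (219, [(150, 1)]), (220, [(151, 1)]), (224, [(161, -1)]), (226, [(172, -1)]), (227, [(173, -1)]), (231, [(183, 1)]), (232, [(193, 1)]), (235, [(209, -1)]), (236, [(212, -1)]), (237, [(213, -1)])]) (.leaf [(0, [(15, 1)]), (5, [(20, 1)]), (6, [(25, 1)]), (9, [(39, -1)]), (10, [(42, -1)]), (11, [(44, -1)]), (12, [(45, -1)]), (26, [(80, 1)]), (27, [(82, 1)]), (28, [(83, 1)]), (30, [(85, 1)]), (31, [(86, 1)]), (33, [(87, 1)]), (46, [(100, -1)]), (47, [(101, -1)]), (49, [(102, -1)]), (52, [(103, -1)]), (56, [(106, 1)]), (57, [(107, 1)]), (59, [(108, 1)]), (62, [(109, 1)]), (67, [(120, 1)]), (68, [(122, 1)]), (69, [(125, 1)]), (70, [(129, 1)]), (71, [(141, 1)]), (76, [(146, -1)]), (77, [(151, 1)]), (88, [(162, -1)]), (93, [(163, 1)]), (98, [(168, -1)]), (110, [(169, -1)]), (114, [(170, -1)]), (117, [(171, -1)]), (119, [(172, -1)]), (130, [(177, -1)]), (131, [(180, -1)]), (132, [(182, -1)]), (133, [(183, -1)]), (136, [(187, 1)]), (137, [(190, 1)]), (138, [(192, 1)]), (139, [(193, 1)]), (152, [(206, -1)]), (153, [(208, -1)]), (154, [(209, -1)]), (156, [(211, -1)]), (157, [(212, -1)]), (159, [(213, -1)]), (194, [(227, 1)]), (195, [(228, 1)]), (197, [(229, 1)]), (200, [(230, 1)]), (214, [(233, -1)]), (219, [(234, -1)]), (224, [(239, -1)])])) (.node (.leaf [(5, [(4, -1)]), (9, [(8, -1)]), (16, [(15, -1)]), (26, [(22, -1)]), (27, [(23, -1)]), (28, [(24, -1)]), (29, [(25, -1)]), (46, [(40, -1)]), (47, [(41, -1)]), (48, [(42, -1)]), (49, [(43, -1)]), (50, [(44, -1)]), (51, [(45, -1)]), (66, [(62, -1)]), (67, [(63, -1)]), (68, [(64, -1)]), (69, [(65, -1)]), (76, [(75, -1)]), (88, [(84, -1)]), (89, [(85, -1)]), (90, [(86, -1)]), (91, [(87, -1)]), (98, [(97, -1)]), (104, [(103, -1)]), (110, [(105, 1)]), (111, [(106, 1)]), (112, [(107, 1)]), (113, [(108, 1)]), (131, [(126, -1)]), (132, [(127, -1)]), (133, [(128, -1)]), (134, [(129, -1)]), (136, [(135, 1)]), (142, [(141, 1)]), (152, [(148, 1)]), (153, [(149, 1)]), (154, [(150, 1)]), (155, [(151, 1)]), (164, [(163, 1)]), (174, [(170, 1)]), (175, [(171, 1)]), (176, [(172, 1)]), (177, [(173, 1)]), (194, [(188, 1)]), (195, [(189, 1)]), (196, [(190, 1)]), (197, [(191, 1)]), (198, [(192, 1)]), (199, [(193, 1)]), (214, [(210, 1)]), (215, [(211, 1)]), (216, [(212, 1)]), (217, [(213, 1)]), (224, [(223, 1)]), (231, [(230, 1)]), (235, [(234, 1)])]) (.leaf [(0, [(117, 1)]), (1, [(118, 1)]), (3, [(123, 1)]), (4, [(127, 1)]), (5, [(132, 1)]), (6, [(138, 1)]), (7, [(144, 1)]), (8, [(149, -1)]), (9, [(153, 1)]), (10, [(156, -1)]), (12, [(159, 1)]), (13, [(160, -1)]), (14, [(166, 1)]), (15, [(171, -1)]), (16, [(175, 1)]), (17, [(178, -1)]), (19, [(181, 1)]), (20, [(182, -1)]), (21, [(185, -1)]), (22, [(188, 1)]), (24, [(191, -1)]), (25, [(192, 1)]), (26, [(194, -1)]), (28, [(197, 1)]), (29, [(198, -1)]), (31, [(200, -1)]), (32, [(201, 1)]), (35, [(203, -1)]), (36, [(204, 1)]), (38, [(207, -1)]), (39, [(208, 1)]), (41, [(210, 1)]), (42, [(211, -1)]), (45, [(213, 1)]), (47, [(214, -1)]), (48, [(215, 1)]), (51, [(217, -1)]), (54, [(218, 1)]), (57, [(219, 1)]), (58, [(220, -1)]), (61, [(222, 1)]), (64, [(223, -1)]), (68, [(224, 1)]), (73, [(225, -1)]), (79, [(226, 1)]), (80, [(227, -1)]), (83, [(229, 1)]), (86, [(230, -1)]), (90, [(231, 1)]), (95, [(232, -1)]), (101, [(233, -1)]), (107, [(234, -1)]), (112, [(235, -1)]), (116, [(236, -1)]), (121, [(238, -1)]), (122, [(239, -1)])])))) (.node (.node (.node (.leaf [(40, [(1, -1)]), (41, [(2, -1)]), (43, [(3, -1)]), (52, [(5, 1)]), (62, [(6, 1)]), (71, [(9, -1)]), (75, [(13, 1)]), (84, [(14, -1)]), (99, [(16, 1)]), (103, [(20, -1)]), (105, [(21, -1)]), (109, [(25, 1)]), (114, [(26, 1)]), (117, [(27, -1)]), (119, [(28, 1)]), (126, [(32, 1)]), (127, [(34, -1)]), (128, [(35, 1)]), (141, [(39, 1)]), (143, [(48, -1)]), (144, [(50, 1)]), (145, [(51, -1)]), (148, [(58, 1)]), (149, [(60, -1)]), (150, [(61, 1)]), (156, [(67, 1)]), (157, [(68, -1)]), (159, [(69, 1)]), (170, [(80, -1)]), (171, [(82, 1)]), (172, [(83, -1)]), (178, [(89, -1)]), (179, [(90, 1)]), (181, [(91, -1)]), (188, [(94, 1)]), (189, [(95, -1)]), (191, [(96, 1)]), (200, [(98, -1)]), (204, [(111, -1)]), (205, [(112, 1)]), (207, [(113, -1)]), (211, [(120, -1)]), (212, [(122, 1)]), (213, [(125, -1)]), (214, [(130, -1)]), (218, [(134, 1)]), (219, [(136, 1)]), (223, [(140, -1)]), (225, [(155, 1)]), (226, [(164, -1)]), (230, [(168, 1)]), (233, [(177, -1)]), (234, [(187, -1)]), (236, [(196, 1)]), (237, [(198, 1)]), (238, [(199, 1)])]) (.leaf [(1, [(10, 1)]), (3, [(12, -1)]), (14, [(31, 1)]), (15, [(41, 1)]), (16, [(47, 1)]), (18, [(52, -1)]), (20, [(54, 1)]), (21, [(57, 1)]), (23, [(62, -1)]), (25, [(64, 1)]), (27, [(66, -1)]), (29, [(68, 1)]), (34, [(70, -1)]), (37, [(71, -1)]), (39, [(73, 1)]), (44, [(75, -1)]), (50, [(76, -1)]), (60, [(77, -1)]), (78, [(114, -1)]), (80, [(116, 1)]), (81, [(119, 1)]), (83, [(121, 1)]), (85, [(126, 1)]), (87, [(128, -1)]), (89, [(131, 1)]), (91, [(133, -1)]), (94, [(137, 1)]), (96, [(139, -1)]), (100, [(143, 1)]), (102, [(145, -1)]), (106, [(148, 1)]), (108, [(150, -1)]), (111, [(152, 1)]), (113, [(154, -1)]), (118, [(156, -1)]), (120, [(158, -1)]), (123, [(159, -1)]), (125, [(161, 1)]), (162, [(179, 1)]), (163, [(189, 1)]), (164, [(195, 1)]), (166, [(200, -1)]), (168, [(202, 1)]), (169, [(205, 1)]), (171, [(210, -1)]), (173, [(212, 1)]), (175, [(214, -1)]), (177, [(216, 1)]), (182, [(218, -1)]), (185, [(219, -1)]), (187, [(221, 1)]), (192, [(223, -1)]), (198, [(224, -1)]), (208, [(225, -1)]), (227, [(236, 1)]), (229, [(238, -1)])])) (.node (.leaf [(7, [(0, -1)]), (13, [(6, 1)]), (20, [(14, 1)]), (39, [(21, 1)]), (42, [(22, 1)]), (44, [(23, 1)]), (45, [(24, 1)]), (48, [(26, 1)]), (50, [(27, 1)]), (51, [(28, 1)]), (53, [(30, 1)]), (54, [(31, 1)]), (55, [(33, 1)]), (72, [(56, 1)]), (73, [(57, 1)]), (74, [(59, 1)]), (75, [(62, 1)]), (76, [(66, 1)]), (100, [(78, 1)]), (101, [(79, 1)]), (102, [(81, 1)]), (103, [(84, 1)]), (104, [(88, 1)]), (120, [(94, 1)]), (122, [(95, 1)]), (125, [(96, 1)]), (129, [(97, 1)]), (134, [(98, 1)]), (141, [(105, -1)]), (142, [(110, -1)]), (143, [(114, -1)]), (144, [(117, -1)]), (145, [(119, -1)]), (151, [(135, -1)]), (155, [(136, -1)]), (158, [(137, -1)]), (160, [(138, -1)]), (161, [(139, -1)]), (173, [(163, -1)]), (177, [(164, -1)]), (180, [(165, -1)]), (182, [(166, -1)]), (183, [(167, -1)]), (206, [(184, -1)]), (208, [(185, -1)]), (209, [(186, -1)]), (211, [(188, -1)]), (212, [(189, -1)]), (213, [(191, -1)]), (215, [(194, -1)]), (216, [(195, -1)]), (217, [(197, -1)]), (218, [(200, -1)]), (225, [(219, -1)]), (233, [(226, -1)]), (239, [(232, 1)])]) (.leaf [(0, [(57, 1)]), (1, [(58, 1)]), (3, [(61, -1)]), (4, [(64, -1)]), (5, [(68, -1)]), (7, [(73, -1)]), (11, [(77, 1)]), (14, [(95, -1)]), (15, [(107, 1)]), (16, [(112, -1)]), (17, [(116, 1)]), (19, [(121, 1)]), (20, [(122, -1)]), (23, [(135, 1)]), (27, [(136, -1)]), (30, [(137, 1)]), (33, [(139, -1)]), (34, [(140, 1)]), (37, [(147, 1)]), (40, [(148, -1)]), (43, [(150, 1)]), (44, [(151, -1)]), (46, [(152, 1)]), (49, [(154, -1)]), (50, [(155, 1)]), (52, [(157, 1)]), (53, [(158, -1)]), (55, [(161, 1)]), (78, [(184, -1)]), (81, [(186, 1)]), (82, [(187, -1)]), (84, [(189, -1)]), (85, [(190, 1)]), (87, [(193, -1)]), (88, [(195, 1)]), (89, [(196, -1)]), (91, [(199, 1)]), (92, [(202, -1)]), (99, [(205, -1)]), (100, [(206, 1)]), (102, [(209, -1)]), (103, [(212, 1)]), (104, [(216, -1)]), (117, [(219, 1)]), (118, [(220, -1)]), (123, [(222, -1)]), (127, [(223, 1)]), (132, [(224, -1)]), (144, [(225, 1)]), (162, [(228, -1)]), (166, [(232, 1)]), (171, [(234, 1)]), (175, [(235, 1)]), (178, [(236, 1)]), (181, [(238, -1)]), (182, [(239, -1)])]))) (.node (.node (.leaf [(17, [(2, 1)]), (18, [(3, 1)]), (30, [(6, 1)]), (40, [(8, 1)]), (46, [(9, 1)]), (52, [(12, 1)]), (53, [(13, 1)]), (78, [(21, 1)]), (84, [(24, 1)]), (85, [(25, 1)]), (88, [(28, 1)]), (89, [(29, 1)]), (92, [(35, 1)]), (99, [(38, 1)]), (100, [(39, 1)]), (103, [(45, 1)]), (104, [(51, 1)]), (114, [(57, -1)]), (115, [(58, -1)]), (117, [(59, 1)]), (118, [(60, 1)]), (126, [(64, 1)]), (127, [(65, -1)]), (131, [(68, 1)]), (132, [(69, -1)]), (143, [(73, 1)]), (144, [(74, -1)]), (156, [(77, 1)]), (162, [(83, -1)]), (165, [(95, 1)]), (166, [(96, -1)]), (170, [(107, 1)]), (171, [(108, -1)]), (174, [(112, 1)]), (175, [(113, -1)]), (179, [(121, -1)]), (180, [(122, -1)]), (181, [(124, 1)]), (182, [(125, 1)]), (188, [(135, -1)]), (194, [(136, -1)]), (200, [(139, -1)]), (201, [(140, -1)]), (204, [(147, -1)]), (210, [(150, -1)]), (211, [(151, -1)]), (214, [(154, -1)]), (215, [(155, -1)]), (218, [(161, -1)]), (226, [(186, -1)]), (227, [(187, -1)]), (230, [(193, -1)]), (231, [(199, -1)]), (233, [(209, -1)]), (236, [(221, -1)]), (237, [(222, -1)])]) (.leaf [(1, [(22, -1)]), (3, [(24, 1)]), (5, [(31, -1)]), (7, [(41, -1)]), (9, [(57, 1)]), (11, [(62, -1)]), (13, [(64, 1)]), (16, [(79, -1)]), (18, [(84, 1)]), (20, [(86, -1)]), (27, [(93, -1)]), (29, [(95, 1)]), (34, [(97, -1)]), (37, [(105, 1)]), (39, [(107, -1)]), (44, [(109, 1)]), (46, [(114, -1)]), (48, [(116, 1)]), (49, [(119, 1)]), (51, [(121, 1)]), (53, [(126, 1)]), (55, [(128, -1)]), (60, [(135, 1)]), (67, [(137, -1)]), (69, [(139, 1)]), (72, [(148, 1)]), (74, [(150, -1)]), (76, [(157, 1)]), (82, [(163, -1)]), (89, [(165, 1)]), (91, [(167, -1)]), (100, [(170, -1)]), (102, [(172, 1)]), (104, [(179, -1)]), (111, [(184, 1)]), (113, [(186, -1)]), (118, [(188, -1)]), (120, [(190, -1)]), (123, [(191, -1)]), (125, [(193, 1)]), (130, [(195, -1)]), (132, [(200, 1)]), (134, [(202, -1)]), (142, [(205, 1)]), (144, [(210, -1)]), (146, [(212, 1)]), (153, [(219, 1)]), (155, [(221, -1)]), (160, [(223, 1)]), (175, [(226, -1)]), (177, [(228, 1)]), (182, [(230, -1)]), (198, [(232, 1)]), (208, [(234, 1)]), (215, [(236, -1)]), (217, [(238, 1)])])) (.node (.leaf [(0, [(3, -1)]), (10, [(13, -1)]), (17, [(20, -1)]), (22, [(25, -1)]), (26, [(29, -1)]), (30, [(34, 1)]), (31, [(35, 1)]), (36, [(39, -1)]), (40, [(44, 1)]), (41, [(45, 1)]), (46, [(50, 1)]), (47, [(51, 1)]), (52, [(55, -1)]), (56, [(60, 1)]), (57, [(61, 1)]), (62, [(65, -1)]), (66, [(69, -1)]), (71, [(74, -1)]), (78, [(82, 1)]), (79, [(83, 1)]), (84, [(87, -1)]), (88, [(91, -1)]), (93, [(96, -1)]), (99, [(102, -1)]), (105, [(108, -1)]), (110, [(113, -1)]), (115, [(120, 1)]), (116, [(122, 1)]), (117, [(123, -1)]), (119, [(124, -1)]), (126, [(129, 1)]), (131, [(134, 1)]), (137, [(140, 1)]), (143, [(146, 1)]), (148, [(151, 1)]), (152, [(155, 1)]), (156, [(160, -1)]), (157, [(161, -1)]), (165, [(168, 1)]), (170, [(173, 1)]), (174, [(177, 1)]), (178, [(182, -1)]), (179, [(183, -1)]), (184, [(187, 1)]), (188, [(192, -1)]), (189, [(193, -1)]), (194, [(198, -1)]), (195, [(199, -1)]), (200, [(203, 1)]), (204, [(208, -1)]), (205, [(209, -1)]), (210, [(213, 1)]), (214, [(217, 1)]), (219, [(222, 1)]), (226, [(229, 1)]), (236, [(239, 1)])]) (.leaf [(1, [(120, 1)]), (2, [(122, 1)]), (3, [(125, 1)]), (4, [(129, 1)]), (5, [(134, 1)]), (6, [(140, 1)]), (7, [(146, 1)]), (8, [(151, -1)]), (9, [(155, 1)]), (10, [(158, -1)]), (11, [(160, 1)]), (12, [(161, -1)]), (14, [(168, 1)]), (15, [(173, -1)]), (16, [(177, 1)]), (17, [(180, -1)]), (18, [(182, 1)]), (19, [(183, -1)]), (21, [(187, -1)]), (22, [(190, 1)]), (23, [(192, -1)]), (24, [(193, 1)]), (26, [(196, -1)]), (27, [(198, 1)]), (28, [(199, -1)]), (30, [(201, -1)]), (31, [(202, 1)]), (33, [(203, -1)]), (36, [(206, 1)]), (37, [(208, -1)]), (38, [(209, 1)]), (40, [(211, 1)]), (41, [(212, -1)]), (43, [(213, 1)]), (46, [(215, -1)]), (47, [(216, 1)]), (49, [(217, -1)]), (52, [(218, 1)]), (56, [(220, 1)]), (57, [(221, -1)]), (59, [(222, 1)]), (62, [(223, -1)]), (66, [(224, 1)]), (71, [(225, -1)]), (78, [(227, 1)]), (79, [(228, -1)]), (81, [(229, 1)]), (84, [(230, -1)]), (88, [(231, 1)]), (93, [(232, -1)]), (99, [(233, -1)]), (105, [(234, -1)]), (110, [(235, -1)]), (114, [(236, -1)]), (117, [(237, -1)]), (119, [(238, -1)])]))))))) (.node (.node (.node (.node (.node (.node (.leaf [(114, [(0, 1)]), (115, [(1, 1)]), (116, [(2, 1)]), (126, [(4, 1)]), (131, [(5, 1)]), (137, [(6, 1)]), (143, [(7, 1)]), (148, [(8, -1)]), (152, [(9, 1)]), (156, [(11, -1)]), (157, [(12, 1)]), (158, [(13, -1)]), (165, [(14, 1)]), (170, [(15, -1)]), (174, [(16, 1)]), (178, [(18, -1)]), (179, [(19, 1)]), (180, [(20, -1)]), (184, [(21, -1)]), (188, [(23, 1)]), (189, [(24, -1)]), (190, [(25, 1)]), (194, [(27, -1)]), (195, [(28, 1)]), (196, [(29, -1)]), (200, [(33, -1)]), (201, [(34, 1)]), (202, [(35, -1)]), (204, [(37, 1)]), (205, [(38, -1)]), (206, [(39, 1)]), (210, [(43, 1)]), (211, [(44, -1)]), (212, [(45, 1)]), (214, [(49, -1)]), (215, [(50, 1)]), (216, [(51, -1)]), (218, [(55, 1)]), (219, [(59, 1)]), (220, [(60, -1)]), (221, [(61, 1)]), (223, [(65, -1)]), (224, [(69, 1)]), (225, [(74, -1)]), (226, [(81, 1)]), (227, [(82, -1)]), (228, [(83, 1)]), (230, [(87, -1)]), (231, [(91, 1)]), (232, [(96, -1)]), (233, [(102, -1)]), (234, [(108, -1)]), (235, [(113, -1)]), (237, [(123, -1)]), (238, [(124, -1)]), (239, [(125, -1)])]) (.leaf [(3, [(5, -1)]), (8, [(10, 1)]), (15, [(17, 1)]), (21, [(26, -1)]), (23, [(30, 1)]), (24, [(31, 1)]), (25, [(32, 1)]), (37, [(46, -1)]), (38, [(47, -1)]), (39, [(48, -1)]), (43, [(52, 1)]), (44, [(53, 1)]), (45, [(54, 1)]), (59, [(66, -1)]), (60, [(67, -1)]), (61, [(68, -1)]), (65, [(70, 1)]), (74, [(76, -1)]), (81, [(88, -1)]), (82, [(89, -1)]), (83, [(90, -1)]), (87, [(92, 1)]), (96, [(98, -1)]), (102, [(104, -1)]), (105, [(114, 1)]), (106, [(115, 1)]), (107, [(116, 1)]), (109, [(126, 1)]), (113, [(130, -1)]), (123, [(132, -1)]), (124, [(133, -1)]), (125, [(134, -1)]), (135, [(137, 1)]), (141, [(143, 1)]), (147, [(152, -1)]), (149, [(156, 1)]), (150, [(157, 1)]), (151, [(158, 1)]), (163, [(165, 1)]), (169, [(174, -1)]), (171, [(178, 1)]), (172, [(179, 1)]), (173, [(180, 1)]), (185, [(194, -1)]), (186, [(195, -1)]), (187, [(196, -1)]), (191, [(200, 1)]), (192, [(201, 1)]), (193, [(202, 1)]), (207, [(214, -1)]), (208, [(215, -1)]), (209, [(216, -1)]), (213, [(218, 1)]), (222, [(224, -1)]), (229, [(231, -1)]), (234, [(236, 1)])])) (.node (.leaf [(15, [(1, 1)]), (19, [(5, -1)]), (24, [(6, -1)]), (38, [(9, 1)]), (41, [(10, 1)]), (43, [(11, 1)]), (45, [(13, -1)]), (79, [(26, -1)]), (81, [(27, -1)]), (83, [(29, 1)]), (84, [(30, -1)]), (86, [(32, 1)]), (87, [(34, 1)]), (99, [(46, 1)]), (101, [(48, -1)]), (102, [(50, -1)]), (103, [(53, -1)]), (105, [(56, -1)]), (107, [(58, 1)]), (108, [(60, 1)]), (109, [(63, 1)]), (119, [(66, 1)]), (121, [(68, 1)]), (124, [(69, 1)]), (128, [(70, 1)]), (141, [(72, 1)]), (145, [(76, -1)]), (150, [(77, 1)]), (162, [(89, -1)]), (163, [(94, 1)]), (167, [(98, -1)]), (169, [(111, -1)]), (170, [(115, -1)]), (171, [(118, -1)]), (173, [(120, -1)]), (176, [(130, -1)]), (179, [(131, -1)]), (181, [(132, -1)]), (183, [(134, 1)]), (186, [(136, 1)]), (189, [(137, 1)]), (191, [(138, 1)]), (193, [(140, -1)]), (205, [(152, -1)]), (207, [(153, -1)]), (209, [(155, 1)]), (210, [(156, -1)]), (212, [(158, 1)]), (213, [(160, 1)]), (226, [(194, 1)]), (228, [(196, -1)]), (229, [(198, -1)]), (230, [(201, -1)]), (233, [(215, 1)]), (234, [(220, 1)]), (238, [(224, -1)])]) (.leaf [(1, [(26, 1)]), (3, [(28, -1)]), (4, [(31, -1)]), (7, [(47, 1)]), (8, [(57, 1)]), (11, [(66, 1)]), (13, [(68, -1)]), (15, [(79, -1)]), (18, [(88, -1)]), (20, [(90, 1)]), (23, [(93, -1)]), (25, [(95, 1)]), (34, [(98, 1)]), (37, [(110, 1)]), (39, [(112, -1)]), (40, [(114, -1)]), (42, [(116, 1)]), (43, [(119, 1)]), (45, [(121, 1)]), (50, [(130, 1)]), (53, [(131, -1)]), (55, [(133, 1)]), (60, [(136, 1)]), (63, [(137, -1)]), (65, [(139, 1)]), (72, [(152, 1)]), (74, [(154, -1)]), (75, [(157, 1)]), (82, [(164, -1)]), (85, [(165, 1)]), (87, [(167, -1)]), (100, [(174, -1)]), (102, [(176, 1)]), (103, [(179, -1)]), (106, [(184, -1)]), (108, [(186, 1)]), (109, [(189, -1)]), (118, [(194, -1)]), (120, [(196, -1)]), (123, [(197, -1)]), (125, [(199, 1)]), (127, [(200, 1)]), (129, [(202, -1)]), (141, [(205, -1)]), (144, [(214, -1)]), (146, [(216, 1)]), (149, [(219, -1)]), (151, [(221, 1)]), (160, [(224, 1)]), (171, [(226, 1)]), (173, [(228, -1)]), (182, [(231, -1)]), (192, [(232, -1)]), (208, [(235, 1)]), (211, [(236, 1)]), (213, [(238, -1)])]))) (.node (.node (.leaf [(36, [(2, -1)]), (37, [(3, -1)]), (40, [(4, -1)]), (46, [(5, -1)]), (56, [(6, -1)]), (71, [(12, -1)]), (72, [(13, -1)]), (78, [(14, 1)]), (99, [(19, 1)]), (100, [(20, 1)]), (105, [(24, -1)]), (106, [(25, -1)]), (110, [(28, 1)]), (111, [(29, 1)]), (114, [(31, -1)]), (115, [(32, -1)]), (117, [(33, 1)]), (118, [(34, 1)]), (141, [(45, 1)]), (142, [(51, -1)]), (143, [(54, 1)]), (144, [(55, -1)]), (147, [(61, 1)]), (148, [(64, -1)]), (149, [(65, 1)]), (152, [(68, 1)]), (153, [(69, -1)]), (156, [(70, 1)]), (169, [(83, -1)]), (170, [(86, 1)]), (171, [(87, -1)]), (174, [(90, -1)]), (175, [(91, 1)]), (178, [(92, -1)]), (184, [(95, 1)]), (185, [(96, -1)]), (188, [(97, 1)]), (194, [(98, -1)]), (205, [(121, -1)]), (206, [(122, -1)]), (207, [(124, 1)]), (208, [(125, 1)]), (210, [(128, -1)]), (211, [(129, -1)]), (214, [(133, 1)]), (215, [(134, 1)]), (219, [(139, -1)]), (220, [(140, -1)]), (225, [(161, -1)]), (226, [(167, 1)]), (227, [(168, 1)]), (233, [(183, 1)]), (234, [(193, 1)]), (235, [(199, 1)]), (236, [(202, 1)]), (237, [(203, 1)])]) (.leaf [(5, [(14, -1)]), (7, [(15, -1)]), (9, [(21, 1)]), (10, [(22, 1)]), (11, [(23, 1)]), (12, [(24, 1)]), (13, [(25, 1)]), (46, [(78, 1)]), (47, [(79, 1)]), (48, [(80, 1)]), (49, [(81, 1)]), (50, [(82, 1)]), (51, [(83, 1)]), (52, [(84, 1)]), (53, [(85, 1)]), (54, [(86, 1)]), (55, [(87, 1)]), (66, [(93, -1)]), (67, [(94, -1)]), (68, [(95, -1)]), (69, [(96, -1)]), (70, [(97, -1)]), (71, [(105, 1)]), (72, [(106, 1)]), (73, [(107, 1)]), (74, [(108, 1)]), (75, [(109, 1)]), (77, [(135, 1)]), (104, [(162, -1)]), (130, [(164, -1)]), (131, [(165, -1)]), (132, [(166, -1)]), (133, [(167, -1)]), (134, [(168, -1)]), (142, [(169, 1)]), (143, [(170, 1)]), (144, [(171, 1)]), (145, [(172, 1)]), (146, [(173, 1)]), (152, [(184, -1)]), (153, [(185, -1)]), (154, [(186, -1)]), (155, [(187, -1)]), (156, [(188, -1)]), (157, [(189, -1)]), (158, [(190, -1)]), (159, [(191, -1)]), (160, [(192, -1)]), (161, [(193, -1)]), (214, [(226, -1)]), (215, [(227, -1)]), (216, [(228, -1)]), (217, [(229, -1)]), (218, [(230, -1)]), (224, [(232, 1)]), (225, [(234, 1)])])) (.node (.leaf [(6, [(0, -1)]), (13, [(7, 1)]), (25, [(15, -1)]), (29, [(16, -1)]), (32, [(17, -1)]), (34, [(18, -1)]), (35, [(19, -1)]), (58, [(36, -1)]), (60, [(37, -1)]), (61, [(38, -1)]), (63, [(40, -1)]), (64, [(41, -1)]), (65, [(43, -1)]), (67, [(46, -1)]), (68, [(47, -1)]), (69, [(49, -1)]), (70, [(52, -1)]), (77, [(71, -1)]), (94, [(78, 1)]), (95, [(79, 1)]), (96, [(81, 1)]), (97, [(84, 1)]), (98, [(88, 1)]), (120, [(100, 1)]), (122, [(101, 1)]), (125, [(102, 1)]), (129, [(103, 1)]), (134, [(104, 1)]), (135, [(105, -1)]), (136, [(110, -1)]), (137, [(114, -1)]), (138, [(117, -1)]), (139, [(119, -1)]), (151, [(141, -1)]), (155, [(142, -1)]), (158, [(143, -1)]), (160, [(144, -1)]), (161, [(145, -1)]), (168, [(162, 1)]), (187, [(169, 1)]), (190, [(170, 1)]), (192, [(171, 1)]), (193, [(172, 1)]), (196, [(174, 1)]), (198, [(175, 1)]), (199, [(176, 1)]), (201, [(178, 1)]), (202, [(179, 1)]), (203, [(181, 1)]), (220, [(204, 1)]), (221, [(205, 1)]), (222, [(207, 1)]), (223, [(210, 1)]), (224, [(214, 1)]), (232, [(226, -1)]), (239, [(233, 1)])]) (.leaf [(0, [(78, -1)]), (2, [(80, 1)]), (3, [(82, 1)]), (4, [(85, 1)]), (5, [(89, 1)]), (6, [(94, 1)]), (7, [(100, 1)]), (8, [(106, -1)]), (9, [(111, 1)]), (10, [(115, -1)]), (11, [(118, 1)]), (13, [(120, 1)]), (19, [(162, 1)]), (24, [(163, -1)]), (28, [(164, 1)]), (31, [(165, -1)]), (33, [(166, 1)]), (35, [(168, -1)]), (38, [(169, -1)]), (41, [(170, 1)]), (43, [(171, -1)]), (45, [(173, 1)]), (47, [(174, -1)]), (49, [(175, 1)]), (51, [(177, -1)]), (52, [(178, -1)]), (54, [(180, 1)]), (55, [(182, -1)]), (57, [(184, 1)]), (59, [(185, -1)]), (61, [(187, 1)]), (62, [(188, 1)]), (64, [(190, -1)]), (65, [(192, 1)]), (66, [(194, -1)]), (68, [(196, 1)]), (69, [(198, -1)]), (70, [(201, 1)]), (71, [(204, 1)]), (73, [(206, -1)]), (74, [(208, 1)]), (75, [(211, -1)]), (76, [(215, 1)]), (77, [(220, -1)]), (119, [(226, -1)]), (121, [(228, -1)]), (124, [(229, 1)]), (128, [(230, -1)]), (133, [(231, 1)]), (139, [(232, -1)]), (145, [(233, -1)]), (150, [(234, -1)]), (154, [(235, -1)]), (157, [(236, -1)]), (159, [(237, -1)]), (161, [(239, 1)])])))) (.node (.node (.node (.leaf [(56, [(0, -1)]), (58, [(2, 1)]), (60, [(3, 1)]), (63, [(4, 1)]), (67, [(5, 1)]), (72, [(7, 1)]), (77, [(12, 1)]), (94, [(14, 1)]), (106, [(15, -1)]), (111, [(16, 1)]), (115, [(17, -1)]), (118, [(18, 1)]), (120, [(20, 1)]), (135, [(24, 1)]), (136, [(28, -1)]), (137, [(31, 1)]), (138, [(33, -1)]), (140, [(35, 1)]), (147, [(38, 1)]), (148, [(41, -1)]), (149, [(43, 1)]), (151, [(45, -1)]), (152, [(47, 1)]), (153, [(49, -1)]), (155, [(51, 1)]), (156, [(52, 1)]), (158, [(54, -1)]), (160, [(55, 1)]), (184, [(79, -1)]), (185, [(81, 1)]), (187, [(83, -1)]), (188, [(84, -1)]), (190, [(86, 1)]), (192, [(87, -1)]), (194, [(88, 1)]), (196, [(90, -1)]), (198, [(91, 1)]), (201, [(92, -1)]), (204, [(99, -1)]), (206, [(101, 1)]), (208, [(102, -1)]), (211, [(103, 1)]), (215, [(104, -1)]), (219, [(119, -1)]), (221, [(121, -1)]), (222, [(124, 1)]), (223, [(128, -1)]), (224, [(133, 1)]), (225, [(145, -1)]), (227, [(162, -1)]), (232, [(167, -1)]), (234, [(172, -1)]), (235, [(176, -1)]), (236, [(179, -1)]), (237, [(181, -1)]), (239, [(183, 1)])]) (.leaf [(4, [(8, 1)]), (5, [(9, 1)]), (14, [(21, -1)]), (17, [(36, -1)]), (18, [(37, -1)]), (19, [(38, -1)]), (20, [(39, -1)]), (30, [(56, -1)]), (31, [(57, -1)]), (32, [(58, -1)]), (33, [(59, -1)]), (34, [(60, -1)]), (35, [(61, -1)]), (52, [(71, -1)]), (53, [(72, -1)]), (54, [(73, -1)]), (55, [(74, -1)]), (70, [(77, -1)]), (84, [(105, -1)]), (85, [(106, -1)]), (86, [(107, -1)]), (87, [(108, -1)]), (88, [(110, 1)]), (89, [(111, 1)]), (90, [(112, 1)]), (91, [(113, 1)]), (97, [(135, 1)]), (98, [(136, -1)]), (103, [(141, 1)]), (104, [(142, -1)]), (126, [(148, -1)]), (127, [(149, -1)]), (128, [(150, -1)]), (129, [(151, -1)]), (131, [(152, 1)]), (132, [(153, 1)]), (133, [(154, 1)]), (134, [(155, 1)]), (162, [(169, 1)]), (165, [(184, 1)]), (166, [(185, 1)]), (167, [(186, 1)]), (168, [(187, 1)]), (178, [(204, 1)]), (179, [(205, 1)]), (180, [(206, 1)]), (181, [(207, 1)]), (182, [(208, 1)]), (183, [(209, 1)]), (200, [(219, 1)]), (201, [(220, 1)]), (202, [(221, 1)]), (203, [(222, 1)]), (218, [(225, 1)]), (230, [(234, -1)]), (231, [(235, -1)])])) (.node (.leaf [(10, [(2, 1)]), (11, [(3, 1)]), (30, [(14, -1)]), (40, [(15, -1)]), (46, [(16, -1)]), (52, [(19, -1)]), (53, [(20, -1)]), (56, [(21, -1)]), (62, [(24, -1)]), (63, [(25, -1)]), (66, [(28, -1)]), (67, [(29, -1)]), (70, [(35, -1)]), (71, [(38, -1)]), (72, [(39, -1)]), (75, [(45, -1)]), (76, [(51, -1)]), (77, [(61, -1)]), (114, [(79, -1)]), (115, [(80, -1)]), (117, [(81, 1)]), (118, [(82, 1)]), (126, [(86, 1)]), (127, [(87, -1)]), (131, [(90, 1)]), (132, [(91, -1)]), (137, [(95, 1)]), (138, [(96, -1)]), (143, [(101, 1)]), (144, [(102, -1)]), (148, [(107, 1)]), (149, [(108, -1)]), (152, [(112, 1)]), (153, [(113, -1)]), (157, [(121, -1)]), (158, [(122, -1)]), (159, [(124, 1)]), (160, [(125, 1)]), (178, [(162, 1)]), (188, [(163, 1)]), (194, [(164, 1)]), (200, [(167, 1)]), (201, [(168, 1)]), (204, [(169, 1)]), (210, [(172, 1)]), (211, [(173, 1)]), (214, [(176, 1)]), (215, [(177, 1)]), (218, [(183, 1)]), (219, [(186, 1)]), (220, [(187, 1)]), (223, [(193, 1)]), (224, [(199, 1)]), (225, [(209, 1)]), (236, [(228, -1)]), (237, [(229, -1)])]) (.leaf [(0, [(40, -1)]), (2, [(42, 1)]), (3, [(44, 1)]), (5, [(53, -1)]), (6, [(63, -1)]), (9, [(72, 1)]), (12, [(75, 1)]), (14, [(85, 1)]), (16, [(100, -1)]), (19, [(103, -1)]), (21, [(106, 1)]), (24, [(109, 1)]), (26, [(115, -1)]), (27, [(118, 1)]), (29, [(120, 1)]), (31, [(126, 1)]), (33, [(127, -1)]), (35, [(129, 1)]), (38, [(141, 1)]), (47, [(143, -1)]), (49, [(144, 1)]), (51, [(146, -1)]), (57, [(148, 1)]), (59, [(149, -1)]), (61, [(151, 1)]), (66, [(156, 1)]), (68, [(158, -1)]), (69, [(160, 1)]), (79, [(170, -1)]), (81, [(171, 1)]), (83, [(173, -1)]), (88, [(178, -1)]), (90, [(180, 1)]), (91, [(182, -1)]), (93, [(188, 1)]), (95, [(190, -1)]), (96, [(192, 1)]), (98, [(201, -1)]), (110, [(204, -1)]), (112, [(206, 1)]), (113, [(208, -1)]), (119, [(210, -1)]), (121, [(212, -1)]), (124, [(213, 1)]), (130, [(215, -1)]), (133, [(218, -1)]), (136, [(220, 1)]), (139, [(223, 1)]), (154, [(225, -1)]), (164, [(227, -1)]), (167, [(230, -1)]), (176, [(233, 1)]), (186, [(234, 1)]), (195, [(236, -1)]), (197, [(237, -1)]), (199, [(239, 1)])]))) (.node (.node (.leaf [(22, [(2, -1)]), (23, [(3, -1)]), (30, [(5, 1)]), (40, [(7, 1)]), (56, [(9, -1)]), (62, [(12, -1)]), (63, [(13, -1)]), (78, [(16, 1)]), (84, [(19, 1)]), (85, [(20, 1)]), (93, [(28, -1)]), (94, [(29, -1)]), (97, [(35, -1)]), (105, [(38, 1)]), (106, [(39, 1)]), (109, [(45, 1)]), (114, [(47, -1)]), (115, [(48, -1)]), (117, [(49, 1)]), (118, [(50, 1)]), (126, [(54, 1)]), (127, [(55, -1)]), (135, [(61, 1)]), (137, [(68, -1)]), (138, [(69, 1)]), (148, [(73, 1)]), (149, [(74, -1)]), (156, [(76, 1)]), (163, [(83, -1)]), (165, [(90, 1)]), (166, [(91, -1)]), (170, [(101, -1)]), (171, [(102, 1)]), (178, [(104, -1)]), (184, [(112, 1)]), (185, [(113, -1)]), (189, [(121, -1)]), (190, [(122, -1)]), (191, [(124, 1)]), (192, [(125, 1)]), (194, [(130, -1)]), (200, [(133, -1)]), (201, [(134, -1)]), (204, [(142, 1)]), (210, [(145, 1)]), (211, [(146, 1)]), (219, [(154, -1)]), (220, [(155, -1)]), (223, [(161, -1)]), (226, [(176, 1)]), (227, [(177, 1)]), (230, [(183, 1)]), (232, [(199, -1)]), (234, [(209, -1)]), (236, [(216, 1)]), (237, [(217, 1)])]) (.leaf [(1, [(17, 1)]), (3, [(19, -1)]), (6, [(31, -1)]), (8, [(41, -1)]), (9, [(47, -1)]), (11, [(52, 1)]), (13, [(54, -1)]), (21, [(79, -1)]), (23, [(84, 1)]), (25, [(86, -1)]), (27, [(88, 1)]), (29, [(90, -1)]), (34, [(92, 1)]), (37, [(99, 1)]), (39, [(101, -1)]), (44, [(103, 1)]), (50, [(104, 1)]), (56, [(114, -1)]), (58, [(116, 1)]), (59, [(119, 1)]), (61, [(121, 1)]), (63, [(126, 1)]), (65, [(128, -1)]), (67, [(131, 1)]), (69, [(133, -1)]), (72, [(143, 1)]), (74, [(145, -1)]), (77, [(157, 1)]), (82, [(162, -1)]), (94, [(165, 1)]), (96, [(167, -1)]), (106, [(170, 1)]), (108, [(172, -1)]), (111, [(174, 1)]), (113, [(176, -1)]), (118, [(178, -1)]), (120, [(180, -1)]), (123, [(181, -1)]), (125, [(183, 1)]), (135, [(189, -1)]), (136, [(195, -1)]), (138, [(200, 1)]), (140, [(202, -1)]), (147, [(205, -1)]), (149, [(210, 1)]), (151, [(212, -1)]), (153, [(214, 1)]), (155, [(216, -1)]), (160, [(218, 1)]), (185, [(226, 1)]), (187, [(228, -1)]), (192, [(230, 1)]), (198, [(231, 1)]), (208, [(233, 1)]), (220, [(236, 1)]), (222, [(238, -1)])])) (.node (.leaf [(3, [(1, -1)]), (12, [(10, 1)]), (19, [(17, 1)]), (24, [(22, 1)]), (28, [(26, 1)]), (33, [(30, -1)]), (35, [(32, 1)]), (38, [(36, 1)]), (43, [(40, -1)]), (45, [(42, 1)]), (49, [(46, -1)]), (51, [(48, 1)]), (55, [(53, -1)]), (59, [(56, -1)]), (61, [(58, 1)]), (65, [(63, -1)]), (69, [(67, -1)]), (74, [(72, -1)]), (81, [(78, -1)]), (83, [(80, 1)]), (87, [(85, -1)]), (91, [(89, -1)]), (96, [(94, -1)]), (102, [(100, -1)]), (108, [(106, -1)]), (113, [(111, -1)]), (119, [(114, 1)]), (121, [(116, 1)]), (123, [(118, -1)]), (125, [(120, -1)]), (128, [(126, 1)]), (133, [(131, 1)]), (139, [(137, 1)]), (145, [(143, 1)]), (150, [(148, 1)]), (154, [(152, 1)]), (159, [(156, -1)]), (161, [(158, 1)]), (167, [(165, 1)]), (172, [(170, 1)]), (176, [(174, 1)]), (181, [(178, -1)]), (183, [(180, 1)]), (186, [(184, 1)]), (191, [(188, -1)]), (193, [(190, 1)]), (197, [(194, -1)]), (199, [(196, 1)]), (203, [(201, -1)]), (207, [(204, -1)]), (209, [(206, 1)]), (213, [(211, -1)]), (217, [(215, -1)]), (222, [(220, -1)]), (229, [(227, -1)]), (238, [(236, 1)])]) (.leaf [(1, [(120, 1)]), (2, [(122, 1)]), (3, [(125, 1)]), (4, [(129, 1)]), (5, [(134, 1)]), (6, [(140, 1)]), (7, [(146, 1)]), (8, [(151, -1)]), (9, [(155, 1)]), (10, [(158, -1)]), (11, [(160, 1)]), (12, [(161, -1)]), (14, [(168, 1)]), (15, [(173, -1)]), (16, [(177, 1)]), (17, [(180, -1)]), (18, [(182, 1)]), (19, [(183, -1)]), (21, [(187, -1)]), (22, [(190, 1)]), (23, [(192, -1)]), (24, [(193, 1)]), (26, [(196, -1)]), (27, [(198, 1)]), (28, [(199, -1)]), (30, [(201, -1)]), (31, [(202, 1)]), (33, [(203, -1)]), (36, [(206, 1)]), (37, [(208, -1)]), (38, [(209, 1)]), (40, [(211, 1)]), (41, [(212, -1)]), (43, [(213, 1)]), (46, [(215, -1)]), (47, [(216, 1)]), (49, [(217, -1)]), (52, [(218, 1)]), (56, [(220, 1)]), (57, [(221, -1)]), (59, [(222, 1)]), (62, [(223, -1)]), (66, [(224, 1)]), (71, [(225, -1)]), (78, [(227, 1)]), (79, [(228, -1)]), (81, [(229, 1)]), (84, [(230, -1)]), (88, [(231, 1)]), (93, [(232, -1)]), (99, [(233, -1)]), (105, [(234, -1)]), (110, [(235, -1)]), (114, [(236, -1)]), (117, [(237, -1)]), (119, [(238, -1)])]))))) (.node (.node (.node (.node (.leaf [(79, [(0, 1)]), (80, [(1, 1)]), (83, [(3, -1)]), (86, [(4, -1)]), (90, [(5, -1)]), (95, [(6, -1)]), (101, [(7, -1)]), (107, [(8, 1)]), (112, [(9, -1)]), (116, [(10, 1)]), (121, [(12, 1)]), (122, [(13, -1)]), (162, [(18, 1)]), (163, [(23, -1)]), (164, [(27, 1)]), (165, [(30, -1)]), (167, [(33, 1)]), (168, [(34, -1)]), (169, [(37, -1)]), (170, [(40, 1)]), (172, [(43, -1)]), (173, [(44, 1)]), (174, [(46, -1)]), (176, [(49, 1)]), (177, [(50, -1)]), (179, [(52, -1)]), (180, [(53, 1)]), (183, [(55, -1)]), (184, [(56, 1)]), (186, [(59, -1)]), (187, [(60, 1)]), (189, [(62, 1)]), (190, [(63, -1)]), (193, [(65, 1)]), (195, [(66, -1)]), (196, [(67, 1)]), (199, [(69, -1)]), (202, [(70, 1)]), (205, [(71, 1)]), (206, [(72, -1)]), (209, [(74, 1)]), (212, [(75, -1)]), (216, [(76, 1)]), (221, [(77, -1)]), (226, [(117, 1)]), (227, [(118, -1)]), (229, [(123, -1)]), (230, [(127, 1)]), (231, [(132, -1)]), (232, [(138, 1)]), (233, [(144, 1)]), (234, [(149, 1)]), (235, [(153, 1)]), (236, [(156, 1)]), (238, [(159, -1)]), (239, [(160, -1)])]) (.leaf [(1, [(6, -1)]), (7, [(12, -1)]), (15, [(24, 1)]), (16, [(28, 1)]), (17, [(31, 1)]), (18, [(33, 1)]), (20, [(35, -1)]), (36, [(57, 1)]), (37, [(59, 1)]), (39, [(61, -1)]), (40, [(62, 1)]), (42, [(64, -1)]), (44, [(65, -1)]), (46, [(66, 1)]), (48, [(68, -1)]), (50, [(69, -1)]), (53, [(70, -1)]), (72, [(77, -1)]), (78, [(93, -1)]), (80, [(95, 1)]), (82, [(96, 1)]), (85, [(97, 1)]), (89, [(98, 1)]), (99, [(119, 1)]), (101, [(121, 1)]), (102, [(124, 1)]), (103, [(128, 1)]), (104, [(133, 1)]), (106, [(135, -1)]), (111, [(136, -1)]), (115, [(137, -1)]), (118, [(138, -1)]), (120, [(140, -1)]), (141, [(150, -1)]), (142, [(154, -1)]), (143, [(157, -1)]), (144, [(159, -1)]), (146, [(161, 1)]), (162, [(167, 1)]), (169, [(186, 1)]), (170, [(189, 1)]), (171, [(191, 1)]), (173, [(193, -1)]), (174, [(195, 1)]), (175, [(197, 1)]), (177, [(199, -1)]), (178, [(200, 1)]), (180, [(202, -1)]), (182, [(203, -1)]), (204, [(219, 1)]), (206, [(221, -1)]), (208, [(222, -1)]), (211, [(223, -1)]), (215, [(224, -1)]), (227, [(232, 1)]), (233, [(238, 1)])])) (.node (.leaf [(14, [(4, -1)]), (16, [(7, 1)]), (21, [(8, 1)]), (26, [(10, -1)]), (27, [(11, -1)]), (28, [(12, -1)]), (29, [(13, -1)]), (78, [(40, 1)]), (79, [(41, 1)]), (80, [(42, 1)]), (81, [(43, 1)]), (82, [(44, 1)]), (83, [(45, 1)]), (88, [(52, -1)]), (89, [(53, -1)]), (90, [(54, -1)]), (91, [(55, -1)]), (93, [(62, -1)]), (94, [(63, -1)]), (95, [(64, -1)]), (96, [(65, -1)]), (98, [(70, 1)]), (110, [(71, 1)]), (111, [(72, 1)]), (112, [(73, 1)]), (113, [(74, 1)]), (130, [(76, 1)]), (136, [(77, 1)]), (162, [(103, -1)]), (163, [(109, -1)]), (165, [(126, -1)]), (166, [(127, -1)]), (167, [(128, -1)]), (168, [(129, -1)]), (169, [(141, -1)]), (174, [(143, 1)]), (175, [(144, 1)]), (176, [(145, 1)]), (177, [(146, 1)]), (184, [(148, 1)]), (185, [(149, 1)]), (186, [(150, 1)]), (187, [(151, 1)]), (194, [(156, -1)]), (195, [(157, -1)]), (196, [(158, -1)]), (197, [(159, -1)]), (198, [(160, -1)]), (199, [(161, -1)]), (226, [(210, 1)]), (227, [(211, 1)]), (228, [(212, 1)]), (229, [(213, 1)]), (231, [(218, -1)]), (232, [(223, -1)]), (235, [(225, 1)])]) (.leaf [(0, [(33, 1)]), (1, [(34, 1)]), (2, [(35, 1)]), (7, [(55, -1)]), (8, [(65, -1)]), (9, [(69, -1)]), (10, [(70, -1)]), (15, [(87, 1)]), (16, [(91, 1)]), (17, [(92, 1)]), (21, [(96, 1)]), (22, [(97, 1)]), (26, [(98, 1)]), (37, [(123, 1)]), (38, [(124, -1)]), (39, [(125, 1)]), (40, [(127, 1)]), (41, [(128, -1)]), (42, [(129, 1)]), (46, [(132, 1)]), (47, [(133, -1)]), (48, [(134, 1)]), (56, [(138, 1)]), (57, [(139, -1)]), (58, [(140, 1)]), (71, [(159, 1)]), (72, [(160, -1)]), (73, [(161, 1)]), (78, [(166, -1)]), (79, [(167, 1)]), (80, [(168, -1)]), (99, [(181, -1)]), (100, [(182, 1)]), (101, [(183, -1)]), (105, [(191, -1)]), (106, [(192, 1)]), (107, [(193, -1)]), (110, [(197, -1)]), (111, [(198, 1)]), (112, [(199, -1)]), (114, [(200, -1)]), (115, [(201, 1)]), (116, [(202, -1)]), (141, [(213, -1)]), (142, [(217, -1)]), (143, [(218, -1)]), (147, [(222, -1)]), (148, [(223, -1)]), (152, [(224, -1)]), (169, [(229, 1)]), (170, [(230, 1)]), (174, [(231, 1)]), (184, [(232, 1)]), (204, [(237, -1)]), (205, [(238, -1)]), (206, [(239, -1)])]))) (.node (.node (.leaf [(26, [(0, 1)]), (29, [(3, 1)]), (32, [(4, 1)]), (48, [(7, -1)]), (58, [(8, -1)]), (67, [(11, -1)]), (68, [(12, -1)]), (80, [(15, 1)]), (89, [(18, 1)]), (90, [(19, 1)]), (94, [(23, 1)]), (95, [(24, 1)]), (98, [(33, 1)]), (111, [(37, -1)]), (112, [(38, -1)]), (115, [(40, 1)]), (116, [(41, 1)]), (120, [(44, 1)]), (122, [(45, 1)]), (130, [(49, 1)]), (131, [(52, -1)]), (134, [(55, 1)]), (136, [(59, 1)]), (137, [(62, -1)]), (140, [(65, 1)]), (152, [(71, 1)]), (155, [(74, -1)]), (158, [(75, 1)]), (164, [(81, -1)]), (165, [(84, 1)]), (168, [(87, -1)]), (174, [(99, -1)]), (177, [(102, 1)]), (180, [(103, -1)]), (184, [(105, -1)]), (187, [(108, 1)]), (190, [(109, -1)]), (194, [(117, -1)]), (195, [(119, -1)]), (198, [(123, -1)]), (199, [(124, -1)]), (201, [(127, 1)]), (202, [(128, 1)]), (206, [(141, -1)]), (215, [(144, -1)]), (216, [(145, -1)]), (220, [(149, -1)]), (221, [(150, -1)]), (224, [(159, -1)]), (227, [(171, 1)]), (228, [(172, 1)]), (231, [(181, 1)]), (232, [(191, 1)]), (235, [(207, -1)]), (236, [(210, -1)]), (239, [(213, -1)])]) (.leaf [(2, [(15, 1)]), (5, [(18, 1)]), (6, [(23, 1)]), (9, [(37, -1)]), (10, [(40, -1)]), (12, [(43, 1)]), (13, [(44, 1)]), (26, [(78, 1)]), (28, [(81, -1)]), (29, [(82, -1)]), (31, [(84, -1)]), (32, [(85, -1)]), (35, [(87, 1)]), (47, [(99, 1)]), (48, [(100, 1)]), (51, [(102, -1)]), (54, [(103, -1)]), (57, [(105, -1)]), (58, [(106, -1)]), (61, [(108, 1)]), (64, [(109, 1)]), (66, [(117, 1)]), (67, [(118, 1)]), (69, [(123, 1)]), (70, [(127, 1)]), (73, [(141, 1)]), (76, [(144, -1)]), (77, [(149, 1)]), (90, [(162, -1)]), (95, [(163, 1)]), (98, [(166, -1)]), (112, [(169, -1)]), (116, [(170, -1)]), (121, [(172, -1)]), (122, [(173, -1)]), (130, [(175, -1)]), (131, [(178, -1)]), (133, [(181, 1)]), (134, [(182, 1)]), (136, [(185, 1)]), (137, [(188, 1)]), (139, [(191, -1)]), (140, [(192, -1)]), (152, [(204, -1)]), (154, [(207, 1)]), (155, [(208, 1)]), (157, [(210, 1)]), (158, [(211, 1)]), (161, [(213, -1)]), (195, [(226, -1)]), (196, [(227, -1)]), (199, [(229, 1)]), (202, [(230, 1)]), (216, [(233, -1)]), (221, [(234, -1)]), (224, [(237, -1)])])) (.node (.leaf [(5, [(2, -1)]), (11, [(8, -1)]), (18, [(15, -1)]), (27, [(21, 1)]), (30, [(22, 1)]), (33, [(24, -1)]), (34, [(25, -1)]), (46, [(36, -1)]), (49, [(38, 1)]), (50, [(39, 1)]), (52, [(41, 1)]), (53, [(42, 1)]), (55, [(45, -1)]), (66, [(57, -1)]), (67, [(58, -1)]), (69, [(61, 1)]), (70, [(64, 1)]), (76, [(73, -1)]), (88, [(79, -1)]), (89, [(80, -1)]), (91, [(83, 1)]), (92, [(86, 1)]), (98, [(95, -1)]), (104, [(101, -1)]), (117, [(105, 1)]), (118, [(106, 1)]), (123, [(108, 1)]), (127, [(109, 1)]), (130, [(112, -1)]), (131, [(116, -1)]), (133, [(121, -1)]), (134, [(122, -1)]), (138, [(135, 1)]), (144, [(141, 1)]), (153, [(147, -1)]), (156, [(148, -1)]), (159, [(150, 1)]), (160, [(151, 1)]), (166, [(163, 1)]), (175, [(169, -1)]), (178, [(170, -1)]), (181, [(172, 1)]), (182, [(173, 1)]), (194, [(184, 1)]), (197, [(186, -1)]), (198, [(187, -1)]), (200, [(189, -1)]), (201, [(190, -1)]), (203, [(193, 1)]), (214, [(205, 1)]), (215, [(206, 1)]), (217, [(209, -1)]), (218, [(212, -1)]), (224, [(221, 1)]), (231, [(228, 1)]), (237, [(234, 1)])]) (.leaf [(0, [(110, 1)]), (1, [(111, 1)]), (2, [(112, 1)]), (3, [(113, 1)]), (5, [(130, 1)]), (6, [(136, 1)]), (7, [(142, 1)]), (8, [(147, -1)]), (10, [(152, 1)]), (11, [(153, -1)]), (12, [(154, 1)]), (13, [(155, -1)]), (14, [(164, 1)]), (15, [(169, -1)]), (17, [(174, 1)]), (18, [(175, -1)]), (19, [(176, 1)]), (20, [(177, -1)]), (22, [(184, -1)]), (23, [(185, 1)]), (24, [(186, -1)]), (25, [(187, 1)]), (30, [(194, -1)]), (31, [(195, 1)]), (32, [(196, -1)]), (33, [(197, -1)]), (34, [(198, 1)]), (35, [(199, -1)]), (40, [(204, 1)]), (41, [(205, -1)]), (42, [(206, 1)]), (43, [(207, 1)]), (44, [(208, -1)]), (45, [(209, 1)]), (52, [(214, -1)]), (53, [(215, 1)]), (54, [(216, -1)]), (55, [(217, 1)]), (62, [(219, 1)]), (63, [(220, -1)]), (64, [(221, 1)]), (65, [(222, -1)]), (70, [(224, 1)]), (75, [(225, -1)]), (84, [(226, 1)]), (85, [(227, -1)]), (86, [(228, 1)]), (87, [(229, -1)]), (92, [(231, 1)]), (97, [(232, -1)]), (103, [(233, -1)]), (109, [(234, -1)]), (126, [(236, -1)]), (127, [(237, -1)]), (128, [(238, -1)]), (129, [(239, -1)])])))) (.node (.node (.node (.leaf [(41, [(0, 1)]), (42, [(1, 1)]), (45, [(3, -1)]), (54, [(5, 1)]), (64, [(6, 1)]), (73, [(9, -1)]), (75, [(11, 1)]), (86, [(14, -1)]), (101, [(16, 1)]), (103, [(18, -1)]), (107, [(21, -1)]), (109, [(23, 1)]), (116, [(26, 1)]), (121, [(28, 1)]), (122, [(29, -1)]), (126, [(30, 1)]), (128, [(33, -1)]), (129, [(34, 1)]), (141, [(37, 1)]), (143, [(46, -1)]), (145, [(49, 1)]), (146, [(50, -1)]), (148, [(56, 1)]), (150, [(59, -1)]), (151, [(60, 1)]), (157, [(66, 1)]), (158, [(67, -1)]), (161, [(69, 1)]), (170, [(78, -1)]), (172, [(81, 1)]), (173, [(82, -1)]), (179, [(88, -1)]), (180, [(89, 1)]), (183, [(91, -1)]), (189, [(93, 1)]), (190, [(94, -1)]), (193, [(96, 1)]), (202, [(98, -1)]), (205, [(110, -1)]), (206, [(111, 1)]), (209, [(113, -1)]), (210, [(117, 1)]), (211, [(118, -1)]), (213, [(123, -1)]), (216, [(130, -1)]), (218, [(132, 1)]), (221, [(136, 1)]), (223, [(138, -1)]), (225, [(153, 1)]), (228, [(164, -1)]), (230, [(166, 1)]), (233, [(175, -1)]), (234, [(185, -1)]), (236, [(194, 1)]), (238, [(197, -1)]), (239, [(198, -1)])]) (.leaf [(0, [(9, -1)]), (4, [(13, 1)]), (14, [(29, 1)]), (15, [(39, 1)]), (17, [(48, -1)]), (18, [(50, -1)]), (19, [(51, -1)]), (22, [(58, -1)]), (23, [(60, -1)]), (24, [(61, -1)]), (30, [(67, 1)]), (31, [(68, 1)]), (33, [(69, 1)]), (40, [(72, 1)]), (41, [(73, 1)]), (43, [(74, 1)]), (52, [(76, -1)]), (62, [(77, -1)]), (78, [(111, 1)]), (79, [(112, 1)]), (81, [(113, 1)]), (85, [(120, 1)]), (86, [(122, 1)]), (87, [(125, 1)]), (88, [(130, 1)]), (92, [(134, -1)]), (93, [(136, 1)]), (97, [(140, -1)]), (99, [(142, 1)]), (103, [(146, -1)]), (105, [(147, 1)]), (109, [(151, -1)]), (114, [(152, -1)]), (117, [(153, -1)]), (119, [(154, -1)]), (126, [(158, -1)]), (127, [(160, -1)]), (128, [(161, -1)]), (162, [(177, 1)]), (163, [(187, 1)]), (165, [(196, -1)]), (166, [(198, -1)]), (167, [(199, -1)]), (170, [(206, -1)]), (171, [(208, -1)]), (172, [(209, -1)]), (178, [(215, 1)]), (179, [(216, 1)]), (181, [(217, 1)]), (188, [(220, 1)]), (189, [(221, 1)]), (191, [(222, 1)]), (200, [(224, -1)]), (210, [(225, -1)]), (226, [(235, -1)]), (230, [(239, 1)])])) (.node (.leaf [(8, [(3, 1)]), (10, [(5, -1)]), (22, [(14, 1)]), (36, [(16, -1)]), (40, [(18, 1)]), (41, [(19, 1)]), (42, [(20, 1)]), (56, [(27, -1)]), (57, [(28, -1)]), (58, [(29, -1)]), (62, [(33, 1)]), (63, [(34, 1)]), (64, [(35, 1)]), (71, [(49, -1)]), (72, [(50, -1)]), (73, [(51, -1)]), (75, [(55, 1)]), (77, [(69, -1)]), (105, [(81, -1)]), (106, [(82, -1)]), (107, [(83, -1)]), (109, [(87, 1)]), (114, [(88, 1)]), (115, [(89, 1)]), (116, [(90, 1)]), (126, [(92, 1)]), (135, [(96, 1)]), (137, [(98, -1)]), (141, [(102, 1)]), (143, [(104, -1)]), (147, [(113, -1)]), (149, [(123, -1)]), (150, [(124, -1)]), (151, [(125, -1)]), (152, [(130, -1)]), (156, [(132, 1)]), (157, [(133, 1)]), (158, [(134, 1)]), (170, [(162, 1)]), (184, [(164, -1)]), (188, [(166, 1)]), (189, [(167, 1)]), (190, [(168, 1)]), (204, [(175, -1)]), (205, [(176, -1)]), (206, [(177, -1)]), (210, [(181, 1)]), (211, [(182, 1)]), (212, [(183, 1)]), (219, [(197, -1)]), (220, [(198, -1)]), (221, [(199, -1)]), (223, [(203, 1)]), (225, [(217, -1)]), (234, [(229, 1)]), (236, [(231, -1)])]) (.leaf [(1, [(56, -1)]), (2, [(57, -1)]), (3, [(59, -1)]), (4, [(62, -1)]), (5, [(66, -1)]), (7, [(71, -1)]), (13, [(77, 1)]), (14, [(93, -1)]), (15, [(105, 1)]), (16, [(110, -1)]), (17, [(114, 1)]), (18, [(117, -1)]), (19, [(119, 1)]), (25, [(135, 1)]), (29, [(136, -1)]), (32, [(137, 1)]), (34, [(138, -1)]), (35, [(139, 1)]), (39, [(147, 1)]), (42, [(148, -1)]), (44, [(149, 1)]), (45, [(150, -1)]), (48, [(152, 1)]), (50, [(153, -1)]), (51, [(154, 1)]), (53, [(156, 1)]), (54, [(157, -1)]), (55, [(159, 1)]), (80, [(184, -1)]), (82, [(185, 1)]), (83, [(186, -1)]), (85, [(188, -1)]), (86, [(189, 1)]), (87, [(191, -1)]), (89, [(194, 1)]), (90, [(195, -1)]), (91, [(197, 1)]), (92, [(200, -1)]), (100, [(204, -1)]), (101, [(205, 1)]), (102, [(207, -1)]), (103, [(210, 1)]), (104, [(214, -1)]), (120, [(220, -1)]), (122, [(221, 1)]), (125, [(222, -1)]), (129, [(223, 1)]), (134, [(224, -1)]), (146, [(225, 1)]), (162, [(226, -1)]), (168, [(232, 1)]), (173, [(234, 1)]), (177, [(235, 1)]), (180, [(236, 1)]), (182, [(237, 1)]), (183, [(238, 1)])]))) (.node (.node (.leaf [(17, [(0, 1)]), (20, [(3, 1)]), (32, [(6, 1)]), (42, [(8, 1)]), (48, [(9, 1)]), (53, [(11, -1)]), (54, [(12, -1)]), (80, [(21, 1)]), (85, [(23, -1)]), (86, [(24, -1)]), (89, [(27, -1)]), (90, [(28, -1)]), (92, [(33, 1)]), (100, [(37, -1)]), (101, [(38, -1)]), (103, [(43, 1)]), (104, [(49, 1)]), (115, [(56, 1)]), (116, [(57, 1)]), (120, [(60, 1)]), (122, [(61, 1)]), (126, [(62, 1)]), (129, [(65, -1)]), (131, [(66, 1)]), (134, [(69, -1)]), (143, [(71, 1)]), (146, [(74, -1)]), (158, [(77, 1)]), (162, [(81, -1)]), (165, [(93, 1)]), (168, [(96, -1)]), (170, [(105, 1)]), (173, [(108, -1)]), (174, [(110, 1)]), (177, [(113, -1)]), (178, [(117, -1)]), (179, [(119, -1)]), (182, [(123, -1)]), (183, [(124, -1)]), (190, [(135, -1)]), (196, [(136, -1)]), (201, [(138, 1)]), (202, [(139, 1)]), (206, [(147, -1)]), (211, [(149, 1)]), (212, [(150, 1)]), (215, [(153, 1)]), (216, [(154, 1)]), (218, [(159, -1)]), (227, [(185, 1)]), (228, [(186, 1)]), (230, [(191, -1)]), (231, [(197, -1)]), (233, [(207, -1)]), (236, [(219, -1)]), (239, [(222, -1)])]) (.leaf [(0, [(21, 1)]), (4, [(25, -1)]), (5, [(29, -1)]), (7, [(39, -1)]), (10, [(58, -1)]), (11, [(60, -1)]), (12, [(61, -1)]), (17, [(80, 1)]), (18, [(82, 1)]), (19, [(83, 1)]), (30, [(94, 1)]), (31, [(95, 1)]), (33, [(96, 1)]), (40, [(106, -1)]), (41, [(107, -1)]), (43, [(108, -1)]), (46, [(111, 1)]), (47, [(112, 1)]), (49, [(113, 1)]), (53, [(120, 1)]), (54, [(122, 1)]), (55, [(125, 1)]), (62, [(135, 1)]), (66, [(136, -1)]), (70, [(140, 1)]), (71, [(147, 1)]), (75, [(151, -1)]), (76, [(155, 1)]), (84, [(163, -1)]), (88, [(164, 1)]), (92, [(168, -1)]), (99, [(169, -1)]), (103, [(173, 1)]), (104, [(177, -1)]), (114, [(184, -1)]), (117, [(185, -1)]), (119, [(186, -1)]), (126, [(190, -1)]), (127, [(192, -1)]), (128, [(193, -1)]), (131, [(196, 1)]), (132, [(198, 1)]), (133, [(199, 1)]), (143, [(206, -1)]), (144, [(208, -1)]), (145, [(209, -1)]), (156, [(220, -1)]), (157, [(221, -1)]), (159, [(222, -1)]), (178, [(227, 1)]), (179, [(228, 1)]), (181, [(229, 1)]), (200, [(232, 1)]), (210, [(234, 1)]), (214, [(235, 1)]), (218, [(239, -1)])])) (.node (.leaf [(2, [(3, -1)]), (10, [(11, -1)]), (17, [(18, -1)]), (22, [(23, -1)]), (26, [(27, -1)]), (31, [(33, -1)]), (32, [(34, -1)]), (36, [(37, -1)]), (41, [(43, -1)]), (42, [(44, -1)]), (47, [(49, -1)]), (48, [(50, -1)]), (54, [(55, -1)]), (57, [(59, -1)]), (58, [(60, -1)]), (64, [(65, -1)]), (68, [(69, -1)]), (73, [(74, -1)]), (79, [(81, -1)]), (80, [(82, -1)]), (86, [(87, -1)]), (90, [(91, -1)]), (95, [(96, -1)]), (101, [(102, -1)]), (107, [(108, -1)]), (112, [(113, -1)]), (114, [(117, 1)]), (115, [(118, 1)]), (121, [(124, -1)]), (122, [(125, -1)]), (126, [(127, 1)]), (131, [(132, 1)]), (137, [(138, 1)]), (143, [(144, 1)]), (148, [(149, 1)]), (152, [(153, 1)]), (157, [(159, 1)]), (158, [(160, 1)]), (165, [(166, 1)]), (170, [(171, 1)]), (174, [(175, 1)]), (179, [(181, 1)]), (180, [(182, 1)]), (184, [(185, 1)]), (189, [(191, 1)]), (190, [(192, 1)]), (195, [(197, 1)]), (196, [(198, 1)]), (202, [(203, 1)]), (205, [(207, 1)]), (206, [(208, 1)]), (212, [(213, 1)]), (216, [(217, 1)]), (221, [(222, 1)]), (228, [(229, 1)]), (236, [(237, 1)])]) (.leaf [(1, [(120, 1)]), (2, [(122, 1)]), (3, [(125, 1)]), (4, [(129, 1)]), (5, [(134, 1)]), (6, [(140, 1)]), (7, [(146, 1)]), (8, [(151, -1)]), (9, [(155, 1)]), (10, [(158, -1)]), (11, [(160, 1)]), (12, [(161, -1)]), (14, [(168, 1)]), (15, [(173, -1)]), (16, [(177, 1)]), (17, [(180, -1)]), (18, [(182, 1)]), (19, [(183, -1)]), (21, [(187, -1)]), (22, [(190, 1)]), (23, [(192, -1)]), (24, [(193, 1)]), (26, [(196, -1)]), (27, [(198, 1)]), (28, [(199, -1)]), (30, [(201, -1)]), (31, [(202, 1)]), (33, [(203, -1)]), (36, [(206, 1)]), (37, [(208, -1)]), (38, [(209, 1)]), (40, [(211, 1)]), (41, [(212, -1)]), (43, [(213, 1)]), (46, [(215, -1)]), (47, [(216, 1)]), (49, [(217, -1)]), (52, [(218, 1)]), (56, [(220, 1)]), (57, [(221, -1)]), (59, [(222, 1)]), (62, [(223, -1)]), (66, [(224, 1)]), (71, [(225, -1)]), (78, [(227, 1)]), (79, [(228, -1)]), (81, [(229, 1)]), (84, [(230, -1)]), (88, [(231, 1)]), (93, [(232, -1)]), (99, [(233, -1)]), (105, [(234, -1)]), (110, [(235, -1)]), (114, [(236, -1)]), (117, [(237, -1)]), (119, [(238, -1)])])))))) (.node (.node (.node (.node (.node (.leaf [(93, [(0, 1)]), (94, [(1, 1)]), (95, [(2, 1)]), (96, [(3, 1)]), (97, [(4, 1)]), (98, [(5, 1)]), (135, [(8, 1)]), (136, [(9, -1)]), (137, [(10, 1)]), (138, [(11, -1)]), (139, [(12, 1)]), (140, [(13, -1)]), (163, [(15, 1)]), (164, [(16, -1)]), (165, [(17, 1)]), (166, [(18, -1)]), (167, [(19, 1)]), (168, [(20, -1)]), (184, [(36, -1)]), (185, [(37, 1)]), (186, [(38, -1)]), (187, [(39, 1)]), (188, [(40, -1)]), (189, [(41, 1)]), (190, [(42, -1)]), (191, [(43, -1)]), (192, [(44, 1)]), (193, [(45, -1)]), (194, [(46, 1)]), (195, [(47, -1)]), (196, [(48, 1)]), (197, [(49, 1)]), (198, [(50, -1)]), (199, [(51, 1)]), (200, [(52, -1)]), (201, [(53, 1)]), (202, [(54, -1)]), (203, [(55, 1)]), (219, [(71, 1)]), (220, [(72, -1)]), (221, [(73, 1)]), (222, [(74, -1)]), (223, [(75, 1)]), (224, [(76, -1)]), (226, [(99, 1)]), (227, [(100, -1)]), (228, [(101, 1)]), (229, [(102, -1)]), (230, [(103, 1)]), (231, [(104, -1)]), (234, [(141, -1)]), (235, [(142, -1)]), (236, [(143, -1)]), (237, [(144, -1)]), (238, [(145, -1)]), (239, [(146, -1)])]) (.leaf [(5, [(6, -1)]), (7, [(8, -1)]), (16, [(21, -1)]), (17, [(22, -1)]), (18, [(23, -1)]), (19, [(24, -1)]), (20, [(25, -1)]), (46, [(56, -1)]), (47, [(57, -1)]), (48, [(58, -1)]), (49, [(59, -1)]), (50, [(60, -1)]), (51, [(61, -1)]), (52, [(62, -1)]), (53, [(63, -1)]), (54, [(64, -1)]), (55, [(65, -1)]), (76, [(77, -1)]), (88, [(93, -1)]), (89, [(94, -1)]), (90, [(95, -1)]), (91, [(96, -1)]), (92, [(97, -1)]), (99, [(105, 1)]), (100, [(106, 1)]), (101, [(107, 1)]), (102, [(108, 1)]), (103, [(109, 1)]), (130, [(136, -1)]), (131, [(137, -1)]), (132, [(138, -1)]), (133, [(139, -1)]), (134, [(140, -1)]), (142, [(147, 1)]), (143, [(148, 1)]), (144, [(149, 1)]), (145, [(150, 1)]), (146, [(151, 1)]), (162, [(163, 1)]), (174, [(184, 1)]), (175, [(185, 1)]), (176, [(186, 1)]), (177, [(187, 1)]), (178, [(188, 1)]), (179, [(189, 1)]), (180, [(190, 1)]), (181, [(191, 1)]), (182, [(192, 1)]), (183, [(193, 1)]), (214, [(219, 1)]), (215, [(220, 1)]), (216, [(221, 1)]), (217, [(222, 1)]), (218, [(223, 1)]), (231, [(232, 1)]), (233, [(234, 1)])])) (.node (.leaf [(14, [(0, -1)]), (20, [(7, 1)]), (25, [(8, 1)]), (29, [(9, 1)]), (32, [(10, 1)]), (34, [(11, 1)]), (35, [(12, 1)]), (80, [(36, 1)]), (82, [(37, 1)]), (83, [(38, 1)]), (85, [(40, 1)]), (86, [(41, 1)]), (87, [(43, 1)]), (89, [(46, 1)]), (90, [(47, 1)]), (91, [(49, 1)]), (92, [(52, 1)]), (94, [(56, 1)]), (95, [(57, 1)]), (96, [(59, 1)]), (97, [(62, 1)]), (98, [(66, 1)]), (120, [(72, 1)]), (122, [(73, 1)]), (125, [(74, 1)]), (129, [(75, 1)]), (134, [(76, 1)]), (140, [(77, 1)]), (162, [(99, -1)]), (163, [(105, -1)]), (164, [(110, -1)]), (165, [(114, -1)]), (166, [(117, -1)]), (167, [(119, -1)]), (173, [(141, -1)]), (177, [(142, -1)]), (180, [(143, -1)]), (182, [(144, -1)]), (183, [(145, -1)]), (187, [(147, -1)]), (190, [(148, -1)]), (192, [(149, -1)]), (193, [(150, -1)]), (196, [(152, -1)]), (198, [(153, -1)]), (199, [(154, -1)]), (201, [(156, -1)]), (202, [(157, -1)]), (203, [(159, -1)]), (227, [(204, -1)]), (228, [(205, -1)]), (229, [(207, -1)]), (230, [(210, -1)]), (231, [(214, -1)]), (232, [(219, -1)]), (239, [(225, 1)])]) (.leaf [(0, [(28, 1)]), (1, [(29, 1)]), (4, [(35, 1)]), (7, [(51, -1)]), (8, [(61, -1)]), (10, [(68, 1)]), (11, [(69, 1)]), (15, [(83, 1)]), (17, [(90, -1)]), (18, [(91, -1)]), (22, [(95, -1)]), (23, [(96, -1)]), (30, [(98, 1)]), (36, [(112, 1)]), (37, [(113, 1)]), (41, [(121, 1)]), (42, [(122, -1)]), (43, [(124, 1)]), (44, [(125, -1)]), (46, [(130, 1)]), (52, [(133, -1)]), (53, [(134, 1)]), (56, [(136, 1)]), (62, [(139, -1)]), (63, [(140, 1)]), (71, [(154, 1)]), (72, [(155, -1)]), (75, [(161, 1)]), (78, [(164, -1)]), (84, [(167, 1)]), (85, [(168, -1)]), (99, [(176, -1)]), (100, [(177, 1)]), (103, [(183, -1)]), (105, [(186, -1)]), (106, [(187, 1)]), (109, [(193, -1)]), (114, [(195, 1)]), (115, [(196, -1)]), (117, [(197, 1)]), (118, [(198, -1)]), (126, [(202, -1)]), (127, [(203, -1)]), (141, [(209, -1)]), (143, [(216, 1)]), (144, [(217, 1)]), (148, [(221, 1)]), (149, [(222, 1)]), (156, [(224, -1)]), (170, [(228, -1)]), (171, [(229, -1)]), (178, [(231, 1)]), (188, [(232, 1)]), (204, [(235, -1)]), (210, [(238, -1)]), (211, [(239, -1)])]))) (.node (.node (.leaf [(30, [(1, 1)]), (31, [(2, 1)]), (33, [(3, 1)]), (52, [(7, 1)]), (62, [(8, 1)]), (66, [(9, 1)]), (70, [(13, -1)]), (84, [(15, -1)]), (88, [(16, -1)]), (92, [(20, 1)]), (93, [(21, -1)]), (97, [(25, 1)]), (98, [(29, 1)]), (114, [(36, 1)]), (117, [(37, -1)]), (119, [(38, 1)]), (126, [(42, 1)]), (127, [(44, -1)]), (128, [(45, 1)]), (131, [(48, 1)]), (132, [(50, -1)]), (133, [(51, 1)]), (137, [(58, 1)]), (138, [(60, -1)]), (139, [(61, 1)]), (156, [(72, 1)]), (157, [(73, -1)]), (159, [(74, 1)]), (165, [(80, -1)]), (166, [(82, 1)]), (167, [(83, -1)]), (178, [(100, -1)]), (179, [(101, 1)]), (181, [(102, -1)]), (188, [(106, -1)]), (189, [(107, 1)]), (191, [(108, -1)]), (194, [(111, -1)]), (195, [(112, 1)]), (197, [(113, -1)]), (201, [(120, -1)]), (202, [(122, 1)]), (203, [(125, -1)]), (210, [(141, -1)]), (214, [(142, -1)]), (218, [(146, 1)]), (219, [(147, -1)]), (223, [(151, 1)]), (224, [(155, 1)]), (226, [(169, 1)]), (230, [(173, -1)]), (231, [(177, -1)]), (232, [(187, -1)]), (236, [(206, -1)]), (237, [(208, -1)]), (238, [(209, -1)])]) (.leaf [(1, [(14, -1)]), (7, [(19, -1)]), (8, [(24, -1)]), (9, [(28, -1)]), (10, [(31, -1)]), (11, [(33, -1)]), (13, [(35, 1)]), (36, [(79, -1)]), (37, [(81, -1)]), (39, [(83, 1)]), (40, [(84, -1)]), (42, [(86, 1)]), (44, [(87, 1)]), (46, [(88, -1)]), (48, [(90, 1)]), (50, [(91, 1)]), (53, [(92, 1)]), (56, [(93, -1)]), (58, [(95, 1)]), (60, [(96, 1)]), (63, [(97, 1)]), (67, [(98, 1)]), (71, [(119, 1)]), (73, [(121, 1)]), (74, [(124, 1)]), (75, [(128, 1)]), (76, [(133, 1)]), (77, [(139, 1)]), (100, [(162, -1)]), (106, [(163, -1)]), (111, [(164, -1)]), (115, [(165, -1)]), (118, [(166, -1)]), (120, [(168, -1)]), (141, [(172, -1)]), (142, [(176, -1)]), (143, [(179, -1)]), (144, [(181, -1)]), (146, [(183, 1)]), (147, [(186, -1)]), (148, [(189, -1)]), (149, [(191, -1)]), (151, [(193, 1)]), (152, [(195, -1)]), (153, [(197, -1)]), (155, [(199, 1)]), (156, [(200, -1)]), (158, [(202, 1)]), (160, [(203, 1)]), (204, [(226, -1)]), (206, [(228, 1)]), (208, [(229, 1)]), (211, [(230, 1)]), (215, [(231, 1)]), (220, [(232, 1)]), (225, [(238, 1)])])) (.node (.leaf [(6, [(4, -1)]), (9, [(7, 1)]), (21, [(15, -1)]), (26, [(17, 1)]), (27, [(18, 1)]), (28, [(19, 1)]), (29, [(20, 1)]), (56, [(40, -1)]), (57, [(41, -1)]), (58, [(42, -1)]), (59, [(43, -1)]), (60, [(44, -1)]), (61, [(45, -1)]), (66, [(52, 1)]), (67, [(53, 1)]), (68, [(54, 1)]), (69, [(55, 1)]), (77, [(75, -1)]), (93, [(84, -1)]), (94, [(85, -1)]), (95, [(86, -1)]), (96, [(87, -1)]), (98, [(92, 1)]), (110, [(99, 1)]), (111, [(100, 1)]), (112, [(101, 1)]), (113, [(102, 1)]), (130, [(104, 1)]), (135, [(109, -1)]), (137, [(126, -1)]), (138, [(127, -1)]), (139, [(128, -1)]), (140, [(129, -1)]), (147, [(141, -1)]), (152, [(143, 1)]), (153, [(144, 1)]), (154, [(145, 1)]), (155, [(146, 1)]), (164, [(162, 1)]), (184, [(170, -1)]), (185, [(171, -1)]), (186, [(172, -1)]), (187, [(173, -1)]), (194, [(178, 1)]), (195, [(179, 1)]), (196, [(180, 1)]), (197, [(181, 1)]), (198, [(182, 1)]), (199, [(183, 1)]), (219, [(210, -1)]), (220, [(211, -1)]), (221, [(212, -1)]), (222, [(213, -1)]), (224, [(218, 1)]), (232, [(230, -1)]), (235, [(233, 1)])]) (.leaf [(0, [(88, -1)]), (1, [(89, -1)]), (2, [(90, -1)]), (3, [(91, -1)]), (4, [(92, -1)]), (6, [(98, 1)]), (7, [(104, 1)]), (9, [(130, 1)]), (10, [(131, -1)]), (11, [(132, 1)]), (12, [(133, -1)]), (13, [(134, 1)]), (15, [(162, 1)]), (21, [(164, -1)]), (22, [(165, 1)]), (23, [(166, -1)]), (24, [(167, 1)]), (25, [(168, -1)]), (36, [(174, -1)]), (37, [(175, 1)]), (38, [(176, -1)]), (39, [(177, 1)]), (40, [(178, -1)]), (41, [(179, 1)]), (42, [(180, -1)]), (43, [(181, -1)]), (44, [(182, 1)]), (45, [(183, -1)]), (56, [(194, 1)]), (57, [(195, -1)]), (58, [(196, 1)]), (59, [(197, 1)]), (60, [(198, -1)]), (61, [(199, 1)]), (62, [(200, -1)]), (63, [(201, 1)]), (64, [(202, -1)]), (65, [(203, 1)]), (71, [(214, 1)]), (72, [(215, -1)]), (73, [(216, 1)]), (74, [(217, -1)]), (75, [(218, 1)]), (77, [(224, -1)]), (105, [(226, -1)]), (106, [(227, 1)]), (107, [(228, -1)]), (108, [(229, 1)]), (109, [(230, -1)]), (135, [(232, -1)]), (141, [(233, -1)]), (147, [(235, 1)]), (148, [(236, 1)]), (149, [(237, 1)]), (150, [(238, 1)]), (151, [(239, 1)])])))) (.node (.node (.node (.leaf [(47, [(0, -1)]), (48, [(1, -1)]), (51, [(3, 1)]), (54, [(4, 1)]), (68, [(6, -1)]), (73, [(8, -1)]), (76, [(11, -1)]), (90, [(14, 1)]), (101, [(15, 1)]), (104, [(18, 1)]), (112, [(21, -1)]), (116, [(22, 1)]), (121, [(24, 1)]), (122, [(25, -1)]), (130, [(27, 1)]), (131, [(30, -1)]), (133, [(33, 1)]), (134, [(34, -1)]), (142, [(37, 1)]), (143, [(40, -1)]), (145, [(43, 1)]), (146, [(44, -1)]), (152, [(56, 1)]), (154, [(59, -1)]), (155, [(60, 1)]), (157, [(62, 1)]), (158, [(63, -1)]), (161, [(65, 1)]), (174, [(78, -1)]), (176, [(81, 1)]), (177, [(82, -1)]), (179, [(84, -1)]), (180, [(85, 1)]), (183, [(87, -1)]), (195, [(93, 1)]), (196, [(94, -1)]), (199, [(96, 1)]), (202, [(97, -1)]), (205, [(105, 1)]), (206, [(106, -1)]), (209, [(108, 1)]), (212, [(109, -1)]), (214, [(117, 1)]), (215, [(118, -1)]), (217, [(123, -1)]), (218, [(127, 1)]), (221, [(135, -1)]), (224, [(138, -1)]), (225, [(149, -1)]), (228, [(163, 1)]), (231, [(166, 1)]), (233, [(171, 1)]), (235, [(185, -1)]), (236, [(188, -1)]), (238, [(191, 1)]), (239, [(192, 1)])]) (.leaf [(0, [(8, 1)]), (5, [(13, 1)]), (14, [(25, -1)]), (16, [(39, 1)]), (17, [(42, 1)]), (18, [(44, 1)]), (19, [(45, 1)]), (26, [(58, -1)]), (27, [(60, -1)]), (28, [(61, -1)]), (30, [(63, -1)]), (31, [(64, -1)]), (33, [(65, -1)]), (46, [(72, 1)]), (47, [(73, 1)]), (49, [(74, 1)]), (52, [(75, 1)]), (66, [(77, -1)]), (78, [(106, 1)]), (79, [(107, 1)]), (81, [(108, 1)]), (84, [(109, 1)]), (89, [(120, 1)]), (90, [(122, 1)]), (91, [(125, 1)]), (92, [(129, 1)]), (93, [(135, 1)]), (98, [(140, -1)]), (99, [(141, 1)]), (104, [(146, -1)]), (110, [(147, -1)]), (114, [(148, -1)]), (117, [(149, -1)]), (119, [(150, -1)]), (130, [(155, -1)]), (131, [(158, -1)]), (132, [(160, -1)]), (133, [(161, -1)]), (162, [(173, 1)]), (164, [(187, -1)]), (165, [(190, -1)]), (166, [(192, -1)]), (167, [(193, -1)]), (174, [(206, 1)]), (175, [(208, 1)]), (176, [(209, 1)]), (178, [(211, 1)]), (179, [(212, 1)]), (181, [(213, 1)]), (194, [(220, -1)]), (195, [(221, -1)]), (197, [(222, -1)]), (200, [(223, -1)]), (214, [(225, 1)]), (226, [(234, -1)]), (231, [(239, -1)])])) (.node (.leaf [(9, [(3, -1)]), (10, [(4, -1)]), (26, [(14, -1)]), (36, [(15, -1)]), (46, [(18, -1)]), (47, [(19, -1)]), (48, [(20, -1)]), (56, [(23, -1)]), (57, [(24, -1)]), (58, [(25, -1)]), (66, [(33, -1)]), (67, [(34, -1)]), (68, [(35, -1)]), (71, [(43, -1)]), (72, [(44, -1)]), (73, [(45, -1)]), (76, [(55, -1)]), (77, [(65, -1)]), (110, [(81, -1)]), (111, [(82, -1)]), (112, [(83, -1)]), (114, [(84, 1)]), (115, [(85, 1)]), (116, [(86, 1)]), (130, [(91, 1)]), (131, [(92, -1)]), (136, [(96, 1)]), (137, [(97, -1)]), (142, [(102, 1)]), (143, [(103, -1)]), (147, [(108, 1)]), (148, [(109, -1)]), (153, [(123, -1)]), (154, [(124, -1)]), (155, [(125, -1)]), (156, [(127, 1)]), (157, [(128, 1)]), (158, [(129, 1)]), (174, [(162, 1)]), (184, [(163, 1)]), (194, [(166, 1)]), (195, [(167, 1)]), (196, [(168, 1)]), (204, [(171, 1)]), (205, [(172, 1)]), (206, [(173, 1)]), (214, [(181, 1)]), (215, [(182, 1)]), (216, [(183, 1)]), (219, [(191, 1)]), (220, [(192, 1)]), (221, [(193, 1)]), (224, [(203, 1)]), (225, [(213, 1)]), (235, [(229, 1)]), (236, [(230, 1)])]) (.leaf [(0, [(46, 1)]), (2, [(48, -1)]), (3, [(50, -1)]), (4, [(53, -1)]), (6, [(67, 1)]), (8, [(72, 1)]), (12, [(76, -1)]), (14, [(89, -1)]), (15, [(100, -1)]), (19, [(104, 1)]), (21, [(111, 1)]), (22, [(115, -1)]), (23, [(118, 1)]), (25, [(120, 1)]), (28, [(130, 1)]), (31, [(131, -1)]), (33, [(132, 1)]), (35, [(134, -1)]), (38, [(142, 1)]), (41, [(143, -1)]), (43, [(144, 1)]), (45, [(146, -1)]), (57, [(152, 1)]), (59, [(153, -1)]), (61, [(155, 1)]), (62, [(156, 1)]), (64, [(158, -1)]), (65, [(160, 1)]), (79, [(174, -1)]), (81, [(175, 1)]), (83, [(177, -1)]), (84, [(178, -1)]), (86, [(180, 1)]), (87, [(182, -1)]), (93, [(194, 1)]), (95, [(196, -1)]), (96, [(198, 1)]), (97, [(201, -1)]), (105, [(204, 1)]), (107, [(206, -1)]), (108, [(208, 1)]), (109, [(211, -1)]), (119, [(214, -1)]), (121, [(216, -1)]), (124, [(217, 1)]), (128, [(218, -1)]), (135, [(220, -1)]), (139, [(224, 1)]), (150, [(225, 1)]), (163, [(227, 1)]), (167, [(231, -1)]), (172, [(233, -1)]), (186, [(235, 1)]), (189, [(236, 1)]), (191, [(237, 1)]), (193, [(239, -1)])]))) (.node (.node (.leaf [(21, [(3, 1)]), (22, [(4, 1)]), (26, [(5, 1)]), (36, [(7, 1)]), (56, [(11, -1)]), (57, [(12, -1)]), (58, [(13, -1)]), (78, [(18, 1)]), (79, [(19, 1)]), (80, [(20, 1)]), (93, [(33, -1)]), (94, [(34, -1)]), (95, [(35, -1)]), (105, [(43, 1)]), (106, [(44, 1)]), (107, [(45, 1)]), (110, [(49, -1)]), (111, [(50, -1)]), (112, [(51, -1)]), (114, [(52, 1)]), (115, [(53, 1)]), (116, [(54, 1)]), (135, [(65, 1)]), (136, [(69, -1)]), (137, [(70, 1)]), (147, [(74, 1)]), (148, [(75, -1)]), (152, [(76, 1)]), (163, [(87, -1)]), (164, [(91, 1)]), (165, [(92, -1)]), (169, [(102, -1)]), (170, [(103, 1)]), (174, [(104, -1)]), (185, [(123, -1)]), (186, [(124, -1)]), (187, [(125, -1)]), (188, [(127, 1)]), (189, [(128, 1)]), (190, [(129, 1)]), (194, [(132, -1)]), (195, [(133, -1)]), (196, [(134, -1)]), (204, [(144, 1)]), (205, [(145, 1)]), (206, [(146, 1)]), (219, [(159, -1)]), (220, [(160, -1)]), (221, [(161, -1)]), (226, [(181, 1)]), (227, [(182, 1)]), (228, [(183, 1)]), (232, [(203, -1)]), (234, [(213, -1)]), (235, [(217, -1)]), (236, [(218, -1)])]) (.leaf [(0, [(19, 1)]), (1, [(20, 1)]), (6, [(35, 1)]), (8, [(45, 1)]), (9, [(51, 1)]), (10, [(54, 1)]), (11, [(55, 1)]), (21, [(83, 1)]), (22, [(86, 1)]), (23, [(87, 1)]), (26, [(90, 1)]), (27, [(91, 1)]), (30, [(92, 1)]), (36, [(101, 1)]), (37, [(102, 1)]), (40, [(103, 1)]), (46, [(104, 1)]), (57, [(121, 1)]), (58, [(122, -1)]), (59, [(124, 1)]), (60, [(125, -1)]), (62, [(128, 1)]), (63, [(129, -1)]), (66, [(133, 1)]), (67, [(134, -1)]), (71, [(145, 1)]), (72, [(146, -1)]), (77, [(161, 1)]), (78, [(162, -1)]), (93, [(167, 1)]), (94, [(168, -1)]), (105, [(172, 1)]), (106, [(173, -1)]), (110, [(176, 1)]), (111, [(177, -1)]), (114, [(179, 1)]), (115, [(180, -1)]), (117, [(181, 1)]), (118, [(182, -1)]), (135, [(193, -1)]), (136, [(199, -1)]), (137, [(202, -1)]), (138, [(203, -1)]), (147, [(209, -1)]), (148, [(212, -1)]), (149, [(213, -1)]), (152, [(216, -1)]), (153, [(217, -1)]), (156, [(218, -1)]), (184, [(228, -1)]), (185, [(229, -1)]), (188, [(230, -1)]), (194, [(231, -1)]), (204, [(233, -1)]), (219, [(238, -1)]), (220, [(239, -1)])])) (.node (.leaf [(1, [(0, -1)]), (13, [(12, -1)]), (20, [(19, -1)]), (25, [(24, -1)]), (29, [(28, -1)]), (32, [(31, -1)]), (34, [(33, -1)]), (39, [(38, -1)]), (42, [(41, -1)]), (44, [(43, -1)]), (48, [(47, -1)]), (50, [(49, -1)]), (53, [(52, -1)]), (58, [(57, -1)]), (60, [(59, -1)]), (63, [(62, -1)]), (67, [(66, -1)]), (72, [(71, -1)]), (80, [(79, -1)]), (82, [(81, -1)]), (85, [(84, -1)]), (89, [(88, -1)]), (94, [(93, -1)]), (100, [(99, -1)]), (106, [(105, -1)]), (111, [(110, -1)]), (115, [(114, -1)]), (118, [(117, -1)]), (122, [(121, 1)]), (125, [(124, 1)]), (129, [(128, 1)]), (134, [(133, 1)]), (140, [(139, 1)]), (146, [(145, 1)]), (151, [(150, 1)]), (155, [(154, 1)]), (158, [(157, 1)]), (160, [(159, 1)]), (168, [(167, 1)]), (173, [(172, 1)]), (177, [(176, 1)]), (180, [(179, 1)]), (182, [(181, 1)]), (187, [(186, 1)]), (190, [(189, 1)]), (192, [(191, 1)]), (196, [(195, 1)]), (198, [(197, 1)]), (201, [(200, 1)]), (206, [(205, 1)]), (208, [(207, 1)]), (211, [(210, 1)]), (215, [(214, 1)]), (220, [(219, 1)]), (227, [(226, 1)]), (239, [(238, 1)])]) (.leaf [(1, [(120, 1)]), (2, [(122, 1)]), (3, [(125, 1)]), (4, [(129, 1)]), (5, [(134, 1)]), (6, [(140, 1)]), (7, [(146, 1)]), (8, [(151, -1)]), (9, [(155, 1)]), (10, [(158, -1)]), (11, [(160, 1)]), (12, [(161, -1)]), (14, [(168, 1)]), (15, [(173, -1)]), (16, [(177, 1)]), (17, [(180, -1)]), (18, [(182, 1)]), (19, [(183, -1)]), (21, [(187, -1)]), (22, [(190, 1)]), (23, [(192, -1)]), (24, [(193, 1)]), (26, [(196, -1)]), (27, [(198, 1)]), (28, [(199, -1)]), (30, [(201, -1)]), (31, [(202, 1)]), (33, [(203, -1)]), (36, [(206, 1)]), (37, [(208, -1)]), (38, [(209, 1)]), (40, [(211, 1)]), (41, [(212, -1)]), (43, [(213, 1)]), (46, [(215, -1)]), (47, [(216, 1)]), (49, [(217, -1)]), (52, [(218, 1)]), (56, [(220, 1)]), (57, [(221, -1)]), (59, [(222, 1)]), (62, [(223, -1)]), (66, [(224, 1)]), (71, [(225, -1)]), (78, [(227, 1)]), (79, [(228, -1)]), (81, [(229, 1)]), (84, [(230, -1)]), (88, [(231, 1)]), (93, [(232, -1)]), (99, [(233, -1)]), (105, [(234, -1)]), (110, [(235, -1)]), (114, [(236, -1)]), (117, [(237, -1)]), (119, [(238, -1)])]))))) (.node (.node (.node (.node (.leaf [(66, [(0, -1)]), (67, [(1, -1)]), (68, [(2, -1)]), (69, [(3, -1)]), (70, [(4, -1)]), (76, [(7, 1)]), (77, [(8, 1)]), (98, [(14, 1)]), (130, [(16, 1)]), (131, [(17, -1)]), (132, [(18, 1)]), (133, [(19, -1)]), (134, [(20, 1)]), (136, [(21, 1)]), (137, [(22, -1)]), (138, [(23, 1)]), (139, [(24, -1)]), (140, [(25, 1)]), (152, [(36, 1)]), (153, [(37, -1)]), (154, [(38, 1)]), (155, [(39, -1)]), (156, [(40, 1)]), (157, [(41, -1)]), (158, [(42, 1)]), (159, [(43, 1)]), (160, [(44, -1)]), (161, [(45, 1)]), (194, [(78, -1)]), (195, [(79, 1)]), (196, [(80, -1)]), (197, [(81, -1)]), (198, [(82, 1)]), (199, [(83, -1)]), (200, [(84, 1)]), (201, [(85, -1)]), (202, [(86, 1)]), (203, [(87, -1)]), (214, [(99, -1)]), (215, [(100, 1)]), (216, [(101, -1)]), (217, [(102, 1)]), (218, [(103, -1)]), (219, [(105, -1)]), (220, [(106, 1)]), (221, [(107, -1)]), (222, [(108, 1)]), (223, [(109, -1)]), (225, [(141, -1)]), (231, [(162, -1)]), (232, [(163, -1)]), (235, [(169, 1)]), (236, [(170, 1)]), (237, [(171, 1)]), (238, [(172, 1)]), (239, [(173, 1)])]) (.leaf [(3, [(7, -1)]), (6, [(10, -1)]), (14, [(17, -1)]), (21, [(36, -1)]), (23, [(40, 1)]), (24, [(41, 1)]), (25, [(42, 1)]), (27, [(46, 1)]), (28, [(47, 1)]), (29, [(48, 1)]), (33, [(52, -1)]), (34, [(53, -1)]), (35, [(54, -1)]), (59, [(71, -1)]), (60, [(72, -1)]), (61, [(73, -1)]), (65, [(75, 1)]), (69, [(76, 1)]), (81, [(99, -1)]), (82, [(100, -1)]), (83, [(101, -1)]), (87, [(103, 1)]), (91, [(104, 1)]), (93, [(114, 1)]), (94, [(115, 1)]), (95, [(116, 1)]), (97, [(126, 1)]), (98, [(131, 1)]), (108, [(141, -1)]), (113, [(142, -1)]), (123, [(144, -1)]), (124, [(145, -1)]), (125, [(146, -1)]), (135, [(148, -1)]), (136, [(152, -1)]), (138, [(156, 1)]), (139, [(157, 1)]), (140, [(158, 1)]), (163, [(170, -1)]), (164, [(174, -1)]), (166, [(178, 1)]), (167, [(179, 1)]), (168, [(180, 1)]), (185, [(204, 1)]), (186, [(205, 1)]), (187, [(206, 1)]), (191, [(210, -1)]), (192, [(211, -1)]), (193, [(212, -1)]), (197, [(214, -1)]), (198, [(215, -1)]), (199, [(216, -1)]), (203, [(218, 1)]), (222, [(225, 1)]), (229, [(233, 1)]), (232, [(236, 1)])])) (.node (.leaf [(11, [(0, -1)]), (13, [(2, 1)]), (34, [(14, 1)]), (44, [(15, 1)]), (50, [(16, 1)]), (53, [(17, 1)]), (55, [(19, -1)]), (60, [(21, 1)]), (63, [(22, 1)]), (65, [(24, -1)]), (67, [(26, 1)]), (69, [(28, -1)]), (70, [(31, -1)]), (72, [(36, 1)]), (74, [(38, -1)]), (75, [(41, -1)]), (76, [(47, -1)]), (77, [(57, -1)]), (118, [(78, 1)]), (120, [(80, 1)]), (123, [(81, 1)]), (125, [(83, -1)]), (127, [(84, 1)]), (129, [(86, -1)]), (132, [(88, 1)]), (134, [(90, -1)]), (138, [(93, 1)]), (140, [(95, -1)]), (144, [(99, 1)]), (146, [(101, -1)]), (149, [(105, 1)]), (151, [(107, -1)]), (153, [(110, 1)]), (155, [(112, -1)]), (156, [(114, 1)]), (158, [(116, -1)]), (159, [(119, -1)]), (161, [(121, -1)]), (182, [(162, 1)]), (192, [(163, 1)]), (198, [(164, 1)]), (201, [(165, 1)]), (203, [(167, -1)]), (208, [(169, 1)]), (211, [(170, 1)]), (213, [(172, -1)]), (215, [(174, 1)]), (217, [(176, -1)]), (218, [(179, -1)]), (220, [(184, 1)]), (222, [(186, -1)]), (223, [(189, -1)]), (224, [(195, -1)]), (225, [(205, -1)]), (237, [(226, -1)]), (239, [(228, 1)])]) (.leaf [(1, [(37, 1)]), (2, [(38, 1)]), (4, [(43, -1)]), (5, [(49, -1)]), (6, [(59, -1)]), (10, [(71, -1)]), (13, [(74, -1)]), (14, [(81, 1)]), (17, [(99, 1)]), (20, [(102, 1)]), (22, [(105, -1)]), (25, [(108, -1)]), (26, [(110, 1)]), (29, [(113, 1)]), (30, [(117, -1)]), (31, [(119, 1)]), (34, [(123, 1)]), (35, [(124, -1)]), (42, [(141, 1)]), (48, [(142, -1)]), (53, [(144, 1)]), (54, [(145, -1)]), (58, [(147, 1)]), (63, [(149, -1)]), (64, [(150, 1)]), (67, [(153, 1)]), (68, [(154, -1)]), (70, [(159, 1)]), (80, [(169, -1)]), (85, [(171, 1)]), (86, [(172, -1)]), (89, [(175, -1)]), (90, [(176, 1)]), (92, [(181, -1)]), (94, [(185, 1)]), (95, [(186, -1)]), (97, [(191, 1)]), (98, [(197, -1)]), (115, [(204, 1)]), (116, [(205, -1)]), (120, [(208, -1)]), (122, [(209, 1)]), (126, [(210, -1)]), (129, [(213, -1)]), (131, [(214, 1)]), (134, [(217, 1)]), (137, [(219, -1)]), (140, [(222, -1)]), (158, [(225, -1)]), (165, [(226, 1)]), (168, [(229, 1)]), (180, [(233, 1)]), (190, [(234, 1)]), (196, [(235, 1)]), (201, [(237, -1)]), (202, [(238, -1)])]))) (.node (.node (.leaf [(23, [(0, 1)]), (25, [(2, -1)]), (34, [(5, -1)]), (44, [(7, -1)]), (60, [(9, 1)]), (63, [(10, 1)]), (65, [(12, -1)]), (82, [(16, -1)]), (85, [(17, -1)]), (87, [(19, 1)]), (94, [(26, 1)]), (96, [(28, -1)]), (97, [(31, -1)]), (106, [(36, -1)]), (108, [(38, 1)]), (109, [(41, 1)]), (118, [(46, 1)]), (120, [(48, 1)]), (123, [(49, 1)]), (125, [(51, -1)]), (127, [(52, 1)]), (129, [(54, -1)]), (135, [(57, 1)]), (138, [(66, -1)]), (140, [(68, 1)]), (149, [(71, 1)]), (151, [(73, -1)]), (160, [(76, 1)]), (163, [(79, -1)]), (166, [(88, 1)]), (168, [(90, -1)]), (171, [(99, -1)]), (173, [(101, 1)]), (182, [(104, -1)]), (185, [(110, 1)]), (187, [(112, -1)]), (188, [(114, 1)]), (190, [(116, -1)]), (191, [(119, -1)]), (193, [(121, -1)]), (198, [(130, -1)]), (201, [(131, -1)]), (203, [(133, 1)]), (208, [(142, 1)]), (211, [(143, 1)]), (213, [(145, -1)]), (220, [(152, -1)]), (222, [(154, 1)]), (223, [(157, 1)]), (227, [(174, 1)]), (229, [(176, -1)]), (230, [(179, -1)]), (232, [(195, 1)]), (234, [(205, 1)]), (237, [(214, 1)]), (239, [(216, -1)])]) (.leaf [(2, [(16, -1)]), (4, [(18, 1)]), (6, [(27, -1)]), (8, [(37, -1)]), (10, [(46, 1)]), (12, [(49, -1)]), (13, [(50, -1)]), (22, [(78, 1)]), (24, [(81, -1)]), (25, [(82, -1)]), (31, [(88, 1)]), (32, [(89, 1)]), (35, [(91, -1)]), (41, [(99, 1)]), (42, [(100, 1)]), (45, [(102, -1)]), (54, [(104, 1)]), (57, [(110, -1)]), (58, [(111, -1)]), (61, [(113, 1)]), (62, [(117, 1)]), (63, [(118, 1)]), (65, [(123, 1)]), (68, [(130, 1)]), (70, [(132, -1)]), (73, [(142, 1)]), (75, [(144, -1)]), (77, [(153, 1)]), (86, [(162, -1)]), (95, [(164, 1)]), (97, [(166, -1)]), (107, [(169, 1)]), (109, [(171, -1)]), (116, [(174, -1)]), (121, [(176, -1)]), (122, [(177, -1)]), (126, [(178, -1)]), (128, [(181, 1)]), (129, [(182, 1)]), (135, [(185, -1)]), (137, [(194, 1)]), (139, [(197, -1)]), (140, [(198, -1)]), (148, [(204, 1)]), (150, [(207, -1)]), (151, [(208, -1)]), (157, [(214, 1)]), (158, [(215, 1)]), (161, [(217, -1)]), (189, [(226, 1)]), (190, [(227, 1)]), (193, [(229, -1)]), (202, [(231, 1)]), (212, [(233, 1)]), (221, [(235, -1)]), (223, [(237, 1)])])) (.node (.leaf [(4, [(1, -1)]), (12, [(9, -1)]), (19, [(16, -1)]), (24, [(21, -1)]), (31, [(26, 1)]), (33, [(27, 1)]), (35, [(29, -1)]), (41, [(36, 1)]), (43, [(37, 1)]), (45, [(39, -1)]), (52, [(46, -1)]), (54, [(48, 1)]), (55, [(50, 1)]), (62, [(56, -1)]), (64, [(58, 1)]), (65, [(60, 1)]), (70, [(67, -1)]), (75, [(72, -1)]), (84, [(78, -1)]), (86, [(80, 1)]), (87, [(82, 1)]), (92, [(89, -1)]), (97, [(94, -1)]), (103, [(100, -1)]), (109, [(106, -1)]), (119, [(110, 1)]), (121, [(112, 1)]), (124, [(113, 1)]), (126, [(115, -1)]), (127, [(118, -1)]), (129, [(120, -1)]), (133, [(130, 1)]), (139, [(136, 1)]), (145, [(142, 1)]), (150, [(147, 1)]), (157, [(152, -1)]), (159, [(153, -1)]), (161, [(155, 1)]), (167, [(164, 1)]), (172, [(169, 1)]), (179, [(174, -1)]), (181, [(175, -1)]), (183, [(177, 1)]), (189, [(184, -1)]), (191, [(185, -1)]), (193, [(187, 1)]), (200, [(194, 1)]), (202, [(196, -1)]), (203, [(198, -1)]), (210, [(204, 1)]), (212, [(206, -1)]), (213, [(208, -1)]), (218, [(215, 1)]), (223, [(220, 1)]), (230, [(227, 1)]), (238, [(235, 1)])]) (.leaf [(1, [(120, 1)]), (2, [(122, 1)]), (3, [(125, 1)]), (4, [(129, 1)]), (5, [(134, 1)]), (6, [(140, 1)]), (7, [(146, 1)]), (8, [(151, -1)]), (9, [(155, 1)]), (10, [(158, -1)]), (11, [(160, 1)]), (12, [(161, -1)]), (14, [(168, 1)]), (15, [(173, -1)]), (16, [(177, 1)]), (17, [(180, -1)]), (18, [(182, 1)]), (19, [(183, -1)]), (21, [(187, -1)]), (22, [(190, 1)]), (23, [(192, -1)]), (24, [(193, 1)]), (26, [(196, -1)]), (27, [(198, 1)]), (28, [(199, -1)]), (30, [(201, -1)]), (31, [(202, 1)]), (33, [(203, -1)]), (36, [(206, 1)]), (37, [(208, -1)]), (38, [(209, 1)]), (40, [(211, 1)]), (41, [(212, -1)]), (43, [(213, 1)]), (46, [(215, -1)]), (47, [(216, 1)]), (49, [(217, -1)]), (52, [(218, 1)]), (56, [(220, 1)]), (57, [(221, -1)]), (59, [(222, 1)]), (62, [(223, -1)]), (66, [(224, 1)]), (71, [(225, -1)]), (78, [(227, 1)]), (79, [(228, -1)]), (81, [(229, 1)]), (84, [(230, -1)]), (88, [(231, 1)]), (93, [(232, -1)]), (99, [(233, -1)]), (105, [(234, -1)]), (110, [(235, -1)]), (114, [(236, -1)]), (117, [(237, -1)]), (119, [(238, -1)])])))) (.node (.node (.node (.leaf [(37, [(0, 1)]), (39, [(2, -1)]), (44, [(4, 1)]), (50, [(5, 1)]), (60, [(6, 1)]), (72, [(10, 1)]), (74, [(12, -1)]), (82, [(14, -1)]), (100, [(17, -1)]), (102, [(19, 1)]), (106, [(22, 1)]), (108, [(24, -1)]), (111, [(26, -1)]), (113, [(28, 1)]), (118, [(30, 1)]), (120, [(32, 1)]), (123, [(33, 1)]), (125, [(35, -1)]), (141, [(41, 1)]), (142, [(47, -1)]), (144, [(52, 1)]), (146, [(54, -1)]), (147, [(57, 1)]), (149, [(62, -1)]), (151, [(64, 1)]), (153, [(66, 1)]), (155, [(68, -1)]), (160, [(70, 1)]), (169, [(79, -1)]), (171, [(84, 1)]), (173, [(86, -1)]), (175, [(88, -1)]), (177, [(90, 1)]), (182, [(92, -1)]), (185, [(93, 1)]), (187, [(95, -1)]), (192, [(97, 1)]), (198, [(98, -1)]), (204, [(114, 1)]), (206, [(116, -1)]), (207, [(119, -1)]), (209, [(121, -1)]), (211, [(126, -1)]), (213, [(128, 1)]), (215, [(131, 1)]), (217, [(133, -1)]), (220, [(137, -1)]), (222, [(139, 1)]), (225, [(157, 1)]), (227, [(165, 1)]), (229, [(167, -1)]), (233, [(179, -1)]), (234, [(189, -1)]), (235, [(195, -1)]), (237, [(200, 1)]), (239, [(202, -1)])]) (.leaf [(1, [(11, -1)]), (2, [(12, -1)]), (14, [(33, -1)]), (15, [(43, -1)]), (16, [(49, -1)]), (17, [(52, -1)]), (20, [(55, -1)]), (21, [(59, -1)]), (22, [(62, -1)]), (25, [(65, -1)]), (26, [(66, -1)]), (29, [(69, -1)]), (32, [(70, -1)]), (36, [(71, -1)]), (39, [(74, -1)]), (42, [(75, -1)]), (48, [(76, -1)]), (58, [(77, -1)]), (78, [(117, -1)]), (79, [(119, 1)]), (82, [(123, 1)]), (83, [(124, -1)]), (85, [(127, 1)]), (86, [(128, -1)]), (89, [(132, 1)]), (90, [(133, -1)]), (94, [(138, 1)]), (95, [(139, -1)]), (100, [(144, 1)]), (101, [(145, -1)]), (106, [(149, 1)]), (107, [(150, -1)]), (111, [(153, 1)]), (112, [(154, -1)]), (115, [(156, 1)]), (116, [(157, -1)]), (120, [(160, -1)]), (122, [(161, 1)]), (162, [(181, 1)]), (163, [(191, 1)]), (164, [(197, 1)]), (165, [(200, 1)]), (168, [(203, 1)]), (169, [(207, 1)]), (170, [(210, 1)]), (173, [(213, 1)]), (174, [(214, 1)]), (177, [(217, 1)]), (180, [(218, 1)]), (184, [(219, 1)]), (187, [(222, 1)]), (190, [(223, 1)]), (196, [(224, 1)]), (206, [(225, 1)]), (227, [(237, 1)]), (228, [(238, 1)])])) (.node (.leaf [(7, [(2, -1)]), (11, [(6, 1)]), (18, [(14, 1)]), (37, [(21, 1)]), (40, [(22, 1)]), (43, [(24, -1)]), (44, [(25, -1)]), (46, [(26, 1)]), (49, [(28, -1)]), (50, [(29, -1)]), (52, [(31, -1)]), (53, [(32, -1)]), (55, [(35, 1)]), (71, [(57, -1)]), (72, [(58, -1)]), (74, [(61, 1)]), (75, [(64, 1)]), (76, [(68, 1)]), (99, [(79, -1)]), (100, [(80, -1)]), (102, [(83, 1)]), (103, [(86, 1)]), (104, [(90, 1)]), (117, [(93, 1)]), (118, [(94, 1)]), (123, [(96, 1)]), (127, [(97, 1)]), (132, [(98, 1)]), (141, [(107, -1)]), (142, [(112, -1)]), (143, [(116, -1)]), (145, [(121, -1)]), (146, [(122, -1)]), (149, [(135, -1)]), (153, [(136, -1)]), (156, [(137, -1)]), (159, [(139, 1)]), (160, [(140, 1)]), (171, [(163, -1)]), (175, [(164, -1)]), (178, [(165, -1)]), (181, [(167, 1)]), (182, [(168, 1)]), (204, [(184, -1)]), (207, [(186, 1)]), (208, [(187, 1)]), (210, [(189, 1)]), (211, [(190, 1)]), (213, [(193, -1)]), (214, [(195, 1)]), (215, [(196, 1)]), (217, [(199, -1)]), (218, [(202, -1)]), (225, [(221, -1)]), (233, [(228, -1)]), (237, [(232, 1)])]) (.leaf [(0, [(62, 1)]), (1, [(63, 1)]), (2, [(64, 1)]), (3, [(65, 1)]), (5, [(70, -1)]), (7, [(75, -1)]), (9, [(77, 1)]), (14, [(97, -1)]), (15, [(109, 1)]), (17, [(126, 1)]), (18, [(127, -1)]), (19, [(128, 1)]), (20, [(129, -1)]), (21, [(135, 1)]), (26, [(137, -1)]), (27, [(138, 1)]), (28, [(139, -1)]), (29, [(140, 1)]), (36, [(148, 1)]), (37, [(149, -1)]), (38, [(150, 1)]), (39, [(151, -1)]), (46, [(156, 1)]), (47, [(157, -1)]), (48, [(158, 1)]), (49, [(159, 1)]), (50, [(160, -1)]), (51, [(161, 1)]), (78, [(188, -1)]), (79, [(189, 1)]), (80, [(190, -1)]), (81, [(191, -1)]), (82, [(192, 1)]), (83, [(193, -1)]), (88, [(200, 1)]), (89, [(201, -1)]), (90, [(202, 1)]), (91, [(203, -1)]), (99, [(210, -1)]), (100, [(211, 1)]), (101, [(212, -1)]), (102, [(213, 1)]), (104, [(218, -1)]), (110, [(219, 1)]), (111, [(220, -1)]), (112, [(221, 1)]), (113, [(222, -1)]), (130, [(224, -1)]), (142, [(225, 1)]), (162, [(230, -1)]), (164, [(232, 1)]), (169, [(234, 1)]), (174, [(236, -1)]), (175, [(237, -1)]), (176, [(238, -1)]), (177, [(239, -1)])]))) (.node (.node (.leaf [(16, [(1, -1)]), (19, [(4, -1)]), (28, [(6, 1)]), (38, [(8, 1)]), (47, [(10, -1)]), (49, [(11, -1)]), (51, [(13, 1)]), (79, [(22, -1)]), (81, [(23, -1)]), (83, [(25, 1)]), (88, [(30, 1)]), (90, [(32, -1)]), (91, [(34, -1)]), (99, [(40, 1)]), (101, [(42, -1)]), (102, [(44, -1)]), (104, [(53, 1)]), (110, [(56, -1)]), (112, [(58, 1)]), (113, [(60, 1)]), (119, [(62, 1)]), (121, [(64, 1)]), (124, [(65, 1)]), (130, [(67, 1)]), (133, [(70, -1)]), (142, [(72, 1)]), (145, [(75, -1)]), (154, [(77, 1)]), (162, [(85, -1)]), (164, [(94, 1)]), (167, [(97, -1)]), (169, [(106, 1)]), (172, [(109, -1)]), (174, [(115, -1)]), (175, [(118, -1)]), (177, [(120, -1)]), (179, [(126, -1)]), (181, [(127, -1)]), (183, [(129, 1)]), (186, [(135, -1)]), (195, [(137, 1)]), (197, [(138, 1)]), (199, [(140, -1)]), (205, [(148, 1)]), (207, [(149, 1)]), (209, [(151, -1)]), (214, [(156, -1)]), (216, [(158, 1)]), (217, [(160, 1)]), (226, [(188, -1)]), (228, [(190, 1)]), (229, [(192, 1)]), (231, [(201, -1)]), (233, [(211, -1)]), (235, [(220, 1)]), (238, [(223, 1)])]) (.leaf [(1, [(23, 1)]), (2, [(24, 1)]), (5, [(33, 1)]), (7, [(43, 1)]), (9, [(59, -1)]), (10, [(62, -1)]), (13, [(65, -1)]), (16, [(81, 1)]), (17, [(84, 1)]), (20, [(87, 1)]), (26, [(93, -1)]), (29, [(96, -1)]), (32, [(97, -1)]), (36, [(105, 1)]), (39, [(108, 1)]), (42, [(109, 1)]), (46, [(117, -1)]), (47, [(119, 1)]), (50, [(123, 1)]), (51, [(124, -1)]), (53, [(127, 1)]), (54, [(128, -1)]), (58, [(135, 1)]), (67, [(138, -1)]), (68, [(139, 1)]), (72, [(149, 1)]), (73, [(150, -1)]), (76, [(159, 1)]), (80, [(163, -1)]), (89, [(166, 1)]), (90, [(167, -1)]), (100, [(171, -1)]), (101, [(172, 1)]), (104, [(181, -1)]), (111, [(185, 1)]), (112, [(186, -1)]), (115, [(188, 1)]), (116, [(189, -1)]), (120, [(192, -1)]), (122, [(193, 1)]), (130, [(197, -1)]), (131, [(200, -1)]), (134, [(203, -1)]), (142, [(207, 1)]), (143, [(210, 1)]), (146, [(213, 1)]), (152, [(219, -1)]), (155, [(222, -1)]), (158, [(223, -1)]), (174, [(226, 1)]), (177, [(229, 1)]), (180, [(230, 1)]), (196, [(232, -1)]), (206, [(234, -1)]), (215, [(237, -1)]), (216, [(238, -1)])])) (.node (.leaf [(2, [(4, -1)]), (9, [(11, 1)]), (16, [(18, 1)]), (21, [(23, 1)]), (26, [(30, -1)]), (28, [(33, 1)]), (29, [(34, 1)]), (36, [(40, -1)]), (38, [(43, 1)]), (39, [(44, 1)]), (47, [(52, -1)]), (48, [(53, -1)]), (51, [(55, 1)]), (57, [(62, -1)]), (58, [(63, -1)]), (61, [(65, 1)]), (68, [(70, -1)]), (73, [(75, -1)]), (79, [(84, -1)]), (80, [(85, -1)]), (83, [(87, 1)]), (90, [(92, -1)]), (95, [(97, -1)]), (101, [(103, -1)]), (107, [(109, -1)]), (110, [(117, 1)]), (111, [(118, 1)]), (113, [(123, 1)]), (116, [(126, -1)]), (121, [(128, -1)]), (122, [(129, -1)]), (130, [(132, 1)]), (136, [(138, 1)]), (142, [(144, 1)]), (147, [(149, 1)]), (152, [(156, -1)]), (154, [(159, 1)]), (155, [(160, 1)]), (164, [(166, 1)]), (169, [(171, 1)]), (174, [(178, -1)]), (176, [(181, 1)]), (177, [(182, 1)]), (184, [(188, -1)]), (186, [(191, 1)]), (187, [(192, 1)]), (195, [(200, -1)]), (196, [(201, -1)]), (199, [(203, 1)]), (205, [(210, -1)]), (206, [(211, -1)]), (209, [(213, 1)]), (216, [(218, -1)]), (221, [(223, -1)]), (228, [(230, -1)]), (235, [(237, 1)])]) (.leaf [(1, [(120, 1)]), (2, [(122, 1)]), (3, [(125, 1)]), (4, [(129, 1)]), (5, [(134, 1)]), (6, [(140, 1)]), (7, [(146, 1)]), (8, [(151, -1)]), (9, [(155, 1)]), (10, [(158, -1)]), (11, [(160, 1)]), (12, [(161, -1)]), (14, [(168, 1)]), (15, [(173, -1)]), (16, [(177, 1)]), (17, [(180, -1)]), (18, [(182, 1)]), (19, [(183, -1)]), (21, [(187, -1)]), (22, [(190, 1)]), (23, [(192, -1)]), (24, [(193, 1)]), (26, [(196, -1)]), (27, [(198, 1)]), (28, [(199, -1)]), (30, [(201, -1)]), (31, [(202, 1)]), (33, [(203, -1)]), (36, [(206, 1)]), (37, [(208, -1)]), (38, [(209, 1)]), (40, [(211, 1)]), (41, [(212, -1)]), (43, [(213, 1)]), (46, [(215, -1)]), (47, [(216, 1)]), (49, [(217, -1)]), (52, [(218, 1)]), (56, [(220, 1)]), (57, [(221, -1)]), (59, [(222, 1)]), (62, [(223, -1)]), (66, [(224, 1)]), (71, [(225, -1)]), (78, [(227, 1)]), (79, [(228, -1)]), (81, [(229, 1)]), (84, [(230, -1)]), (88, [(231, 1)]), (93, [(232, -1)]), (99, [(233, -1)]), (105, [(234, -1)]), (110, [(235, -1)]), (114, [(236, -1)]), (117, [(237, -1)]), (119, [(238, -1)])]))))))))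

noncomputable def cor : Trie (List ℤ) := .node (.node (.node (.node (.node (.node (.node (.node (.leaf [-2, -3, -4, -6, -5, -4, -3, -2]) (.leaf [0, 0, 0, 0, 1, 1, 1, 0])) (.node (.leaf [-1, -1, -1, -2, -1, -1, 0, 0]) (.leaf [1, 1, 2, 2, 2, 2, 1, 1]))) (.node (.node (.leaf [-1, -2, -2, -3, -2, -2, -1, 0]) (.leaf [0, 1, 1, 2, 2, 2, 1, 1])) (.node (.leaf [0, -1, 0, -1, -1, 0, 0, 0]) (.leaf [1, 2, 3, 5, 4, 3, 2, 1])))) (.node (.node (.node (.leaf [-1, -2, -3, -4, -4, -3, -2, -1]) (.leaf [0, 1, 0, 1, 1, 1, 0, 0])) (.node (.leaf [0, -1, -1, -2, -2, -2, -1, 0]) (.leaf [1, 2, 2, 3, 2, 2, 1, 1]))) (.node (.node (.leaf [-1, -1, -2, -2, -2, -2, -1, 0]) (.leaf [1, 1, 1, 2, 1, 1, 1, 0])) (.node (.leaf [0, 0, 0, 0, -1, -1, 0, 0]) (.leaf [2, 3, 4, 6, 5, 4, 3, 2]))))) (.node (.node (.node (.node (.leaf [-2, -2, -3, -5, -4, -3, -2, -1]) (.leaf [0, 0, 1, 1, 0, 0, 0, 0])) (.node (.leaf [-1, 0, -1, -1, -1, -1, -1, 0]) (.leaf [1, 1, 2, 3, 3,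 2, 1, 0]))) (.node (.node (.leaf [-1, -1, -2, -3, -2, -2, -2, -1]) (.leaf [1, 0, 1, 1, 1, 1, 1, 1])) (.node (.leaf [0, 0, -1, 0, 0, 0, 0, 0]) (.leaf [2, 2, 4, 5, 4, 3, 2, 1])))) (.node (.node (.node (.leaf [-1, -2, -2, -4, -3, -2, -1, -1]) (.leaf [0, 1, 1, 2, 1, 0, 0, 0])) (.node (.leaf [0, -1, -1, -1, -1, -1, -1, -1]) (.leaf [1, 2, 2, 4, 3, 2, 2, 1]))) (.node (.node (.leaf [-1, -1, -1, -2, -2, -2, -2, -1]) (.leaf [1, 1, 2, 2, 1, 0, 0, 0])) (.node (.leaf [0, 0, 0, 0, 0, 0, 0, 1]) (.leaf [2, 3, 4, 6, 5, 4, 3, 2])))))) (.node (.node (.node (.node (.node (.leaf [-2, -3, -4, -6, -4, -3, -2, -1]) (.leaf [0, 0, 0, 1, 1, 1, 0, 0])) (.node (.leaf [-1, -1, -1, -1, -1, -1, 0, 0]) (.leaf [1, 1, 2, 3, 2, 1, 1, 1]))) (.node (.node (.leaf [-1, -1, -2, -3, -3, -3, -2, -1]) (.leaf [1, 0, 1, 1, 0, 0, 0, 0])) (.node (.leaf [0, 0, -1, -1, -1, -1, -1, 0]) (.leaf [2, 2, 3, 4, 3, 2, 2, 1])))) (.node (.node (.node (.leaf [-1, -2, -3, -4, -3, -2,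 -1, 0]) (.leaf [0, 1, 1, 1, 1, 0, 0, 0])) (.node (.leaf [0, -1, -1, -2, -1, -1, -1, -1]) (.leaf [1, 2, 2, 3, 3, 2, 2, 1]))) (.node (.node (.leaf [-1, -1, -2, -2, -1, -1, -1, -1]) (.leaf [1, 1, 1, 2, 2, 1, 1, 1])) (.node (.leaf [0, 0, 0, 0, 0, -1, 0, 0]) (.leaf [2, 3, 4, 6, 5, 4, 3, 2]))))) (.node (.node (.node (.node (.leaf [-2, -2, -3, -4, -3, -2, -1, -1]) (.leaf [0, 0, 1, 1, 1, 1, 1, 1])) (.node (.leaf [-1, 0, -1, 0, 0, 0, 0, 0]) (.leaf [1, 2, 2, 3, 2, 1, 0, 0]))) (.node (.node (.leaf [-1, -1, -2, -3, -2, -1, -1, 0]) (.leaf [1, 1, 1, 1, 1, 1, 1, 0])) (.node (.leaf [0, 0, 0, -1, -1, 0, 0, 0]) (.leaf [2, 3, 4, 6, 5, 3, 2, 1])))) (.node (.node (.node (.leaf [-1, -2, -2, -3, -3, -2, -1, -1]) (.leaf [0, 1, 1, 2, 2, 1, 0, 0])) (.node (.leaf [0, -1, -1, -1, 0, 0, 0, 0]) (.leaf [1, 2, 3, 4, 3, 2, 1, 1]))) (.node (.node (.leaf [-1, -1, -1, -2, -2, -1, -1, 0]) (.leaf [1, 1, 2, 2, 2, 1, 0, 0])) (.node (.leaf [0, 0, 0, 0, 0, 1, 1, 0])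 (.leaf [2, 3, 4, 6, 5, 4, 3, 2]))))))) (.node (.node (.node (.node (.node (.node (.leaf [-2, -3, -4, -6, -5, -4, -2, -1]) (.leaf [0, 0, 0, 1, 0, 0, 0, 0])) (.node (.leaf [-1, -1, -1, -1, -1, -1, -1, -1]) (.leaf [1, 1, 2, 3, 2, 1, 0, 0]))) (.node (.node (.leaf [-1, -2, -2, -3, -2, -1, -1, 0]) (.leaf [1, 0, 0, 0, 0, 0, 0, 0])) (.node (.leaf [0, -1, 0, 0, 0, 0, 0, 0]) (.leaf [2, 2, 3, 4, 3, 2, 1, 0])))) (.node (.node (.node (.leaf [-1, -2, -3, -4, -3, -2, -2, -1]) (.leaf [0, 1, 0, 1, 1, 1, 1, 1])) (.node (.leaf [0, -1, -1, -2, -2, -1, -1, 0]) (.leaf [1, 2, 2, 3, 3, 2, 1, 0]))) (.node (.node (.leaf [-1, -1, -2, -2, -2, -1, -1, 0]) (.leaf [1, 1, 1, 2, 2, 1, 0, 0])) (.node (.leaf [0, 0, 0, 0, 0, -1, -1, -1]) (.leaf [2, 3, 4, 6, 5, 4, 3, 2]))))) (.node (.node (.node (.node (.leaf [-2, -2, -3, -4, -3, -3, -2, -1]) (.leaf [0, 0, 1, 1, 1, 1, 0, 0])) (.node (.leaf [-1, 0, -1, -1, -1, 0, 0, 0]) (.leaf [1, 1, 2, 3, 3, 2, 2, 1]))) (.node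 (.node (.leaf [-1, -1, -2, -3, -2, -2, -1, 0]) (.leaf [1, 1, 1, 1, 1, 0, 0, 0])) (.node (.leaf [0, 0, 0, -1, -1, -1, -1, 0]) (.leaf [2, 3, 4, 5, 4, 3, 2, 1])))) (.node (.node (.node (.leaf [-1, -2, -2, -3, -3, -3, -2, -1]) (.leaf [0, 1, 1, 2, 1, 1, 1, 0])) (.node (.leaf [0, -1, -1, -1, -1, -1, 0, 0]) (.leaf [1, 2, 2, 4, 4, 3, 2, 1]))) (.node (.node (.leaf [-1, -1, -1, -2, -2, -2, -1, 0]) (.leaf [1, 1, 2, 2, 1, 1, 1, 0])) (.node (.leaf [0, 0, 0, 0, 0, 0, 1, 1]) (.leaf [2, 3, 4, 6, 5, 4, 3, 2])))))) (.node (.node (.node (.node (.node (.leaf [-2, -3, -3, -5, -4, -3, -2, -1]) (.leaf [0, 0, 0, 1, 1, 1, 1, 1])) (.node (.leaf [-1, -1, -1, -1, 0, 0, 0, 0]) (.leaf [1, 1, 2, 3, 2, 2, 1, 1]))) (.node (.node (.leaf [-1, -1, -2, -3, -3, -2, -1, -1]) (.leaf [1, 0, 1, 1, 1, 1, 0, 0])) (.node (.leaf [0, 0, -1, -1, -1, 0, 0, 0]) (.leaf [2, 2, 3, 4, 4, 3, 2, 1])))) (.node (.node (.node (.leaf [-1, -2, -2, -4, -3, -3, -2, -1]) (.leaf [0, 1,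 1, 1, 1, 1, 1, 0])) (.node (.leaf [0, -1, -1, -2, -1, -1, 0, 0]) (.leaf [1, 2, 2, 4, 3, 2, 1, 0]))) (.node (.node (.leaf [-1, -1, -2, -2, -1, -1, 0, 0]) (.leaf [1, 1, 1, 2, 2, 2, 1, 1])) (.node (.leaf [0, 0, 0, 0, 0, 0, -1, 0]) (.leaf [2, 3, 4, 6, 5, 4, 3, 2]))))) (.node (.node (.node (.node (.leaf [-1, -3, -3, -5, -4, -3, -2, -1]) (.leaf [0, 1, 0, 1, 0, 0, 0, 0])) (.node (.leaf [0, -1, -1, -2, -2, -2, -2, -1]) (.leaf [1, 2, 2, 3, 2, 1, 1, 1]))) (.node (.node (.leaf [-1, -1, -2, -2, -2, -2, -2, -1]) (.leaf [1, 1, 1, 2, 1, 0, 0, 0])) (.node (.leaf [0, 0, 0, 0, -1, -1, -1, -1]) (.leaf [2, 3, 4, 6, 5, 4, 3, 1])))) (.node (.node (.node (.leaf [-1, -2, -2, -3, -2, -2, -2, -1]) (.leaf [0, 1, 1, 2, 2, 1, 1, 1])) (.node (.leaf [0, -1, 0, -1, -1, -1, -1, 0]) (.leaf [1, 2, 3, 4, 3, 3, 2, 1]))) (.node (.node (.leaf [-1, -1, -1, -2, -1, -1, -1, -1]) (.leaf [1, 1, 2, 2, 2, 1, 1, 1])) (.node (.leaf [0, 0, 0, 0, 1, 0, 0, 0]) (.leaf [2, 3,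 4, 6, 5, 4, 3, 2])))))))) (.node (.node (.node (.node (.node (.node (.node (.leaf [-2, -3, -4, -6, -5, -4, -3, -1]) (.leaf [0, 0, 0, 0, 1, 1, 1, 1])) (.node (.leaf [-1, -1, -1, -2, -1, 0, 0, 0]) (.leaf [1, 1, 2, 2, 2, 2, 2, 1]))) (.node (.node (.leaf [-1, -2, -2, -3, -2, -1, -1, -1]) (.leaf [0, 1, 1, 2, 2, 2, 2, 1])) (.node (.leaf [0, -1, 0, -1, 0, 0, 0, 0]) (.leaf [1, 3, 3, 5, 4, 3, 2, 1])))) (.node (.node (.node (.leaf [-1, -2, -3, -4, -3, -3, -2, -1]) (.leaf [0, 1, 0, 1, 1, 1, 1, 0])) (.node (.leaf [0, -1, -1, -2, -2, -1, -1, -1]) (.leaf [1, 2, 2, 3, 2, 2, 2, 1]))) (.node (.node (.leaf [-1, -1, -2, -2, -2, -1, -1, -1]) (.leaf [1, 1, 1, 2, 1, 1, 1, 1])) (.node (.leaf [0, 0, 0, 0, -1, 0, 0, 0]) (.leaf [2, 3, 4, 6, 5, 4, 3, 2]))))) (.node (.node (.node (.node (.leaf [-2, -2, -3, -4, -4, -3, -2, -1]) (.leaf [0, 0, 1, 1, 1, 0, 0, 0])) (.node (.leaf [-1, 0, -1, -1, -1, -1, 0, 0]) (.leaf [1, 1, 2, 3, 3, 2, 1, 1]))) (.node (.node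 (.leaf [-1, -1, -2, -3, -2, -2, -1, -1]) (.leaf [1, 1, 1, 1, 0, 0, 0, 0])) (.node (.leaf [0, 0, 0, -1, -1, -1, -1, -1]) (.leaf [2, 3, 3, 5, 4, 3, 2, 1])))) (.node (.node (.node (.leaf [-1, -2, -2, -4, -3, -2, -1, 0]) (.leaf [0, 1, 1, 2, 1, 1, 0, 0])) (.node (.leaf [0, -1, -1, -1, -1, -1, -1, 0]) (.leaf [1, 2, 2, 4, 3, 3, 2, 1]))) (.node (.node (.leaf [-1, -1, -1, -2, -2, -2, -1, -1]) (.leaf [1, 1, 2, 2, 1, 1, 0, 0])) (.node (.leaf [0, 0, 0, 0, 0, 0, 1, 0]) (.leaf [2, 3, 4, 6, 5, 4, 3, 2])))))) (.node (.node (.node (.node (.node (.leaf [-2, -3, -4, -5, -4, -3, -2, -1]) (.leaf [0, 0, 0, 1, 1, 1, 1, 0])) (.node (.leaf [-1, -1, -1, -1, -1, 0, 0, 0]) (.leaf [1, 1, 2, 3, 2, 2, 1, 0]))) (.node (.node (.leaf [-1, -1, -2, -3, -3, -2, -2, -1]) (.leaf [1, 0, 1, 1, 1, 0, 0, 0])) (.node (.leaf [0, 0, -1, -1, -1, -1, 0, 0]) (.leaf [2, 2, 3, 4, 3, 3, 2, 1])))) (.node (.node (.node (.leaf [-1, -2, -2, -4, -4, -3, -2, -1]) (.leaf [0, 1, 1,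 1, 1, 1, 0, 0])) (.node (.leaf [0, -1, -1, -2, -1, -1, -1, 0]) (.leaf [1, 2, 2, 3, 3, 3, 2, 1]))) (.node (.node (.leaf [-1, -1, -2, -2, -1, -1, -1, 0]) (.leaf [1, 1, 1, 2, 2, 2, 1, 0])) (.node (.leaf [0, 0, 0, 0, 0, 0, -1, -1]) (.leaf [2, 3, 4, 6, 5, 4, 3, 2]))))) (.node (.node (.node (.node (.leaf [-2, -2, -3, -4, -3, -2, -1, 0]) (.leaf [0, 1, 0, 0, 0, 0, 0, 0])) (.node (.leaf [-1, 0, 0, 0, 0, 0, 0, 0]) (.leaf [1, 2, 2, 3, 2, 1, 1, 0]))) (.node (.node (.leaf [-1, -1, -2, -3, -2, -1, 0, 0]) (.leaf [1, 1, 1, 1, 1, 1, 1, 1])) (.node (.leaf [0, 0, 0, -1, 0, 0, 0, 0]) (.leaf [2, 3, 4, 6, 5, 4, 2, 1])))) (.node (.node (.node (.leaf [-1, -2, -2, -3, -3, -2, -1, 0]) (.leaf [0, 1, 1, 2, 2, 1, 1, 0])) (.node (.leaf [0, -1, 0, -1, -1, -1, -1, -1]) (.leaf [1, 2, 3, 4, 3, 2, 2, 1]))) (.node (.node (.leaf [-1, -1, -1, -2, -2, -1, 0, 0]) (.leaf [1, 1, 2, 2, 2, 1, 1, 0])) (.node (.leaf [0, 0, 0, 0, 0, 1, 1, 1]) (.leaf [2, 3, 4, 6, 5, 4,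 3, 2]))))))) (.node (.node (.node (.node (.node (.node (.leaf [-2, -3, -4, -6, -5, -3, -2, -1]) (.leaf [0, 0, 0, 1, 1, 0, 0, 0])) (.node (.leaf [-1, -1, -1, -1, -1, -1, -1, 0]) (.leaf [1, 1, 2, 3, 2, 1, 1, 0]))) (.node (.node (.leaf [-1, -2, -2, -3, -2, -1, 0, 0]) (.leaf [1, 0, 1, 0, 0, 0, 0, 0])) (.node (.leaf [0, 0, -1, -1, -1, -1, -1, -1]) (.leaf [2, 2, 3, 4, 3, 2, 1, 1])))) (.node (.node (.node (.leaf [-1, -2, -3, -4, -3, -2, -1, -1]) (.leaf [0, 1, 1, 1, 0, 0, 0, 0])) (.node (.leaf [0, -1, -1, -2, -2, -1, 0, 0]) (.leaf [1, 2, 2, 3, 3, 2, 1, 1]))) (.node (.node (.leaf [-1, -1, -2, -2, -2, -1, 0, 0]) (.leaf [1, 1, 1, 2, 2, 1, 1, 0])) (.node (.leaf [0, 0, 0, 0, 0, -1, -1, 0]) (.leaf [2, 3, 4, 6, 5, 4, 3, 2]))))) (.node (.node (.node (.node (.leaf [-2, -2, -3, -4, -3, -2, -2, -1]) (.leaf [0, 0, 1, 1, 1, 1, 1, 0])) (.node (.leaf [-1, 0, -1, -1, 0, 0, 0, 0]) (.leaf [1, 1, 2, 3, 3, 3, 2, 1]))) (.node (.node (.leaf [-1, -1, -2,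 -3, -2, -1, -1, -1]) (.leaf [1, 1, 1, 1, 1, 1, 0, 0])) (.node (.leaf [0, 0, 0, -1, -1, -1, 0, 0]) (.leaf [2, 3, 4, 6, 4, 3, 2, 1])))) (.node (.node (.node (.leaf [-1, -2, -2, -3, -3, -2, -2, -1]) (.leaf [0, 1, 1, 2, 1, 1, 1, 1])) (.node (.leaf [0, -1, -1, -1, -1, 0, 0, 0]) (.leaf [1, 2, 3, 4, 3, 2, 1, 0]))) (.node (.node (.leaf [-1, -1, -1, -2, -2, -1, -1, -1]) (.leaf [1, 1, 2, 2, 1, 1, 1, 1])) (.node (.leaf [0, 0, 0, 0, 0, 1, 0, 0]) (.leaf [2, 3, 4, 6, 5, 4, 3, 2])))))) (.node (.node (.node (.node (.node (.leaf [-2, -2, -4, -5, -4, -3, -2, -1]) (.leaf [0, 0, 1, 0, 0, 0, 0, 0])) (.node (.leaf [-1, 0, -1, -1, -1, -1, -1, -1]) (.leaf [1, 1, 2, 3, 2, 2, 2, 1]))) (.node (.node (.leaf [-1, -1, -2, -3, -3, -2, -1, 0]) (.leaf [1, 0, 1, 1, 1, 1, 1, 0])) (.node (.leaf [0, 0, -1, -1, 0, 0, 0, 0]) (.leaf [2, 2, 3, 5, 4, 3, 2, 1])))) (.node (.node (.node (.leaf [-1, -2, -2, -4, -3, -2, -2, -1]) (.leaf [0, 1, 1, 1, 1, 1, 1, 1])) (.node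 (.leaf [0, -1, -1, -2, -1, 0, 0, 0]) (.leaf [1, 2, 2, 4, 3, 2, 1, 1]))) (.node (.node (.leaf [-1, -1, -2, -2, -1, 0, 0, 0]) (.leaf [1, 1, 1, 2, 2, 2, 2, 1])) (.node (.leaf [0, 0, 0, 0, 0, 0, 0, -1]) (.leaf [2, 3, 4, 6, 5, 4, 3, 2]))))) (.node (.node (.node (.node (.leaf [-1, -2, -3, -5, -4, -3, -2, -1]) (.leaf [0, 1, 0, 1, 1, 0, 0, 0])) (.node (.leaf [0, -1, -1, -2, -2, -2, -1, -1]) (.leaf [1, 2, 2, 3, 2, 2, 1, 0]))) (.node (.node (.leaf [-1, -1, -2, -2, -2, -2, -1, -1]) (.leaf [1, 1, 1, 2, 1, 1, 0, 0])) (.node (.leaf [0, 0, 0, 0, -1, -1, -1, 0]) (.leaf [2, 3, 4, 6, 5, 4, 3, 2])))) (.node (.node (.node (.leaf [-1, -2, -2, -3, -2, -2, -1, -1]) (.leaf [0, 1, 1, 2, 2, 2, 1, 0])) (.node (.leaf [0, -1, 0, -1, -1, -1, 0, 0]) (.leaf [1, 2, 3, 4, 4, 3, 2, 1]))) (.node (.node (.leaf [-1, -1, -1, -2, -1, -1, -1, 0]) (.leaf [1, 1, 2, 2, 2, 2, 1, 0])) (.node (.leaf [0, 0, 0, 0, 1, 1, 0, 0]) (.leaf [2, 3, 4, 6, 5, 4, 3, 2]))))))))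

noncomputable def bez : Trie (List ℤ) := .node (.node (.node (.node (.node (.node (.node (.node (.leaf [-1, 1, 0, 0, 0, 0, 0, -1]) (.leaf [0, 0, 0, 0, 0, 0, 1, 0])) (.node (.leaf [0, 0, 0, 0, 0, -1, 0, 0]) (.leaf [0, 0, 0, 0, 0, 0, 0, 1]))) (.node (.node (.leaf [0, 0, 0, 0, 0, 0, -1, 0]) (.leaf [0, 0, 0, 0, 0, 0, 0, 1])) (.node (.leaf [0, 0, 0, 0, -1, 0, 0, 0]) (.leaf [0, 0, 0, 0, 0, 0, 0, 1])))) (.node (.node (.node (.leaf [0, 0, 0, 0, 0, 0, 0, -1]) (.leaf [0, 0, 0, 0, 0, 1, 0, 0])) (.node (.leaf [0, 0, 0, 0, 0, 0, -1, 0]) (.leaf [0, 0, 0, 0, 0, 0, 0, 1]))) (.node (.node (.leaf [0, 0, 0, 0, 0, 0, -1, 0]) (.leaf [0, 0, 0, 0, 0, 0, 1, 0])) (.node (.leaf [0, 0, 0, 0, 0, -1, 0, 0]) (.leaf [-1, 1, 0, 0, 0, 0, 0, 0]))))) (.node (.node (.node (.node (.leaf [0, 0, 0, 0, 0, 0, 0, -1]) (.leaf [0, 0, 0, 1, 0, 0, 0, 0])) (.node (.leaf [0, 0, 0, 0, 0, 0, -1, 0]) (.leaf [0, 0, 0, 0, 0, 0, 1, 0]))) (.node (.node (.leaf [0, 0, 0, 0, 0,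 0, 0, -1]) (.leaf [0, 0, 0, 0, 0, 0, 0, 1])) (.node (.leaf [0, 0, -1, 0, 0, 0, 0, 0]) (.leaf [0, 0, 0, 0, 0, 0, 0, 1])))) (.node (.node (.node (.leaf [0, 0, 0, 0, 0, 0, 0, -1]) (.leaf [0, 0, 0, 0, 1, 0, 0, 0])) (.node (.leaf [0, 0, 0, 0, 0, 0, 0, -1]) (.leaf [0, 0, 0, 0, 0, 0, 0, 1]))) (.node (.node (.leaf [0, 0, 0, 0, 0, 0, 0, -1]) (.leaf [0, 0, 0, 0, 1, 0, 0, 0])) (.node (.leaf [0, 0, 0, 0, 0, 0, 0, 1]) (.leaf [-1, 1, 0, 0, 0, 0, 0, 0])))))) (.node (.node (.node (.node (.node (.leaf [0, 0, 0, 0, 0, 0, 0, -1]) (.leaf [0, 0, 0, 0, 0, 1, 0, 0])) (.node (.leaf [0, 0, 0, 0, 0, -1, 0, 0]) (.leaf [0, 0, 0, 0, 0, 0, 0, 1]))) (.node (.node (.leaf [0, 0, 0, 0, 0, 0, 0, -1]) (.leaf [0, 0, 0, 1, 0, 0, 0, 0])) (.node (.leaf [0, 0, 0, 0, 0, 0, -1, 0]) (.leaf [0, 0, 0, 0, 0, 0, 0, 1])))) (.node (.node (.node (.leaf [0, 0, 0, 0, 0, 0, -1, 0]) (.leaf [0, 0, 0, 0, 1, 0, 0, 0])) (.node (.leaf [0, 0, 0, 0, 0, 0, 0, -1]) (.leaf [0, 0, 0, 0,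 0, 0, 0, 1]))) (.node (.node (.leaf [0, 0, 0, 0, 0, 0, 0, -1]) (.leaf [0, 0, 0, 0, 0, 0, 0, 1])) (.node (.leaf [0, 0, 0, 0, 0, -1, 0, 0]) (.leaf [-1, 1, 0, 0, 0, 0, 0, 0]))))) (.node (.node (.node (.node (.leaf [0, 0, 0, 0, 0, 0, 0, -1]) (.leaf [0, 0, 0, 0, 0, 0, 0, 1])) (.node (.leaf [0, 0, -1, 0, 0, 0, 0, 0]) (.leaf [0, 0, 0, 0, 0, 1, 0, 0]))) (.node (.node (.leaf [0, 0, 0, 0, 0, 0, -1, 0]) (.leaf [0, 0, 0, 0, 0, 0, 1, 0])) (.node (.leaf [0, 0, 0, 0, -1, 0, 0, 0]) (.leaf [0, 0, 0, 0, 0, 0, 0, 1])))) (.node (.node (.node (.leaf [0, 0, 0, 0, 0, 0, 0, -1]) (.leaf [0, 0, 0, 0, 0, 1, 0, 0])) (.node (.leaf [0, 0, 0, -1, 0, 0, 0, 0]) (.leaf [0, 0, 0, 0, 0, 0, 0, 1]))) (.node (.node (.leaf [0, 0, 0, 0, 0, 0, -1, 0]) (.leaf [0, 0, 0, 0, 0, 1, 0, 0])) (.node (.leaf [0, 0, 0, 0, 0, 0, 1, 0]) (.leaf [-1, 1, 0, 0, 0, 0, 0, 0]))))))) (.node (.node (.node (.node (.node (.node (.leaf [0, 0, 0, 0, 0, 0, 0, -1]) (.leaf [0, 0, 0, 1, 0, 0,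 0, 0])) (.node (.leaf [0, 0, 0, 0, 0, 0, 0, -1]) (.leaf [0, 0, 0, 0, 0, 1, 0, 0]))) (.node (.node (.leaf [0, 0, 0, 0, 0, 0, -1, 0]) (.leaf [1, 0, 0, 0, 0, 0, 0, 0])) (.node (.leaf [0, -1, 0, 0, 0, 0, 0, 0]) (.leaf [0, 0, 0, 0, 0, 0, 1, 0])))) (.node (.node (.node (.leaf [0, 0, 0, 0, 0, 0, 0, -1]) (.leaf [0, 0, 0, 0, 0, 0, 0, 1])) (.node (.leaf [0, 0, 0, 0, 0, 0, -1, 0]) (.leaf [0, 0, 0, 0, 0, 0, 1, 0]))) (.node (.node (.leaf [0, 0, 0, 0, 0, 0, -1, 0]) (.leaf [0, 0, 0, 0, 0, 1, 0, 0])) (.node (.leaf [0, 0, 0, 0, 0, 0, 0, -1]) (.leaf [-1, 1, 0, 0, 0, 0, 0, 0]))))) (.node (.node (.node (.node (.leaf [0, 0, 0, 0, 0, 0, 0, -1]) (.leaf [0, 0, 0, 0, 0, 1, 0, 0])) (.node (.leaf [0, 0, 0, 0, -1, 0, 0, 0]) (.leaf [0, 0, 0, 0, 0, 0, 0, 1]))) (.node (.node (.leaf [0, 0, 0, 0, 0, 0, -1, 0]) (.leaf [0, 0, 0, 0, 1, 0, 0, 0])) (.node (.leaf [0, 0, 0, 0, 0, 0, -1, 0]) (.leaf [0, 0, 0, 0, 0, 0, 0, 1])))) (.node (.node (.node (.leaf [0, 0, 0,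 0, 0, 0, 0, -1]) (.leaf [0, 0, 0, 0, 0, 0, 1, 0])) (.node (.leaf [0, 0, 0, 0, 0, -1, 0, 0]) (.leaf [0, 0, 0, 0, 0, 0, 0, 1]))) (.node (.node (.leaf [0, 0, 0, 0, 0, 0, -1, 0]) (.leaf [0, 0, 0, 0, 0, 0, 1, 0])) (.node (.leaf [0, 0, 0, 0, 0, 0, 0, 1]) (.leaf [-1, 1, 0, 0, 0, 0, 0, 0])))))) (.node (.node (.node (.node (.node (.leaf [0, 0, 0, 0, 0, 0, 0, -1]) (.leaf [0, 0, 0, 0, 0, 0, 0, 1])) (.node (.leaf [0, 0, 0, -1, 0, 0, 0, 0]) (.leaf [0, 0, 0, 0, 0, 0, 0, 1]))) (.node (.node (.leaf [0, 0, 0, 0, 0, 0, 0, -1]) (.leaf [0, 0, 0, 0, 0, 1, 0, 0])) (.node (.leaf [0, 0, 0, 0, -1, 0, 0, 0]) (.leaf [0, 0, 0, 0, 0, 0, 0, 1])))) (.node (.node (.node (.leaf [0, 0, 0, 0, 0, 0, 0, -1]) (.leaf [0, 0, 0, 0, 0, 0, 1, 0])) (.node (.leaf [0, 0, 0, 0, 0, -1, 0, 0]) (.leaf [0, 0, 0, 0, 0, 0, 1, 0]))) (.node (.node (.leaf [0, 0, 0, 0, 0, -1, 0, 0]) (.leaf [0, 0, 0, 0, 0, 0, 0, 1])) (.node (.leaf [0, 0, 0, 0, 0, 0, -1, 0]) (.leaf [-1, 1, 0, 0, 0,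 0, 0, 0]))))) (.node (.node (.node (.node (.leaf [0, 0, 0, 0, 0, 0, 0, -1]) (.leaf [0, 0, 0, 1, 0, 0, 0, 0])) (.node (.leaf [0, 0, 0, 0, 0, 0, 0, -1]) (.leaf [0, 0, 0, 0, 0, 0, 0, 1]))) (.node (.node (.leaf [0, 0, 0, 0, 0, 0, 0, -1]) (.leaf [0, 0, 0, 0, 1, 0, 0, 0])) (.node (.leaf [0, 0, 0, 0, 0, 0, 0, -1]) (.leaf [0, 0, 0, 0, 0, 0, 0, 1])))) (.node (.node (.node (.leaf [0, 0, 0, 0, 0, 0, 0, -1]) (.leaf [0, 0, 0, 0, 0, 0, 0, 1])) (.node (.leaf [0, 0, 0, 0, 0, 0, -1, 0]) (.leaf [0, 0, 0, 0, 0, 0, 0, 1]))) (.node (.node (.leaf [0, 0, 0, 0, 0, 0, 0, -1]) (.leaf [0, 0, 0, 0, 0, 0, 0, 1])) (.node (.leaf [0, 0, 0, 0, 1, 0, 0, 0]) (.leaf [-1, 1, 0, 0, 0, 0, 0, 0])))))))) (.node (.node (.node (.node (.node (.node (.node (.leaf [0, 0, 0, 0, 0, 0, 0, -1]) (.leaf [0, 0, 0, 0, 0, 0, 0, 1])) (.node (.leaf [0, 0, 0, 0, -1, 0, 0, 0]) (.leaf [0, 0, 0, 0, 0, 0, 0, 1]))) (.node (.node (.leaf [0, 0, 0, 0, 0, 0, 0, -1]) (.leaf [0, 0, 0, 0, 0,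 0, 0, 1])) (.node (.leaf [0, 0, 0, -1, 0, 0, 0, 0]) (.leaf [0, 0, 0, 0, 0, 0, 0, 1])))) (.node (.node (.node (.leaf [0, 0, 0, 0, 0, 0, 0, -1]) (.leaf [0, 0, 0, 0, 0, 0, 1, 0])) (.node (.leaf [0, 0, 0, 0, 0, 0, 0, -1]) (.leaf [0, 0, 0, 0, 0, 0, 0, 1]))) (.node (.node (.leaf [0, 0, 0, 0, 0, 0, 0, -1]) (.leaf [0, 0, 0, 0, 0, 0, 0, 1])) (.node (.leaf [0, 0, 0, 0, -1, 0, 0, 0]) (.leaf [-1, 1, 0, 0, 0, 0, 0, 0]))))) (.node (.node (.node (.node (.leaf [0, 0, 0, 0, 0, 0, 0, -1]) (.leaf [0, 0, 0, 0, 1, 0, 0, 0])) (.node (.leaf [0, 0, 0, 0, 0, -1, 0, 0]) (.leaf [0, 0, 0, 0, 0, 0, 0, 1]))) (.node (.node (.leaf [0, 0, 0, 0, 0, 0, 0, -1]) (.leaf [0, 0, 0, 1, 0, 0, 0, 0])) (.node (.leaf [0, 0, 0, 0, 0, 0, 0, -1]) (.leaf [0, 0, 0, 0, 0, 0, 0, 1])))) (.node (.node (.node (.leaf [0, 0, 0, 0, 0, 0, -1, 0]) (.leaf [0, 0, 0, 0, 0, 1, 0, 0])) (.node (.leaf [0, 0, 0, 0, 0, 0, -1, 0]) (.leaf [0, 0, 0, 0, 0, 0, 0, 1]))) (.node (.node (.leaf [0, 0,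 0, 0, 0, 0, 0, -1]) (.leaf [0, 0, 0, 0, 0, 1, 0, 0])) (.node (.leaf [0, 0, 0, 0, 0, 0, 1, 0]) (.leaf [-1, 1, 0, 0, 0, 0, 0, 0])))))) (.node (.node (.node (.node (.node (.leaf [0, 0, 0, 0, 0, 0, 0, -1]) (.leaf [0, 0, 0, 0, 0, 0, 1, 0])) (.node (.leaf [0, 0, 0, 0, -1, 0, 0, 0]) (.leaf [0, 0, 0, 0, 0, 0, 1, 0]))) (.node (.node (.leaf [0, 0, 0, 0, 0, 0, 0, -1]) (.leaf [0, 0, 0, 0, 1, 0, 0, 0])) (.node (.leaf [0, 0, 0, 0, 0, -1, 0, 0]) (.leaf [0, 0, 0, 0, 0, 0, 0, 1])))) (.node (.node (.node (.leaf [0, 0, 0, 0, 0, 0, 0, -1]) (.leaf [0, 0, 0, 0, 0, 1, 0, 0])) (.node (.leaf [0, 0, 0, 0, 0, 0, -1, 0]) (.leaf [0, 0, 0, 0, 0, 0, 0, 1]))) (.node (.node (.leaf [0, 0, 0, 0, 0, 0, -1, 0]) (.leaf [0, 0, 0, 0, 0, 0, 1, 0])) (.node (.leaf [0, 0, 0, 0, 0, 0, 0, -1]) (.leaf [-1, 1, 0, 0, 0, 0, 0, 0]))))) (.node (.node (.node (.node (.leaf [0, 0, 0, 0, 0, 0, -1, 0]) (.leaf [0, 1, 0, 0, 0, 0, 0, 0])) (.node (.leaf [-1, 0, 0, 0, 0, 0, 0, 0]) (.leaf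 [0, 0, 0, 0, 0, 0, 1, 0]))) (.node (.node (.leaf [0, 0, 0, 0, 0, -1, 0, 0]) (.leaf [0, 0, 0, 0, 0, 0, 0, 1])) (.node (.leaf [0, 0, 0, -1, 0, 0, 0, 0]) (.leaf [0, 0, 0, 0, 0, 0, 0, 1])))) (.node (.node (.node (.leaf [0, 0, 0, 0, 0, 0, -1, 0]) (.leaf [0, 0, 0, 0, 0, 0, 1, 0])) (.node (.leaf [0, 0, 0, 0, 0, 0, 0, -1]) (.leaf [0, 0, 0, 0, 0, 0, 0, 1]))) (.node (.node (.leaf [0, 0, 0, 0, 0, -1, 0, 0]) (.leaf [0, 0, 0, 0, 0, 0, 1, 0])) (.node (.leaf [0, 0, 0, 0, 0, 0, 0, 1]) (.leaf [-1, 1, 0, 0, 0, 0, 0, 0]))))))) (.node (.node (.node (.node (.node (.node (.leaf [0, 0, 0, 0, 0, 0, 0, -1]) (.leaf [0, 0, 0, 0, 1, 0, 0, 0])) (.node (.leaf [0, 0, 0, 0, 0, 0, -1, 0]) (.leaf [0, 0, 0, 0, 0, 0, 1, 0]))) (.node (.node (.leaf [0, 0, 0, 0, 0, -1, 0, 0]) (.leaf [0, 0, 1, 0, 0, 0, 0, 0])) (.node (.leaf [0, 0, 0, 0, 0, 0, 0, -1]) (.leaf [0, 0, 0, 0, 0, 0, 0, 1])))) (.node (.node (.node (.leaf [0, 0, 0, 0, 0, 0, 0, -1]) (.leaf [0, 0, 0, 1, 0,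 0, 0, 0])) (.node (.leaf [0, 0, 0, 0, 0, -1, 0, 0]) (.leaf [0, 0, 0, 0, 0, 0, 0, 1]))) (.node (.node (.leaf [0, 0, 0, 0, 0, -1, 0, 0]) (.leaf [0, 0, 0, 0, 0, 0, 1, 0])) (.node (.leaf [0, 0, 0, 0, 0, 0, -1, 0]) (.leaf [-1, 1, 0, 0, 0, 0, 0, 0]))))) (.node (.node (.node (.node (.leaf [0, 0, 0, 0, 0, 0, 0, -1]) (.leaf [0, 0, 0, 0, 0, 0, 1, 0])) (.node (.leaf [0, 0, 0, -1, 0, 0, 0, 0]) (.leaf [0, 0, 0, 0, 0, 0, 0, 1]))) (.node (.node (.leaf [0, 0, 0, 0, 0, 0, 0, -1]) (.leaf [0, 0, 0, 0, 0, 1, 0, 0])) (.node (.leaf [0, 0, 0, 0, 0, -1, 0, 0]) (.leaf [0, 0, 0, 0, 0, 0, 0, 1])))) (.node (.node (.node (.leaf [0, 0, 0, 0, 0, 0, 0, -1]) (.leaf [0, 0, 0, 0, 0, 0, 0, 1])) (.node (.leaf [0, 0, 0, 0, -1, 0, 0, 0]) (.leaf [0, 0, 0, 0, 0, 0, 1, 0]))) (.node (.node (.leaf [0, 0, 0, 0, 0, 0, 0, -1]) (.leaf [0, 0, 0, 0, 0, 0, 0, 1])) (.node (.leaf [0, 0, 0, 0, 0, 1, 0, 0]) (.leaf [-1, 1, 0, 0, 0, 0, 0, 0])))))) (.node (.node (.node (.node (.node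 (.leaf [0, 0, 0, 0, 0, 0, 0, -1]) (.leaf [0, 0, 1, 0, 0, 0, 0, 0])) (.node (.leaf [0, 0, 0, 0, 0, 0, 0, -1]) (.leaf [0, 0, 0, 0, 0, 0, 0, 1]))) (.node (.node (.leaf [0, 0, 0, 0, 0, 0, -1, 0]) (.leaf [0, 0, 0, 0, 0, 0, 1, 0])) (.node (.leaf [0, 0, 0, -1, 0, 0, 0, 0]) (.leaf [0, 0, 0, 0, 0, 0, 0, 1])))) (.node (.node (.node (.leaf [0, 0, 0, 0, 0, 0, 0, -1]) (.leaf [0, 0, 0, 0, 0, 0, 0, 1])) (.node (.leaf [0, 0, 0, 0, -1, 0, 0, 0]) (.leaf [0, 0, 0, 0, 0, 0, 0, 1]))) (.node (.node (.leaf [0, 0, 0, 0, -1, 0, 0, 0]) (.leaf [0, 0, 0, 0, 0, 0, 0, 1])) (.node (.leaf [0, 0, 0, 0, 0, 0, 0, -1]) (.leaf [-1, 1, 0, 0, 0, 0, 0, 0]))))) (.node (.node (.node (.node (.leaf [0, 0, 0, 0, 0, 0, 0, -1]) (.leaf [0, 0, 0, 0, 1, 0, 0, 0])) (.node (.leaf [0, 0, 0, 0, 0, 0, 0, -1]) (.leaf [0, 0, 0, 0, 0, 0, 1, 0]))) (.node (.node (.leaf [0, 0, 0, 0, 0, 0, 0, -1]) (.leaf [0, 0, 0, 0, 0, 1, 0, 0])) (.node (.leaf [0, 0, 0, 0, 0, 0, -1, 0]) (.leaf [-1,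 1, 0, 0, 0, 0, 0, 0])))) (.node (.node (.node (.leaf [0, 0, 0, 0, 0, 0, 0, -1]) (.leaf [0, 0, 0, 0, 0, 0, 1, 0])) (.node (.leaf [0, 0, 0, 0, 0, -1, 0, 0]) (.leaf [0, 0, 0, 0, 0, 0, 0, 1]))) (.node (.node (.leaf [0, 0, 0, 0, 0, 0, -1, 0]) (.leaf [0, 0, 0, 0, 0, 0, 1, 0])) (.node (.leaf [0, 0, 0, 0, 0, 1, 0, 0]) (.leaf [-1, 1, 0, 0, 0, 0, 0, 0]))))))))

noncomputable def dsc : Trie (ℕ) := .node (.node (.node (.node (.node (.node (.node (.node (.leaf 7) (.leaf 4)) (.node (.leaf 0) (.leaf 2))) (.node (.node (.leaf 1) (.leaf 5)) (.node (.leaf 1) (.leaf 3)))) (.node (.node (.node (.leaf 2) (.leaf 1)) (.node (.leaf 5) (.leaf 1))) (.node (.node (.leaf 2) (.leaf 0)) (.node (.leaf 4) (.leaf 7))))) (.node (.node (.node (.node (.leaf 0) (.leaf 2)) (.node (.leaf 0) (.leaf 4))) (.node (.node (.leaf 3) (.leaf 0)) (.node (.leaf 2) (.leaf 2)))) (.node (.node (.node (.leaf 3) (.leaf 3)) (.node (.leaf 1) (.leaf 3))) (.node (.node (.leaf 0) (.leaf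 2)) (.node (.leaf 0) (.leaf 7)))))) (.node (.node (.node (.node (.node (.leaf 3) (.leaf 3)) (.node (.leaf 0) (.leaf 3))) (.node (.node (.leaf 5) (.leaf 0)) (.node (.leaf 2) (.leaf 0)))) (.node (.node (.node (.leaf 2) (.leaf 1)) (.node (.leaf 3) (.leaf 1))) (.node (.node (.leaf 2) (.leaf 0)) (.node (.leaf 5) (.leaf 7))))) (.node (.node (.node (.node (.leaf 0) (.leaf 2)) (.node (.leaf 0) (.leaf 1))) (.node (.node (.leaf 3) (.leaf 0)) (.node (.leaf 3) (.leaf 4)))) (.node (.node (.node (.leaf 1) (.leaf 4)) (.node (.leaf 1) (.leaf 2))) (.node (.node (.leaf 0) (.leaf 2)) (.node (.leaf 5) (.leaf 7))))))) (.node (.node (.node (.node (.node (.node (.leaf 5) (.leaf 0)) (.node (.leaf 0) (.leaf 3))) (.node (.node (.leaf 1) (.leaf 0)) (.node (.leaf 1) (.leaf 0)))) (.node (.node (.node (.leaf 2) (.leaf 1)) (.node (.leaf 4) (.leaf 1))) (.node (.node (.leaf 2) (.leaf 0)) (.node (.leaf 5) (.leaf 7))))) (.node (.node (.node (.node (.leaf 0)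 (.leaf 2)) (.node (.leaf 0) (.leaf 4))) (.node (.node (.leaf 3) (.leaf 0)) (.node (.leaf 3) (.leaf 1)))) (.node (.node (.node (.leaf 1) (.leaf 3)) (.node (.leaf 1) (.leaf 4))) (.node (.node (.leaf 0) (.leaf 2)) (.node (.leaf 6) (.leaf 7)))))) (.node (.node (.node (.node (.node (.leaf 0) (.leaf 3)) (.node (.leaf 0) (.leaf 3))) (.node (.node (.leaf 4) (.leaf 0)) (.node (.leaf 2) (.leaf 0)))) (.node (.node (.node (.leaf 3) (.leaf 1)) (.node (.leaf 3) (.leaf 3))) (.node (.node (.leaf 2) (.leaf 0)) (.node (.leaf 6) (.leaf 7))))) (.node (.node (.node (.node (.leaf 1) (.leaf 1)) (.node (.leaf 6) (.leaf 1))) (.node (.node (.leaf 2) (.leaf 0)) (.node (.leaf 4) (.leaf 6)))) (.node (.node (.node (.leaf 1) (.leaf 4)) (.node (.leaf 1) (.leaf 2))) (.node (.node (.leaf 0) (.leaf 2)) (.node (.leaf 0) (.leaf 7)))))))) (.node (.node (.node (.node (.node (.node (.node (.leaf 6) (.leaf 4)) (.node (.leaf 0) (.leaf 2))) (.node (.node (.leaf 1)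 (.leaf 6)) (.node (.leaf 1) (.leaf 1)))) (.node (.node (.node (.leaf 2) (.leaf 1)) (.node (.leaf 4) (.leaf 1))) (.node (.node (.leaf 2) (.leaf 0)) (.node (.leaf 4) (.leaf 7))))) (.node (.node (.node (.node (.leaf 0) (.leaf 2)) (.node (.leaf 0) (.leaf 4))) (.node (.node (.leaf 3) (.leaf 0)) (.node (.leaf 3) (.leaf 0)))) (.node (.node (.node (.leaf 3) (.leaf 3)) (.node (.leaf 1) (.leaf 3))) (.node (.node (.leaf 0) (.leaf 2)) (.node (.leaf 0) (.leaf 7)))))) (.node (.node (.node (.node (.node (.leaf 1) (.leaf 3)) (.node (.leaf 0) (.leaf 3))) (.node (.node (.leaf 4) (.leaf 0)) (.node (.leaf 2) (.leaf 0)))) (.node (.node (.node (.leaf 4) (.leaf 1)) (.node (.leaf 3) (.leaf 1))) (.node (.node (.leaf 2) (.leaf 0)) (.node (.leaf 6) (.leaf 7))))) (.node (.node (.node (.node (.leaf 0) (.leaf 0)) (.node (.leaf 0) (.leaf 1))) (.node (.node (.leaf 3) (.leaf 0)) (.node (.leaf 3) (.leaf 5)))) (.node (.node (.node (.leaf 1) (.leaf 4)) (.node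 (.leaf 1) (.leaf 2))) (.node (.node (.leaf 0) (.leaf 2)) (.node (.leaf 5) (.leaf 7))))))) (.node (.node (.node (.node (.node (.node (.leaf 4) (.leaf 3)) (.node (.leaf 0) (.leaf 3))) (.node (.node (.leaf 1) (.leaf 0)) (.node (.leaf 2) (.leaf 0)))) (.node (.node (.node (.leaf 2) (.leaf 1)) (.node (.leaf 4) (.leaf 1))) (.node (.node (.leaf 2) (.leaf 0)) (.node (.leaf 5) (.leaf 7))))) (.node (.node (.node (.node (.leaf 0) (.leaf 2)) (.node (.leaf 0) (.leaf 5))) (.node (.node (.leaf 3) (.leaf 0)) (.node (.leaf 3) (.leaf 3)))) (.node (.node (.node (.leaf 1) (.leaf 3)) (.node (.leaf 1) (.leaf 2))) (.node (.node (.leaf 0) (.leaf 2)) (.node (.leaf 0) (.leaf 7)))))) (.node (.node (.node (.node (.node (.leaf 2) (.leaf 0)) (.node (.leaf 0) (.leaf 3))) (.node (.node (.leaf 4) (.leaf 0)) (.node (.leaf 2) (.leaf 0)))) (.node (.node (.node (.leaf 3) (.leaf 1)) (.node (.leaf 3) (.leaf 3))) (.node (.node (.leaf 2) (.leaf 0)) (.node (.leaf 7)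 (.leaf 7))))) (.node (.node (.node (.node (.leaf 3) (.leaf 1)) (.node (.leaf 5) (.leaf 1))) (.node (.node (.leaf 2) (.leaf 0)) (.node (.leaf 4) (.leaf 7)))) (.node (.node (.node (.leaf 1) (.leaf 5)) (.node (.leaf 1) (.leaf 2))) (.node (.node (.leaf 0) (.leaf 2)) (.node (.leaf 4) (.leaf 7))))))))

noncomputable def cert : Trie (ℕ × ℕ × List ℕ × ℕ) := .node (.node (.node (.node (.node (.node (.node (.node (.node (.node (.node (.leaf (162, 0, [], 0)) (.leaf (130, 15, [2, 3], 1017))) (.node (.leaf (123, 77, [6, 5], 427)) (.leaf (126, 52, [3, 4], 1513)))) (.node (.node (.leaf (162, 48, [3], 208)) (.leaf (123, 114, [4, 5], 1250))) (.node (.leaf (135, 201, [3, 2], 686)) (.leaf (126, 189, [2], 1779))))) (.node (.node (.node (.leaf (135, 41, [4], 107)) (.leaf (120, 52, [6, 7], 1107))) (.node (.leaf (141, 127, [4], 630)) (.leaf (135, 109, [0, 2], 1635)))) (.node (.node (.leaf (135, 82, [0, 2], 266)) (.leaf (126, 208, [5, 4], 1387)))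 (.node (.leaf (126, 225, [3, 4], 863)) (.leaf (120, 239, [6, 7], 1902)))))) (.node (.node (.node (.node (.leaf (123, 15, [4, 5], 40)) (.leaf (126, 49, [3, 4], 1065))) (.node (.leaf (141, 112, [3, 1], 495)) (.leaf (120, 53, [6, 7], 1555)))) (.node (.node (.leaf (120, 162, [0], 310)) (.leaf (126, 186, [2], 1331))) (.node (.leaf (162, 201, [2, 0], 768)) (.leaf (126, 211, [5, 4], 1835))))) (.node (.node (.node (.leaf (120, 21, [6, 7], 119)) (.leaf (135, 103, [0, 2], 1187))) (.node (.leaf (162, 109, [2, 0], 638)) (.leaf (123, 117, [4, 5], 1698)))) (.node (.node (.leaf (121, 173, [7, 6], 331)) (.leaf (130, 16, [2, 3], 1465))) (.node (.leaf (121, 225, [5, 6], 930)) (.leaf (120, 239, [6, 7], 1902))))))) (.node (.node (.node (.node (.node (.leaf (126, 14, [3, 4], 19)) (.leaf (123, 26, [4, 5], 1038))) (.node (.leaf (130, 54, [1, 3], 463)) (.leaf (120, 1, [6, 7], 1522)))) (.node (.node (.leaf (162, 52, [4], 265)) (.leaf (162, 159, [5],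 1309))) (.node (.leaf (135, 210, [1], 766)) (.leaf (120, 180, [6, 7], 1795))))) (.node (.node (.node (.leaf (120, 4, [6, 7], 84)) (.leaf (162, 73, [1], 1177))) (.node (.leaf (130, 166, [4, 3], 599)) (.leaf (141, 146, [3, 1], 1679)))) (.node (.node (.leaf (121, 126, [7, 6], 299)) (.leaf (130, 230, [4, 3], 1433))) (.node (.leaf (123, 223, [4, 5], 894)) (.leaf (120, 239, [6, 7], 1902)))))) (.node (.node (.node (.node (.leaf (121, 43, [5, 6], 66)) (.leaf (120, 0, [6, 7], 1074))) (.node (.leaf (126, 160, [5, 4], 534)) (.leaf (162, 101, [1], 1625)))) (.node (.node (.leaf (121, 25, [5, 6], 207)) (.leaf (120, 179, [6, 7], 1347))) (.node (.leaf (162, 234, [2, 0], 810)) (.leaf (130, 231, [4, 3], 1881))))) (.node (.node (.node (.leaf (130, 34, [2, 3], 143)) (.leaf (141, 134, [3, 1], 1231))) (.node (.leaf (135, 165, [3, 2], 670)) (.leaf (162, 181, [5], 1757)))) (.node (.node (.leaf (130, 52, [4, 3], 373)) (.leaf (123, 27, [4, 5], 1486)))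 (.node (.leaf (120, 223, [6, 7], 958)) (.leaf (120, 239, [6, 7], 1902)))))))) (.node (.node (.node (.node (.node (.node (.leaf (130, 2, [2, 3], 9)) (.leaf (126, 28, [3, 4], 1027))) (.node (.leaf (123, 151, [6, 5], 443)) (.leaf (135, 63, [4], 1537)))) (.node (.node (.leaf (162, 51, [3], 237)) (.leaf (123, 148, [4, 5], 1268))) (.node (.leaf (141, 163, [2], 733)) (.leaf (120, 151, [6, 7], 1773))))) (.node (.node (.node (.leaf (135, 44, [5], 132)) (.leaf (120, 93, [6, 7], 1116))) (.node (.leaf (162, 118, [2, 0], 573)) (.leaf (130, 110, [2, 3], 1659)))) (.node (.node (.leaf (121, 108, [5, 6], 282)) (.leaf (123, 216, [6, 5], 1412))) (.node (.leaf (126, 232, [2], 904)) (.leaf (120, 239, [6, 7], 1902)))))) (.node (.node (.node (.node (.leaf (123, 56, [2], 78)) (.leaf (135, 53, [4], 1089))) (.node (.leaf (126, 139, [5, 4], 518)) (.leaf (120, 94, [6, 7], 1564)))) (.node (.node (.leaf (120, 184, [2], 333)) (.leaf (120, 150, [6, 7], 1325)))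 (.node (.leaf (162, 206, [2, 0], 794)) (.leaf (123, 217, [6, 5], 1860))))) (.node (.node (.node (.leaf (162, 42, [2, 0], 132)) (.leaf (130, 105, [2, 3], 1211))) (.node (.leaf (162, 146, [1], 714)) (.leaf (123, 149, [4, 5], 1716)))) (.node (.node (.leaf (126, 45, [1], 370)) (.leaf (126, 31, [3, 4], 1475))) (.node (.leaf (121, 235, [5, 6], 943)) (.leaf (120, 239, [6, 7], 1902))))))) (.node (.node (.node (.node (.node (.leaf (141, 24, [6], 45)) (.leaf (123, 79, [0], 1070))) (.node (.leaf (141, 114, [3, 1], 484)) (.leaf (123, 55, [4, 5], 1540)))) (.node (.node (.leaf (120, 104, [3], 296)) (.leaf (135, 175, [3, 2], 1299))) (.node (.leaf (162, 184, [2, 0], 724)) (.leaf (120, 220, [2], 1839))))) (.node (.node (.node (.leaf (162, 24, [2, 0], 103)) (.leaf (126, 91, [5, 4], 1161))) (.node (.leaf (130, 202, [4, 3], 615)) (.leaf (141, 150, [2], 1694)))) (.node (.node (.leaf (121, 143, [7, 6], 315)) (.leaf (162, 14, [], 0))) (.node (.leaf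 (121, 159, [5, 6], 914)) (.leaf (120, 239, [6, 7], 1902)))))) (.node (.node (.node (.node (.leaf (126, 20, [3, 4], 74)) (.leaf (123, 54, [4, 5], 1092))) (.node (.leaf (135, 121, [3, 2], 548)) (.leaf (126, 92, [5, 4], 1609)))) (.node (.node (.leaf (126, 88, [5, 4], 233)) (.leaf (120, 219, [2], 1391))) (.node (.leaf (126, 152, [3, 4], 837)) (.leaf (120, 239, [6, 7], 1902))))) (.node (.node (.node (.leaf (120, 36, [6, 7], 151)) (.leaf (141, 139, [2], 1246))) (.node (.leaf (135, 195, [3, 2], 678)) (.leaf (135, 185, [3, 2], 1747)))) (.node (.node (.leaf (123, 45, [6, 5], 411)) (.leaf (123, 81, [0], 1518))) (.node (.leaf (162, 6, [], 0)) (.leaf (120, 239, [6, 7], 1902))))))))) (.node (.node (.node (.node (.node (.node (.node (.leaf (135, 1, [0, 2], 1)) (.leaf (126, 9, [3, 4], 1023))) (.node (.leaf (123, 140, [6, 5], 435)) (.leaf (121, 57, [5, 6], 1518)))) (.node (.node (.leaf (120, 87, [5], 218)) (.leaf (130, 148, [1, 3], 1260)))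 (.node (.leaf (135, 224, [3, 2], 690)) (.leaf (120, 125, [6, 7], 1764))))) (.node (.node (.node (.leaf (121, 52, [4], 117)) (.leaf (120, 66, [6, 7], 1112))) (.node (.leaf (162, 110, [2, 0], 558)) (.leaf (141, 109, [4], 1670)))) (.node (.node (.leaf (121, 39, [5, 6], 274)) (.leaf (141, 201, [4], 1401))) (.node (.leaf (126, 231, [3, 4], 868)) (.leaf (120, 239, [6, 7], 1902)))))) (.node (.node (.node (.node (.leaf (130, 38, [1, 3], 48)) (.leaf (121, 56, [5, 6], 1070))) (.node (.leaf (126, 134, [5, 4], 510)) (.leaf (120, 67, [6, 7], 1560)))) (.node (.node (.leaf (120, 169, [0], 322)) (.leaf (120, 124, [6, 7], 1316))) (.node (.leaf (130, 185, [2, 3], 780)) (.leaf (141, 211, [4], 1849))))) (.node (.node (.node (.leaf (130, 31, [2, 3], 126)) (.leaf (141, 97, [4], 1222))) (.node (.leaf (162, 132, [3], 706)) (.leaf (130, 152, [1, 3], 1708)))) (.node (.node (.leaf (121, 190, [7, 6], 339)) (.leaf (126, 10, [3, 4], 1471))) (.node (.leaf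 (141, 237, [3, 1], 938)) (.leaf (120, 239, [6, 7], 1902))))))) (.node (.node (.node (.node (.node (.leaf (126, 15, [1], 32)) (.leaf (123, 42, [4, 5], 1048))) (.node (.leaf (130, 102, [1, 3], 477)) (.leaf (120, 39, [6, 7], 1530)))) (.node (.node (.leaf (120, 103, [4], 279)) (.leaf (121, 166, [5, 6], 1285))) (.node (.leaf (135, 213, [1], 774)) (.leaf (120, 182, [5], 1824))))) (.node (.node (.node (.leaf (120, 8, [6, 7], 92)) (.leaf (135, 88, [3, 2], 1143))) (.node (.leaf (130, 180, [4, 3], 607)) (.leaf (141, 169, [3, 1], 1685)))) (.node (.node (.leaf (121, 131, [7, 6], 307)) (.leaf (135, 231, [3, 2], 1440))) (.node (.leaf (130, 232, [2, 3], 907)) (.leaf (120, 239, [6, 7], 1902)))))) (.node (.node (.node (.node (.leaf (126, 12, [3, 4], 70)) (.leaf (120, 38, [6, 7], 1082))) (.node (.leaf (126, 203, [5, 4], 542)) (.leaf (135, 93, [3, 2], 1591)))) (.node (.node (.leaf (126, 66, [3, 4], 222)) (.leaf (120, 181, [5], 1376))) (.node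 (.leaf (162, 216, [3], 860)) (.leaf (135, 232, [3, 2], 1888))))) (.node (.node (.node (.leaf (120, 68, [6, 7], 147)) (.leaf (141, 164, [3, 1], 1237))) (.node (.leaf (135, 167, [3, 2], 674)) (.leaf (121, 167, [5, 6], 1733)))) (.node (.node (.leaf (130, 53, [4, 3], 391)) (.leaf (123, 44, [4, 5], 1496))) (.node (.leaf (123, 238, [4, 5], 971)) (.leaf (120, 239, [6, 7], 1902)))))))) (.node (.node (.node (.node (.node (.node (.leaf (126, 1, [3, 4], 15)) (.leaf (126, 39, [1], 1042))) (.node (.leaf (123, 177, [6, 5], 451)) (.leaf (121, 68, [3], 1556)))) (.node (.node (.leaf (123, 94, [7], 245)) (.leaf (162, 154, [3], 1293))) (.node (.leaf (135, 205, [1], 752)) (.leaf (130, 196, [2, 3], 1786))))) (.node (.node (.node (.leaf (121, 71, [1], 147)) (.leaf (162, 67, [3], 1148))) (.node (.leaf (130, 145, [4, 3], 591)) (.leaf (135, 136, [3, 2], 1674)))) (.node (.node (.leaf (121, 70, [7, 6], 291)) (.leaf (126, 222, [5, 4], 1425))) (.node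 (.leaf (123, 204, [4, 5], 886)) (.leaf (120, 239, [6, 7], 1902)))))) (.node (.node (.node (.node (.leaf (121, 33, [5, 6], 58)) (.leaf (121, 67, [3], 1108))) (.node (.leaf (126, 150, [5, 4], 526)) (.leaf (162, 89, [3], 1596)))) (.node (.node (.leaf (121, 55, [5, 6], 187)) (.leaf (130, 190, [2, 3], 1338))) (.node (.leaf (162, 211, [2, 0], 802)) (.leaf (126, 223, [5, 4], 1873))))) (.node (.node (.node (.leaf (130, 79, [4, 3], 139)) (.leaf (135, 130, [3, 2], 1226))) (.node (.leaf (141, 154, [3, 1], 665)) (.leaf (162, 176, [3], 1741)))) (.node (.node (.leaf (126, 107, [6], 399)) (.leaf (126, 42, [1], 1490))) (.node (.leaf (120, 209, [6, 7], 950)) (.leaf (120, 239, [6, 7], 1902))))))) (.node (.node (.node (.node (.node (.leaf (123, 6, [4, 5], 30)) (.leaf (121, 34, [5, 6], 1058))) (.node (.leaf (135, 111, [3, 2], 490)) (.leaf (120, 80, [6, 7], 1548)))) (.node (.node (.leaf (120, 141, [1], 305)) (.leaf (135, 178, [0, 2], 1308))) (.node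 (.leaf (162, 195, [2, 0], 752)) (.leaf (126, 200, [3, 4], 1818))))) (.node (.node (.node (.leaf (162, 29, [2, 0], 111)) (.leaf (135, 91, [3, 2], 1178))) (.node (.leaf (162, 122, [2, 0], 626)) (.leaf (141, 172, [0], 1712)))) (.node (.node (.leaf (121, 164, [7, 6], 323)) (.leaf (135, 8, [0, 2], 1457))) (.node (.leaf (121, 213, [5, 6], 922)) (.leaf (120, 239, [6, 7], 1902)))))) (.node (.node (.node (.node (.leaf (126, 56, [5, 4], 80)) (.leaf (120, 79, [6, 7], 1100))) (.node (.leaf (141, 124, [3, 1], 554)) (.leaf (135, 96, [3, 2], 1626)))) (.node (.node (.leaf (126, 93, [5, 4], 245)) (.leaf (126, 197, [3, 4], 1370))) (.node (.leaf (126, 206, [3, 4], 847)) (.leaf (120, 239, [6, 7], 1902))))) (.node (.node (.node (.leaf (120, 107, [6, 7], 155)) (.leaf (141, 167, [0], 1264))) (.node (.leaf (135, 197, [3, 2], 682)) (.leaf (135, 188, [0, 2], 1756)))) (.node (.node (.leaf (123, 51, [6, 5], 419)) (.leaf (121, 35, [5, 6], 1506))) (.node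 (.leaf (135, 7, [0, 2], 1009)) (.leaf (120, 239, [6, 7], 1902)))))))))) (.node (.node (.node (.node (.node (.node (.node (.node (.leaf (162, 4, [4], 3)) (.leaf (130, 25, [2, 3], 1021))) (.node (.leaf (123, 136, [6, 5], 431)) (.leaf (126, 54, [3, 4], 1515)))) (.node (.node (.leaf (120, 55, [5], 213)) (.leaf (123, 137, [4, 5], 1255))) (.node (.leaf (135, 202, [3, 2], 688)) (.leaf (121, 189, [4], 1788))))) (.node (.node (.node (.leaf (135, 42, [4], 113)) (.leaf (120, 84, [6, 7], 1110))) (.node (.leaf (141, 129, [4], 634)) (.leaf (141, 107, [2], 1644)))) (.node (.node (.leaf (135, 83, [0, 2], 272)) (.leaf (121, 215, [7, 6], 1391))) (.node (.leaf (126, 227, [3, 4], 866)) (.leaf (120, 239, [6, 7], 1902)))))) (.node (.node (.node (.node (.leaf (130, 18, [1, 3], 44)) (.leaf (126, 51, [3, 4], 1067))) (.node (.leaf (126, 76, [5, 4], 505)) (.leaf (120, 85, [6, 7], 1558)))) (.node (.node (.leaf (120, 148, [2], 315)) (.leaf (121, 188,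 [4], 1340))) (.node (.leaf (162, 232, [2, 0], 776)) (.leaf (121, 216, [7, 6], 1839))))) (.node (.node (.node (.leaf (120, 83, [6, 7], 123)) (.leaf (141, 95, [2], 1196))) (.node (.leaf (162, 129, [2, 0], 645)) (.leaf (123, 138, [4, 5], 1703)))) (.node (.node (.leaf (121, 158, [7, 6], 335)) (.leaf (130, 29, [2, 3], 1469))) (.node (.leaf (121, 231, [5, 6], 934)) (.leaf (120, 239, [6, 7], 1902))))))) (.node (.node (.node (.node (.node (.leaf (126, 7, [1], 28)) (.leaf (123, 36, [4, 5], 1044))) (.node (.leaf (130, 121, [4, 3], 473)) (.leaf (120, 29, [6, 7], 1526)))) (.node (.node (.leaf (120, 92, [4], 271)) (.leaf (121, 123, [5, 6], 1281))) (.node (.leaf (135, 209, [1], 770)) (.leaf (123, 207, [6, 5], 1798))))) (.node (.node (.node (.leaf (120, 35, [6, 7], 88)) (.leaf (162, 76, [3], 1187))) (.node (.leaf (130, 168, [4, 3], 603)) (.leaf (126, 116, [3, 4], 1682)))) (.node (.node (.leaf (121, 76, [7, 6], 303)) (.leaf (162, 224, [3],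 1443))) (.node (.leaf (123, 227, [4, 5], 900)) (.leaf (120, 239, [6, 7], 1902)))))) (.node (.node (.node (.node (.leaf (126, 18, [3, 4], 68)) (.leaf (120, 28, [6, 7], 1078))) (.node (.leaf (126, 191, [5, 4], 538)) (.leaf (162, 104, [3], 1635)))) (.node (.node (.leaf (135, 79, [3, 2], 216)) (.leaf (123, 205, [6, 5], 1350))) (.node (.leaf (130, 229, [1, 3], 814)) (.leaf (162, 231, [3], 1891))))) (.node (.node (.node (.leaf (123, 85, [4, 5], 145)) (.leaf (126, 112, [3, 4], 1234))) (.node (.leaf (135, 166, [3, 2], 672)) (.leaf (121, 124, [5, 6], 1729)))) (.node (.node (.leaf (130, 114, [4, 3], 377)) (.leaf (123, 37, [4, 5], 1492))) (.node (.leaf (120, 229, [6, 7], 962)) (.leaf (120, 239, [6, 7], 1902)))))))) (.node (.node (.node (.node (.node (.node (.leaf (130, 21, [2, 3], 13)) (.leaf (126, 37, [1], 1038))) (.node (.leaf (123, 154, [6, 5], 447)) (.leaf (121, 64, [4], 1546)))) (.node (.node (.leaf (123, 72, [7], 241)) (.leaf (130,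 172, [1, 3], 1272))) (.node (.leaf (141, 187, [2], 747)) (.leaf (120, 155, [6, 7], 1782))))) (.node (.node (.node (.leaf (121, 88, [3], 140)) (.leaf (120, 110, [6, 7], 1118))) (.node (.leaf (130, 137, [4, 3], 587)) (.leaf (130, 136, [2, 3], 1664)))) (.node (.node (.leaf (121, 125, [5, 6], 286)) (.leaf (130, 213, [1, 3], 1419))) (.node (.leaf (123, 188, [4, 5], 882)) (.leaf (120, 239, [6, 7], 1902)))))) (.node (.node (.node (.node (.leaf (121, 4, [5, 6], 54)) (.leaf (121, 63, [4], 1098))) (.node (.leaf (126, 162, [5, 4], 522)) (.leaf (120, 111, [6, 7], 1566)))) (.node (.node (.leaf (120, 194, [3], 339)) (.leaf (120, 154, [6, 7], 1334))) (.node (.leaf (162, 208, [2, 0], 798)) (.leaf (130, 217, [1, 3], 1867))))) (.node (.node (.node (.leaf (120, 17, [6, 7], 135)) (.leaf (130, 135, [2, 3], 1216))) (.node (.leaf (135, 152, [3, 2], 661)) (.leaf (130, 176, [1, 3], 1720)))) (.node (.node (.leaf (141, 85, [4], 385)) (.leaf (126, 40,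 [1], 1486))) (.node (.leaf (120, 193, [6, 7], 946)) (.leaf (120, 239, [6, 7], 1902))))))) (.node (.node (.node (.node (.node (.leaf (123, 0, [4, 5], 22)) (.leaf (121, 18, [5, 6], 1054))) (.node (.leaf (141, 119, [3, 1], 486)) (.leaf (120, 58, [6, 7], 1544)))) (.node (.node (.leaf (120, 132, [3], 300)) (.leaf (135, 177, [3, 2], 1301))) (.node (.leaf (162, 188, [2, 0], 738)) (.leaf (141, 204, [3, 1], 1814))))) (.node (.node (.node (.leaf (162, 38, [2, 0], 107)) (.leaf (126, 108, [5, 4], 1169))) (.node (.leaf (162, 107, [2, 0], 619)) (.leaf (126, 148, [1], 1703)))) (.node (.node (.leaf (121, 80, [7, 6], 319)) (.leaf (162, 18, [5], 1459))) (.node (.leaf (121, 200, [5, 6], 918)) (.leaf (120, 239, [6, 7], 1902)))))) (.node (.node (.node (.node (.leaf (121, 16, [5, 6], 77)) (.leaf (120, 57, [6, 7], 1096))) (.node (.leaf (135, 74, [3, 2], 551)) (.leaf (126, 109, [5, 4], 1617)))) (.node (.node (.leaf (126, 68, [3, 4], 238)) (.leaf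 (141, 194, [3, 1], 1366))) (.node (.leaf (126, 195, [3, 4], 841)) (.leaf (120, 239, [6, 7], 1902))))) (.node (.node (.node (.leaf (120, 101, [6, 7], 153)) (.leaf (126, 147, [1], 1255))) (.node (.leaf (135, 196, [3, 2], 680)) (.leaf (135, 187, [3, 2], 1749)))) (.node (.node (.leaf (123, 109, [6, 5], 415)) (.leaf (121, 19, [5, 6], 1502))) (.node (.leaf (162, 11, [5], 1011)) (.leaf (120, 239, [6, 7], 1902))))))))) (.node (.node (.node (.node (.node (.node (.node (.leaf (135, 14, [0, 2], 5)) (.leaf (126, 21, [3, 4], 1025))) (.node (.leaf (123, 147, [6, 5], 439)) (.leaf (121, 79, [5, 6], 1520)))) (.node (.node (.leaf (123, 89, [3], 228)) (.leaf (130, 150, [1, 3], 1264))) (.node (.leaf (135, 171, [0, 2], 718)) (.leaf (120, 168, [6, 7], 1768))))) (.node (.node (.node (.leaf (121, 84, [4], 123)) (.leaf (120, 71, [6, 7], 1114))) (.node (.leaf (162, 94, [2, 0], 566)) (.leaf (130, 131, [4, 3], 1652)))) (.node (.node (.leaf (121, 102,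 [5, 6], 278)) (.leaf (123, 202, [4, 5], 1404))) (.node (.leaf (135, 236, [0, 2], 876)) (.leaf (120, 239, [6, 7], 1902)))))) (.node (.node (.node (.node (.leaf (123, 9, [3], 62)) (.leaf (121, 78, [5, 6], 1072))) (.node (.leaf (126, 141, [5, 4], 514)) (.leaf (120, 72, [6, 7], 1562)))) (.node (.node (.leaf (120, 153, [3], 326)) (.leaf (120, 167, [6, 7], 1320))) (.node (.leaf (162, 204, [2, 0], 790)) (.leaf (123, 203, [4, 5], 1852))))) (.node (.node (.node (.leaf (123, 62, [4, 5], 129)) (.leaf (130, 126, [4, 3], 1204))) (.node (.leaf (162, 142, [1], 710)) (.leaf (130, 154, [1, 3], 1712)))) (.node (.node (.leaf (141, 62, [4], 359)) (.leaf (126, 22, [3, 4], 1473))) (.node (.leaf (141, 239, [3, 1], 940)) (.leaf (120, 239, [6, 7], 1902))))))) (.node (.node (.node (.node (.node (.leaf (141, 18, [5], 39)) (.leaf (123, 47, [3], 1062))) (.node (.leaf (135, 66, [3, 2], 480)) (.leaf (120, 44, [6, 7], 1534)))) (.node (.node (.leaf (120,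 127, [4], 287)) (.leaf (126, 155, [3, 4], 1294))) (.node (.leaf (141, 227, [0], 801)) (.leaf (120, 208, [5], 1829))))) (.node (.node (.node (.leaf (120, 45, [6, 7], 96)) (.leaf (141, 90, [3, 1], 1154))) (.node (.leaf (130, 161, [4, 3], 611)) (.leaf (141, 148, [2], 1690)))) (.node (.node (.leaf (121, 135, [7, 6], 311)) (.leaf (126, 235, [3, 4], 1451))) (.node (.leaf (130, 239, [2, 3], 911)) (.leaf (120, 239, [6, 7], 1902)))))) (.node (.node (.node (.node (.leaf (126, 47, [3, 4], 72)) (.leaf (120, 43, [6, 7], 1086))) (.node (.leaf (135, 112, [3, 2], 546)) (.leaf (141, 101, [3, 1], 1602)))) (.node (.node (.leaf (126, 67, [3, 4], 226)) (.leaf (120, 207, [5], 1381))) (.node (.leaf (162, 236, [4], 874)) (.leaf (126, 236, [3, 4], 1899))))) (.node (.node (.node (.leaf (130, 35, [2, 3], 149)) (.leaf (141, 137, [2], 1242))) (.node (.leaf (135, 168, [3, 2], 676)) (.leaf (126, 158, [3, 4], 1742)))) (.node (.node (.leaf (130, 115, [4,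 3], 399)) (.leaf (123, 49, [3], 1510))) (.node (.leaf (120, 235, [6, 7], 976)) (.leaf (120, 239, [6, 7], 1902)))))))) (.node (.node (.node (.node (.node (.node (.leaf (126, 5, [3, 4], 17)) (.leaf (123, 2, [4, 5], 1030))) (.node (.leaf (123, 183, [6, 5], 455)) (.leaf (121, 95, [2], 1561)))) (.node (.node (.leaf (123, 111, [7], 249)) (.leaf (162, 156, [4], 1303))) (.node (.leaf (135, 207, [1], 760)) (.leaf (130, 199, [2, 3], 1791))))) (.node (.node (.node (.leaf (121, 110, [3], 155)) (.leaf (123, 122, [7], 1173))) (.node (.leaf (130, 92, [4, 3], 595)) (.leaf (141, 144, [3, 1], 1677)))) (.node (.node (.leaf (121, 75, [7, 6], 295)) (.leaf (135, 218, [4], 1435))) (.node (.leaf (123, 215, [4, 5], 890)) (.leaf (120, 239, [6, 7], 1902)))))) (.node (.node (.node (.node (.leaf (121, 8, [5, 6], 62)) (.leaf (121, 94, [2], 1113))) (.node (.leaf (126, 171, [5, 4], 530)) (.leaf (123, 125, [7], 1621)))) (.node (.node (.leaf (135, 78, [3,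 2], 195)) (.leaf (130, 193, [2, 3], 1343))) (.node (.leaf (162, 212, [2, 0], 806)) (.leaf (135, 223, [4], 1883))))) (.node (.node (.node (.leaf (130, 33, [2, 3], 141)) (.leaf (141, 132, [3, 1], 1229))) (.node (.leaf (135, 98, [3, 2], 668)) (.leaf (162, 178, [4], 1751)))) (.node (.node (.leaf (141, 65, [5], 465)) (.leaf (123, 3, [4, 5], 1478))) (.node (.leaf (120, 217, [6, 7], 954)) (.leaf (120, 239, [6, 7], 1902))))))) (.node (.node (.node (.node (.node (.leaf (123, 7, [4, 5], 36)) (.leaf (121, 40, [5, 6], 1062))) (.node (.leaf (141, 118, [3, 1], 493)) (.leaf (162, 85, [2, 0], 1552)))) (.node (.node (.leaf (120, 137, [2], 307)) (.leaf (121, 185, [5, 6], 1311))) (.node (.leaf (162, 197, [2, 0], 760)) (.leaf (126, 202, [3, 4], 1820))))) (.node (.node (.node (.leaf (120, 9, [6, 7], 115)) (.leaf (135, 100, [0, 2], 1183))) (.node (.leaf (162, 123, [2, 0], 631)) (.leaf (162, 165, [2, 0], 1691)))) (.node (.node (.leaf (121, 168,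 [7, 6], 327)) (.leaf (135, 24, [0, 2], 1461))) (.node (.leaf (121, 222, [5, 6], 926)) (.leaf (120, 239, [6, 7], 1902)))))) (.node (.node (.node (.node (.leaf (135, 30, [4], 99)) (.leaf (162, 63, [2, 0], 1104))) (.node (.leaf (141, 126, [4], 577)) (.leaf (135, 106, [0, 2], 1631)))) (.node (.node (.leaf (121, 29, [5, 6], 255)) (.leaf (126, 199, [3, 4], 1372))) (.node (.leaf (126, 220, [3, 4], 855)) (.leaf (120, 239, [6, 7], 1902))))) (.node (.node (.node (.leaf (120, 116, [6, 7], 157)) (.leaf (162, 137, [2, 0], 1243))) (.node (.leaf (135, 161, [3, 2], 684)) (.leaf (121, 186, [5, 6], 1759)))) (.node (.node (.leaf (123, 130, [6, 5], 423)) (.leaf (121, 41, [5, 6], 1510))) (.node (.leaf (135, 19, [0, 2], 1013)) (.leaf (120, 239, [6, 7], 1902))))))))))) (.node (.node (.node (.node (.node (.node (.node (.node (.node (.leaf (162, 2, [6], 1)) (.leaf (130, 23, [2, 3], 1019))) (.node (.leaf (123, 141, [6, 5], 429)) (.leaf (126, 53, [3,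 4], 1514)))) (.node (.node (.leaf (120, 11, [5], 211)) (.leaf (123, 126, [4, 5], 1252))) (.node (.leaf (135, 199, [3, 2], 687)) (.leaf (121, 157, [4], 1782))))) (.node (.node (.node (.leaf (135, 32, [4], 111)) (.leaf (130, 86, [4, 3], 1109))) (.node (.leaf (141, 128, [4], 632)) (.leaf (141, 105, [2], 1639)))) (.node (.node (.leaf (126, 89, [3, 4], 267)) (.leaf (121, 201, [7, 6], 1389))) (.node (.leaf (126, 226, [3, 4], 865)) (.leaf (120, 239, [6, 7], 1902)))))) (.node (.node (.node (.node (.leaf (123, 40, [4, 5], 42)) (.leaf (126, 50, [3, 4], 1066))) (.node (.leaf (126, 98, [3, 4], 503)) (.leaf (130, 90, [4, 3], 1557)))) (.node (.node (.leaf (120, 147, [2], 313)) (.leaf (121, 156, [4], 1334))) (.node (.leaf (162, 202, [2, 0], 772)) (.leaf (121, 202, [7, 6], 1837))))) (.node (.node (.node (.leaf (120, 61, [6, 7], 121)) (.leaf (141, 93, [2], 1191))) (.node (.leaf (162, 127, [2, 0], 641)) (.leaf (123, 127, [4, 5], 1700)))) (.node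 (.node (.leaf (121, 174, [7, 6], 333)) (.leaf (130, 27, [2, 3], 1467))) (.node (.leaf (121, 229, [5, 6], 932)) (.leaf (120, 239, [6, 7], 1902))))))) (.node (.node (.node (.node (.node (.leaf (126, 26, [3, 4], 20)) (.leaf (123, 32, [4, 5], 1042))) (.node (.leaf (130, 101, [1, 3], 469)) (.leaf (120, 20, [6, 7], 1524)))) (.node (.node (.leaf (120, 30, [4], 269)) (.leaf (162, 161, [6], 1313))) (.node (.leaf (135, 211, [1], 768)) (.leaf (123, 197, [6, 5], 1797))))) (.node (.node (.node (.leaf (120, 6, [6, 7], 86)) (.leaf (162, 70, [4], 1179))) (.node (.leaf (130, 167, [4, 3], 601)) (.leaf (126, 114, [3, 4], 1680)))) (.node (.node (.leaf (135, 87, [0, 2], 301)) (.leaf (162, 222, [2, 0], 1435))) (.node (.leaf (123, 225, [4, 5], 896)) (.leaf (120, 239, [6, 7], 1902)))))) (.node (.node (.node (.node (.leaf (126, 11, [3, 4], 67)) (.leaf (120, 19, [6, 7], 1076))) (.node (.leaf (126, 182, [5, 4], 536)) (.leaf (162, 92, [4], 1627)))) (.node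 (.node (.leaf (121, 65, [5, 6], 210)) (.leaf (123, 195, [6, 5], 1349))) (.node (.leaf (130, 227, [1, 3], 812)) (.leaf (162, 229, [2, 0], 1883))))) (.node (.node (.node (.leaf (130, 60, [2, 3], 144)) (.leaf (126, 110, [3, 4], 1232))) (.node (.leaf (135, 156, [3, 2], 671)) (.leaf (162, 183, [6], 1761)))) (.node (.node (.leaf (130, 99, [4, 3], 375)) (.leaf (123, 34, [4, 5], 1490))) (.node (.leaf (120, 225, [6, 7], 960)) (.leaf (120, 239, [6, 7], 1902)))))))) (.node (.node (.node (.node (.node (.node (.leaf (130, 6, [2, 3], 11)) (.leaf (126, 29, [3, 4], 1028))) (.node (.leaf (123, 169, [6, 5], 445)) (.leaf (126, 64, [2], 1540)))) (.node (.node (.leaf (123, 39, [7], 239)) (.leaf (123, 170, [4, 5], 1270))) (.node (.leaf (141, 185, [2], 739)) (.leaf (123, 181, [4, 5], 1779))))) (.node (.node (.node (.leaf (121, 26, [3], 137)) (.leaf (120, 105, [6, 7], 1117))) (.node (.leaf (130, 70, [4, 3], 585)) (.leaf (130, 112, [2, 3], 1661))))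 (.node (.node (.leaf (121, 113, [5, 6], 284)) (.leaf (123, 228, [6, 5], 1414))) (.node (.leaf (123, 156, [4, 5], 880)) (.leaf (120, 239, [6, 7], 1902)))))) (.node (.node (.node (.node (.leaf (121, 0, [5, 6], 52)) (.leaf (126, 61, [2], 1092))) (.node (.leaf (126, 140, [5, 4], 520)) (.leaf (120, 106, [6, 7], 1565)))) (.node (.node (.leaf (120, 178, [4], 334)) (.leaf (123, 179, [4, 5], 1331))) (.node (.leaf (162, 207, [2, 0], 796)) (.leaf (123, 229, [6, 5], 1862))))) (.node (.node (.node (.leaf (123, 63, [4, 5], 133)) (.leaf (130, 107, [2, 3], 1213))) (.node (.leaf (141, 77, [3, 1], 659)) (.leaf (123, 171, [4, 5], 1718)))) (.node (.node (.leaf (126, 73, [1], 372)) (.leaf (126, 32, [3, 4], 1476))) (.node (.leaf (120, 161, [6, 7], 944)) (.leaf (120, 239, [6, 7], 1902))))))) (.node (.node (.node (.node (.node (.leaf (141, 20, [7], 47)) (.leaf (121, 1, [5, 6], 1052))) (.node (.leaf (141, 117, [3, 1], 485)) (.leaf (120, 50, [6, 7],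 1542)))) (.node (.node (.leaf (120, 130, [3], 298)) (.leaf (135, 176, [3, 2], 1300))) (.node (.leaf (162, 186, [2, 0], 727)) (.leaf (121, 161, [5, 6], 1807))))) (.node (.node (.node (.leaf (162, 28, [2, 0], 105)) (.leaf (126, 102, [5, 4], 1165))) (.node (.leaf (130, 218, [4, 3], 617)) (.leaf (141, 151, [2], 1696)))) (.node (.node (.leaf (121, 146, [7, 6], 317)) (.leaf (162, 16, [3], 1457))) (.node (.leaf (121, 191, [5, 6], 916)) (.leaf (120, 239, [6, 7], 1902)))))) (.node (.node (.node (.node (.leaf (126, 48, [3, 4], 75)) (.leaf (120, 49, [6, 7], 1094))) (.node (.leaf (135, 122, [3, 2], 549)) (.leaf (126, 103, [5, 4], 1613)))) (.node (.node (.leaf (126, 35, [3, 4], 236)) (.leaf (121, 160, [5, 6], 1359))) (.node (.leaf (126, 184, [3, 4], 839)) (.leaf (120, 239, [6, 7], 1902))))) (.node (.node (.node (.leaf (120, 73, [6, 7], 152)) (.leaf (141, 140, [2], 1248))) (.node (.leaf (135, 159, [3, 2], 679)) (.leaf (135, 186, [3, 2],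 1748)))) (.node (.node (.leaf (123, 103, [6, 5], 413)) (.leaf (121, 2, [5, 6], 1500))) (.node (.leaf (162, 9, [3], 1009)) (.leaf (120, 239, [6, 7], 1902))))))))) (.node (.node (.node (.node (.node (.node (.node (.leaf (135, 3, [0, 2], 3)) (.leaf (126, 16, [3, 4], 1024))) (.node (.leaf (123, 162, [6, 5], 437)) (.leaf (121, 61, [5, 6], 1519)))) (.node (.node (.leaf (162, 50, [3], 225)) (.leaf (130, 149, [1, 3], 1262))) (.node (.leaf (135, 169, [0, 2], 716)) (.leaf (120, 134, [6, 7], 1766))))) (.node (.node (.node (.leaf (121, 62, [4], 121)) (.leaf (120, 88, [6, 7], 1113))) (.node (.leaf (162, 117, [2, 0], 563)) (.leaf (130, 104, [4, 3], 1650)))) (.node (.node (.leaf (121, 74, [5, 6], 276)) (.leaf (126, 209, [1], 1404))) (.node (.leaf (126, 233, [3, 4], 869)) (.leaf (120, 239, [6, 7], 1902)))))) (.node (.node (.node (.node (.leaf (130, 20, [1, 3], 50)) (.leaf (121, 60, [5, 6], 1071))) (.node (.leaf (126, 77, [5, 4], 512)) (.leaf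 (120, 89, [6, 7], 1561)))) (.node (.node (.leaf (120, 152, [3], 324)) (.leaf (120, 133, [6, 7], 1318))) (.node (.leaf (130, 187, [2, 3], 782)) (.leaf (126, 212, [1], 1852))))) (.node (.node (.node (.leaf (162, 41, [2, 0], 128)) (.leaf (130, 103, [4, 3], 1202))) (.node (.leaf (162, 134, [3], 708)) (.leaf (130, 153, [1, 3], 1710)))) (.node (.node (.leaf (121, 206, [7, 6], 341)) (.leaf (126, 17, [3, 4], 1472))) (.node (.leaf (141, 238, [3, 1], 939)) (.leaf (120, 239, [6, 7], 1902))))))) (.node (.node (.node (.node (.node (.leaf (126, 36, [1], 34)) (.leaf (130, 44, [1, 3], 1050))) (.node (.leaf (130, 124, [5], 548)) (.leaf (120, 42, [6, 7], 1532)))) (.node (.node (.leaf (120, 109, [4], 283)) (.leaf (126, 153, [3, 4], 1290))) (.node (.leaf (135, 225, [1], 776)) (.leaf (120, 198, [5], 1827))))) (.node (.node (.node (.leaf (120, 15, [6, 7], 94)) (.leaf (135, 89, [3, 2], 1145))) (.node (.leaf (130, 181, [4, 3], 609)) (.leaf (135,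 147, [3, 2], 1686)))) (.node (.node (.leaf (121, 58, [7, 6], 309)) (.leaf (141, 232, [2], 1447))) (.node (.leaf (130, 237, [2, 3], 909)) (.leaf (120, 239, [6, 7], 1902)))))) (.node (.node (.node (.node (.leaf (126, 19, [3, 4], 71)) (.leaf (120, 41, [6, 7], 1084))) (.node (.leaf (135, 68, [3, 2], 544)) (.leaf (135, 94, [3, 2], 1593)))) (.node (.node (.leaf (126, 34, [3, 4], 224)) (.leaf (120, 197, [5], 1379))) (.node (.leaf (162, 235, [3], 864)) (.leaf (141, 234, [2], 1895))))) (.node (.node (.node (.leaf (120, 90, [6, 7], 148)) (.leaf (135, 142, [3, 2], 1238))) (.node (.leaf (135, 158, [3, 2], 675)) (.leaf (126, 156, [3, 4], 1738)))) (.node (.node (.leaf (130, 100, [4, 3], 395)) (.leaf (130, 50, [1, 3], 1498))) (.node (.leaf (120, 232, [6, 7], 974)) (.leaf (120, 239, [6, 7], 1902)))))))) (.node (.node (.node (.node (.node (.node (.leaf (126, 2, [3, 4], 16)) (.leaf (141, 34, [5], 1047))) (.node (.leaf (123, 186, [6, 5], 453))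 (.leaf (121, 73, [1], 1560)))) (.node (.node (.leaf (123, 106, [7], 247)) (.leaf (123, 152, [3], 1296))) (.node (.leaf (135, 206, [1], 756)) (.leaf (130, 197, [2, 3], 1789))))) (.node (.node (.node (.leaf (121, 93, [2], 148)) (.leaf (130, 87, [5], 1154))) (.node (.leaf (130, 146, [4, 3], 593)) (.leaf (141, 143, [3, 1], 1676)))) (.node (.node (.leaf (135, 86, [0, 2], 293)) (.leaf (135, 216, [3, 2], 1427))) (.node (.leaf (123, 211, [4, 5], 888)) (.leaf (120, 239, [6, 7], 1902)))))) (.node (.node (.node (.node (.leaf (121, 7, [5, 6], 60)) (.leaf (121, 72, [1], 1112))) (.node (.leaf (126, 151, [5, 4], 528)) (.leaf (130, 91, [5], 1602)))) (.node (.node (.leaf (141, 56, [3, 1], 193)) (.leaf (130, 191, [2, 3], 1341))) (.node (.leaf (162, 209, [2, 0], 804)) (.leaf (135, 221, [3, 2], 1875))))) (.node (.node (.node (.leaf (120, 86, [6, 7], 140)) (.leaf (141, 131, [3, 1], 1228))) (.node (.leaf (141, 155, [3, 1], 667)) (.leaf (123, 153,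 [3], 1744)))) (.node (.node (.leaf (126, 122, [6], 403)) (.leaf (141, 44, [5], 1495))) (.node (.leaf (120, 213, [6, 7], 952)) (.leaf (120, 239, [6, 7], 1902))))))) (.node (.node (.node (.node (.node (.leaf (123, 30, [4, 5], 34)) (.leaf (121, 37, [5, 6], 1060))) (.node (.leaf (141, 115, [3, 1], 492)) (.leaf (120, 82, [6, 7], 1550)))) (.node (.node (.leaf (120, 136, [2], 306)) (.leaf (135, 180, [0, 2], 1310))) (.node (.leaf (162, 196, [2, 0], 756)) (.leaf (126, 201, [3, 4], 1819))))) (.node (.node (.node (.leaf (162, 39, [2, 0], 113)) (.leaf (121, 120, [5, 6], 1180))) (.node (.leaf (162, 108, [2, 0], 628)) (.leaf (162, 163, [2, 0], 1687)))) (.node (.node (.leaf (121, 165, [7, 6], 325)) (.leaf (135, 22, [0, 2], 1459))) (.node (.leaf (121, 217, [5, 6], 924)) (.leaf (120, 239, [6, 7], 1902)))))) (.node (.node (.node (.node (.leaf (126, 78, [5, 4], 81)) (.leaf (120, 81, [6, 7], 1102))) (.node (.leaf (141, 125, [3, 1], 555)) (.leaf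 (121, 122, [5, 6], 1628)))) (.node (.node (.leaf (126, 117, [5, 4], 249)) (.leaf (126, 198, [3, 4], 1371))) (.node (.leaf (126, 215, [3, 4], 851)) (.leaf (120, 239, [6, 7], 1902))))) (.node (.node (.node (.leaf (120, 112, [6, 7], 156)) (.leaf (162, 135, [2, 0], 1239))) (.node (.leaf (135, 198, [3, 2], 683)) (.leaf (135, 190, [0, 2], 1758)))) (.node (.node (.leaf (123, 104, [6, 5], 421)) (.leaf (121, 38, [5, 6], 1508))) (.node (.leaf (135, 17, [0, 2], 1011)) (.leaf (120, 239, [6, 7], 1902)))))))))) (.node (.node (.node (.node (.node (.node (.node (.node (.leaf (162, 7, [1], 5)) (.leaf (126, 3, [3, 4], 1022))) (.node (.leaf (123, 139, [6, 5], 433)) (.leaf (121, 51, [5, 6], 1517)))) (.node (.node (.leaf (120, 65, [5], 215)) (.leaf (162, 147, [2, 0], 1258))) (.node (.leaf (135, 203, [3, 2], 689)) (.leaf (121, 205, [1], 1797))))) (.node (.node (.node (.leaf (121, 10, [4], 115)) (.leaf (130, 65, [2, 3], 1111))) (.node (.leaf (162,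 93, [2, 0], 556)) (.leaf (141, 108, [2], 1655)))) (.node (.node (.leaf (126, 90, [3, 4], 273)) (.leaf (121, 227, [7, 6], 1393))) (.node (.leaf (126, 228, [3, 4], 867)) (.leaf (120, 239, [6, 7], 1902)))))) (.node (.node (.node (.node (.leaf (130, 12, [1, 3], 46)) (.leaf (121, 50, [5, 6], 1069))) (.node (.leaf (126, 132, [5, 4], 508)) (.leaf (130, 69, [2, 3], 1559)))) (.node (.node (.leaf (120, 149, [2], 317)) (.leaf (121, 204, [1], 1349))) (.node (.leaf (130, 169, [2, 3], 778)) (.leaf (121, 228, [7, 6], 1841))))) (.node (.node (.node (.leaf (162, 40, [2, 0], 125)) (.leaf (141, 96, [2], 1207))) (.node (.leaf (162, 130, [3], 704)) (.leaf (162, 169, [2, 0], 1706)))) (.node (.node (.leaf (121, 187, [7, 6], 337)) (.leaf (126, 4, [3, 4], 1470))) (.node (.leaf (141, 235, [3, 1], 936)) (.leaf (120, 239, [6, 7], 1902))))))) (.node (.node (.node (.node (.node (.leaf (126, 8, [1], 30)) (.leaf (123, 41, [4, 5], 1046))) (.node (.leaf (130,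 55, [1, 3], 475)) (.leaf (120, 34, [6, 7], 1528)))) (.node (.node (.leaf (120, 40, [4], 275)) (.leaf (121, 132, [5, 6], 1283))) (.node (.leaf (135, 212, [1], 772)) (.leaf (123, 198, [3], 1822))))) (.node (.node (.node (.leaf (120, 7, [6, 7], 90)) (.leaf (141, 67, [3, 1], 1141))) (.node (.leaf (130, 179, [4, 3], 605)) (.leaf (141, 147, [3, 1], 1684)))) (.node (.node (.leaf (121, 98, [7, 6], 305)) (.leaf (141, 224, [3, 1], 1439))) (.node (.leaf (123, 231, [4, 5], 904)) (.leaf (120, 239, [6, 7], 1902)))))) (.node (.node (.node (.node (.leaf (126, 46, [3, 4], 69)) (.leaf (120, 33, [6, 7], 1080))) (.node (.leaf (126, 183, [5, 4], 540)) (.leaf (141, 72, [3, 1], 1589)))) (.node (.node (.leaf (126, 33, [3, 4], 220)) (.leaf (123, 196, [3], 1374))) (.node (.leaf (162, 214, [3], 854)) (.leaf (141, 225, [3, 1], 1887))))) (.node (.node (.node (.leaf (120, 26, [6, 7], 146)) (.leaf (141, 136, [3, 1], 1236))) (.node (.leaf (135, 157, [3,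 2], 673)) (.leaf (121, 133, [5, 6], 1731)))) (.node (.node (.leaf (130, 119, [4, 3], 379)) (.leaf (123, 43, [4, 5], 1494))) (.node (.leaf (120, 231, [6, 7], 964)) (.leaf (120, 239, [6, 7], 1902)))))))) (.node (.node (.node (.node (.node (.node (.leaf (126, 0, [3, 4], 14)) (.leaf (126, 38, [1], 1040))) (.node (.leaf (123, 155, [6, 5], 449)) (.leaf (121, 86, [4], 1550)))) (.node (.node (.leaf (123, 100, [7], 243)) (.leaf (162, 152, [3], 1289))) (.node (.leaf (135, 204, [1], 750)) (.leaf (130, 194, [2, 3], 1784))))) (.node (.node (.node (.leaf (135, 45, [6], 144)) (.leaf (120, 114, [6, 7], 1119))) (.node (.leaf (130, 144, [4, 3], 589)) (.leaf (130, 142, [1, 3], 1672)))) (.node (.node (.leaf (135, 85, [0, 2], 289)) (.leaf (135, 215, [3, 2], 1422))) (.node (.leaf (123, 200, [4, 5], 884)) (.leaf (120, 239, [6, 7], 1902)))))) (.node (.node (.node (.node (.leaf (121, 6, [5, 6], 56)) (.leaf (121, 85, [4], 1102))) (.node (.leaf (126,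 149, [5, 4], 524)) (.leaf (120, 115, [6, 7], 1567)))) (.node (.node (.leaf (121, 13, [5, 6], 183)) (.leaf (130, 188, [2, 3], 1336))) (.node (.leaf (162, 210, [2, 0], 800)) (.leaf (135, 220, [3, 2], 1870))))) (.node (.node (.node (.leaf (120, 22, [6, 7], 137)) (.leaf (130, 141, [1, 3], 1224))) (.node (.leaf (141, 153, [3, 1], 663)) (.leaf (162, 174, [3], 1737)))) (.node (.node (.leaf (126, 101, [1], 390)) (.leaf (126, 41, [1], 1488))) (.node (.leaf (120, 202, [6, 7], 948)) (.leaf (120, 239, [6, 7], 1902))))))) (.node (.node (.node (.node (.node (.leaf (123, 4, [4, 5], 26)) (.leaf (121, 27, [5, 6], 1056))) (.node (.leaf (135, 67, [3, 2], 488)) (.leaf (120, 60, [6, 7], 1546)))) (.node (.node (.leaf (120, 77, [2], 303)) (.leaf (121, 153, [5, 6], 1306))) (.node (.leaf (162, 190, [2, 0], 746)) (.leaf (141, 206, [3, 1], 1816))))) (.node (.node (.node (.leaf (162, 25, [2, 0], 109)) (.leaf (126, 124, [5, 4], 1173))) (.node (.leaf (162,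 116, [2, 0], 622)) (.leaf (126, 170, [1], 1705)))) (.node (.node (.leaf (121, 163, [7, 6], 321)) (.leaf (162, 20, [7], 1461))) (.node (.leaf (121, 207, [5, 6], 920)) (.leaf (120, 239, [6, 7], 1902)))))) (.node (.node (.node (.node (.leaf (126, 23, [5, 4], 79)) (.leaf (120, 59, [6, 7], 1098))) (.node (.leaf (141, 123, [3, 1], 553)) (.leaf (126, 128, [5, 4], 1621)))) (.node (.node (.leaf (126, 71, [5, 4], 241)) (.leaf (141, 196, [3, 1], 1368))) (.node (.leaf (126, 204, [3, 4], 843)) (.leaf (120, 239, [6, 7], 1902))))) (.node (.node (.node (.leaf (120, 95, [6, 7], 154)) (.leaf (126, 169, [1], 1257))) (.node (.leaf (135, 160, [3, 2], 681)) (.leaf (121, 154, [5, 6], 1754)))) (.node (.node (.leaf (123, 129, [6, 5], 417)) (.leaf (121, 28, [5, 6], 1504))) (.node (.leaf (162, 13, [7], 1013)) (.leaf (120, 239, [6, 7], 1902))))))))) (.node (.node (.node (.node (.node (.node (.node (.leaf (130, 0, [2, 3], 7)) (.leaf (126, 27, [3, 4],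 1026))) (.node (.leaf (123, 150, [6, 5], 441)) (.leaf (121, 83, [5, 6], 1521)))) (.node (.node (.leaf (120, 69, [5], 232)) (.leaf (130, 151, [1, 3], 1266))) (.node (.leaf (135, 173, [0, 2], 720)) (.leaf (123, 159, [4, 5], 1771))))) (.node (.node (.node (.leaf (135, 43, [5], 128)) (.leaf (120, 99, [6, 7], 1115))) (.node (.leaf (162, 111, [2, 0], 568)) (.leaf (130, 133, [4, 3], 1654)))) (.node (.node (.leaf (121, 96, [5, 6], 280)) (.leaf (130, 211, [4, 3], 1408))) (.node (.leaf (135, 238, [0, 2], 878)) (.leaf (120, 239, [6, 7], 1902)))))) (.node (.node (.node (.node (.leaf (123, 46, [3], 66)) (.leaf (121, 82, [5, 6], 1073))) (.node (.leaf (126, 138, [5, 4], 516)) (.leaf (120, 100, [6, 7], 1563)))) (.node (.node (.leaf (120, 175, [3], 331)) (.leaf (123, 157, [4, 5], 1323))) (.node (.leaf (162, 205, [2, 0], 792)) (.leaf (130, 215, [4, 3], 1856))))) (.node (.node (.node (.leaf (130, 32, [2, 3], 130)) (.leaf (130, 128, [4, 3], 1206)))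 (.node (.leaf (162, 144, [1], 712)) (.leaf (130, 155, [1, 3], 1714)))) (.node (.node (.leaf (141, 63, [4], 363)) (.leaf (126, 30, [3, 4], 1474))) (.node (.leaf (121, 232, [5, 6], 941)) (.leaf (120, 239, [6, 7], 1902))))))) (.node (.node (.node (.node (.node (.leaf (141, 12, [6], 43)) (.leaf (123, 57, [2], 1068))) (.node (.leaf (135, 110, [3, 2], 482)) (.leaf (162, 82, [2, 0], 1537)))) (.node (.node (.leaf (120, 46, [3], 294)) (.leaf (135, 174, [3, 2], 1297))) (.node (.leaf (141, 229, [0], 807)) (.leaf (120, 211, [4], 1836))))) (.node (.node (.node (.leaf (162, 27, [2, 0], 99)) (.leaf (141, 69, [3, 1], 1158))) (.node (.leaf (130, 201, [4, 3], 613)) (.leaf (141, 149, [2], 1692)))) (.node (.node (.leaf (121, 142, [7, 6], 313)) (.leaf (121, 237, [5, 6], 1453))) (.node (.leaf (123, 234, [4, 5], 913)) (.leaf (120, 239, [6, 7], 1902)))))) (.node (.node (.node (.node (.leaf (126, 13, [3, 4], 73)) (.leaf (162, 60, [2, 0], 1089))) (.node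 (.leaf (135, 116, [3, 2], 547)) (.leaf (141, 74, [3, 1], 1606)))) (.node (.node (.leaf (135, 80, [3, 2], 227)) (.leaf (120, 210, [4], 1388))) (.node (.leaf (162, 238, [6], 877)) (.leaf (121, 238, [5, 6], 1901))))) (.node (.node (.node (.leaf (130, 61, [2, 3], 150)) (.leaf (141, 138, [2], 1244))) (.node (.leaf (135, 194, [3, 2], 677)) (.leaf (135, 184, [3, 2], 1745)))) (.node (.node (.leaf (130, 120, [4, 3], 403)) (.leaf (123, 59, [2], 1516))) (.node (.leaf (120, 237, [5], 1005)) (.leaf (120, 239, [6, 7], 1902)))))))) (.node (.node (.node (.node (.node (.node (.leaf (126, 6, [3, 4], 18)) (.leaf (123, 17, [4, 5], 1034))) (.node (.leaf (123, 199, [6, 5], 457)) (.leaf (121, 112, [3], 1565)))) (.node (.node (.leaf (123, 120, [7], 251)) (.leaf (162, 158, [4], 1305))) (.node (.leaf (135, 208, [1], 762)) (.leaf (123, 192, [4, 5], 1793))))) (.node (.node (.node (.leaf (120, 2, [6, 7], 82)) (.leaf (162, 71, [1], 1175))) (.node (.leaf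 (130, 165, [4, 3], 597)) (.leaf (141, 145, [3, 1], 1678)))) (.node (.node (.leaf (121, 97, [7, 6], 297)) (.leaf (162, 220, [2, 0], 1430))) (.node (.leaf (123, 220, [4, 5], 892)) (.leaf (120, 239, [6, 7], 1902)))))) (.node (.node (.node (.node (.leaf (121, 15, [5, 6], 64)) (.leaf (121, 111, [3], 1117))) (.node (.leaf (126, 159, [5, 4], 532)) (.leaf (162, 99, [1], 1623)))) (.node (.node (.leaf (141, 57, [3, 1], 203)) (.leaf (123, 190, [4, 5], 1345))) (.node (.leaf (162, 213, [2, 0], 808)) (.leaf (162, 227, [2, 0], 1878))))) (.node (.node (.node (.leaf (130, 59, [2, 3], 142)) (.leaf (141, 133, [3, 1], 1230))) (.node (.leaf (135, 164, [3, 2], 669)) (.leaf (162, 180, [4], 1753)))) (.node (.node (.leaf (123, 35, [4, 5], 370)) (.leaf (123, 18, [4, 5], 1482))) (.node (.leaf (120, 222, [6, 7], 956)) (.leaf (120, 239, [6, 7], 1902))))))) (.node (.node (.node (.node (.node (.leaf (123, 8, [4, 5], 38)) (.leaf (121, 44, [5, 6], 1064)))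 (.node (.leaf (141, 120, [3, 1], 494)) (.leaf (130, 68, [2, 3], 1553)))) (.node (.node (.leaf (120, 138, [2], 308)) (.leaf (135, 182, [0, 2], 1313))) (.node (.leaf (162, 193, [2, 0], 764)) (.leaf (126, 210, [5, 4], 1828))))) (.node (.node (.node (.leaf (120, 51, [6, 7], 117)) (.leaf (135, 102, [0, 2], 1185))) (.node (.leaf (162, 125, [2, 0], 635)) (.leaf (162, 167, [2, 0], 1695)))) (.node (.node (.leaf (121, 170, [7, 6], 329)) (.leaf (130, 5, [2, 3], 1463))) (.node (.leaf (121, 223, [5, 6], 928)) (.leaf (120, 239, [6, 7], 1902)))))) (.node (.node (.node (.node (.leaf (135, 31, [4], 105)) (.leaf (130, 64, [2, 3], 1105))) (.node (.leaf (135, 75, [4], 628)) (.leaf (135, 108, [0, 2], 1633)))) (.node (.node (.leaf (141, 81, [3, 1], 263)) (.leaf (126, 207, [5, 4], 1380))) (.node (.leaf (126, 221, [3, 4], 859)) (.leaf (120, 239, [6, 7], 1902))))) (.node (.node (.node (.leaf (162, 47, [3], 202)) (.leaf (162, 139, [2, 0], 1247))) (.node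 (.leaf (135, 200, [3, 2], 685)) (.leaf (135, 192, [0, 2], 1761)))) (.node (.node (.leaf (123, 134, [6, 5], 425)) (.leaf (121, 45, [5, 6], 1512))) (.node (.leaf (130, 4, [2, 3], 1015)) (.leaf (120, 239, [6, 7], 1902)))))))))))) (.node (.node (.node (.node (.node (.node (.node (.node (.node (.node (.leaf (162, 1, [7], 0)) (.leaf (130, 22, [2, 3], 1018))) (.node (.leaf (123, 135, [6, 5], 428)) (.leaf (135, 60, [3, 2], 1514)))) (.node (.node (.leaf (123, 67, [3], 210)) (.leaf (123, 115, [4, 5], 1251))) (.node (.leaf (141, 183, [3, 1], 687)) (.leaf (126, 190, [2], 1781))))) (.node (.node (.node (.leaf (126, 57, [2], 108)) (.leaf (120, 62, [6, 7], 1108))) (.node (.leaf (135, 127, [4], 631)) (.leaf (135, 163, [0, 2], 1636)))) (.node (.node (.leaf (141, 82, [3, 1], 267)) (.leaf (121, 208, [5, 6], 1387))) (.node (.leaf (135, 226, [3, 2], 865)) (.leaf (120, 239, [6, 7], 1902)))))) (.node (.node (.node (.node (.leaf (130, 36, [1, 3],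 41)) (.leaf (135, 50, [3, 2], 1066))) (.node (.leaf (141, 113, [3, 1], 503)) (.leaf (120, 63, [6, 7], 1556)))) (.node (.node (.leaf (120, 163, [0], 311)) (.leaf (126, 187, [2], 1333))) (.node (.leaf (162, 199, [2, 0], 770)) (.leaf (121, 209, [5, 6], 1835))))) (.node (.node (.node (.leaf (130, 56, [4, 3], 120)) (.leaf (135, 162, [0, 2], 1188))) (.node (.leaf (162, 126, [2, 0], 639)) (.leaf (123, 118, [4, 5], 1699)))) (.node (.node (.leaf (121, 155, [7, 6], 332)) (.leaf (130, 26, [2, 3], 1466))) (.node (.leaf (121, 226, [5, 6], 931)) (.leaf (120, 239, [6, 7], 1902))))))) (.node (.node (.node (.node (.node (.leaf (141, 21, [3, 1], 20)) (.leaf (123, 31, [4, 5], 1040))) (.node (.leaf (130, 73, [1, 3], 465)) (.leaf (120, 13, [6, 7], 1523)))) (.node (.node (.leaf (162, 53, [4], 266)) (.leaf (162, 160, [5], 1310))) (.node (.leaf (141, 220, [2], 767)) (.leaf (120, 190, [6, 7], 1796))))) (.node (.node (.node (.leaf (120, 5, [6, 7],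 85)) (.leaf (162, 74, [1], 1179))) (.node (.leaf (130, 157, [4, 3], 600)) (.leaf (135, 140, [3, 2], 1679)))) (.node (.node (.leaf (121, 129, [7, 6], 300)) (.leaf (162, 221, [2, 0], 1434))) (.node (.leaf (123, 224, [4, 5], 895)) (.leaf (120, 239, [6, 7], 1902)))))) (.node (.node (.node (.node (.leaf (135, 11, [3, 2], 67)) (.leaf (120, 12, [6, 7], 1075))) (.node (.leaf (126, 181, [5, 4], 535)) (.leaf (162, 102, [1], 1627)))) (.node (.node (.leaf (141, 58, [3, 1], 209)) (.leaf (120, 189, [6, 7], 1348))) (.node (.leaf (130, 226, [1, 3], 811)) (.leaf (162, 228, [2, 0], 1882))))) (.node (.node (.node (.leaf (162, 44, [2, 0], 144)) (.leaf (135, 134, [3, 2], 1231))) (.node (.leaf (141, 156, [3, 1], 671)) (.leaf (162, 182, [5], 1758)))) (.node (.node (.leaf (130, 71, [4, 3], 374)) (.leaf (123, 33, [4, 5], 1488))) (.node (.leaf (120, 224, [6, 7], 959)) (.leaf (120, 239, [6, 7], 1902)))))))) (.node (.node (.node (.node (.node (.node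 (.leaf (130, 3, [2, 3], 10)) (.leaf (141, 29, [3, 1], 1028))) (.node (.leaf (123, 168, [6, 5], 444)) (.leaf (135, 64, [4], 1539)))) (.node (.node (.leaf (130, 83, [0], 238)) (.leaf (130, 170, [1, 3], 1269))) (.node (.leaf (141, 184, [2], 735)) (.leaf (120, 173, [6, 7], 1775))))) (.node (.node (.node (.leaf (126, 80, [0], 133)) (.leaf (123, 107, [6, 5], 1117))) (.node (.leaf (162, 120, [2, 0], 575)) (.leaf (130, 111, [2, 3], 1660)))) (.node (.node (.leaf (126, 118, [5, 4], 284)) (.leaf (123, 221, [6, 5], 1413))) (.node (.leaf (126, 234, [2], 906)) (.leaf (120, 239, [6, 7], 1902)))))) (.node (.node (.node (.node (.leaf (123, 78, [0], 80)) (.leaf (135, 54, [4], 1091))) (.node (.leaf (126, 146, [5, 4], 519)) (.leaf (123, 108, [6, 5], 1565)))) (.node (.node (.leaf (120, 185, [2], 334)) (.leaf (120, 172, [6, 7], 1327))) (.node (.leaf (130, 207, [1, 3], 795)) (.leaf (123, 222, [6, 5], 1861))))) (.node (.node (.node (.leaf (130, 58,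 [2, 3], 132)) (.leaf (130, 106, [2, 3], 1212))) (.node (.leaf (141, 76, [3, 1], 658)) (.leaf (130, 174, [1, 3], 1717)))) (.node (.node (.leaf (141, 64, [4], 371)) (.leaf (141, 39, [3, 1], 1476))) (.node (.leaf (121, 236, [4], 976)) (.leaf (120, 239, [6, 7], 1902))))))) (.node (.node (.node (.node (.node (.leaf (141, 13, [7], 46)) (.leaf (123, 80, [0], 1071))) (.node (.leaf (135, 114, [3, 2], 484)) (.leaf (120, 48, [6, 7], 1541)))) (.node (.node (.leaf (120, 98, [3], 297)) (.leaf (126, 175, [3, 4], 1299))) (.node (.leaf (162, 185, [2, 0], 725)) (.leaf (120, 227, [0], 1840))))) (.node (.node (.node (.leaf (123, 12, [4, 5], 104)) (.leaf (126, 74, [5, 4], 1163))) (.node (.leaf (130, 203, [4, 3], 616)) (.leaf (135, 150, [1], 1695)))) (.node (.node (.leaf (121, 137, [7, 6], 316)) (.leaf (162, 15, [1], 1456))) (.node (.leaf (121, 181, [5, 6], 915)) (.leaf (120, 239, [6, 7], 1902)))))) (.node (.node (.node (.node (.leaf (135, 39,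 [3, 2], 75)) (.leaf (120, 47, [6, 7], 1093))) (.node (.leaf (141, 122, [3, 1], 549)) (.leaf (126, 75, [5, 4], 1611)))) (.node (.node (.leaf (141, 51, [3, 1], 236)) (.leaf (120, 226, [0], 1392))) (.node (.leaf (126, 174, [3, 4], 838)) (.leaf (120, 239, [6, 7], 1902))))) (.node (.node (.node (.leaf (123, 71, [6, 5], 152)) (.leaf (135, 145, [1], 1247))) (.node (.leaf (141, 159, [3, 1], 679)) (.leaf (126, 178, [3, 4], 1747)))) (.node (.node (.leaf (123, 75, [6, 5], 412)) (.leaf (123, 82, [0], 1519))) (.node (.leaf (162, 8, [1], 1008)) (.leaf (120, 239, [6, 7], 1902))))))))) (.node (.node (.node (.node (.node (.node (.node (.leaf (135, 2, [0, 2], 2)) (.leaf (141, 14, [3, 1], 1024))) (.node (.leaf (123, 83, [6, 5], 436)) (.leaf (126, 63, [5, 4], 1519)))) (.node (.node (.leaf (162, 49, [3], 221)) (.leaf (162, 148, [2, 0], 1261))) (.node (.leaf (135, 141, [0, 2], 715)) (.leaf (120, 129, [6, 7], 1765))))) (.node (.node (.node (.leaf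 (121, 22, [4], 119)) (.leaf (123, 90, [6, 5], 1113))) (.node (.leaf (162, 114, [2, 0], 561)) (.leaf (130, 76, [4, 3], 1649)))) (.node (.node (.leaf (126, 72, [5, 4], 276)) (.leaf (141, 202, [4], 1403))) (.node (.leaf (135, 235, [3, 2], 869)) (.leaf (120, 239, [6, 7], 1902)))))) (.node (.node (.node (.node (.leaf (130, 13, [1, 3], 49)) (.leaf (126, 60, [5, 4], 1071))) (.node (.leaf (126, 65, [5, 4], 511)) (.leaf (123, 91, [6, 5], 1561)))) (.node (.node (.leaf (120, 170, [0], 324)) (.leaf (120, 128, [6, 7], 1317))) (.node (.leaf (130, 186, [2, 3], 781)) (.leaf (141, 212, [4], 1851))))) (.node (.node (.node (.leaf (123, 24, [4, 5], 127)) (.leaf (130, 75, [4, 3], 1201))) (.node (.leaf (162, 133, [3], 707)) (.leaf (162, 170, [2, 0], 1709)))) (.node (.node (.leaf (121, 196, [7, 6], 340)) (.leaf (141, 15, [3, 1], 1472))) (.node (.leaf (126, 237, [3, 4], 938)) (.leaf (120, 239, [6, 7], 1902))))))) (.node (.node (.node (.node (.node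 (.leaf (141, 22, [4], 33)) (.leaf (130, 43, [1, 3], 1049))) (.node (.leaf (130, 123, [5], 547)) (.leaf (162, 79, [2, 0], 1531)))) (.node (.node (.leaf (120, 97, [4], 281)) (.leaf (121, 144, [5, 6], 1287))) (.node (.leaf (141, 223, [2], 775)) (.leaf (120, 192, [5], 1825))))) (.node (.node (.node (.leaf (162, 26, [2, 0], 93)) (.leaf (141, 89, [3, 1], 1145))) (.node (.leaf (130, 160, [4, 3], 608)) (.leaf (126, 165, [3, 4], 1685)))) (.node (.node (.leaf (121, 134, [7, 6], 308)) (.leaf (135, 233, [0, 2], 1445))) (.node (.leaf (130, 236, [2, 3], 908)) (.leaf (120, 239, [6, 7], 1902)))))) (.node (.node (.node (.node (.leaf (135, 28, [3, 2], 71)) (.leaf (162, 57, [2, 0], 1083))) (.node (.leaf (126, 213, [5, 4], 543)) (.leaf (141, 100, [3, 1], 1593)))) (.node (.node (.leaf (141, 50, [3, 1], 224)) (.leaf (120, 191, [5], 1377))) (.node (.leaf (162, 217, [3], 862)) (.leaf (135, 234, [0, 2], 1893))))) (.node (.node (.node (.leaf (123,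 88, [6, 5], 148)) (.leaf (126, 164, [3, 4], 1237))) (.node (.leaf (141, 158, [3, 1], 675)) (.leaf (121, 145, [5, 6], 1735)))) (.node (.node (.leaf (130, 72, [4, 3], 393)) (.leaf (130, 49, [1, 3], 1497))) (.node (.leaf (123, 239, [4, 5], 973)) (.leaf (120, 239, [6, 7], 1902)))))))) (.node (.node (.node (.node (.node (.node (.leaf (141, 2, [3, 1], 16)) (.leaf (141, 33, [5], 1045))) (.node (.leaf (123, 161, [6, 5], 452)) (.leaf (121, 90, [3], 1558)))) (.node (.node (.leaf (120, 96, [5], 246)) (.leaf (162, 155, [3], 1295))) (.node (.leaf (141, 190, [2], 755)) (.leaf (120, 187, [6, 7], 1788))))) (.node (.node (.node (.leaf (121, 99, [1], 148)) (.leaf (162, 68, [3], 1149))) (.node (.leaf (130, 139, [4, 3], 592)) (.leaf (141, 142, [3, 1], 1675)))) (.node (.node (.leaf (121, 92, [7, 6], 292)) (.leaf (126, 229, [5, 4], 1426))) (.node (.leaf (123, 210, [4, 5], 887)) (.leaf (120, 239, [6, 7], 1902)))))) (.node (.node (.node (.node (.leaf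 (135, 9, [3, 2], 59)) (.leaf (121, 89, [3], 1110))) (.node (.leaf (126, 167, [5, 4], 527)) (.leaf (162, 90, [3], 1597)))) (.node (.node (.leaf (141, 46, [3, 1], 191)) (.leaf (120, 186, [6, 7], 1340))) (.node (.leaf (130, 209, [1, 3], 803)) (.leaf (126, 230, [5, 4], 1874))))) (.node (.node (.node (.leaf (123, 84, [4, 5], 139)) (.leaf (141, 130, [3, 1], 1227))) (.node (.leaf (135, 155, [3, 2], 666)) (.leaf (162, 177, [3], 1743)))) (.node (.node (.leaf (126, 121, [6], 401)) (.leaf (141, 43, [5], 1493))) (.node (.leaf (120, 212, [6, 7], 951)) (.leaf (120, 239, [6, 7], 1902))))))) (.node (.node (.node (.node (.node (.leaf (123, 14, [4, 5], 32)) (.leaf (135, 46, [3, 2], 1059))) (.node (.leaf (141, 111, [3, 1], 491)) (.leaf (130, 89, [4, 3], 1549)))) (.node (.node (.leaf (120, 142, [1], 306)) (.leaf (135, 179, [0, 2], 1309))) (.node (.leaf (162, 191, [2, 0], 754)) (.leaf (141, 208, [3, 1], 1819))))) (.node (.node (.node (.leaf (123,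 20, [4, 5], 112)) (.leaf (126, 125, [5, 4], 1180))) (.node (.leaf (162, 96, [2, 0], 627)) (.leaf (141, 173, [0], 1714)))) (.node (.node (.leaf (121, 148, [7, 6], 324)) (.leaf (135, 21, [0, 2], 1458))) (.node (.leaf (121, 214, [5, 6], 923)) (.leaf (120, 239, [6, 7], 1902)))))) (.node (.node (.node (.node (.leaf (121, 59, [5, 6], 80)) (.leaf (130, 85, [4, 3], 1101))) (.node (.leaf (135, 124, [3, 2], 554)) (.leaf (126, 129, [5, 4], 1628)))) (.node (.node (.leaf (126, 105, [5, 4], 247)) (.leaf (141, 198, [3, 1], 1371))) (.node (.leaf (126, 214, [3, 4], 849)) (.leaf (120, 239, [6, 7], 1902))))) (.node (.node (.node (.leaf (123, 110, [6, 5], 156)) (.leaf (141, 168, [0], 1266))) (.node (.leaf (141, 182, [3, 1], 683)) (.leaf (135, 189, [0, 2], 1757)))) (.node (.node (.leaf (123, 76, [6, 5], 420)) (.leaf (135, 56, [3, 2], 1507))) (.node (.leaf (135, 16, [0, 2], 1010)) (.leaf (120, 239, [6, 7], 1902)))))))))) (.node (.node (.node (.node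 (.node (.node (.node (.node (.leaf (162, 5, [3], 4)) (.leaf (141, 5, [3, 1], 1022))) (.node (.leaf (123, 145, [6, 5], 432)) (.leaf (121, 47, [5, 6], 1516)))) (.node (.node (.leaf (120, 23, [5], 214)) (.leaf (123, 165, [4, 5], 1257))) (.node (.leaf (141, 217, [3, 1], 689)) (.leaf (121, 195, [3], 1796))))) (.node (.node (.node (.leaf (126, 58, [2], 114)) (.leaf (162, 65, [2, 0], 1111))) (.node (.leaf (135, 129, [4], 635)) (.leaf (141, 75, [4], 1646)))) (.node (.node (.leaf (141, 83, [3, 1], 273)) (.leaf (121, 220, [7, 6], 1392))) (.node (.leaf (135, 228, [3, 2], 867)) (.leaf (120, 239, [6, 7], 1902)))))) (.node (.node (.node (.node (.leaf (130, 37, [1, 3], 45)) (.leaf (121, 46, [5, 6], 1068))) (.node (.leaf (126, 104, [5, 4], 506)) (.leaf (162, 87, [2, 0], 1559)))) (.node (.node (.leaf (120, 165, [0], 316)) (.leaf (121, 194, [3], 1348))) (.node (.leaf (130, 147, [2, 3], 777)) (.leaf (121, 221, [7, 6], 1840))))) (.node (.node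 (.node (.leaf (162, 30, [2, 0], 124)) (.leaf (141, 70, [4], 1198))) (.node (.leaf (162, 98, [3], 703)) (.leaf (123, 166, [4, 5], 1705)))) (.node (.node (.leaf (121, 184, [7, 6], 336)) (.leaf (141, 7, [3, 1], 1470))) (.node (.leaf (121, 233, [5, 6], 935)) (.leaf (120, 239, [6, 7], 1902))))))) (.node (.node (.node (.node (.node (.leaf (141, 10, [4], 29)) (.leaf (130, 41, [1, 3], 1045))) (.node (.leaf (130, 122, [4, 3], 474)) (.leaf (120, 32, [6, 7], 1527)))) (.node (.node (.leaf (162, 54, [4], 272)) (.leaf (121, 127, [5, 6], 1282))) (.node (.leaf (141, 221, [2], 771)) (.leaf (120, 206, [6, 7], 1798))))) (.node (.node (.node (.leaf (162, 21, [2, 0], 89)) (.leaf (141, 66, [3, 1], 1139))) (.node (.leaf (130, 178, [4, 3], 604)) (.leaf (126, 131, [3, 4], 1683)))) (.node (.node (.leaf (121, 104, [7, 6], 304)) (.leaf (162, 225, [1], 1444))) (.node (.leaf (123, 230, [4, 5], 902)) (.leaf (120, 239, [6, 7], 1902)))))) (.node (.node (.node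 (.node (.leaf (135, 37, [3, 2], 69)) (.leaf (120, 31, [6, 7], 1079))) (.node (.leaf (126, 192, [5, 4], 539)) (.leaf (141, 71, [3, 1], 1587)))) (.node (.node (.leaf (141, 49, [3, 1], 220)) (.leaf (120, 205, [6, 7], 1350))) (.node (.leaf (130, 233, [1, 3], 815)) (.leaf (162, 233, [1], 1892))))) (.node (.node (.node (.leaf (123, 28, [6, 5], 146)) (.leaf (126, 130, [3, 4], 1235))) (.node (.leaf (141, 157, [3, 1], 673)) (.leaf (121, 128, [5, 6], 1730)))) (.node (.node (.leaf (130, 117, [4, 3], 378)) (.leaf (130, 47, [1, 3], 1493))) (.node (.leaf (120, 230, [6, 7], 963)) (.leaf (120, 239, [6, 7], 1902)))))))) (.node (.node (.node (.node (.node (.node (.leaf (141, 0, [3, 1], 14)) (.leaf (141, 31, [4], 1039))) (.node (.leaf (123, 173, [6, 5], 448)) (.leaf (126, 86, [6], 1549)))) (.node (.node (.leaf (120, 74, [5], 242)) (.leaf (130, 173, [1, 3], 1273))) (.node (.leaf (141, 188, [2], 749)) (.leaf (120, 177, [6, 7], 1783))))) (.node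 (.node (.node (.leaf (135, 35, [6], 143)) (.leaf (123, 121, [6, 5], 1119))) (.node (.leaf (130, 143, [4, 3], 588)) (.leaf (130, 164, [2, 3], 1665)))) (.node (.node (.leaf (135, 84, [0, 2], 288)) (.leaf (135, 214, [3, 2], 1421))) (.node (.leaf (123, 194, [4, 5], 883)) (.leaf (120, 239, [6, 7], 1902)))))) (.node (.node (.node (.node (.leaf (121, 5, [5, 6], 55)) (.leaf (126, 83, [6], 1101))) (.node (.leaf (126, 163, [5, 4], 523)) (.leaf (123, 124, [6, 5], 1567)))) (.node (.node (.leaf (120, 204, [1], 340)) (.leaf (120, 176, [6, 7], 1335))) (.node (.leaf (130, 219, [1, 3], 799)) (.leaf (135, 219, [3, 2], 1869))))) (.node (.node (.node (.leaf (120, 54, [6, 7], 136)) (.leaf (130, 163, [2, 3], 1217))) (.node (.leaf (135, 153, [3, 2], 662)) (.leaf (130, 177, [1, 3], 1721)))) (.node (.node (.leaf (141, 86, [4], 389)) (.leaf (141, 41, [4], 1487))) (.node (.leaf (120, 199, [6, 7], 947)) (.leaf (120, 239, [6, 7], 1902))))))) (.node (.node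 (.node (.node (.node (.leaf (123, 1, [4, 5], 24)) (.leaf (121, 23, [5, 6], 1055))) (.node (.leaf (135, 119, [3, 2], 486)) (.leaf (130, 67, [4, 3], 1545)))) (.node (.node (.leaf (120, 56, [2], 302)) (.leaf (126, 177, [3, 4], 1301))) (.node (.leaf (162, 189, [2, 0], 742)) (.leaf (141, 205, [3, 1], 1815))))) (.node (.node (.node (.leaf (123, 52, [4, 5], 108)) (.leaf (126, 123, [5, 4], 1171))) (.node (.leaf (162, 112, [2, 0], 620)) (.leaf (141, 170, [4], 1704)))) (.node (.node (.leaf (121, 162, [7, 6], 320)) (.leaf (162, 19, [6], 1460))) (.node (.leaf (121, 203, [5, 6], 919)) (.leaf (120, 239, [6, 7], 1902)))))) (.node (.node (.node (.node (.leaf (121, 49, [5, 6], 78)) (.leaf (130, 63, [4, 3], 1097))) (.node (.leaf (135, 113, [3, 2], 552)) (.leaf (126, 127, [5, 4], 1619)))) (.node (.node (.leaf (126, 43, [5, 4], 239)) (.leaf (141, 195, [3, 1], 1367))) (.node (.leaf (126, 196, [3, 4], 842)) (.leaf (120, 239, [6, 7], 1902))))) (.node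 (.node (.node (.leaf (123, 93, [6, 5], 154)) (.leaf (141, 165, [4], 1256))) (.node (.leaf (141, 160, [3, 1], 681)) (.leaf (126, 180, [3, 4], 1749)))) (.node (.node (.leaf (123, 128, [6, 5], 416)) (.leaf (121, 24, [5, 6], 1503))) (.node (.leaf (162, 12, [6], 1012)) (.leaf (120, 239, [6, 7], 1902))))))))) (.node (.node (.node (.node (.node (.node (.node (.leaf (135, 15, [0, 2], 6)) (.leaf (141, 27, [3, 1], 1026))) (.node (.leaf (123, 164, [6, 5], 440)) (.leaf (126, 85, [5, 4], 1521)))) (.node (.node (.leaf (120, 27, [5], 230)) (.leaf (162, 150, [2, 0], 1265))) (.node (.leaf (135, 172, [0, 2], 719)) (.leaf (120, 146, [6, 7], 1769))))) (.node (.node (.node (.leaf (135, 33, [5], 126)) (.leaf (123, 101, [6, 5], 1115))) (.node (.leaf (162, 106, [2, 0], 567)) (.leaf (130, 132, [4, 3], 1653)))) (.node (.node (.leaf (126, 94, [5, 4], 280)) (.leaf (130, 210, [4, 3], 1406))) (.node (.leaf (135, 237, [0, 2], 877)) (.leaf (120, 239, [6,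 7], 1902)))))) (.node (.node (.node (.node (.leaf (123, 16, [3], 64)) (.leaf (126, 82, [5, 4], 1073))) (.node (.leaf (126, 144, [5, 4], 515)) (.leaf (123, 102, [6, 5], 1563)))) (.node (.node (.leaf (120, 174, [3], 329)) (.leaf (120, 145, [6, 7], 1321))) (.node (.leaf (130, 205, [1, 3], 791)) (.leaf (130, 214, [4, 3], 1854))))) (.node (.node (.node (.leaf (162, 32, [2, 0], 130)) (.leaf (130, 127, [4, 3], 1205))) (.node (.leaf (162, 143, [1], 711)) (.leaf (162, 172, [2, 0], 1713)))) (.node (.node (.leaf (141, 53, [4], 361)) (.leaf (141, 37, [3, 1], 1474))) (.node (.leaf (126, 239, [3, 4], 940)) (.leaf (120, 239, [6, 7], 1902))))))) (.node (.node (.node (.node (.node (.leaf (141, 23, [5], 41)) (.leaf (123, 48, [3], 1064))) (.node (.leaf (135, 71, [3, 2], 481)) (.leaf (162, 81, [2, 0], 1535)))) (.node (.node (.leaf (162, 55, [5], 293)) (.leaf (121, 149, [5, 6], 1296))) (.node (.leaf (141, 228, [0], 805)) (.leaf (120, 201, [4],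 1834))))) (.node (.node (.node (.leaf (162, 23, [2, 0], 97)) (.leaf (135, 90, [3, 2], 1154))) (.node (.leaf (130, 200, [4, 3], 612)) (.leaf (135, 148, [1], 1691)))) (.node (.node (.leaf (121, 141, [7, 6], 312)) (.leaf (123, 236, [4, 5], 1452))) (.node (.leaf (123, 232, [4, 5], 912)) (.leaf (120, 239, [6, 7], 1902)))))) (.node (.node (.node (.node (.leaf (135, 13, [3, 2], 73)) (.leaf (162, 59, [2, 0], 1087))) (.node (.leaf (141, 116, [3, 1], 547)) (.leaf (135, 95, [3, 2], 1602)))) (.node (.node (.leaf (141, 80, [3, 1], 227)) (.leaf (120, 200, [4], 1386))) (.node (.leaf (162, 237, [5], 876)) (.leaf (123, 237, [4, 5], 1900))))) (.node (.node (.node (.leaf (162, 45, [2, 0], 150)) (.leaf (135, 143, [1], 1243))) (.node (.leaf (141, 178, [3, 1], 677)) (.leaf (121, 150, [5, 6], 1744)))) (.node (.node (.leaf (130, 118, [4, 3], 401)) (.leaf (123, 50, [3], 1512))) (.node (.leaf (120, 236, [6, 7], 977)) (.leaf (120, 239, [6, 7], 1902))))))))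 (.node (.node (.node (.node (.node (.node (.leaf (141, 9, [3, 1], 18)) (.leaf (123, 10, [4, 5], 1032))) (.node (.leaf (123, 193, [6, 5], 456)) (.leaf (121, 107, [2], 1563)))) (.node (.node (.leaf (120, 113, [5], 250)) (.leaf (162, 157, [4], 1304))) (.node (.leaf (141, 192, [2], 761)) (.leaf (123, 191, [4, 5], 1792))))) (.node (.node (.node (.leaf (121, 114, [4], 156)) (.leaf (120, 117, [5], 1174))) (.node (.leaf (130, 162, [4, 3], 596)) (.leaf (135, 138, [3, 2], 1677)))) (.node (.node (.leaf (121, 103, [7, 6], 296)) (.leaf (162, 219, [2, 0], 1429))) (.node (.leaf (123, 219, [4, 5], 891)) (.leaf (120, 239, [6, 7], 1902)))))) (.node (.node (.node (.node (.leaf (135, 26, [3, 2], 63)) (.leaf (121, 106, [2], 1115))) (.node (.leaf (126, 172, [5, 4], 531)) (.leaf (120, 118, [5], 1622)))) (.node (.node (.leaf (141, 47, [3, 1], 200)) (.leaf (123, 189, [4, 5], 1344))) (.node (.leaf (130, 222, [1, 3], 807)) (.leaf (162, 226, [2, 0],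 1877))))) (.node (.node (.node (.leaf (162, 43, [2, 0], 142)) (.leaf (135, 132, [3, 2], 1229))) (.node (.leaf (141, 162, [3, 1], 669)) (.leaf (162, 179, [4], 1752)))) (.node (.node (.leaf (141, 87, [5], 469)) (.leaf (123, 11, [4, 5], 1480))) (.node (.leaf (120, 221, [6, 7], 955)) (.leaf (120, 239, [6, 7], 1902))))))) (.node (.node (.node (.node (.node (.leaf (130, 10, [1, 3], 37)) (.leaf (135, 48, [3, 2], 1063))) (.node (.leaf (135, 118, [3, 2], 493)) (.leaf (162, 86, [2, 0], 1553)))) (.node (.node (.leaf (120, 144, [1], 308)) (.leaf (135, 181, [0, 2], 1312))) (.node (.leaf (162, 198, [2, 0], 762)) (.leaf (121, 193, [5, 6], 1822))))) (.node (.node (.node (.leaf (120, 16, [6, 7], 116)) (.leaf (135, 101, [0, 2], 1184))) (.node (.leaf (162, 124, [2, 0], 633)) (.leaf (162, 166, [2, 0], 1693)))) (.node (.node (.leaf (121, 169, [7, 6], 328)) (.leaf (135, 25, [0, 2], 1462))) (.node (.leaf (121, 218, [5, 6], 927)) (.leaf (120, 239,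 [6, 7], 1902)))))) (.node (.node (.node (.node (.leaf (135, 40, [4], 101)) (.leaf (162, 64, [2, 0], 1105))) (.node (.leaf (135, 70, [4], 627)) (.leaf (135, 107, [0, 2], 1632)))) (.node (.node (.leaf (121, 69, [5, 6], 257)) (.leaf (121, 192, [5, 6], 1374))) (.node (.leaf (126, 216, [3, 4], 857)) (.leaf (120, 239, [6, 7], 1902))))) (.node (.node (.node (.leaf (162, 46, [3], 198)) (.leaf (162, 138, [2, 0], 1245))) (.node (.leaf (141, 214, [3, 1], 685)) (.leaf (135, 191, [0, 2], 1760)))) (.node (.node (.leaf (123, 133, [6, 5], 424)) (.leaf (135, 58, [3, 2], 1511))) (.node (.leaf (135, 20, [0, 2], 1014)) (.leaf (120, 239, [6, 7], 1902))))))))))) (.node (.node (.node (.node (.node (.node (.node (.node (.node (.leaf (162, 3, [5], 2)) (.leaf (130, 24, [2, 3], 1020))) (.node (.leaf (123, 142, [6, 5], 430)) (.leaf (135, 61, [3, 2], 1515)))) (.node (.node (.leaf (120, 18, [5], 212)) (.leaf (123, 131, [4, 5], 1253))) (.node (.leaf (141,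 216, [3, 1], 688)) (.leaf (121, 179, [4], 1783))))) (.node (.node (.node (.leaf (126, 25, [2], 112)) (.leaf (123, 86, [4, 5], 1109))) (.node (.leaf (135, 128, [4], 633)) (.leaf (141, 106, [2], 1641)))) (.node (.node (.leaf (121, 91, [5, 6], 268)) (.leaf (121, 211, [7, 6], 1390))) (.node (.leaf (135, 227, [3, 2], 866)) (.leaf (120, 239, [6, 7], 1902)))))) (.node (.node (.node (.node (.leaf (130, 11, [1, 3], 43)) (.leaf (135, 51, [3, 2], 1067))) (.node (.leaf (126, 55, [5, 4], 504)) (.leaf (123, 87, [4, 5], 1557)))) (.node (.node (.leaf (120, 164, [0], 314)) (.leaf (121, 178, [4], 1335))) (.node (.leaf (162, 203, [2, 0], 774)) (.leaf (121, 212, [7, 6], 1838))))) (.node (.node (.node (.leaf (130, 78, [4, 3], 122)) (.leaf (141, 94, [2], 1193))) (.node (.leaf (162, 128, [2, 0], 643)) (.leaf (123, 132, [4, 5], 1701)))) (.node (.node (.leaf (121, 177, [7, 6], 334)) (.leaf (130, 28, [2, 3], 1468))) (.node (.leaf (121, 230, [5, 6],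 933)) (.leaf (120, 239, [6, 7], 1902))))))) (.node (.node (.node (.node (.node (.leaf (141, 4, [4], 27)) (.leaf (130, 40, [1, 3], 1043))) (.node (.leaf (130, 116, [4, 3], 472)) (.leaf (120, 25, [6, 7], 1525)))) (.node (.node (.leaf (120, 70, [4], 270)) (.leaf (121, 117, [5, 6], 1280))) (.node (.leaf (141, 193, [2], 769)) (.leaf (120, 196, [6, 7], 1797))))) (.node (.node (.node (.leaf (120, 14, [6, 7], 87)) (.leaf (162, 75, [4], 1185))) (.node (.leaf (130, 158, [4, 3], 602)) (.leaf (126, 115, [3, 4], 1681)))) (.node (.node (.leaf (121, 48, [7, 6], 302)) (.leaf (162, 223, [2, 0], 1436))) (.node (.leaf (123, 226, [4, 5], 898)) (.leaf (120, 239, [6, 7], 1902)))))) (.node (.node (.node (.node (.leaf (135, 27, [3, 2], 68)) (.leaf (120, 24, [6, 7], 1077))) (.node (.leaf (126, 161, [5, 4], 537)) (.leaf (162, 103, [4], 1633)))) (.node (.node (.leaf (141, 79, [3, 1], 216)) (.leaf (120, 195, [6, 7], 1349))) (.node (.leaf (130, 228, [1,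 3], 813)) (.leaf (162, 230, [2, 0], 1884))))) (.node (.node (.node (.leaf (130, 80, [4, 3], 145)) (.leaf (126, 111, [3, 4], 1233))) (.node (.leaf (141, 175, [3, 1], 672)) (.leaf (121, 119, [5, 6], 1728)))) (.node (.node (.leaf (130, 93, [4, 3], 376)) (.leaf (130, 46, [1, 3], 1491))) (.node (.leaf (120, 228, [6, 7], 961)) (.leaf (120, 239, [6, 7], 1902)))))))) (.node (.node (.node (.node (.node (.node (.leaf (130, 14, [2, 3], 12)) (.leaf (141, 30, [4], 1037))) (.node (.leaf (123, 172, [6, 5], 446)) (.leaf (121, 54, [4], 1542)))) (.node (.node (.leaf (120, 37, [5], 240)) (.leaf (130, 171, [1, 3], 1271))) (.node (.leaf (141, 186, [2], 743)) (.leaf (123, 182, [4, 5], 1781))))) (.node (.node (.node (.leaf (121, 66, [3], 138)) (.leaf (123, 112, [6, 5], 1118))) (.node (.leaf (130, 77, [4, 3], 586)) (.leaf (130, 113, [2, 3], 1662)))) (.node (.node (.leaf (126, 120, [5, 4], 286)) (.leaf (130, 212, [1, 3], 1417))) (.node (.leaf (123,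 178, [4, 5], 881)) (.leaf (120, 239, [6, 7], 1902)))))) (.node (.node (.node (.node (.leaf (121, 3, [5, 6], 53)) (.leaf (121, 53, [4], 1094))) (.node (.leaf (126, 87, [5, 4], 521)) (.leaf (123, 113, [6, 5], 1566)))) (.node (.node (.leaf (120, 188, [4], 337)) (.leaf (123, 180, [4, 5], 1333))) (.node (.leaf (130, 208, [1, 3], 797)) (.leaf (130, 216, [1, 3], 1865))))) (.node (.node (.node (.leaf (120, 10, [6, 7], 134)) (.leaf (130, 108, [2, 3], 1214))) (.node (.leaf (141, 152, [3, 1], 660)) (.leaf (130, 175, [1, 3], 1719)))) (.node (.node (.leaf (141, 84, [4], 382)) (.leaf (141, 40, [4], 1485))) (.node (.leaf (120, 183, [6, 7], 945)) (.leaf (120, 239, [6, 7], 1902))))))) (.node (.node (.node (.node (.node (.leaf (141, 25, [7], 48)) (.leaf (121, 11, [5, 6], 1053))) (.node (.leaf (135, 117, [3, 2], 485)) (.leaf (130, 66, [4, 3], 1543)))) (.node (.node (.leaf (120, 131, [3], 299)) (.leaf (126, 176, [3, 4], 1300))) (.node (.leaf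 (162, 187, [2, 0], 729)) (.leaf (121, 183, [5, 6], 1811))))) (.node (.node (.node (.leaf (123, 19, [4, 5], 106)) (.leaf (126, 96, [5, 4], 1167))) (.node (.leaf (162, 95, [2, 0], 618)) (.leaf (135, 151, [1], 1697)))) (.node (.node (.leaf (121, 140, [7, 6], 318)) (.leaf (162, 17, [4], 1458))) (.node (.leaf (121, 197, [5, 6], 917)) (.leaf (120, 239, [6, 7], 1902)))))) (.node (.node (.node (.node (.leaf (121, 9, [5, 6], 76)) (.leaf (130, 62, [4, 3], 1095))) (.node (.leaf (135, 69, [3, 2], 550)) (.leaf (126, 97, [5, 4], 1615)))) (.node (.node (.leaf (141, 61, [3, 1], 238)) (.leaf (121, 182, [5, 6], 1363))) (.node (.leaf (126, 194, [3, 4], 840)) (.leaf (120, 239, [6, 7], 1902))))) (.node (.node (.node (.leaf (123, 99, [6, 5], 153)) (.leaf (135, 146, [1], 1249))) (.node (.leaf (141, 180, [3, 1], 680)) (.leaf (126, 179, [3, 4], 1748)))) (.node (.node (.leaf (123, 97, [6, 5], 414)) (.leaf (121, 12, [5, 6], 1501))) (.node (.leaf (162,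 10, [4], 1010)) (.leaf (120, 239, [6, 7], 1902))))))))) (.node (.node (.node (.node (.node (.node (.node (.leaf (135, 4, [0, 2], 4)) (.leaf (141, 26, [3, 1], 1025))) (.node (.leaf (123, 163, [6, 5], 438)) (.leaf (126, 84, [5, 4], 1520)))) (.node (.node (.leaf (130, 82, [0], 226)) (.leaf (162, 149, [2, 0], 1263))) (.node (.leaf (135, 170, [0, 2], 717)) (.leaf (120, 140, [6, 7], 1767))))) (.node (.node (.node (.leaf (126, 79, [6], 122)) (.leaf (123, 73, [6, 5], 1114))) (.node (.leaf (162, 119, [2, 0], 565)) (.leaf (130, 98, [4, 3], 1651)))) (.node (.node (.leaf (126, 100, [5, 4], 278)) (.leaf (141, 203, [5], 1417))) (.node (.leaf (135, 230, [0, 2], 875)) (.leaf (120, 239, [6, 7], 1902)))))) (.node (.node (.node (.node (.leaf (130, 39, [1, 3], 51)) (.leaf (126, 81, [5, 4], 1072))) (.node (.leaf (126, 135, [5, 4], 513)) (.leaf (123, 74, [6, 5], 1562)))) (.node (.node (.leaf (120, 171, [0], 326)) (.leaf (120, 139, [6, 7], 1319)))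 (.node (.leaf (130, 204, [1, 3], 789)) (.leaf (141, 213, [5], 1865))))) (.node (.node (.node (.leaf (130, 57, [2, 3], 128)) (.leaf (130, 97, [4, 3], 1203))) (.node (.leaf (162, 141, [1], 709)) (.leaf (162, 171, [2, 0], 1711)))) (.node (.node (.leaf (141, 52, [4], 357)) (.leaf (141, 36, [3, 1], 1473))) (.node (.leaf (126, 238, [3, 4], 939)) (.leaf (120, 239, [6, 7], 1902))))))) (.node (.node (.node (.node (.node (.leaf (141, 11, [5], 37)) (.leaf (130, 45, [1, 3], 1051))) (.node (.leaf (130, 125, [5], 549)) (.leaf (162, 80, [2, 0], 1533)))) (.node (.node (.leaf (120, 126, [4], 285)) (.leaf (126, 154, [3, 4], 1292))) (.node (.leaf (141, 226, [0], 799)) (.leaf (123, 208, [7], 1828))))) (.node (.node (.node (.leaf (162, 36, [2, 0], 95)) (.leaf (141, 68, [3, 1], 1150))) (.node (.leaf (130, 182, [4, 3], 610)) (.leaf (126, 143, [3, 4], 1686)))) (.node (.node (.leaf (121, 77, [7, 6], 310)) (.leaf (130, 234, [2, 3], 1449))) (.node (.leaf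 (130, 238, [2, 3], 910)) (.leaf (120, 239, [6, 7], 1902)))))) (.node (.node (.node (.node (.leaf (135, 38, [3, 2], 72)) (.leaf (162, 58, [2, 0], 1085))) (.node (.leaf (135, 73, [3, 2], 545)) (.leaf (141, 73, [3, 1], 1598)))) (.node (.node (.leaf (141, 60, [3, 1], 226)) (.leaf (123, 206, [7], 1380))) (.node (.leaf (162, 218, [4], 873)) (.leaf (130, 235, [2, 3], 1897))))) (.node (.node (.node (.leaf (162, 35, [2, 0], 149)) (.leaf (126, 142, [3, 4], 1238))) (.node (.leaf (141, 177, [3, 1], 676)) (.leaf (126, 157, [3, 4], 1740)))) (.node (.node (.leaf (130, 94, [4, 3], 397)) (.leaf (130, 51, [1, 3], 1499))) (.node (.leaf (120, 234, [6, 7], 975)) (.leaf (120, 239, [6, 7], 1902)))))))) (.node (.node (.node (.node (.node (.node (.leaf (141, 3, [3, 1], 17)) (.leaf (141, 35, [6], 1050))) (.node (.leaf (123, 187, [6, 5], 454)) (.leaf (121, 101, [1], 1561)))) (.node (.node (.leaf (120, 108, [5], 248)) (.leaf (123, 174, [3], 1298))) (.node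 (.leaf (141, 191, [2], 759)) (.leaf (130, 198, [2, 3], 1790))))) (.node (.node (.node (.leaf (121, 105, [2], 153)) (.leaf (162, 69, [3], 1157))) (.node (.leaf (130, 140, [4, 3], 594)) (.leaf (135, 137, [3, 2], 1676)))) (.node (.node (.leaf (121, 42, [7, 6], 294)) (.leaf (135, 217, [3, 2], 1428))) (.node (.leaf (123, 214, [4, 5], 889)) (.leaf (120, 239, [6, 7], 1902)))))) (.node (.node (.node (.node (.leaf (135, 10, [3, 2], 61)) (.leaf (121, 100, [1], 1113))) (.node (.leaf (126, 168, [5, 4], 529)) (.leaf (162, 91, [3], 1605)))) (.node (.node (.leaf (141, 78, [3, 1], 195)) (.leaf (130, 192, [2, 3], 1342))) (.node (.leaf (130, 221, [1, 3], 805)) (.leaf (135, 222, [3, 2], 1876))))) (.node (.node (.node (.leaf (162, 33, [2, 0], 141)) (.leaf (135, 131, [3, 2], 1228))) (.node (.leaf (141, 104, [3, 1], 668)) (.leaf (123, 175, [3], 1746)))) (.node (.node (.leaf (141, 55, [5], 463)) (.leaf (141, 45, [6], 1498))) (.node (.leaf (120,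 216, [6, 7], 953)) (.leaf (120, 239, [6, 7], 1902))))))) (.node (.node (.node (.node (.node (.leaf (130, 7, [1, 3], 35)) (.leaf (135, 47, [3, 2], 1061))) (.node (.leaf (135, 115, [3, 2], 492)) (.leaf (162, 84, [2, 0], 1551)))) (.node (.node (.leaf (120, 143, [1], 307)) (.leaf (126, 185, [5, 4], 1311))) (.node (.leaf (162, 192, [2, 0], 758)) (.leaf (141, 209, [3, 1], 1820))))) (.node (.node (.node (.leaf (123, 53, [4, 5], 114)) (.leaf (135, 99, [0, 2], 1182))) (.node (.leaf (162, 113, [2, 0], 629)) (.leaf (162, 164, [2, 0], 1688)))) (.node (.node (.leaf (121, 151, [7, 6], 326)) (.leaf (135, 23, [0, 2], 1460))) (.node (.leaf (121, 219, [5, 6], 925)) (.leaf (120, 239, [6, 7], 1902)))))) (.node (.node (.node (.node (.leaf (121, 81, [5, 6], 81)) (.leaf (162, 62, [2, 0], 1103))) (.node (.leaf (135, 125, [3, 2], 555)) (.leaf (135, 105, [0, 2], 1630)))) (.node (.node (.leaf (126, 119, [5, 4], 251)) (.leaf (141, 199, [3, 1], 1372)))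 (.node (.leaf (126, 219, [3, 4], 853)) (.leaf (120, 239, [6, 7], 1902))))) (.node (.node (.node (.leaf (123, 119, [6, 5], 157)) (.leaf (162, 136, [2, 0], 1240))) (.node (.leaf (141, 161, [3, 1], 684)) (.leaf (126, 188, [5, 4], 1759)))) (.node (.node (.leaf (123, 98, [6, 5], 422)) (.leaf (135, 57, [3, 2], 1509))) (.node (.leaf (135, 18, [0, 2], 1012)) (.leaf (120, 239, [6, 7], 1902)))))))))) (.node (.node (.node (.node (.node (.node (.node (.node (.leaf (135, 0, [0, 2], 0)) (.leaf (141, 6, [3, 1], 1023))) (.node (.leaf (123, 146, [6, 5], 434)) (.leaf (126, 62, [5, 4], 1518)))) (.node (.node (.leaf (130, 81, [5], 216)) (.leaf (123, 143, [4, 5], 1259))) (.node (.leaf (141, 218, [3, 1], 690)) (.leaf (120, 122, [6, 7], 1763))))) (.node (.node (.node (.leaf (121, 17, [4], 116)) (.leaf (123, 68, [6, 5], 1112))) (.node (.leaf (162, 105, [2, 0], 557)) (.leaf (141, 103, [4], 1655)))) (.node (.node (.leaf (126, 44, [5, 4], 274)) (.leaf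 (141, 200, [4], 1399))) (.node (.leaf (135, 229, [3, 2], 868)) (.leaf (120, 239, [6, 7], 1902)))))) (.node (.node (.node (.node (.leaf (130, 19, [1, 3], 47)) (.leaf (126, 59, [5, 4], 1070))) (.node (.leaf (126, 133, [5, 4], 509)) (.leaf (123, 69, [6, 5], 1560)))) (.node (.node (.leaf (120, 166, [0], 318)) (.leaf (120, 121, [6, 7], 1315))) (.node (.leaf (130, 184, [2, 3], 779)) (.leaf (141, 210, [4], 1847))))) (.node (.node (.node (.leaf (162, 31, [2, 0], 126)) (.leaf (141, 92, [4], 1207))) (.node (.leaf (162, 131, [3], 705)) (.leaf (123, 144, [4, 5], 1707)))) (.node (.node (.leaf (121, 180, [7, 6], 338)) (.leaf (141, 8, [3, 1], 1471))) (.node (.leaf (141, 236, [3, 1], 937)) (.leaf (120, 239, [6, 7], 1902))))))) (.node (.node (.node (.node (.node (.leaf (141, 17, [4], 31)) (.leaf (130, 42, [1, 3], 1047))) (.node (.leaf (130, 74, [1, 3], 476)) (.leaf (162, 78, [2, 0], 1529)))) (.node (.node (.leaf (120, 75, [4], 277)) (.leaf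 (121, 138, [5, 6], 1284))) (.node (.leaf (141, 222, [2], 773)) (.leaf (120, 160, [5], 1823))))) (.node (.node (.node (.leaf (162, 22, [2, 0], 91)) (.leaf (141, 88, [3, 1], 1143))) (.node (.leaf (130, 159, [4, 3], 606)) (.leaf (126, 137, [3, 4], 1684)))) (.node (.node (.leaf (121, 130, [7, 6], 306)) (.leaf (141, 231, [3, 1], 1440))) (.node (.leaf (123, 233, [4, 5], 906)) (.leaf (120, 239, [6, 7], 1902)))))) (.node (.node (.node (.node (.leaf (135, 12, [3, 2], 70)) (.leaf (162, 56, [2, 0], 1081))) (.node (.leaf (126, 193, [5, 4], 541)) (.leaf (141, 99, [3, 1], 1591)))) (.node (.node (.leaf (141, 59, [3, 1], 222)) (.leaf (120, 159, [5], 1375))) (.node (.leaf (162, 215, [3], 856)) (.leaf (141, 233, [3, 1], 1888))))) (.node (.node (.node (.leaf (123, 66, [6, 5], 147)) (.leaf (126, 136, [3, 4], 1236))) (.node (.leaf (141, 176, [3, 1], 674)) (.leaf (121, 139, [5, 6], 1732)))) (.node (.node (.leaf (123, 92, [4, 5], 390)) (.leaf (130,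 48, [1, 3], 1495))) (.node (.leaf (120, 233, [6, 7], 965)) (.leaf (120, 239, [6, 7], 1902)))))))) (.node (.node (.node (.node (.node (.node (.leaf (141, 1, [3, 1], 15)) (.leaf (141, 32, [4], 1041))) (.node (.leaf (123, 176, [6, 5], 450)) (.leaf (135, 65, [5], 1553)))) (.node (.node (.leaf (120, 102, [5], 244)) (.leaf (162, 153, [3], 1291))) (.node (.leaf (141, 189, [2], 751)) (.leaf (130, 195, [2, 3], 1785))))) (.node (.node (.node (.leaf (121, 36, [1], 146)) (.leaf (162, 66, [3], 1147))) (.node (.leaf (130, 138, [4, 3], 590)) (.leaf (135, 77, [3, 2], 1673)))) (.node (.node (.leaf (121, 32, [7, 6], 290)) (.leaf (126, 217, [5, 4], 1424))) (.node (.leaf (123, 201, [4, 5], 885)) (.leaf (120, 239, [6, 7], 1902)))))) (.node (.node (.node (.node (.leaf (121, 14, [5, 6], 57)) (.leaf (135, 55, [5], 1105))) (.node (.leaf (126, 166, [5, 4], 525)) (.leaf (162, 88, [3], 1595)))) (.node (.node (.leaf (121, 20, [5, 6], 185)) (.leaf (130,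 189, [2, 3], 1337))) (.node (.leaf (130, 220, [1, 3], 801)) (.leaf (126, 218, [5, 4], 1872))))) (.node (.node (.node (.leaf (120, 64, [6, 7], 138)) (.leaf (135, 76, [3, 2], 1225))) (.node (.leaf (135, 154, [3, 2], 664)) (.leaf (162, 175, [3], 1739)))) (.node (.node (.leaf (126, 95, [2], 390)) (.leaf (141, 42, [4], 1489))) (.node (.leaf (120, 203, [6, 7], 949)) (.leaf (120, 239, [6, 7], 1902))))))) (.node (.node (.node (.node (.node (.leaf (123, 5, [4, 5], 28)) (.leaf (121, 30, [5, 6], 1057))) (.node (.leaf (135, 72, [3, 2], 489)) (.leaf (130, 88, [4, 3], 1547)))) (.node (.node (.leaf (120, 135, [2], 304)) (.leaf (121, 175, [5, 6], 1307))) (.node (.leaf (162, 194, [2, 0], 750)) (.leaf (141, 207, [3, 1], 1818))))) (.node (.node (.node (.leaf (123, 13, [4, 5], 110)) (.leaf (141, 91, [3, 1], 1178))) (.node (.leaf (162, 121, [2, 0], 624)) (.leaf (141, 171, [0], 1710)))) (.node (.node (.leaf (121, 147, [7, 6], 322)) (.leaf (135,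 6, [0, 2], 1456))) (.node (.leaf (121, 210, [5, 6], 921)) (.leaf (120, 239, [6, 7], 1902)))))) (.node (.node (.node (.node (.leaf (121, 21, [5, 6], 79)) (.leaf (130, 84, [4, 3], 1099))) (.node (.leaf (135, 123, [3, 2], 553)) (.leaf (141, 102, [3, 1], 1626)))) (.node (.node (.leaf (126, 99, [5, 4], 243)) (.leaf (141, 197, [3, 1], 1370))) (.node (.leaf (126, 205, [3, 4], 845)) (.leaf (120, 239, [6, 7], 1902))))) (.node (.node (.node (.leaf (123, 105, [6, 5], 155)) (.leaf (141, 166, [0], 1262))) (.node (.leaf (141, 181, [3, 1], 682)) (.leaf (121, 176, [5, 6], 1755)))) (.node (.node (.leaf (130, 96, [2, 3], 418)) (.leaf (121, 31, [5, 6], 1505))) (.node (.leaf (135, 5, [0, 2], 1008)) (.leaf (120, 239, [6, 7], 1902))))))))) (.node (.node (.node (.node (.node (.node (.node (.leaf (130, 1, [2, 3], 8)) (.leaf (141, 28, [3, 1], 1027))) (.node (.leaf (123, 167, [6, 5], 442)) (.leaf (135, 62, [4], 1535)))) (.node (.node (.leaf (120, 91,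 [5], 234)) (.leaf (162, 151, [2, 0], 1267))) (.node (.leaf (141, 135, [2], 731)) (.leaf (123, 160, [4, 5], 1772))))) (.node (.node (.node (.leaf (135, 34, [5], 130)) (.leaf (123, 95, [6, 5], 1116))) (.node (.leaf (162, 115, [2, 0], 571)) (.leaf (130, 134, [4, 3], 1657)))) (.node (.node (.leaf (126, 106, [5, 4], 282)) (.leaf (123, 212, [6, 5], 1411))) (.node (.leaf (135, 239, [0, 2], 879)) (.leaf (120, 239, [6, 7], 1902)))))) (.node (.node (.node (.node (.leaf (123, 21, [2], 77)) (.leaf (135, 52, [4], 1087))) (.node (.leaf (126, 145, [5, 4], 517)) (.leaf (123, 96, [6, 5], 1564)))) (.node (.node (.leaf (120, 156, [4], 332)) (.leaf (123, 158, [4, 5], 1324))) (.node (.leaf (130, 206, [1, 3], 793)) (.leaf (123, 213, [6, 5], 1859))))) (.node (.node (.node (.leaf (123, 25, [4, 5], 131)) (.leaf (130, 129, [4, 3], 1209))) (.node (.leaf (162, 145, [1], 713)) (.leaf (162, 173, [2, 0], 1715)))) (.node (.node (.leaf (141, 54, [4], 369))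 (.leaf (141, 38, [3, 1], 1475))) (.node (.leaf (121, 234, [5, 6], 942)) (.leaf (120, 239, [6, 7], 1902))))))) (.node (.node (.node (.node (.node (.leaf (141, 19, [6], 44)) (.leaf (123, 58, [2], 1069))) (.node (.leaf (141, 110, [3, 1], 483)) (.leaf (162, 83, [2, 0], 1539)))) (.node (.node (.leaf (120, 76, [3], 295)) (.leaf (121, 171, [5, 6], 1298))) (.node (.leaf (141, 230, [0], 809)) (.leaf (120, 215, [3], 1838))))) (.node (.node (.node (.leaf (162, 37, [2, 0], 101)) (.leaf (126, 69, [3, 4], 1158))) (.node (.leaf (130, 183, [4, 3], 614)) (.leaf (135, 149, [1], 1693)))) (.node (.node (.leaf (121, 136, [7, 6], 314)) (.leaf (120, 238, [6, 7], 1454))) (.node (.leaf (123, 235, [3], 942)) (.leaf (120, 239, [6, 7], 1902)))))) (.node (.node (.node (.node (.leaf (135, 29, [3, 2], 74)) (.leaf (162, 61, [2, 0], 1091))) (.node (.leaf (141, 121, [3, 1], 548)) (.leaf (126, 70, [3, 4], 1606)))) (.node (.node (.leaf (121, 87, [5, 6], 228))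 (.leaf (120, 214, [3], 1390))) (.node (.leaf (162, 239, [7], 878)) (.leaf (120, 239, [6, 7], 1902))))) (.node (.node (.node (.leaf (123, 38, [6, 5], 151)) (.leaf (135, 144, [1], 1245))) (.node (.leaf (141, 179, [3, 1], 678)) (.leaf (121, 172, [5, 6], 1746)))) (.node (.node (.leaf (130, 95, [2, 3], 410)) (.leaf (123, 60, [2], 1517))) (.node (.leaf (121, 239, [5, 6], 1001)) (.leaf (120, 239, [6, 7], 1902)))))))) (.node (.node (.node (.node (.node (.node (.leaf (141, 16, [3, 1], 19)) (.leaf (123, 22, [4, 5], 1036))) (.node (.leaf (123, 209, [6, 5], 458)) (.leaf (121, 116, [4], 1566)))) (.node (.node (.leaf (120, 123, [5], 252)) (.leaf (123, 184, [2], 1307))) (.node (.leaf (141, 219, [2], 765)) (.leaf (120, 158, [6, 7], 1794))))) (.node (.node (.node (.leaf (120, 3, [6, 7], 83)) (.leaf (162, 72, [1], 1176))) (.node (.leaf (130, 156, [4, 3], 598)) (.leaf (135, 139, [3, 2], 1678)))) (.node (.node (.leaf (121, 109, [7, 6], 298))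 (.leaf (130, 223, [4, 3], 1432))) (.node (.leaf (123, 218, [4, 5], 893)) (.leaf (120, 239, [6, 7], 1902)))))) (.node (.node (.node (.node (.leaf (135, 36, [3, 2], 65)) (.leaf (121, 115, [4], 1118))) (.node (.leaf (126, 173, [5, 4], 533)) (.leaf (162, 100, [1], 1624)))) (.node (.node (.leaf (141, 48, [3, 1], 206)) (.leaf (120, 157, [6, 7], 1346))) (.node (.leaf (130, 225, [1, 3], 809)) (.leaf (130, 224, [4, 3], 1880))))) (.node (.node (.node (.leaf (162, 34, [2, 0], 143)) (.leaf (135, 133, [3, 2], 1230))) (.node (.leaf (141, 174, [3, 1], 670)) (.leaf (123, 185, [2], 1755)))) (.node (.node (.leaf (123, 70, [4, 5], 372)) (.leaf (123, 23, [4, 5], 1484))) (.node (.leaf (120, 218, [6, 7], 957)) (.leaf (120, 239, [6, 7], 1902))))))) (.node (.node (.node (.node (.node (.leaf (130, 17, [1, 3], 39)) (.leaf (135, 49, [3, 2], 1065))) (.node (.leaf (135, 120, [3, 2], 494)) (.leaf (123, 65, [4, 5], 1554)))) (.node (.node (.leaf (120, 78,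 [0], 309)) (.leaf (135, 183, [0, 2], 1314))) (.node (.leaf (162, 200, [2, 0], 766)) (.leaf (121, 199, [5, 6], 1830))))) (.node (.node (.node (.leaf (130, 30, [4, 3], 118)) (.leaf (135, 92, [0, 2], 1186))) (.node (.leaf (162, 97, [2, 0], 637)) (.leaf (162, 168, [2, 0], 1697)))) (.node (.node (.leaf (121, 152, [7, 6], 330)) (.leaf (130, 9, [2, 3], 1464))) (.node (.leaf (121, 224, [5, 6], 929)) (.leaf (120, 239, [6, 7], 1902)))))) (.node (.node (.node (.node (.leaf (126, 24, [2], 106)) (.leaf (123, 64, [4, 5], 1106))) (.node (.leaf (135, 126, [4], 629)) (.leaf (135, 97, [0, 2], 1634)))) (.node (.node (.leaf (135, 81, [3, 2], 263)) (.leaf (121, 198, [5, 6], 1382))) (.node (.leaf (126, 224, [3, 4], 861)) (.leaf (120, 239, [6, 7], 1902))))) (.node (.node (.node (.leaf (123, 29, [3], 207)) (.leaf (162, 140, [2, 0], 1249))) (.node (.leaf (141, 215, [3, 1], 686)) (.leaf (135, 193, [0, 2], 1762)))) (.node (.node (.leaf (123, 61, [6,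 5], 426)) (.leaf (135, 59, [3, 2], 1513))) (.node (.leaf (130, 8, [2, 3], 1016)) (.leaf (120, 239, [6, 7], 1902))))))))))))

noncomputable def pi0 : Trie (ℕ) := .node (.node (.node (.node (.node (.node (.node (.node (.leaf 0) (.leaf 128)) (.node (.leaf 86) (.leaf 192))) (.node (.node (.leaf 32) (.leaf 182)) (.node (.leaf 96) (.leaf 231)))) (.node (.node (.node (.leaf 9) (.leaf 144)) (.node (.leaf 58) (.leaf 208))) (.node (.node (.leaf 48) (.leaf 154)) (.node (.leaf 112) (.leaf 239))))) (.node (.node (.node (.node (.leaf 15) (.leaf 164)) (.node (.leaf 100) (.leaf 200))) (.node (.node (.leaf 40) (.leaf 140)) (.node (.leaf 76) (.leaf 232)))) (.node (.node (.node (.leaf 24) (.leaf 174)) (.node (.leaf 66) (.leaf 216))) (.node (.node (.leaf 78) (.leaf 184)) (.node (.leaf 120) (.leaf 239)))))) (.node (.node (.node (.node (.node (.leaf 4) (.leaf 132)) (.node (.leaf 90) (.leaf 196))) (.node (.node (.leaf 36) (.leaf 136)) (.node (.leaf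 72) (.leaf 221)))) (.node (.node (.node (.leaf 13) (.leaf 170)) (.node (.leaf 62) (.leaf 212))) (.node (.node (.leaf 52) (.leaf 158)) (.node (.leaf 116) (.leaf 239))))) (.node (.node (.node (.node (.leaf 19) (.leaf 168)) (.node (.leaf 104) (.leaf 204))) (.node (.node (.leaf 44) (.leaf 150)) (.node (.leaf 108) (.leaf 236)))) (.node (.node (.node (.leaf 28) (.leaf 178)) (.node (.leaf 70) (.leaf 227))) (.node (.node (.leaf 82) (.leaf 188)) (.node (.leaf 124) (.leaf 239))))))) (.node (.node (.node (.node (.node (.node (.leaf 2) (.leaf 130)) (.node (.leaf 88) (.leaf 194))) (.node (.node (.leaf 34) (.leaf 77)) (.node (.leaf 98) (.leaf 219)))) (.node (.node (.node (.leaf 11) (.leaf 146)) (.node (.leaf 60) (.leaf 210))) (.node (.node (.leaf 50) (.leaf 156)) (.node (.leaf 114) (.leaf 239))))) (.node (.node (.node (.node (.leaf 17) (.leaf 166)) (.node (.leaf 102) (.leaf 202))) (.node (.node (.leaf 42) (.leaf 148)) (.node (.leaf 106)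 (.leaf 234)))) (.node (.node (.node (.leaf 26) (.leaf 176)) (.node (.leaf 68) (.leaf 218))) (.node (.node (.leaf 80) (.leaf 186)) (.node (.leaf 122) (.leaf 239)))))) (.node (.node (.node (.node (.node (.leaf 14) (.leaf 134)) (.node (.leaf 92) (.leaf 198))) (.node (.node (.leaf 38) (.leaf 138)) (.node (.leaf 74) (.leaf 223)))) (.node (.node (.node (.leaf 22) (.leaf 172)) (.node (.leaf 64) (.leaf 214))) (.node (.node (.leaf 54) (.leaf 160)) (.node (.leaf 118) (.leaf 239))))) (.node (.node (.node (.node (.leaf 6) (.leaf 142)) (.node (.leaf 56) (.leaf 206))) (.node (.node (.leaf 46) (.leaf 152)) (.node (.leaf 110) (.leaf 238)))) (.node (.node (.node (.leaf 30) (.leaf 180)) (.node (.leaf 94) (.leaf 229))) (.node (.node (.leaf 84) (.leaf 190)) (.node (.leaf 126) (.leaf 239)))))))) (.node (.node (.node (.node (.node (.node (.node (.leaf 1) (.leaf 129)) (.node (.leaf 87) (.leaf 193))) (.node (.node (.leaf 33) (.leaf 183)) (.node (.leaf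 97) (.leaf 233)))) (.node (.node (.node (.leaf 10) (.leaf 145)) (.node (.leaf 59) (.leaf 209))) (.node (.node (.leaf 49) (.leaf 155)) (.node (.leaf 113) (.leaf 239))))) (.node (.node (.node (.node (.leaf 16) (.leaf 165)) (.node (.leaf 101) (.leaf 201))) (.node (.node (.leaf 41) (.leaf 147)) (.node (.leaf 105) (.leaf 225)))) (.node (.node (.node (.leaf 25) (.leaf 175)) (.node (.leaf 67) (.leaf 217))) (.node (.node (.leaf 79) (.leaf 185)) (.node (.leaf 121) (.leaf 239)))))) (.node (.node (.node (.node (.node (.leaf 5) (.leaf 133)) (.node (.leaf 91) (.leaf 197))) (.node (.node (.leaf 37) (.leaf 137)) (.node (.leaf 73) (.leaf 222)))) (.node (.node (.node (.leaf 21) (.leaf 171)) (.node (.leaf 63) (.leaf 213))) (.node (.node (.leaf 53) (.leaf 159)) (.node (.leaf 117) (.leaf 239))))) (.node (.node (.node (.node (.leaf 20) (.leaf 141)) (.node (.leaf 162) (.leaf 205))) (.node (.node (.leaf 45) (.leaf 151)) (.node (.leaf 109) (.leaf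 237)))) (.node (.node (.node (.leaf 29) (.leaf 179)) (.node (.leaf 93) (.leaf 228))) (.node (.node (.leaf 83) (.leaf 189)) (.node (.leaf 125) (.leaf 239))))))) (.node (.node (.node (.node (.node (.node (.leaf 3) (.leaf 131)) (.node (.leaf 89) (.leaf 195))) (.node (.node (.leaf 35) (.leaf 135)) (.node (.leaf 71) (.leaf 220)))) (.node (.node (.node (.leaf 12) (.leaf 169)) (.node (.leaf 61) (.leaf 211))) (.node (.node (.leaf 51) (.leaf 157)) (.node (.leaf 115) (.leaf 239))))) (.node (.node (.node (.node (.leaf 18) (.leaf 167)) (.node (.leaf 103) (.leaf 203))) (.node (.node (.leaf 43) (.leaf 149)) (.node (.leaf 107) (.leaf 235)))) (.node (.node (.node (.leaf 27) (.leaf 177)) (.node (.leaf 69) (.leaf 226))) (.node (.node (.leaf 81) (.leaf 187)) (.node (.leaf 123) (.leaf 239)))))) (.node (.node (.node (.node (.node (.leaf 7) (.leaf 163)) (.node (.leaf 99) (.leaf 199))) (.node (.node (.leaf 39) (.leaf 139)) (.node (.leaf 75) (.leaf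 224)))) (.node (.node (.node (.leaf 23) (.leaf 173)) (.node (.leaf 65) (.leaf 215))) (.node (.node (.leaf 55) (.leaf 161)) (.node (.leaf 119) (.leaf 239))))) (.node (.node (.node (.node (.leaf 8) (.leaf 143)) (.node (.leaf 57) (.leaf 207))) (.node (.node (.leaf 47) (.leaf 153)) (.node (.leaf 111) (.leaf 239)))) (.node (.node (.node (.leaf 31) (.leaf 181)) (.node (.leaf 95) (.leaf 230))) (.node (.node (.leaf 85) (.leaf 191)) (.node (.leaf 127) (.leaf 239))))))))

noncomputable def eta0 : Trie (ℤ) := .node (.node (.node (.node (.node (.node (.node (.node (.leaf 1) (.leaf 1)) (.node (.leaf 1) (.leaf 1))) (.node (.node (.leaf 1) (.leaf (-1))) (.node (.leaf 1) (.leaf 1)))) (.node (.node (.node (.leaf 1) (.leaf 1)) (.node (.leaf (-1)) (.leaf 1))) (.node (.node (.leaf 1) (.leaf 1)) (.node (.leaf 1) (.leaf 1))))) (.node (.node (.node (.node (.leaf (-1)) (.leaf (-1))) (.node (.leaf 1) (.leaf 1))) (.node (.node (.leaf 1) (.leaf 1))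 (.node (.leaf (-1)) (.leaf 1)))) (.node (.node (.node (.leaf 1) (.leaf (-1))) (.node (.leaf (-1)) (.leaf 1))) (.node (.node (.leaf 1) (.leaf 1)) (.node (.leaf 1) (.leaf 1)))))) (.node (.node (.node (.node (.node (.leaf 1) (.leaf 1)) (.node (.leaf 1) (.leaf 1))) (.node (.node (.leaf 1) (.leaf 1)) (.node (.leaf (-1)) (.leaf (-1))))) (.node (.node (.node (.leaf 1) (.leaf (-1))) (.node (.leaf (-1)) (.leaf 1))) (.node (.node (.leaf 1) (.leaf 1)) (.node (.leaf 1) (.leaf 1))))) (.node (.node (.node (.node (.leaf (-1)) (.leaf (-1))) (.node (.leaf 1) (.leaf 1))) (.node (.node (.leaf 1) (.leaf 1)) (.node (.leaf 1) (.leaf 1)))) (.node (.node (.node (.leaf 1) (.leaf (-1))) (.node (.leaf (-1)) (.leaf 1))) (.node (.node (.leaf 1) (.leaf 1)) (.node (.leaf 1) (.leaf 1))))))) (.node (.node (.node (.node (.node (.node (.leaf 1) (.leaf 1)) (.node (.leaf 1) (.leaf 1))) (.node (.node (.leaf 1) (.leaf (-1))) (.node (.leaf 1) (.leaf (-1))))) (.node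 (.node (.node (.leaf 1) (.leaf 1)) (.node (.leaf (-1)) (.leaf 1))) (.node (.node (.leaf 1) (.leaf 1)) (.node (.leaf 1) (.leaf 1))))) (.node (.node (.node (.node (.leaf (-1)) (.leaf (-1))) (.node (.leaf 1) (.leaf 1))) (.node (.node (.leaf 1) (.leaf 1)) (.node (.leaf 1) (.leaf 1)))) (.node (.node (.node (.leaf 1) (.leaf (-1))) (.node (.leaf (-1)) (.leaf 1))) (.node (.node (.leaf 1) (.leaf 1)) (.node (.leaf 1) (.leaf 1)))))) (.node (.node (.node (.node (.node (.leaf (-1)) (.leaf 1)) (.node (.leaf 1) (.leaf 1))) (.node (.node (.leaf 1) (.leaf 1)) (.node (.leaf (-1)) (.leaf (-1))))) (.node (.node (.node (.leaf 1) (.leaf (-1))) (.node (.leaf (-1)) (.leaf 1))) (.node (.node (.leaf 1) (.leaf 1)) (.node (.leaf 1) (.leaf 1))))) (.node (.node (.node (.node (.leaf 1) (.leaf 1)) (.node (.leaf (-1)) (.leaf 1))) (.node (.node (.leaf 1) (.leaf 1)) (.node (.leaf 1) (.leaf 1)))) (.node (.node (.node (.leaf 1) (.leaf (-1))) (.node (.leaf 1)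 (.leaf 1))) (.node (.node (.leaf 1) (.leaf 1)) (.node (.leaf 1) (.leaf 1)))))))) (.node (.node (.node (.node (.node (.node (.node (.leaf 1) (.leaf 1)) (.node (.leaf 1) (.leaf 1))) (.node (.node (.leaf 1) (.leaf (-1))) (.node (.leaf 1) (.leaf 1)))) (.node (.node (.node (.leaf 1) (.leaf 1)) (.node (.leaf (-1)) (.leaf 1))) (.node (.node (.leaf 1) (.leaf 1)) (.node (.leaf 1) (.leaf 1))))) (.node (.node (.node (.node (.leaf (-1)) (.leaf (-1))) (.node (.leaf 1) (.leaf 1))) (.node (.node (.leaf 1) (.leaf 1)) (.node (.leaf 1) (.leaf (-1))))) (.node (.node (.node (.leaf 1) (.leaf (-1))) (.node (.leaf (-1)) (.leaf 1))) (.node (.node (.leaf 1) (.leaf 1)) (.node (.leaf 1) (.leaf 1)))))) (.node (.node (.node (.node (.node (.leaf 1) (.leaf 1)) (.node (.leaf 1) (.leaf 1))) (.node (.node (.leaf 1) (.leaf 1)) (.node (.leaf (-1)) (.leaf (-1))))) (.node (.node (.node (.leaf 1) (.leaf (-1))) (.node (.leaf (-1)) (.leaf 1))) (.node (.node (.leaf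 1) (.leaf 1)) (.node (.leaf 1) (.leaf 1))))) (.node (.node (.node (.node (.leaf (-1)) (.leaf 1)) (.node (.leaf (-1)) (.leaf 1))) (.node (.node (.leaf 1) (.leaf 1)) (.node (.leaf 1) (.leaf 1)))) (.node (.node (.node (.leaf 1) (.leaf (-1))) (.node (.leaf 1) (.leaf 1))) (.node (.node (.leaf 1) (.leaf 1)) (.node (.leaf 1) (.leaf 1))))))) (.node (.node (.node (.node (.node (.node (.leaf 1) (.leaf 1)) (.node (.leaf 1) (.leaf 1))) (.node (.node (.leaf 1) (.leaf 1)) (.node (.leaf (-1)) (.leaf (-1))))) (.node (.node (.node (.leaf 1) (.leaf (-1))) (.node (.leaf (-1)) (.leaf 1))) (.node (.node (.leaf 1) (.leaf 1)) (.node (.leaf 1) (.leaf 1))))) (.node (.node (.node (.node (.leaf (-1)) (.leaf (-1))) (.node (.leaf 1) (.leaf 1))) (.node (.node (.leaf 1) (.leaf 1)) (.node (.leaf 1) (.leaf 1)))) (.node (.node (.node (.leaf 1) (.leaf (-1))) (.node (.leaf (-1)) (.leaf 1))) (.node (.node (.leaf 1) (.leaf 1)) (.node (.leaf 1) (.leaf 1)))))) (.node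 (.node (.node (.node (.node (.leaf 1) (.leaf (-1))) (.node (.leaf 1) (.leaf 1))) (.node (.node (.leaf 1) (.leaf 1)) (.node (.leaf (-1)) (.leaf (-1))))) (.node (.node (.node (.leaf 1) (.leaf (-1))) (.node (.leaf (-1)) (.leaf 1))) (.node (.node (.leaf 1) (.leaf 1)) (.node (.leaf 1) (.leaf 1))))) (.node (.node (.node (.node (.leaf 1) (.leaf 1)) (.node (.leaf (-1)) (.leaf 1))) (.node (.node (.leaf 1) (.leaf 1)) (.node (.leaf 1) (.leaf 1)))) (.node (.node (.node (.leaf 1) (.leaf (-1))) (.node (.leaf 1) (.leaf 1))) (.node (.node (.leaf 1) (.leaf 1)) (.node (.leaf 1) (.leaf 1))))))))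

noncomputable def car0 : Trie (ℤ) := .node (.node (.node (.node (.node (.node (.node (.node (.leaf 0) (.leaf 0)) (.node (.leaf (-1)) (.leaf 0))) (.node (.node (.leaf 0) (.leaf (-1))) (.node (.leaf 0) (.leaf (-1))))) (.node (.node (.node (.leaf 1) (.leaf 0)) (.node (.leaf 1) (.leaf 0))) (.node (.node (.leaf 0) (.leaf 1)) (.node (.leaf 0) (.leaf 0))))) (.node (.node (.node (.node (.leaf (-1)) (.leaf (-1))) (.node (.leaf (-1)) (.leaf 0))) (.node (.node (.leaf 0) (.leaf 1)) (.node (.leaf 1) (.leaf 0)))) (.node (.node (.node (.leaf 0) (.leaf (-1))) (.node (.leaf 1) (.leaf 0))) (.node (.node (.leaf (-1)) (.leaf 0)) (.node (.leaf 0) (.leaf 0)))))) (.node (.node (.node (.node (.node (.leaf 0) (.leaf 0)) (.node (.leaf (-1)) (.leaf 0))) (.node (.node (.leaf 0) (.leaf 1)) (.node (.leaf 1) (.leaf 1)))) (.node (.node (.node (.leaf 1) (.leaf (-1))) (.node (.leaf 1) (.leaf 0))) (.node (.node (.leaf 0) (.leaf 1)) (.node (.leaf 0) (.leaf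 0))))) (.node (.node (.node (.node (.leaf (-1)) (.leaf (-1))) (.node (.leaf (-1)) (.leaf 0))) (.node (.node (.leaf 0) (.leaf 1)) (.node (.leaf 0) (.leaf 0)))) (.node (.node (.node (.leaf 0) (.leaf (-1))) (.node (.leaf 1) (.leaf (-1)))) (.node (.node (.leaf (-1)) (.leaf 0)) (.node (.leaf 0) (.leaf 0))))))) (.node (.node (.node (.node (.node (.node (.leaf 0) (.leaf 0)) (.node (.leaf (-1)) (.leaf 0))) (.node (.node (.leaf 0) (.leaf 2)) (.node (.leaf 0) (.leaf 1)))) (.node (.node (.node (.leaf 1) (.leaf 0)) (.node (.leaf 1) (.leaf 0))) (.node (.node (.leaf 0) (.leaf 1)) (.node (.leaf 0) (.leaf 0))))) (.node (.node (.node (.node (.leaf (-1)) (.leaf (-1))) (.node (.leaf (-1)) (.leaf 0))) (.node (.node (.leaf 0) (.leaf 1)) (.node (.leaf 0) (.leaf 0)))) (.node (.node (.node (.leaf 0) (.leaf (-1))) (.node (.leaf 1) (.leaf 0))) (.node (.node (.leaf (-1)) (.leaf 0)) (.node (.leaf 0) (.leaf 0)))))) (.node (.node (.node (.node (.node (.leaf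 (-1)) (.leaf 0)) (.node (.leaf (-1)) (.leaf 0))) (.node (.node (.leaf 0) (.leaf 1)) (.node (.leaf 1) (.leaf 1)))) (.node (.node (.node (.leaf 0) (.leaf (-1))) (.node (.leaf 1) (.leaf 0))) (.node (.node (.leaf 0) (.leaf 1)) (.node (.leaf 0) (.leaf 0))))) (.node (.node (.node (.node (.leaf 1) (.leaf 0)) (.node (.leaf 1) (.leaf 0))) (.node (.node (.leaf 0) (.leaf 1)) (.node (.leaf 0) (.leaf 0)))) (.node (.node (.node (.leaf 0) (.leaf (-1))) (.node (.leaf 0) (.leaf (-1)))) (.node (.node (.leaf (-1)) (.leaf 0)) (.node (.leaf 0) (.leaf 0)))))))) (.node (.node (.node (.node (.node (.node (.node (.leaf 0) (.leaf 0)) (.node (.leaf (-1)) (.leaf 0))) (.node (.node (.leaf 0) (.leaf (-1))) (.node (.leaf 0) (.leaf (-1))))) (.node (.node (.node (.leaf 1) (.leaf 0)) (.node (.leaf 1) (.leaf 0))) (.node (.node (.leaf 0) (.leaf 1)) (.node (.leaf 0) (.leaf 0))))) (.node (.node (.node (.node (.leaf (-1)) (.leaf (-1))) (.node (.leaf (-1)) (.leaf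 0))) (.node (.node (.leaf 0) (.leaf 1)) (.node (.leaf 0) (.leaf 1)))) (.node (.node (.node (.leaf 0) (.leaf (-1))) (.node (.leaf 1) (.leaf 0))) (.node (.node (.leaf (-1)) (.leaf 0)) (.node (.leaf 0) (.leaf 0)))))) (.node (.node (.node (.node (.node (.leaf 0) (.leaf 0)) (.node (.leaf (-1)) (.leaf 0))) (.node (.node (.leaf 0) (.leaf 1)) (.node (.leaf 1) (.leaf 1)))) (.node (.node (.node (.leaf 0) (.leaf (-1))) (.node (.leaf 1) (.leaf 0))) (.node (.node (.leaf 0) (.leaf 1)) (.node (.leaf 0) (.leaf 0))))) (.node (.node (.node (.node (.leaf (-1)) (.leaf 0)) (.node (.leaf (-2)) (.leaf 0))) (.node (.node (.leaf 0) (.leaf 1)) (.node (.leaf 0) (.leaf 0)))) (.node (.node (.node (.leaf 0) (.leaf (-1))) (.node (.leaf 0) (.leaf (-1)))) (.node (.node (.leaf (-1)) (.leaf 0)) (.node (.leaf 0) (.leaf 0))))))) (.node (.node (.node (.node (.node (.node (.leaf 0) (.leaf 0)) (.node (.leaf (-1)) (.leaf 0))) (.node (.node (.leaf 0) (.leaf 1)) (.node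 (.leaf 1) (.leaf 1)))) (.node (.node (.node (.leaf 1) (.leaf (-1))) (.node (.leaf 1) (.leaf 0))) (.node (.node (.leaf 0) (.leaf 1)) (.node (.leaf 0) (.leaf 0))))) (.node (.node (.node (.node (.leaf (-1)) (.leaf (-1))) (.node (.leaf (-1)) (.leaf 0))) (.node (.node (.leaf 0) (.leaf 1)) (.node (.leaf 0) (.leaf 0)))) (.node (.node (.node (.leaf 0) (.leaf (-1))) (.node (.leaf 1) (.leaf (-1)))) (.node (.node (.leaf (-1)) (.leaf 0)) (.node (.leaf 0) (.leaf 0)))))) (.node (.node (.node (.node (.node (.leaf 0) (.leaf (-1))) (.node (.leaf (-1)) (.leaf 0))) (.node (.node (.leaf 0) (.leaf 1)) (.node (.leaf 1) (.leaf 1)))) (.node (.node (.node (.leaf 0) (.leaf (-1))) (.node (.leaf 1) (.leaf 0))) (.node (.node (.leaf 0) (.leaf 1)) (.node (.leaf 0) (.leaf 0))))) (.node (.node (.node (.node (.leaf 1) (.leaf 0)) (.node (.leaf 1) (.leaf 0))) (.node (.node (.leaf 0) (.leaf 1)) (.node (.leaf 0) (.leaf 0)))) (.node (.node (.node (.leaf 0) (.leaf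 (-1))) (.node (.leaf 0) (.leaf (-1)))) (.node (.node (.leaf (-1)) (.leaf 0)) (.node (.leaf 0) (.leaf 0))))))))

noncomputable def pos0 : Trie (ℕ) := .node (.node (.node (.node (.node (.node (.node (.node (.leaf 0) (.leaf 707)) (.node (.leaf 1149) (.leaf 827))) (.node (.node (.leaf 205) (.leaf 1313)) (.node (.leaf 697) (.leaf 1444)))) (.node (.node (.node (.leaf 1458) (.leaf 718)) (.node (.leaf 1579) (.leaf 852))) (.node (.node (.leaf 256) (.leaf 1752)) (.node (.leaf 693) (.leaf 879))))) (.node (.node (.node (.node (.leaf 1009) (.leaf 1275)) (.node (.leaf 1183) (.leaf 831))) (.node (.node (.leaf 198) (.leaf 1727)) (.node (.leaf 1636) (.leaf 836)))) (.node (.node (.node (.leaf 176) (.leaf 1302)) (.node (.leaf 1623) (.leaf 872))) (.node (.node (.leaf 1127) (.leaf 816)) (.node (.leaf 657) (.leaf 879)))))) (.node (.node (.node (.node (.node (.leaf 4) (.leaf 712)) (.node (.leaf 1177) (.leaf 826))) (.node (.node (.leaf 171) (.leaf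 1723)) (.node (.leaf 1631) (.leaf 1889)))) (.node (.node (.node (.leaf 1462) (.leaf 1289)) (.node (.leaf 1595) (.leaf 860))) (.node (.node (.leaf 288) (.leaf 1758)) (.node (.leaf 694) (.leaf 879))))) (.node (.node (.node (.node (.leaf 1013) (.leaf 1279)) (.node (.leaf 1188) (.leaf 844))) (.node (.node (.leaf 225) (.leaf 1741)) (.node (.leaf 698) (.leaf 876)))) (.node (.node (.node (.leaf 178) (.leaf 1308)) (.node (.leaf 1634) (.leaf 1438))) (.node (.node (.leaf 1134) (.leaf 820)) (.node (.leaf 701) (.leaf 879))))))) (.node (.node (.node (.node (.node (.node (.leaf 2) (.leaf 710)) (.node (.leaf 1175) (.leaf 823))) (.node (.node (.leaf 223) (.leaf 0)) (.node (.leaf 709) (.leaf 1885)))) (.node (.node (.node (.leaf 1460) (.leaf 720)) (.node (.leaf 1582) (.leaf 854))) (.node (.node (.leaf 266) (.leaf 1756)) (.node (.leaf 649) (.leaf 879))))) (.node (.node (.node (.node (.leaf 1011) (.leaf 1277)) (.node (.leaf 1185) (.leaf 834)))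 (.node (.node (.leaf 208) (.leaf 1737)) (.node (.leaf 653) (.leaf 864)))) (.node (.node (.node (.leaf 169) (.leaf 1304)) (.node (.leaf 1625) (.leaf 875))) (.node (.node (.leaf 1131) (.leaf 818)) (.node (.leaf 696) (.leaf 879)))))) (.node (.node (.node (.node (.node (.leaf 1008) (.leaf 714)) (.node (.leaf 1186) (.leaf 829))) (.node (.node (.leaf 180) (.leaf 1725)) (.node (.leaf 1633) (.leaf 1891)))) (.node (.node (.node (.leaf 167) (.leaf 1293)) (.node (.leaf 1597) (.leaf 870))) (.node (.node (.leaf 293) (.leaf 1761)) (.node (.leaf 656) (.leaf 879))))) (.node (.node (.node (.node (.leaf 1456) (.leaf 716)) (.node (.leaf 1575) (.leaf 848))) (.node (.node (.leaf 253) (.leaf 1750)) (.node (.leaf 648) (.leaf 878)))) (.node (.node (.node (.leaf 197) (.leaf 1310)) (.node (.leaf 652) (.leaf 1442))) (.node (.node (.leaf 1147) (.leaf 822)) (.node (.leaf 705) (.leaf 879)))))))) (.node (.node (.node (.node (.node (.node (.node (.leaf 1)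 (.leaf 708)) (.node (.leaf 1157) (.leaf 830))) (.node (.node (.leaf 219) (.leaf 1314)) (.node (.leaf 703) (.leaf 1445)))) (.node (.node (.node (.leaf 1459) (.leaf 719)) (.node (.leaf 1581) (.leaf 858))) (.node (.node (.leaf 265) (.leaf 1753)) (.node (.leaf 699) (.leaf 879))))) (.node (.node (.node (.node (.leaf 1010) (.leaf 1276)) (.node (.leaf 1184) (.leaf 832))) (.node (.node (.leaf 202) (.leaf 1734)) (.node (.leaf 647) (.leaf 1893)))) (.node (.node (.node (.leaf 182) (.leaf 1303)) (.node (.leaf 1624) (.leaf 873))) (.node (.node (.leaf 1129) (.leaf 817)) (.node (.leaf 695) (.leaf 879)))))) (.node (.node (.node (.node (.node (.leaf 5) (.leaf 713)) (.node (.leaf 1179) (.leaf 828))) (.node (.node (.leaf 175) (.leaf 1724)) (.node (.leaf 1632) (.leaf 1890)))) (.node (.node (.node (.leaf 165) (.leaf 1291)) (.node (.leaf 1596) (.leaf 862))) (.node (.node (.leaf 289) (.leaf 1760)) (.node (.leaf 650) (.leaf 879))))) (.node (.node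 (.node (.node (.leaf 1014) (.leaf 715)) (.node (.leaf 0) (.leaf 846))) (.node (.node (.leaf 237) (.leaf 1743)) (.node (.leaf 704) (.leaf 877)))) (.node (.node (.node (.leaf 184) (.leaf 1309)) (.node (.leaf 646) (.leaf 1441))) (.node (.node (.leaf 1135) (.leaf 821)) (.node (.leaf 702) (.leaf 879))))))) (.node (.node (.node (.node (.node (.node (.leaf 3) (.leaf 711)) (.node (.leaf 1176) (.leaf 824))) (.node (.node (.leaf 235) (.leaf 1722)) (.node (.leaf 1630) (.leaf 1886)))) (.node (.node (.node (.leaf 1461) (.leaf 1286)) (.node (.leaf 1583) (.leaf 856))) (.node (.node (.leaf 272) (.leaf 1757)) (.node (.leaf 655) (.leaf 879))))) (.node (.node (.node (.node (.leaf 1012) (.leaf 1278)) (.node (.leaf 1187) (.leaf 835))) (.node (.node (.leaf 221) (.leaf 1739)) (.node (.leaf 692) (.leaf 874)))) (.node (.node (.node (.leaf 174) (.leaf 1305)) (.node (.leaf 1627) (.leaf 1437))) (.node (.node (.leaf 1133) (.leaf 819)) (.node (.leaf 700)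 (.leaf 879)))))) (.node (.node (.node (.node (.node (.leaf 6) (.leaf 1274)) (.node (.leaf 1182) (.leaf 833))) (.node (.node (.leaf 186) (.leaf 1726)) (.node (.leaf 1635) (.leaf 1892)))) (.node (.node (.node (.leaf 173) (.leaf 1295)) (.node (.leaf 1605) (.leaf 871))) (.node (.node (.leaf 301) (.leaf 1762)) (.node (.leaf 651) (.leaf 879))))) (.node (.node (.node (.node (.leaf 1457) (.leaf 717)) (.node (.leaf 1577) (.leaf 850))) (.node (.node (.leaf 254) (.leaf 1751)) (.node (.leaf 654) (.leaf 879)))) (.node (.node (.node (.leaf 199) (.leaf 1312)) (.node (.leaf 691) (.leaf 1443))) (.node (.node (.leaf 1148) (.leaf 825)) (.node (.leaf 706) (.leaf 879))))))))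

noncomputable def pi1 : Trie (ℕ) := .node (.node (.node (.node (.node (.node (.node (.node (.leaf 0) (.leaf 128)) (.node (.leaf 64) (.leaf 192))) (.node (.node (.leaf 42) (.leaf 160)) (.node (.leaf 108) (.leaf 225)))) (.node (.node (.node (.leaf 16) (.leaf 132)) (.node (.leaf 80) (.leaf 198))) (.node (.node (.leaf 48) (.leaf 176)) (.node (.leaf 112) (.leaf 239))))) (.node (.node (.node (.node (.leaf 6) (.leaf 147)) (.node (.leaf 67) (.leaf 210))) (.node (.node (.leaf 30) (.leaf 173)) (.node (.leaf 104) (.leaf 234)))) (.node (.node (.node (.leaf 24) (.leaf 152)) (.node (.leaf 99) (.leaf 216))) (.node (.node (.leaf 56) (.leaf 184)) (.node (.leaf 120) (.leaf 239)))))) (.node (.node (.node (.node (.node (.leaf 4) (.leaf 144)) (.node (.leaf 73) (.leaf 206))) (.node (.node (.leaf 26) (.leaf 169)) (.node (.leaf 89) (.leaf 228)))) (.node (.node (.node (.leaf 20) (.leaf 137)) (.node (.leaf 84) (.leaf 202))) (.node (.node (.leaf 52)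 (.leaf 180)) (.node (.leaf 116) (.leaf 239))))) (.node (.node (.node (.node (.leaf 12) (.leaf 151)) (.node (.leaf 76) (.leaf 194))) (.node (.node (.leaf 34) (.leaf 167)) (.node (.leaf 96) (.leaf 236)))) (.node (.node (.node (.leaf 38) (.leaf 156)) (.node (.leaf 103) (.leaf 220))) (.node (.node (.leaf 60) (.leaf 188)) (.node (.leaf 124) (.leaf 239))))))) (.node (.node (.node (.node (.node (.node (.leaf 2) (.leaf 142)) (.node (.leaf 71) (.leaf 204))) (.node (.node (.leaf 44) (.leaf 162)) (.node (.leaf 141) (.leaf 226)))) (.node (.node (.node (.leaf 18) (.leaf 134)) (.node (.leaf 82) (.leaf 200))) (.node (.node (.leaf 50) (.leaf 178)) (.node (.leaf 114) (.leaf 239))))) (.node (.node (.node (.node (.leaf 10) (.leaf 149)) (.node (.leaf 69) (.leaf 212))) (.node (.node (.leaf 32) (.leaf 165)) (.node (.leaf 94) (.leaf 232)))) (.node (.node (.node (.leaf 36) (.leaf 154)) (.node (.leaf 101) (.leaf 218))) (.node (.node (.leaf 58) (.leaf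 186)) (.node (.leaf 122) (.leaf 239)))))) (.node (.node (.node (.node (.node (.leaf 8) (.leaf 146)) (.node (.leaf 75) (.leaf 208))) (.node (.node (.leaf 28) (.leaf 171)) (.node (.leaf 91) (.leaf 230)))) (.node (.node (.node (.leaf 22) (.leaf 139)) (.node (.leaf 86) (.leaf 214))) (.node (.node (.leaf 54) (.leaf 182)) (.node (.leaf 118) (.leaf 239))))) (.node (.node (.node (.node (.leaf 15) (.leaf 130)) (.node (.leaf 78) (.leaf 196))) (.node (.node (.leaf 46) (.leaf 174)) (.node (.leaf 110) (.leaf 238)))) (.node (.node (.node (.leaf 40) (.leaf 158)) (.node (.leaf 106) (.leaf 222))) (.node (.node (.leaf 62) (.leaf 190)) (.node (.leaf 126) (.leaf 239)))))))) (.node (.node (.node (.node (.node (.node (.node (.leaf 1) (.leaf 129)) (.node (.leaf 65) (.leaf 193))) (.node (.node (.leaf 43) (.leaf 161)) (.node (.leaf 109) (.leaf 224)))) (.node (.node (.node (.leaf 17) (.leaf 133)) (.node (.leaf 81) (.leaf 199))) (.node (.node (.leaf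 49) (.leaf 177)) (.node (.leaf 113) (.leaf 239))))) (.node (.node (.node (.node (.leaf 9) (.leaf 148)) (.node (.leaf 68) (.leaf 211))) (.node (.node (.leaf 31) (.leaf 164)) (.node (.leaf 93) (.leaf 231)))) (.node (.node (.node (.leaf 25) (.leaf 153)) (.node (.leaf 100) (.leaf 217))) (.node (.node (.leaf 57) (.leaf 185)) (.node (.leaf 121) (.leaf 239)))))) (.node (.node (.node (.node (.node (.leaf 7) (.leaf 145)) (.node (.leaf 74) (.leaf 207))) (.node (.node (.leaf 27) (.leaf 170)) (.node (.leaf 90) (.leaf 229)))) (.node (.node (.node (.leaf 21) (.leaf 138)) (.node (.leaf 85) (.leaf 203))) (.node (.node (.leaf 53) (.leaf 181)) (.node (.leaf 117) (.leaf 239))))) (.node (.node (.node (.node (.leaf 13) (.leaf 98)) (.node (.leaf 77) (.leaf 195))) (.node (.node (.leaf 35) (.leaf 168)) (.node (.leaf 97) (.leaf 237)))) (.node (.node (.node (.leaf 39) (.leaf 157)) (.node (.leaf 105) (.leaf 221))) (.node (.node (.leaf 61) (.leaf 189))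 (.node (.leaf 125) (.leaf 239))))))) (.node (.node (.node (.node (.node (.node (.leaf 3) (.leaf 143)) (.node (.leaf 72) (.leaf 205))) (.node (.node (.leaf 45) (.leaf 163)) (.node (.leaf 88) (.leaf 227)))) (.node (.node (.node (.leaf 19) (.leaf 136)) (.node (.leaf 83) (.leaf 201))) (.node (.node (.leaf 51) (.leaf 179)) (.node (.leaf 115) (.leaf 239))))) (.node (.node (.node (.node (.leaf 11) (.leaf 150)) (.node (.leaf 70) (.leaf 213))) (.node (.node (.leaf 33) (.leaf 166)) (.node (.leaf 95) (.leaf 235)))) (.node (.node (.node (.leaf 37) (.leaf 155)) (.node (.leaf 102) (.leaf 219))) (.node (.node (.leaf 59) (.leaf 187)) (.node (.leaf 123) (.leaf 239)))))) (.node (.node (.node (.node (.node (.leaf 5) (.leaf 135)) (.node (.leaf 66) (.leaf 209))) (.node (.node (.leaf 29) (.leaf 172)) (.node (.leaf 92) (.leaf 233)))) (.node (.node (.node (.leaf 23) (.leaf 140)) (.node (.leaf 87) (.leaf 215))) (.node (.node (.leaf 55) (.leaf 183))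 (.node (.leaf 119) (.leaf 239))))) (.node (.node (.node (.node (.leaf 14) (.leaf 131)) (.node (.leaf 79) (.leaf 197))) (.node (.node (.leaf 47) (.leaf 175)) (.node (.leaf 111) (.leaf 239)))) (.node (.node (.node (.leaf 41) (.leaf 159)) (.node (.leaf 107) (.leaf 223))) (.node (.node (.leaf 63) (.leaf 191)) (.node (.leaf 127) (.leaf 239))))))))

noncomputable def eta1 : Trie (ℤ) := .node (.node (.node (.node (.node (.node (.node (.node (.leaf 1) (.leaf 1)) (.node (.leaf 1) (.leaf 1))) (.node (.node (.leaf (-1)) (.leaf 1)) (.node (.leaf 1) (.leaf 1)))) (.node (.node (.node (.leaf 1) (.leaf 1)) (.node (.leaf 1) (.leaf (-1)))) (.node (.node (.leaf 1) (.leaf 1)) (.node (.leaf 1) (.leaf 1))))) (.node (.node (.node (.node (.leaf 1) (.leaf 1)) (.node (.leaf 1) (.leaf 1))) (.node (.node (.leaf 1) (.leaf 1)) (.node (.leaf 1) (.leaf 1)))) (.node (.node (.node (.leaf 1) (.leaf 1)) (.node (.leaf (-1)) (.leaf 1))) (.node (.node (.leaf 1)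 (.leaf 1)) (.node (.leaf 1) (.leaf 1)))))) (.node (.node (.node (.node (.node (.leaf 1) (.leaf (-1))) (.node (.leaf (-1)) (.leaf 1))) (.node (.node (.leaf 1) (.leaf 1)) (.node (.leaf 1) (.leaf 1)))) (.node (.node (.node (.leaf 1) (.leaf (-1))) (.node (.leaf 1) (.leaf (-1)))) (.node (.node (.leaf 1) (.leaf 1)) (.node (.leaf 1) (.leaf 1))))) (.node (.node (.node (.node (.leaf 1) (.leaf 1)) (.node (.leaf 1) (.leaf (-1)))) (.node (.node (.leaf 1) (.leaf (-1))) (.node (.leaf (-1)) (.leaf 1)))) (.node (.node (.node (.leaf (-1)) (.leaf 1)) (.node (.leaf (-1)) (.leaf 1))) (.node (.node (.leaf 1) (.leaf 1)) (.node (.leaf 1) (.leaf 1))))))) (.node (.node (.node (.node (.node (.node (.leaf 1) (.leaf (-1))) (.node (.leaf (-1)) (.leaf 1))) (.node (.node (.leaf (-1)) (.leaf 1)) (.node (.leaf (-1)) (.leaf 1)))) (.node (.node (.node (.leaf 1) (.leaf 1)) (.node (.leaf 1) (.leaf (-1)))) (.node (.node (.leaf 1) (.leaf 1)) (.node (.leaf 1) (.leaf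 1))))) (.node (.node (.node (.node (.leaf 1) (.leaf 1)) (.node (.leaf 1) (.leaf 1))) (.node (.node (.leaf 1) (.leaf (-1))) (.node (.leaf (-1)) (.leaf (-1))))) (.node (.node (.node (.leaf (-1)) (.leaf 1)) (.node (.leaf (-1)) (.leaf 1))) (.node (.node (.leaf 1) (.leaf 1)) (.node (.leaf 1) (.leaf 1)))))) (.node (.node (.node (.node (.node (.leaf (-1)) (.leaf (-1))) (.node (.leaf (-1)) (.leaf 1))) (.node (.node (.leaf 1) (.leaf 1)) (.node (.leaf 1) (.leaf 1)))) (.node (.node (.node (.leaf 1) (.leaf (-1))) (.node (.leaf 1) (.leaf 1))) (.node (.node (.leaf 1) (.leaf 1)) (.node (.leaf 1) (.leaf 1))))) (.node (.node (.node (.node (.leaf (-1)) (.leaf 1)) (.node (.leaf 1) (.leaf (-1)))) (.node (.node (.leaf 1) (.leaf 1)) (.node (.leaf 1) (.leaf 1)))) (.node (.node (.node (.leaf (-1)) (.leaf 1)) (.node (.leaf 1) (.leaf 1))) (.node (.node (.leaf 1) (.leaf 1)) (.node (.leaf 1) (.leaf 1)))))))) (.node (.node (.node (.node (.node (.node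 (.node (.leaf 1) (.leaf 1)) (.node (.leaf 1) (.leaf 1))) (.node (.node (.leaf (-1)) (.leaf 1)) (.node (.leaf 1) (.leaf (-1))))) (.node (.node (.node (.leaf 1) (.leaf 1)) (.node (.leaf 1) (.leaf (-1)))) (.node (.node (.leaf 1) (.leaf 1)) (.node (.leaf 1) (.leaf 1))))) (.node (.node (.node (.node (.leaf 1) (.leaf 1)) (.node (.leaf 1) (.leaf 1))) (.node (.node (.leaf 1) (.leaf (-1))) (.node (.leaf (-1)) (.leaf (-1))))) (.node (.node (.node (.leaf 1) (.leaf 1)) (.node (.leaf (-1)) (.leaf 1))) (.node (.node (.leaf 1) (.leaf 1)) (.node (.leaf 1) (.leaf 1)))))) (.node (.node (.node (.node (.node (.leaf (-1)) (.leaf (-1))) (.node (.leaf (-1)) (.leaf 1))) (.node (.node (.leaf 1) (.leaf 1)) (.node (.leaf 1) (.leaf 1)))) (.node (.node (.node (.leaf 1) (.leaf (-1))) (.node (.leaf 1) (.leaf (-1)))) (.node (.node (.leaf 1) (.leaf 1)) (.node (.leaf 1) (.leaf 1))))) (.node (.node (.node (.node (.leaf 1) (.leaf (-1))) (.node (.leaf 1) (.leaf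 (-1)))) (.node (.node (.leaf 1) (.leaf (-1))) (.node (.leaf (-1)) (.leaf 1)))) (.node (.node (.node (.leaf (-1)) (.leaf 1)) (.node (.leaf 1) (.leaf 1))) (.node (.node (.leaf 1) (.leaf 1)) (.node (.leaf 1) (.leaf 1))))))) (.node (.node (.node (.node (.node (.node (.leaf 1) (.leaf (-1))) (.node (.leaf (-1)) (.leaf 1))) (.node (.node (.leaf (-1)) (.leaf 1)) (.node (.leaf 1) (.leaf 1)))) (.node (.node (.node (.leaf 1) (.leaf (-1))) (.node (.leaf 1) (.leaf (-1)))) (.node (.node (.leaf 1) (.leaf 1)) (.node (.leaf 1) (.leaf 1))))) (.node (.node (.node (.node (.leaf 1) (.leaf 1)) (.node (.leaf 1) (.leaf 1))) (.node (.node (.leaf 1) (.leaf (-1))) (.node (.leaf (-1)) (.leaf 1)))) (.node (.node (.node (.leaf (-1)) (.leaf 1)) (.node (.leaf (-1)) (.leaf 1))) (.node (.node (.leaf 1) (.leaf 1)) (.node (.leaf 1) (.leaf 1)))))) (.node (.node (.node (.node (.node (.leaf 1) (.leaf 1)) (.node (.leaf 1) (.leaf 1))) (.node (.node (.leaf 1) (.leaf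 1)) (.node (.leaf 1) (.leaf 1)))) (.node (.node (.node (.leaf 1) (.leaf (-1))) (.node (.leaf 1) (.leaf 1))) (.node (.node (.leaf 1) (.leaf 1)) (.node (.leaf 1) (.leaf 1))))) (.node (.node (.node (.node (.leaf 1) (.leaf 1)) (.node (.leaf 1) (.leaf (-1)))) (.node (.node (.leaf 1) (.leaf 1)) (.node (.leaf 1) (.leaf 1)))) (.node (.node (.node (.leaf (-1)) (.leaf 1)) (.node (.leaf 1) (.leaf 1))) (.node (.node (.leaf 1) (.leaf 1)) (.node (.leaf 1) (.leaf 1))))))))

noncomputable def car1 : Trie (ℤ) := .node (.node (.node (.node (.node (.node (.node (.node (.leaf 0) (.leaf 0)) (.node (.leaf 0) (.leaf 0))) (.node (.node (.leaf (-1)) (.leaf 0)) (.node (.leaf (-1)) (.leaf (-1))))) (.node (.node (.node (.leaf 0) (.leaf 1)) (.node (.leaf 0) (.leaf 1))) (.node (.node (.leaf 0) (.leaf 0)) (.node (.leaf 0) (.leaf 0))))) (.node (.node (.node (.node (.leaf 1) (.leaf (-1))) (.node (.leaf 1) (.leaf (-1)))) (.node (.node (.leaf 1) (.leaf (-1)))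 (.node (.leaf 0) (.leaf (-1))))) (.node (.node (.node (.leaf 0) (.leaf 0)) (.node (.leaf (-1)) (.leaf 0))) (.node (.node (.leaf 0) (.leaf 0)) (.node (.leaf 0) (.leaf 0)))))) (.node (.node (.node (.node (.node (.leaf 0) (.leaf (-1))) (.node (.leaf (-1)) (.leaf (-1)))) (.node (.node (.leaf 1) (.leaf (-1))) (.node (.leaf 1) (.leaf 0)))) (.node (.node (.node (.leaf 0) (.leaf 1)) (.node (.leaf 0) (.leaf 1))) (.node (.node (.leaf 0) (.leaf 0)) (.node (.leaf 0) (.leaf 0))))) (.node (.node (.node (.node (.leaf 0) (.leaf (-1))) (.node (.leaf 0) (.leaf 1))) (.node (.node (.leaf 1) (.leaf 1)) (.node (.leaf 1) (.leaf 0)))) (.node (.node (.node (.leaf (-1)) (.leaf 0)) (.node (.leaf (-1)) (.leaf 0))) (.node (.node (.leaf 0) (.leaf 0)) (.node (.leaf 0) (.leaf 0))))))) (.node (.node (.node (.node (.node (.node (.leaf 0) (.leaf (-1))) (.node (.leaf (-1)) (.leaf (-1)))) (.node (.node (.leaf (-1)) (.leaf 0)) (.node (.leaf (-2)) (.leaf 0))))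 (.node (.node (.node (.leaf 0) (.leaf 1)) (.node (.leaf 0) (.leaf 1))) (.node (.node (.leaf 0) (.leaf 0)) (.node (.leaf 0) (.leaf 0))))) (.node (.node (.node (.node (.leaf 0) (.leaf (-1))) (.node (.leaf 1) (.leaf (-1)))) (.node (.node (.leaf 1) (.leaf 1)) (.node (.leaf 1) (.leaf 1)))) (.node (.node (.node (.leaf (-1)) (.leaf 0)) (.node (.leaf (-1)) (.leaf 0))) (.node (.node (.leaf 0) (.leaf 0)) (.node (.leaf 0) (.leaf 0)))))) (.node (.node (.node (.node (.node (.leaf (-1)) (.leaf (-1))) (.node (.leaf (-1)) (.leaf (-1)))) (.node (.node (.leaf 1) (.leaf (-1))) (.node (.leaf 1) (.leaf 0)))) (.node (.node (.node (.leaf 0) (.leaf 1)) (.node (.leaf 0) (.leaf 0))) (.node (.node (.leaf 0) (.leaf 0)) (.node (.leaf 0) (.leaf 0))))) (.node (.node (.node (.node (.leaf (-1)) (.leaf 1)) (.node (.leaf 0) (.leaf 1))) (.node (.node (.leaf 0) (.leaf 0)) (.node (.leaf 0) (.leaf 0)))) (.node (.node (.node (.leaf (-1)) (.leaf 0)) (.node (.leaf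 (-1)) (.leaf 0))) (.node (.node (.leaf 0) (.leaf 0)) (.node (.leaf 0) (.leaf 0)))))))) (.node (.node (.node (.node (.node (.node (.node (.leaf 0) (.leaf 0)) (.node (.leaf 0) (.leaf 0))) (.node (.node (.leaf (-1)) (.leaf 0)) (.node (.leaf (-1)) (.leaf 1)))) (.node (.node (.node (.leaf 0) (.leaf 1)) (.node (.leaf 0) (.leaf 1))) (.node (.node (.leaf 0) (.leaf 0)) (.node (.leaf 0) (.leaf 0))))) (.node (.node (.node (.node (.leaf 0) (.leaf (-1))) (.node (.leaf 1) (.leaf (-1)))) (.node (.node (.leaf 1) (.leaf 1)) (.node (.leaf 1) (.leaf 1)))) (.node (.node (.node (.leaf 0) (.leaf 0)) (.node (.leaf (-1)) (.leaf 0))) (.node (.node (.leaf 0) (.leaf 0)) (.node (.leaf 0) (.leaf 0)))))) (.node (.node (.node (.node (.node (.leaf (-1)) (.leaf (-1))) (.node (.leaf (-1)) (.leaf (-1)))) (.node (.node (.leaf 1) (.leaf (-1))) (.node (.leaf 1) (.leaf 0)))) (.node (.node (.node (.leaf 0) (.leaf 1)) (.node (.leaf 0) (.leaf 1))) (.node (.node (.leaf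 0) (.leaf 0)) (.node (.leaf 0) (.leaf 0))))) (.node (.node (.node (.node (.leaf 0) (.leaf 2)) (.node (.leaf 0) (.leaf 1))) (.node (.node (.leaf 1) (.leaf 1)) (.node (.leaf 1) (.leaf 0)))) (.node (.node (.node (.leaf (-1)) (.leaf 0)) (.node (.leaf (-1)) (.leaf 0))) (.node (.node (.leaf 0) (.leaf 0)) (.node (.leaf 0) (.leaf 0))))))) (.node (.node (.node (.node (.node (.node (.leaf 0) (.leaf (-1))) (.node (.leaf (-1)) (.leaf (-1)))) (.node (.node (.leaf (-1)) (.leaf 0)) (.node (.leaf 1) (.leaf 0)))) (.node (.node (.node (.leaf 0) (.leaf 1)) (.node (.leaf 0) (.leaf 1))) (.node (.node (.leaf 0) (.leaf 0)) (.node (.leaf 0) (.leaf 0))))) (.node (.node (.node (.node (.leaf 0) (.leaf (-1))) (.node (.leaf 1) (.leaf (-1)))) (.node (.node (.leaf 1) (.leaf 1)) (.node (.leaf 1) (.leaf 0)))) (.node (.node (.node (.leaf (-1)) (.leaf 0)) (.node (.leaf (-1)) (.leaf 0))) (.node (.node (.leaf 0) (.leaf 0)) (.node (.leaf 0) (.leaf 0)))))) (.node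 (.node (.node (.node (.node (.leaf 1) (.leaf 0)) (.node (.leaf 1) (.leaf (-1)))) (.node (.node (.leaf 1) (.leaf (-1))) (.node (.leaf 1) (.leaf (-1))))) (.node (.node (.node (.leaf 0) (.leaf 1)) (.node (.leaf 0) (.leaf 0))) (.node (.node (.leaf 0) (.leaf 0)) (.node (.leaf 0) (.leaf 0))))) (.node (.node (.node (.node (.leaf 1) (.leaf 1)) (.node (.leaf 0) (.leaf 1))) (.node (.node (.leaf 0) (.leaf 0)) (.node (.leaf 0) (.leaf 0)))) (.node (.node (.node (.leaf (-1)) (.leaf 0)) (.node (.leaf (-1)) (.leaf 0))) (.node (.node (.leaf 0) (.leaf 0)) (.node (.leaf 0) (.leaf 0))))))))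

noncomputable def pos1 : Trie (ℕ) := .node (.node (.node (.node (.node (.node (.node (.node (.leaf 21) (.leaf 642)) (.node (.leaf 465) (.leaf 797))) (.node (.node (.leaf 1047) (.leaf 757)) (.node (.leaf 1222) (.leaf 1446)))) (.node (.node (.node (.leaf 31) (.leaf 1692)) (.node (.leaf 365) (.leaf 1849))) (.node (.node (.leaf 351) (.leaf 743)) (.node (.leaf 576) (.leaf 972))))) (.node (.node (.node (.node (.leaf 1479) (.leaf 1254)) (.node (.leaf 1638) (.leaf 1415))) (.node (.node (.leaf 1491) (.leaf 1273)) (.node (.leaf 731) (.leaf 1450)))) (.node (.node (.node (.leaf 48) (.leaf 723)) (.node (.leaf 1191) (.leaf 771))) (.node (.node (.leaf 346) (.leaf 785)) (.node (.leaf 574) (.leaf 972)))))) (.node (.node (.node (.node (.node (.leaf 35) (.leaf 1244)) (.node (.leaf 1195) (.leaf 1398))) (.node (.node (.leaf 1483) (.leaf 1256)) (.node (.leaf 1641) (.leaf 813)))) (.node (.node (.node (.leaf 50) (.leaf 1708)) (.node (.leaf 467)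 (.leaf 1865))) (.node (.node (.leaf 459) (.leaf 755)) (.node (.leaf 621) (.leaf 972))))) (.node (.node (.node (.node (.leaf 46) (.leaf 1266)) (.node (.leaf 721) (.leaf 1844))) (.node (.node (.leaf 1498) (.leaf 1720)) (.node (.leaf 1670) (.leaf 967)))) (.node (.node (.node (.leaf 1039) (.leaf 737)) (.node (.leaf 1223) (.leaf 801))) (.node (.node (.leaf 363) (.leaf 789)) (.node (.leaf 632) (.leaf 972))))))) (.node (.node (.node (.node (.node (.node (.leaf 25) (.leaf 1241)) (.node (.leaf 1189) (.leaf 1396))) (.node (.node (.leaf 1050) (.leaf 733)) (.node (.leaf 0) (.leaf 811)))) (.node (.node (.node (.leaf 44) (.leaf 1696)) (.node (.leaf 385) (.leaf 1863))) (.node (.node (.leaf 361) (.leaf 749)) (.node (.leaf 560) (.leaf 972))))) (.node (.node (.node (.node (.leaf 37) (.leaf 1262)) (.node (.leaf 1646) (.leaf 1417))) (.node (.node (.leaf 1495) (.leaf 1717)) (.node (.leaf 1667) (.leaf 1898)))) (.node (.node (.node (.leaf 1035)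 (.leaf 728)) (.node (.leaf 1196) (.leaf 775))) (.node (.node (.leaf 353) (.leaf 787)) (.node (.leaf 625) (.leaf 972)))))) (.node (.node (.node (.node (.node (.leaf 1031) (.leaf 1248)) (.node (.leaf 1221) (.leaf 1401))) (.node (.node (.leaf 1487) (.leaf 1271)) (.node (.leaf 1655) (.leaf 815)))) (.node (.node (.node (.leaf 41) (.leaf 1712)) (.node (.leaf 469) (.leaf 765))) (.node (.node (.leaf 463) (.leaf 761)) (.node (.leaf 572) (.leaf 972))))) (.node (.node (.node (.node (.leaf 1033) (.leaf 1689)) (.node (.leaf 347) (.leaf 1846))) (.node (.node (.leaf 345) (.leaf 735)) (.node (.leaf 559) (.leaf 970)))) (.node (.node (.node (.leaf 1043) (.leaf 745)) (.node (.leaf 1219) (.leaf 807))) (.node (.node (.leaf 460) (.leaf 793)) (.node (.leaf 636) (.leaf 972)))))))) (.node (.node (.node (.node (.node (.node (.node (.leaf 23) (.leaf 644)) (.node (.leaf 476) (.leaf 803))) (.node (.node (.leaf 1049) (.leaf 763)) (.node (.leaf 1224) (.leaf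 1894)))) (.node (.node (.node (.leaf 39) (.leaf 1694)) (.node (.leaf 382) (.leaf 1851))) (.node (.node (.leaf 357) (.leaf 747)) (.node (.leaf 577) (.leaf 972))))) (.node (.node (.node (.node (.leaf 29) (.leaf 1260)) (.node (.leaf 1643) (.leaf 1416))) (.node (.node (.leaf 1493) (.leaf 1704)) (.node (.leaf 1666) (.leaf 1895)))) (.node (.node (.node (.leaf 51) (.leaf 726)) (.node (.leaf 1193) (.leaf 773))) (.node (.node (.leaf 350) (.leaf 786)) (.node (.leaf 623) (.leaf 972)))))) (.node (.node (.node (.node (.node (.leaf 1029) (.leaf 1246)) (.node (.leaf 1198) (.leaf 1399))) (.node (.node (.leaf 1485) (.leaf 1269)) (.node (.leaf 1644) (.leaf 814)))) (.node (.node (.node (.leaf 33) (.leaf 1710)) (.node (.leaf 468) (.leaf 1867))) (.node (.node (.leaf 461) (.leaf 759)) (.node (.leaf 562) (.leaf 972))))) (.node (.node (.node (.node (.leaf 49) (.leaf 0)) (.node (.leaf 722) (.leaf 1845))) (.node (.node (.leaf 1499) (.leaf 1721)) (.node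 (.leaf 1672) (.leaf 968)))) (.node (.node (.node (.leaf 1041) (.leaf 741)) (.node (.leaf 1218) (.leaf 805))) (.node (.node (.leaf 371) (.leaf 791)) (.node (.leaf 634) (.leaf 972))))))) (.node (.node (.node (.node (.node (.node (.leaf 27) (.leaf 1242)) (.node (.leaf 1190) (.leaf 1397))) (.node (.node (.leaf 1051) (.leaf 784)) (.node (.leaf 1639) (.leaf 812)))) (.node (.node (.node (.leaf 47) (.leaf 1702)) (.node (.leaf 389) (.leaf 1864))) (.node (.node (.leaf 369) (.leaf 751)) (.node (.leaf 570) (.leaf 972))))) (.node (.node (.node (.node (.leaf 43) (.leaf 1264)) (.node (.leaf 1669) (.leaf 1419))) (.node (.node (.leaf 1497) (.leaf 1719)) (.node (.leaf 1668) (.leaf 966)))) (.node (.node (.node (.leaf 1037) (.leaf 730)) (.node (.leaf 1207) (.leaf 799))) (.node (.node (.leaf 359) (.leaf 788)) (.node (.leaf 630) (.leaf 972)))))) (.node (.node (.node (.node (.node (.leaf 1477) (.leaf 783)) (.node (.leaf 1637) (.leaf 1403))) (.node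 (.node (.leaf 1489) (.leaf 1272)) (.node (.leaf 1671) (.leaf 1447)))) (.node (.node (.node (.leaf 45) (.leaf 1714)) (.node (.leaf 477) (.leaf 767))) (.node (.node (.leaf 475) (.leaf 769)) (.node (.leaf 564) (.leaf 972))))) (.node (.node (.node (.node (.leaf 1481) (.leaf 1690)) (.node (.leaf 355) (.leaf 1847))) (.node (.node (.leaf 349) (.leaf 739)) (.node (.leaf 569) (.leaf 972)))) (.node (.node (.node (.leaf 1045) (.leaf 753)) (.node (.leaf 1220) (.leaf 809))) (.node (.node (.leaf 462) (.leaf 795)) (.node (.leaf 640) (.leaf 972))))))))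

noncomputable def pi2 : Trie (ℕ) := .node (.node (.node (.node (.node (.node (.node (.node (.leaf 0) (.leaf 128)) (.node (.leaf 54) (.leaf 182))) (.node (.node (.leaf 32) (.leaf 160)) (.node (.leaf 91) (.leaf 224)))) (.node (.node (.node (.leaf 21) (.leaf 149)) (.node (.leaf 80) (.leaf 208))) (.node (.node (.leaf 58) (.leaf 186)) (.node (.leaf 112) (.leaf 239))))) (.node (.node (.node (.node (.leaf 7) (.leaf 130)) (.node (.leaf 72) (.leaf 200))) (.node (.node (.leaf 40) (.leaf 168)) (.node (.leaf 135) (.leaf 231)))) (.node (.node (.node (.leaf 19) (.leaf 152)) (.node (.leaf 93) (.leaf 221))) (.node (.node (.leaf 46) (.leaf 174)) (.node (.leaf 120) (.leaf 239)))))) (.node (.node (.node (.node (.node (.leaf 4) (.leaf 138)) (.node (.leaf 68) (.leaf 196))) (.node (.node (.leaf 36) (.leaf 164)) (.node (.leaf 106) (.leaf 228)))) (.node (.node (.node (.leaf 25) (.leaf 143)) (.node (.leaf 84) (.leaf 212))) (.node (.node (.leaf 62)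 (.leaf 190)) (.node (.leaf 116) (.leaf 239))))) (.node (.node (.node (.node (.leaf 12) (.leaf 134)) (.node (.leaf 77) (.leaf 204))) (.node (.node (.leaf 44) (.leaf 172)) (.node (.leaf 102) (.leaf 236)))) (.node (.node (.node (.leaf 28) (.leaf 156)) (.node (.leaf 97) (.leaf 215))) (.node (.node (.leaf 50) (.leaf 178)) (.node (.leaf 124) (.leaf 239))))))) (.node (.node (.node (.node (.node (.node (.leaf 2) (.leaf 136)) (.node (.leaf 66) (.leaf 194))) (.node (.node (.leaf 34) (.leaf 163)) (.node (.leaf 98) (.leaf 226)))) (.node (.node (.node (.leaf 23) (.leaf 151)) (.node (.leaf 82) (.leaf 210))) (.node (.node (.leaf 60) (.leaf 188)) (.node (.leaf 114) (.leaf 239))))) (.node (.node (.node (.node (.leaf 10) (.leaf 132)) (.node (.leaf 74) (.leaf 202))) (.node (.node (.leaf 42) (.leaf 170)) (.node (.leaf 100) (.leaf 233)))) (.node (.node (.node (.leaf 26) (.leaf 154)) (.node (.leaf 95) (.leaf 223))) (.node (.node (.leaf 48) (.leaf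 176)) (.node (.leaf 122) (.leaf 239)))))) (.node (.node (.node (.node (.node (.leaf 5) (.leaf 140)) (.node (.leaf 70) (.leaf 198))) (.node (.node (.leaf 38) (.leaf 166)) (.node (.leaf 108) (.leaf 230)))) (.node (.node (.node (.leaf 17) (.leaf 145)) (.node (.leaf 86) (.leaf 219))) (.node (.node (.leaf 64) (.leaf 192)) (.node (.leaf 118) (.leaf 239))))) (.node (.node (.node (.node (.leaf 14) (.leaf 147)) (.node (.leaf 78) (.leaf 206))) (.node (.node (.leaf 56) (.leaf 184)) (.node (.leaf 110) (.leaf 238)))) (.node (.node (.node (.leaf 30) (.leaf 158)) (.node (.leaf 89) (.leaf 217))) (.node (.node (.leaf 52) (.leaf 180)) (.node (.leaf 126) (.leaf 239)))))))) (.node (.node (.node (.node (.node (.node (.node (.leaf 1) (.leaf 129)) (.node (.leaf 55) (.leaf 183))) (.node (.node (.leaf 33) (.leaf 161)) (.node (.leaf 92) (.leaf 225)))) (.node (.node (.node (.leaf 22) (.leaf 150)) (.node (.leaf 81) (.leaf 209))) (.node (.node (.leaf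 59) (.leaf 187)) (.node (.leaf 113) (.leaf 239))))) (.node (.node (.node (.node (.leaf 9) (.leaf 131)) (.node (.leaf 73) (.leaf 201))) (.node (.node (.leaf 41) (.leaf 169)) (.node (.leaf 99) (.leaf 234)))) (.node (.node (.node (.leaf 20) (.leaf 153)) (.node (.leaf 94) (.leaf 222))) (.node (.node (.leaf 47) (.leaf 175)) (.node (.leaf 121) (.leaf 239)))))) (.node (.node (.node (.node (.node (.leaf 6) (.leaf 139)) (.node (.leaf 69) (.leaf 197))) (.node (.node (.leaf 37) (.leaf 165)) (.node (.leaf 107) (.leaf 229)))) (.node (.node (.node (.leaf 16) (.leaf 144)) (.node (.leaf 85) (.leaf 213))) (.node (.node (.leaf 63) (.leaf 191)) (.node (.leaf 117) (.leaf 239))))) (.node (.node (.node (.node (.leaf 13) (.leaf 141)) (.node (.leaf 76) (.leaf 205))) (.node (.node (.leaf 45) (.leaf 173)) (.node (.leaf 103) (.leaf 237)))) (.node (.node (.node (.leaf 29) (.leaf 157)) (.node (.leaf 88) (.leaf 216))) (.node (.node (.leaf 51) (.leaf 179))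 (.node (.leaf 125) (.leaf 239))))))) (.node (.node (.node (.node (.node (.node (.leaf 3) (.leaf 137)) (.node (.leaf 67) (.leaf 195))) (.node (.node (.leaf 35) (.leaf 162)) (.node (.leaf 105) (.leaf 227)))) (.node (.node (.node (.leaf 24) (.leaf 142)) (.node (.leaf 83) (.leaf 211))) (.node (.node (.leaf 61) (.leaf 189)) (.node (.leaf 115) (.leaf 239))))) (.node (.node (.node (.node (.leaf 11) (.leaf 133)) (.node (.leaf 75) (.leaf 203))) (.node (.node (.leaf 43) (.leaf 171)) (.node (.leaf 101) (.leaf 235)))) (.node (.node (.node (.leaf 27) (.leaf 155)) (.node (.leaf 96) (.leaf 214))) (.node (.node (.leaf 49) (.leaf 177)) (.node (.leaf 123) (.leaf 239)))))) (.node (.node (.node (.node (.node (.leaf 8) (.leaf 104)) (.node (.leaf 71) (.leaf 199))) (.node (.node (.leaf 39) (.leaf 167)) (.node (.leaf 109) (.leaf 232)))) (.node (.node (.node (.leaf 18) (.leaf 146)) (.node (.leaf 87) (.leaf 220))) (.node (.node (.leaf 65) (.leaf 193))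 (.node (.leaf 119) (.leaf 239))))) (.node (.node (.node (.node (.leaf 15) (.leaf 148)) (.node (.leaf 79) (.leaf 207))) (.node (.node (.leaf 57) (.leaf 185)) (.node (.leaf 111) (.leaf 239)))) (.node (.node (.node (.leaf 31) (.leaf 159)) (.node (.leaf 90) (.leaf 218))) (.node (.node (.leaf 53) (.leaf 181)) (.node (.leaf 127) (.leaf 239))))))))

noncomputable def eta2 : Trie (ℤ) := .node (.node (.node (.node (.node (.node (.node (.node (.leaf 1) (.leaf 1)) (.node (.leaf 1) (.leaf (-1)))) (.node (.node (.leaf 1) (.leaf 1)) (.node (.leaf 1) (.leaf 1)))) (.node (.node (.node (.leaf (-1)) (.leaf 1)) (.node (.leaf 1) (.leaf 1))) (.node (.node (.leaf (-1)) (.leaf 1)) (.node (.leaf 1) (.leaf 1))))) (.node (.node (.node (.node (.leaf 1) (.leaf 1)) (.node (.leaf 1) (.leaf 1))) (.node (.node (.leaf 1) (.leaf 1)) (.node (.leaf (-1)) (.leaf (-1))))) (.node (.node (.node (.leaf 1) (.leaf 1)) (.node (.leaf (-1)) (.leaf 1))) (.node (.node (.leaf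 1) (.leaf (-1))) (.node (.leaf 1) (.leaf 1)))))) (.node (.node (.node (.node (.node (.leaf 1) (.leaf (-1))) (.node (.leaf 1) (.leaf 1))) (.node (.node (.leaf 1) (.leaf 1)) (.node (.leaf 1) (.leaf 1)))) (.node (.node (.node (.leaf (-1)) (.leaf (-1))) (.node (.leaf 1) (.leaf 1))) (.node (.node (.leaf (-1)) (.leaf 1)) (.node (.leaf 1) (.leaf 1))))) (.node (.node (.node (.node (.leaf 1) (.leaf 1)) (.node (.leaf (-1)) (.leaf 1))) (.node (.node (.leaf 1) (.leaf 1)) (.node (.leaf (-1)) (.leaf 1)))) (.node (.node (.node (.leaf 1) (.leaf 1)) (.node (.leaf (-1)) (.leaf (-1)))) (.node (.node (.leaf 1) (.leaf (-1))) (.node (.leaf 1) (.leaf 1))))))) (.node (.node (.node (.node (.node (.node (.leaf 1) (.leaf (-1))) (.node (.leaf 1) (.leaf 1))) (.node (.node (.leaf 1) (.leaf 1)) (.node (.leaf 1) (.leaf 1)))) (.node (.node (.node (.leaf (-1)) (.leaf 1)) (.node (.leaf 1) (.leaf 1))) (.node (.node (.leaf (-1)) (.leaf 1)) (.node (.leaf 1) (.leaf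 1))))) (.node (.node (.node (.node (.leaf 1) (.leaf 1)) (.node (.leaf 1) (.leaf 1))) (.node (.node (.leaf 1) (.leaf 1)) (.node (.leaf (-1)) (.leaf (-1))))) (.node (.node (.node (.leaf 1) (.leaf 1)) (.node (.leaf (-1)) (.leaf 1))) (.node (.node (.leaf 1) (.leaf (-1))) (.node (.leaf 1) (.leaf 1)))))) (.node (.node (.node (.node (.node (.leaf 1) (.leaf (-1))) (.node (.leaf 1) (.leaf 1))) (.node (.node (.leaf 1) (.leaf 1)) (.node (.leaf 1) (.leaf 1)))) (.node (.node (.node (.leaf 1) (.leaf (-1))) (.node (.leaf 1) (.leaf 1))) (.node (.node (.leaf (-1)) (.leaf 1)) (.node (.leaf 1) (.leaf 1))))) (.node (.node (.node (.node (.leaf 1) (.leaf 1)) (.node (.leaf 1) (.leaf 1))) (.node (.node (.leaf (-1)) (.leaf 1)) (.node (.leaf 1) (.leaf 1)))) (.node (.node (.node (.leaf 1) (.leaf 1)) (.node (.leaf 1) (.leaf (-1)))) (.node (.node (.leaf 1) (.leaf (-1))) (.node (.leaf 1) (.leaf 1)))))))) (.node (.node (.node (.node (.node (.node (.node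 (.leaf 1) (.leaf 1)) (.node (.leaf 1) (.leaf (-1)))) (.node (.node (.leaf 1) (.leaf 1)) (.node (.leaf 1) (.leaf 1)))) (.node (.node (.node (.leaf (-1)) (.leaf 1)) (.node (.leaf 1) (.leaf 1))) (.node (.node (.leaf (-1)) (.leaf 1)) (.node (.leaf 1) (.leaf 1))))) (.node (.node (.node (.node (.leaf 1) (.leaf 1)) (.node (.leaf 1) (.leaf 1))) (.node (.node (.leaf 1) (.leaf 1)) (.node (.leaf (-1)) (.leaf 1)))) (.node (.node (.node (.leaf 1) (.leaf 1)) (.node (.leaf (-1)) (.leaf 1))) (.node (.node (.leaf 1) (.leaf (-1))) (.node (.leaf 1) (.leaf 1)))))) (.node (.node (.node (.node (.node (.leaf (-1)) (.leaf (-1))) (.node (.leaf 1) (.leaf 1))) (.node (.node (.leaf 1) (.leaf 1)) (.node (.leaf 1) (.leaf 1)))) (.node (.node (.node (.leaf 1) (.leaf (-1))) (.node (.leaf 1) (.leaf 1))) (.node (.node (.leaf (-1)) (.leaf 1)) (.node (.leaf 1) (.leaf 1))))) (.node (.node (.node (.node (.leaf 1) (.leaf 1)) (.node (.leaf 1) (.leaf 1))) (.node (.node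 (.leaf 1) (.leaf 1)) (.node (.leaf (-1)) (.leaf 1)))) (.node (.node (.node (.leaf 1) (.leaf 1)) (.node (.leaf 1) (.leaf (-1)))) (.node (.node (.leaf 1) (.leaf (-1))) (.node (.leaf 1) (.leaf 1))))))) (.node (.node (.node (.node (.node (.node (.leaf 1) (.leaf (-1))) (.node (.leaf 1) (.leaf 1))) (.node (.node (.leaf 1) (.leaf (-1))) (.node (.leaf 1) (.leaf 1)))) (.node (.node (.node (.leaf (-1)) (.leaf (-1))) (.node (.leaf 1) (.leaf 1))) (.node (.node (.leaf (-1)) (.leaf 1)) (.node (.leaf 1) (.leaf 1))))) (.node (.node (.node (.node (.leaf 1) (.leaf 1)) (.node (.leaf 1) (.leaf 1))) (.node (.node (.leaf 1) (.leaf 1)) (.node (.leaf (-1)) (.leaf 1)))) (.node (.node (.node (.leaf 1) (.leaf 1)) (.node (.leaf (-1)) (.leaf (-1)))) (.node (.node (.leaf 1) (.leaf (-1))) (.node (.leaf 1) (.leaf 1)))))) (.node (.node (.node (.node (.node (.leaf (-1)) (.leaf (-1))) (.node (.leaf 1) (.leaf 1))) (.node (.node (.leaf 1) (.leaf 1)) (.node (.leaf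 1) (.leaf 1)))) (.node (.node (.node (.leaf 1) (.leaf (-1))) (.node (.leaf 1) (.leaf 1))) (.node (.node (.leaf (-1)) (.leaf 1)) (.node (.leaf 1) (.leaf 1))))) (.node (.node (.node (.node (.leaf 1) (.leaf 1)) (.node (.leaf 1) (.leaf 1))) (.node (.node (.leaf (-1)) (.leaf 1)) (.node (.leaf 1) (.leaf 1)))) (.node (.node (.node (.leaf 1) (.leaf 1)) (.node (.leaf 1) (.leaf (-1)))) (.node (.node (.leaf 1) (.leaf (-1))) (.node (.leaf 1) (.leaf 1))))))))

noncomputable def car2 : Trie (ℤ) := .node (.node (.node (.node (.node (.node (.node (.node (.leaf 0) (.leaf 0)) (.node (.leaf 1) (.leaf 1))) (.node (.node (.leaf 0) (.leaf 0)) (.node (.leaf 1) (.leaf 0)))) (.node (.node (.node (.leaf (-1)) (.leaf (-1))) (.node (.leaf 0) (.leaf 0))) (.node (.node (.leaf (-1)) (.leaf (-1))) (.node (.leaf 0) (.leaf 0))))) (.node (.node (.node (.node (.leaf 1) (.leaf 1)) (.node (.leaf 0) (.leaf 0))) (.node (.node (.leaf 0) (.leaf 0)) (.node (.leaf (-2))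 (.leaf 1)))) (.node (.node (.node (.leaf 1) (.leaf 0)) (.node (.leaf (-1)) (.leaf (-1)))) (.node (.node (.leaf 1) (.leaf 1)) (.node (.leaf 0) (.leaf 0)))))) (.node (.node (.node (.node (.node (.leaf 0) (.leaf (-1))) (.node (.leaf 0) (.leaf 0))) (.node (.node (.leaf 0) (.leaf 0)) (.node (.leaf (-1)) (.leaf 0)))) (.node (.node (.node (.leaf (-1)) (.leaf 1)) (.node (.leaf 0) (.leaf 0))) (.node (.node (.leaf (-1)) (.leaf (-1))) (.node (.leaf 0) (.leaf 0))))) (.node (.node (.node (.node (.leaf 0) (.leaf 1)) (.node (.leaf (-1)) (.leaf 0))) (.node (.node (.leaf 0) (.leaf 0)) (.node (.leaf 1) (.leaf 0)))) (.node (.node (.node (.leaf 0) (.leaf 0)) (.node (.leaf (-1)) (.leaf 1))) (.node (.node (.leaf 1) (.leaf 1)) (.node (.leaf 0) (.leaf 0))))))) (.node (.node (.node (.node (.node (.node (.leaf 0) (.leaf (-1))) (.node (.leaf 0) (.leaf 0))) (.node (.node (.leaf 0) (.leaf (-1))) (.node (.leaf 0) (.leaf 0)))) (.node (.node (.node (.leaf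 (-1)) (.leaf (-1))) (.node (.leaf 0) (.leaf 0))) (.node (.node (.leaf (-1)) (.leaf (-1))) (.node (.leaf 0) (.leaf 0))))) (.node (.node (.node (.node (.leaf 0) (.leaf 1)) (.node (.leaf 0) (.leaf 0))) (.node (.node (.leaf 0) (.leaf 0)) (.node (.leaf 1) (.leaf 1)))) (.node (.node (.node (.leaf 0) (.leaf 0)) (.node (.leaf (-1)) (.leaf (-1)))) (.node (.node (.leaf 1) (.leaf 1)) (.node (.leaf 0) (.leaf 0)))))) (.node (.node (.node (.node (.node (.leaf 1) (.leaf (-1))) (.node (.leaf 0) (.leaf 0))) (.node (.node (.leaf 0) (.leaf 0)) (.node (.leaf (-1)) (.leaf 0)))) (.node (.node (.node (.leaf 1) (.leaf 1)) (.node (.leaf 0) (.leaf (-1)))) (.node (.node (.leaf (-1)) (.leaf (-1))) (.node (.leaf 0) (.leaf 0))))) (.node (.node (.node (.node (.leaf 0) (.leaf (-1))) (.node (.leaf 0) (.leaf 0))) (.node (.node (.leaf (-1)) (.leaf (-1))) (.node (.leaf 0) (.leaf 0)))) (.node (.node (.node (.leaf 0) (.leaf 0)) (.node (.leaf 1) (.leaf 1))) (.node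 (.node (.leaf 1) (.leaf 1)) (.node (.leaf 0) (.leaf 0)))))))) (.node (.node (.node (.node (.node (.node (.node (.leaf 0) (.leaf 0)) (.node (.leaf 1) (.leaf 1))) (.node (.node (.leaf 0) (.leaf 0)) (.node (.leaf 1) (.leaf 0)))) (.node (.node (.node (.leaf (-1)) (.leaf (-1))) (.node (.leaf 0) (.leaf 0))) (.node (.node (.leaf (-1)) (.leaf (-1))) (.node (.leaf 0) (.leaf 0))))) (.node (.node (.node (.node (.leaf 0) (.leaf 1)) (.node (.leaf 0) (.leaf 0))) (.node (.node (.leaf 0) (.leaf 0)) (.node (.leaf 1) (.leaf (-1))))) (.node (.node (.node (.leaf 1) (.leaf 0)) (.node (.leaf (-1)) (.leaf (-1)))) (.node (.node (.leaf 1) (.leaf 1)) (.node (.leaf 0) (.leaf 0)))))) (.node (.node (.node (.node (.node (.leaf (-1)) (.leaf (-1))) (.node (.leaf 0) (.leaf 0))) (.node (.node (.leaf 0) (.leaf 0)) (.node (.leaf (-1)) (.leaf 0)))) (.node (.node (.node (.leaf 1) (.leaf 1)) (.node (.leaf 0) (.leaf 0))) (.node (.node (.leaf (-1)) (.leaf (-1)))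 (.node (.leaf 0) (.leaf 0))))) (.node (.node (.node (.node (.leaf 0) (.leaf 0)) (.node (.leaf 1) (.leaf 0))) (.node (.node (.leaf 0) (.leaf 0)) (.node (.leaf 1) (.leaf 0)))) (.node (.node (.node (.leaf 0) (.leaf 0)) (.node (.leaf 1) (.leaf 1))) (.node (.node (.leaf 1) (.leaf 1)) (.node (.leaf 0) (.leaf 0))))))) (.node (.node (.node (.node (.node (.node (.leaf 0) (.leaf (-1))) (.node (.leaf 0) (.leaf 0))) (.node (.node (.leaf 0) (.leaf 1)) (.node (.leaf (-1)) (.leaf 0)))) (.node (.node (.node (.leaf (-1)) (.leaf 1)) (.node (.leaf 0) (.leaf 0))) (.node (.node (.leaf (-1)) (.leaf (-1))) (.node (.leaf 0) (.leaf 0))))) (.node (.node (.node (.node (.leaf 0) (.leaf 1)) (.node (.leaf 0) (.leaf 0))) (.node (.node (.leaf 0) (.leaf 0)) (.node (.leaf 1) (.leaf 0)))) (.node (.node (.node (.leaf 0) (.leaf 0)) (.node (.leaf (-1)) (.leaf 1))) (.node (.node (.leaf 1) (.leaf 1)) (.node (.leaf 0) (.leaf 0)))))) (.node (.node (.node (.node (.node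 (.leaf (-1)) (.leaf 2)) (.node (.leaf 0) (.leaf 0))) (.node (.node (.leaf 0) (.leaf 0)) (.node (.leaf (-1)) (.leaf (-1))))) (.node (.node (.node (.leaf 1) (.leaf 1)) (.node (.leaf 0) (.leaf (-1)))) (.node (.node (.leaf (-1)) (.leaf (-1))) (.node (.leaf 0) (.leaf 0))))) (.node (.node (.node (.node (.leaf 0) (.leaf (-1))) (.node (.leaf 0) (.leaf 0))) (.node (.node (.leaf (-1)) (.leaf (-1))) (.node (.leaf 0) (.leaf 0)))) (.node (.node (.node (.leaf 0) (.leaf 0)) (.node (.leaf 1) (.leaf 1))) (.node (.node (.leaf 1) (.leaf 1)) (.node (.leaf 0) (.leaf 0))))))))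

noncomputable def pos2 : Trie (ℕ) := .node (.node (.node (.node (.node (.node (.node (.node (.leaf 7) (.leaf 643)) (.node (.leaf 1553) (.leaf 1790))) (.node (.node (.leaf 130) (.leaf 758)) (.node (.leaf 1656) (.leaf 776)))) (.node (.node (.node (.leaf 1017) (.leaf 1263)) (.node (.leaf 366) (.leaf 798))) (.node (.node (.leaf 1085) (.leaf 1330)) (.node (.leaf 620) (.leaf 911))))) (.node (.node (.node (.node (.leaf 1464) (.leaf 1688)) (.node (.leaf 567) (.leaf 766))) (.node (.node (.leaf 125) (.leaf 748)) (.node (.leaf 0) (.leaf 1896)))) (.node (.node (.node (.leaf 1468) (.leaf 724)) (.node (.leaf 1192) (.leaf 1434))) (.node (.node (.leaf 1529) (.leaf 1774)) (.node (.leaf 575) (.leaf 911)))))) (.node (.node (.node (.node (.node (.leaf 11) (.leaf 1245)) (.node (.leaf 618) (.leaf 756))) (.node (.node (.leaf 95) (.leaf 734)) (.node (.leaf 1212) (.leaf 901)))) (.node (.node (.node (.leaf 1021) (.leaf 1709)) (.node (.leaf 405) (.leaf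 806))) (.node (.node (.leaf 1103) (.leaf 1338)) (.node (.leaf 622) (.leaf 911))))) (.node (.node (.node (.node (.leaf 103) (.leaf 1697)) (.node (.leaf 1239) (.leaf 790))) (.node (.node (.leaf 144) (.leaf 781)) (.node (.leaf 1662) (.leaf 908)))) (.node (.node (.node (.leaf 105) (.leaf 738)) (.node (.leaf 1215) (.leaf 1878))) (.node (.node (.leaf 1537) (.leaf 1784)) (.node (.leaf 633) (.leaf 911))))))) (.node (.node (.node (.node (.node (.node (.leaf 9) (.leaf 1240)) (.node (.leaf 556) (.leaf 750))) (.node (.node (.leaf 143) (.leaf 1217)) (.node (.leaf 732) (.leaf 897)))) (.node (.node (.node (.leaf 1019) (.leaf 1267)) (.node (.leaf 384) (.leaf 800))) (.node (.node (.leaf 1089) (.leaf 1336)) (.node (.leaf 561) (.leaf 911))))) (.node (.node (.node (.node (.leaf 91) (.leaf 1693)) (.node (.leaf 628) (.leaf 772))) (.node (.node (.leaf 132) (.leaf 779)) (.node (.leaf 1660) (.leaf 1897)))) (.node (.node (.node (.leaf 93) (.leaf 727))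 (.node (.leaf 1197) (.leaf 1436))) (.node (.node (.leaf 1533) (.leaf 1778)) (.node (.leaf 626) (.leaf 911)))))) (.node (.node (.node (.node (.node (.leaf 1463) (.leaf 1249)) (.node (.leaf 637) (.leaf 762))) (.node (.node (.leaf 107) (.leaf 740)) (.node (.leaf 1214) (.leaf 907)))) (.node (.node (.node (.leaf 1466) (.leaf 1713)) (.node (.leaf 410) (.leaf 1429))) (.node (.node (.leaf 1105) (.leaf 1342)) (.node (.leaf 573) (.leaf 911))))) (.node (.node (.node (.node (.leaf 12) (.leaf 1258)) (.node (.leaf 348) (.leaf 794))) (.node (.node (.leaf 1081) (.leaf 1326)) (.node (.leaf 558) (.leaf 910)))) (.node (.node (.node (.leaf 124) (.leaf 746)) (.node (.leaf 1642) (.leaf 1883))) (.node (.node (.leaf 1551) (.leaf 1786)) (.node (.leaf 639) (.leaf 911)))))))) (.node (.node (.node (.node (.node (.node (.node (.leaf 8) (.leaf 645)) (.node (.leaf 1559) (.leaf 1791))) (.node (.node (.leaf 141) (.leaf 764)) (.node (.leaf 1663) (.leaf 810))))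 (.node (.node (.node (.leaf 1018) (.leaf 1265)) (.node (.leaf 383) (.leaf 804))) (.node (.node (.leaf 1087) (.leaf 1332)) (.node (.leaf 629) (.leaf 911))))) (.node (.node (.node (.node (.leaf 89) (.leaf 1691)) (.node (.leaf 619) (.leaf 768))) (.node (.node (.leaf 128) (.leaf 778)) (.node (.leaf 1659) (.leaf 1449)))) (.node (.node (.node (.leaf 1469) (.leaf 725)) (.node (.leaf 1194) (.leaf 1435))) (.node (.node (.leaf 1531) (.leaf 1776)) (.node (.leaf 624) (.leaf 911)))))) (.node (.node (.node (.node (.node (.leaf 1015) (.leaf 1247)) (.node (.leaf 627) (.leaf 760))) (.node (.node (.leaf 101) (.leaf 736)) (.node (.leaf 1213) (.leaf 903)))) (.node (.node (.node (.leaf 1465) (.leaf 1711)) (.node (.leaf 406) (.leaf 808))) (.node (.node (.leaf 1104) (.leaf 1341)) (.node (.leaf 563) (.leaf 911))))) (.node (.node (.node (.node (.leaf 109) (.leaf 777)) (.node (.leaf 1687) (.leaf 792))) (.node (.node (.leaf 150) (.leaf 782)) (.node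 (.leaf 1664) (.leaf 909)))) (.node (.node (.node (.leaf 111) (.leaf 742)) (.node (.leaf 1640) (.leaf 1882))) (.node (.node (.leaf 1539) (.leaf 1785)) (.node (.leaf 635) (.leaf 911))))))) (.node (.node (.node (.node (.node (.node (.leaf 10) (.leaf 1243)) (.node (.leaf 566) (.leaf 752))) (.node (.node (.leaf 149) (.leaf 1665)) (.node (.leaf 1211) (.leaf 899)))) (.node (.node (.node (.leaf 1020) (.leaf 1706)) (.node (.leaf 388) (.leaf 802))) (.node (.node (.leaf 1091) (.leaf 1337)) (.node (.leaf 571) (.leaf 911))))) (.node (.node (.node (.node (.leaf 97) (.leaf 1695)) (.node (.leaf 638) (.leaf 774))) (.node (.node (.leaf 142) (.leaf 780)) (.node (.leaf 1661) (.leaf 905)))) (.node (.node (.node (.leaf 99) (.leaf 729)) (.node (.leaf 1208) (.leaf 1877))) (.node (.node (.leaf 1535) (.leaf 1780)) (.node (.leaf 631) (.leaf 911)))))) (.node (.node (.node (.node (.node (.leaf 1016) (.leaf 0)) (.node (.leaf 557) (.leaf 770))) (.node (.node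 (.leaf 113) (.leaf 744)) (.node (.leaf 1216) (.leaf 1448)))) (.node (.node (.node (.leaf 1467) (.leaf 1715)) (.node (.leaf 418) (.leaf 1430))) (.node (.node (.leaf 1111) (.leaf 1343)) (.node (.leaf 565) (.leaf 911))))) (.node (.node (.node (.node (.leaf 13) (.leaf 1261)) (.node (.leaf 356) (.leaf 796))) (.node (.node (.leaf 1083) (.leaf 1328)) (.node (.leaf 568) (.leaf 911)))) (.node (.node (.node (.leaf 126) (.leaf 754)) (.node (.leaf 1645) (.leaf 1884))) (.node (.node (.leaf 1552) (.leaf 1789)) (.node (.leaf 641) (.leaf 911))))))))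

noncomputable def pi3 : Trie (ℕ) := .node (.node (.node (.node (.node (.node (.node (.node (.leaf 0) (.leaf 133)) (.node (.leaf 68) (.leaf 198))) (.node (.node (.leaf 32) (.leaf 160)) (.node (.leaf 96) (.leaf 223)))) (.node (.node (.node (.leaf 15) (.leaf 144)) (.node (.leaf 80) (.leaf 208))) (.node (.node (.leaf 42) (.leaf 172)) (.node (.leaf 107) (.leaf 239))))) (.node (.node (.node (.node (.leaf 9) (.leaf 135)) (.node (.leaf 72) (.leaf 200))) (.node (.node (.leaf 46) (.leaf 168)) (.node (.leaf 103) (.leaf 232)))) (.node (.node (.node (.leaf 28) (.leaf 148)) (.node (.leaf 84) (.leaf 212))) (.node (.node (.leaf 56) (.leaf 184)) (.node (.leaf 120) (.leaf 239)))))) (.node (.node (.node (.node (.node (.leaf 5) (.leaf 127)) (.node (.leaf 64) (.leaf 190))) (.node (.node (.leaf 36) (.leaf 163)) (.node (.leaf 100) (.leaf 228)))) (.node (.node (.node (.leaf 20) (.leaf 152)) (.node (.leaf 88) (.leaf 216))) (.node (.node (.leaf 52)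 (.leaf 180)) (.node (.leaf 116) (.leaf 239))))) (.node (.node (.node (.node (.leaf 12) (.leaf 140)) (.node (.leaf 75) (.leaf 204))) (.node (.node (.leaf 50) (.leaf 176)) (.node (.leaf 113) (.leaf 236)))) (.node (.node (.node (.leaf 24) (.leaf 156)) (.node (.leaf 92) (.leaf 220))) (.node (.node (.leaf 60) (.leaf 194)) (.node (.leaf 124) (.leaf 239))))))) (.node (.node (.node (.node (.node (.node (.leaf 2) (.leaf 109)) (.node (.leaf 62) (.leaf 188))) (.node (.node (.leaf 34) (.leaf 162)) (.node (.leaf 97) (.leaf 226)))) (.node (.node (.node (.leaf 18) (.leaf 146)) (.node (.leaf 82) (.leaf 214))) (.node (.node (.leaf 44) (.leaf 178)) (.node (.leaf 114) (.leaf 239))))) (.node (.node (.node (.node (.leaf 10) (.leaf 138)) (.node (.leaf 74) (.leaf 202))) (.node (.node (.leaf 48) (.leaf 174)) (.node (.leaf 111) (.leaf 235)))) (.node (.node (.node (.leaf 22) (.leaf 150)) (.node (.leaf 86) (.leaf 218))) (.node (.node (.leaf 58) (.leaf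 186)) (.node (.leaf 122) (.leaf 239)))))) (.node (.node (.node (.node (.node (.leaf 6) (.leaf 129)) (.node (.leaf 70) (.leaf 192))) (.node (.node (.leaf 38) (.leaf 166)) (.node (.leaf 102) (.leaf 231)))) (.node (.node (.node (.leaf 26) (.leaf 154)) (.node (.leaf 90) (.leaf 210))) (.node (.node (.leaf 54) (.leaf 182)) (.node (.leaf 118) (.leaf 239))))) (.node (.node (.node (.node (.leaf 14) (.leaf 141)) (.node (.leaf 78) (.leaf 206))) (.node (.node (.leaf 40) (.leaf 170)) (.node (.leaf 105) (.leaf 238)))) (.node (.node (.node (.leaf 30) (.leaf 158)) (.node (.leaf 94) (.leaf 222))) (.node (.node (.leaf 66) (.leaf 196)) (.node (.leaf 131) (.leaf 239)))))))) (.node (.node (.node (.node (.node (.node (.node (.leaf 1) (.leaf 134)) (.node (.leaf 69) (.leaf 199))) (.node (.node (.leaf 33) (.leaf 161)) (.node (.leaf 98) (.leaf 225)))) (.node (.node (.node (.leaf 17) (.leaf 145)) (.node (.leaf 81) (.leaf 209))) (.node (.node (.leaf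 43) (.leaf 173)) (.node (.leaf 108) (.leaf 239))))) (.node (.node (.node (.node (.leaf 8) (.leaf 137)) (.node (.leaf 73) (.leaf 201))) (.node (.node (.leaf 47) (.leaf 169)) (.node (.leaf 110) (.leaf 233)))) (.node (.node (.node (.leaf 29) (.leaf 149)) (.node (.leaf 85) (.leaf 213))) (.node (.node (.leaf 57) (.leaf 185)) (.node (.leaf 121) (.leaf 239)))))) (.node (.node (.node (.node (.node (.leaf 4) (.leaf 128)) (.node (.leaf 65) (.leaf 191))) (.node (.node (.leaf 37) (.leaf 165)) (.node (.leaf 101) (.leaf 229)))) (.node (.node (.node (.leaf 21) (.leaf 153)) (.node (.leaf 89) (.leaf 217))) (.node (.node (.leaf 53) (.leaf 181)) (.node (.leaf 117) (.leaf 239))))) (.node (.node (.node (.node (.leaf 13) (.leaf 142)) (.node (.leaf 77) (.leaf 205))) (.node (.node (.leaf 51) (.leaf 177)) (.node (.leaf 130) (.leaf 237)))) (.node (.node (.node (.leaf 25) (.leaf 157)) (.node (.leaf 93) (.leaf 221))) (.node (.node (.leaf 61) (.leaf 195))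 (.node (.leaf 125) (.leaf 239))))))) (.node (.node (.node (.node (.node (.node (.leaf 3) (.leaf 126)) (.node (.leaf 63) (.leaf 189))) (.node (.node (.leaf 35) (.leaf 164)) (.node (.leaf 99) (.leaf 227)))) (.node (.node (.node (.leaf 19) (.leaf 147)) (.node (.leaf 83) (.leaf 215))) (.node (.node (.leaf 45) (.leaf 179)) (.node (.leaf 115) (.leaf 239))))) (.node (.node (.node (.node (.leaf 11) (.leaf 139)) (.node (.leaf 76) (.leaf 203))) (.node (.node (.leaf 49) (.leaf 175)) (.node (.leaf 112) (.leaf 234)))) (.node (.node (.node (.leaf 23) (.leaf 151)) (.node (.leaf 87) (.leaf 219))) (.node (.node (.leaf 59) (.leaf 187)) (.node (.leaf 123) (.leaf 239)))))) (.node (.node (.node (.node (.node (.leaf 7) (.leaf 136)) (.node (.leaf 71) (.leaf 193))) (.node (.node (.leaf 39) (.leaf 167)) (.node (.leaf 104) (.leaf 230)))) (.node (.node (.node (.leaf 27) (.leaf 155)) (.node (.leaf 91) (.leaf 211))) (.node (.node (.leaf 55) (.leaf 183))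 (.node (.leaf 119) (.leaf 239))))) (.node (.node (.node (.node (.leaf 16) (.leaf 143)) (.node (.leaf 79) (.leaf 207))) (.node (.node (.leaf 41) (.leaf 171)) (.node (.leaf 106) (.leaf 239)))) (.node (.node (.node (.leaf 31) (.leaf 159)) (.node (.leaf 95) (.leaf 224))) (.node (.node (.leaf 67) (.leaf 197)) (.node (.leaf 132) (.leaf 239))))))))

noncomputable def eta3 : Trie (ℤ) := .node (.node (.node (.node (.node (.node (.node (.node (.leaf 1) (.leaf (-1))) (.node (.leaf (-1)) (.leaf 1))) (.node (.node (.leaf 1) (.leaf 1)) (.node (.leaf 1) (.leaf (-1))))) (.node (.node (.node (.leaf 1) (.leaf 1)) (.node (.leaf 1) (.leaf 1))) (.node (.node (.leaf 1) (.leaf (-1))) (.node (.leaf (-1)) (.leaf 1))))) (.node (.node (.node (.node (.leaf (-1)) (.leaf (-1))) (.node (.leaf 1) (.leaf 1))) (.node (.node (.leaf (-1)) (.leaf 1)) (.node (.leaf 1) (.leaf 1)))) (.node (.node (.node (.leaf (-1)) (.leaf (-1))) (.node (.leaf 1) (.leaf (-1))))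 (.node (.node (.leaf 1) (.leaf 1)) (.node (.leaf 1) (.leaf 1)))))) (.node (.node (.node (.node (.node (.leaf (-1)) (.leaf 1)) (.node (.leaf 1) (.leaf (-1)))) (.node (.node (.leaf 1) (.leaf (-1))) (.node (.leaf 1) (.leaf 1)))) (.node (.node (.node (.leaf 1) (.leaf 1)) (.node (.leaf (-1)) (.leaf 1))) (.node (.node (.leaf 1) (.leaf 1)) (.node (.leaf 1) (.leaf 1))))) (.node (.node (.node (.node (.leaf 1) (.leaf 1)) (.node (.leaf 1) (.leaf 1))) (.node (.node (.leaf (-1)) (.leaf 1)) (.node (.leaf 1) (.leaf 1)))) (.node (.node (.node (.leaf 1) (.leaf 1)) (.node (.leaf 1) (.leaf 1))) (.node (.node (.leaf 1) (.leaf 1)) (.node (.leaf 1) (.leaf 1))))))) (.node (.node (.node (.node (.node (.node (.leaf 1) (.leaf (-1))) (.node (.leaf 1) (.leaf (-1)))) (.node (.node (.leaf 1) (.leaf 1)) (.node (.leaf 1) (.leaf 1)))) (.node (.node (.node (.leaf 1) (.leaf 1)) (.node (.leaf 1) (.leaf 1))) (.node (.node (.leaf 1) (.leaf 1)) (.node (.leaf 1)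 (.leaf 1))))) (.node (.node (.node (.node (.leaf 1) (.leaf 1)) (.node (.leaf 1) (.leaf 1))) (.node (.node (.leaf (-1)) (.leaf 1)) (.node (.leaf 1) (.leaf 1)))) (.node (.node (.node (.leaf 1) (.leaf (-1))) (.node (.leaf 1) (.leaf 1))) (.node (.node (.leaf 1) (.leaf 1)) (.node (.leaf 1) (.leaf 1)))))) (.node (.node (.node (.node (.node (.leaf 1) (.leaf 1)) (.node (.leaf 1) (.leaf (-1)))) (.node (.node (.leaf 1) (.leaf 1)) (.node (.leaf 1) (.leaf 1)))) (.node (.node (.node (.leaf (-1)) (.leaf 1)) (.node (.leaf (-1)) (.leaf (-1)))) (.node (.node (.leaf 1) (.leaf 1)) (.node (.leaf 1) (.leaf 1))))) (.node (.node (.node (.node (.leaf 1) (.leaf (-1))) (.node (.leaf 1) (.leaf 1))) (.node (.node (.leaf 1) (.leaf (-1))) (.node (.leaf (-1)) (.leaf 1)))) (.node (.node (.node (.leaf 1) (.leaf 1)) (.node (.leaf 1) (.leaf 1))) (.node (.node (.leaf (-1)) (.leaf 1)) (.node (.leaf (-1)) (.leaf 1)))))))) (.node (.node (.node (.node (.node (.node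 (.node (.leaf 1) (.leaf (-1))) (.node (.leaf (-1)) (.leaf 1))) (.node (.node (.leaf 1) (.leaf 1)) (.node (.leaf (-1)) (.leaf 1)))) (.node (.node (.node (.leaf 1) (.leaf 1)) (.node (.leaf 1) (.leaf 1))) (.node (.node (.leaf 1) (.leaf (-1))) (.node (.leaf (-1)) (.leaf 1))))) (.node (.node (.node (.node (.leaf 1) (.leaf 1)) (.node (.leaf 1) (.leaf 1))) (.node (.node (.leaf (-1)) (.leaf 1)) (.node (.leaf 1) (.leaf 1)))) (.node (.node (.node (.leaf (-1)) (.leaf (-1))) (.node (.leaf 1) (.leaf (-1)))) (.node (.node (.leaf 1) (.leaf 1)) (.node (.leaf 1) (.leaf 1)))))) (.node (.node (.node (.node (.node (.leaf 1) (.leaf 1)) (.node (.leaf 1) (.leaf (-1)))) (.node (.node (.leaf 1) (.leaf 1)) (.node (.leaf 1) (.leaf 1)))) (.node (.node (.node (.leaf 1) (.leaf 1)) (.node (.leaf (-1)) (.leaf 1))) (.node (.node (.leaf 1) (.leaf 1)) (.node (.leaf 1) (.leaf 1))))) (.node (.node (.node (.node (.leaf 1) (.leaf 1)) (.node (.leaf 1) (.leaf 1)))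 (.node (.node (.leaf (-1)) (.leaf 1)) (.node (.leaf (-1)) (.leaf 1)))) (.node (.node (.node (.leaf 1) (.leaf 1)) (.node (.leaf 1) (.leaf 1))) (.node (.node (.leaf 1) (.leaf 1)) (.node (.leaf 1) (.leaf 1))))))) (.node (.node (.node (.node (.node (.node (.leaf 1) (.leaf 1)) (.node (.leaf 1) (.leaf (-1)))) (.node (.node (.leaf 1) (.leaf 1)) (.node (.leaf 1) (.leaf 1)))) (.node (.node (.node (.leaf 1) (.leaf 1)) (.node (.leaf 1) (.leaf 1))) (.node (.node (.leaf 1) (.leaf 1)) (.node (.leaf 1) (.leaf 1))))) (.node (.node (.node (.node (.leaf 1) (.leaf 1)) (.node (.leaf (-1)) (.leaf 1))) (.node (.node (.leaf (-1)) (.leaf 1)) (.node (.leaf 1) (.leaf (-1))))) (.node (.node (.node (.leaf 1) (.leaf (-1))) (.node (.leaf 1) (.leaf 1))) (.node (.node (.leaf 1) (.leaf 1)) (.node (.leaf 1) (.leaf 1)))))) (.node (.node (.node (.node (.node (.leaf 1) (.leaf 1)) (.node (.leaf 1) (.leaf (-1)))) (.node (.node (.leaf 1) (.leaf 1)) (.node (.leaf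 (-1)) (.leaf (-1))))) (.node (.node (.node (.leaf (-1)) (.leaf 1)) (.node (.leaf (-1)) (.leaf (-1)))) (.node (.node (.leaf 1) (.leaf 1)) (.node (.leaf 1) (.leaf 1))))) (.node (.node (.node (.node (.leaf (-1)) (.leaf 1)) (.node (.leaf 1) (.leaf 1))) (.node (.node (.leaf 1) (.leaf (-1))) (.node (.leaf (-1)) (.leaf 1)))) (.node (.node (.node (.leaf 1) (.leaf 1)) (.node (.leaf 1) (.leaf 1))) (.node (.node (.leaf (-1)) (.leaf 1)) (.node (.leaf (-1)) (.leaf 1))))))))

noncomputable def car3 : Trie (ℤ) := .node (.node (.node (.node (.node (.node (.node (.node (.leaf 0) (.leaf (-1))) (.node (.leaf (-1)) (.leaf (-1)))) (.node (.node (.leaf 0) (.leaf 0)) (.node (.leaf 0) (.leaf 1)))) (.node (.node (.node (.leaf 1) (.leaf 0)) (.node (.leaf 0) (.leaf 0))) (.node (.node (.leaf 1) (.leaf 1)) (.node (.leaf 1) (.leaf 0))))) (.node (.node (.node (.node (.leaf (-1)) (.leaf 1)) (.node (.leaf 0) (.leaf 0))) (.node (.node (.leaf (-1)) (.leaf 0))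 (.node (.leaf 1) (.leaf 0)))) (.node (.node (.node (.leaf (-1)) (.leaf 1)) (.node (.leaf 1) (.leaf 1))) (.node (.node (.leaf 0) (.leaf 0)) (.node (.leaf 0) (.leaf 0)))))) (.node (.node (.node (.node (.node (.leaf (-1)) (.leaf 1)) (.node (.leaf 1) (.leaf 1))) (.node (.node (.leaf 0) (.leaf 1)) (.node (.leaf 0) (.leaf 0)))) (.node (.node (.node (.leaf 0) (.leaf (-1))) (.node (.leaf (-1)) (.leaf (-1)))) (.node (.node (.leaf 0) (.leaf 0)) (.node (.leaf 0) (.leaf 0))))) (.node (.node (.node (.node (.leaf 0) (.leaf 0)) (.node (.leaf 1) (.leaf 0))) (.node (.node (.leaf (-1)) (.leaf (-1))) (.node (.leaf (-1)) (.leaf 0)))) (.node (.node (.node (.leaf 1) (.leaf 0)) (.node (.leaf 0) (.leaf 0))) (.node (.node (.leaf 0) (.leaf (-1))) (.node (.leaf 0) (.leaf 0))))))) (.node (.node (.node (.node (.node (.node (.leaf 0) (.leaf 2)) (.node (.leaf 1) (.leaf 1))) (.node (.node (.leaf 0) (.leaf 0)) (.node (.leaf 1) (.leaf 0)))) (.node (.node (.node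 (.leaf 0) (.leaf 0)) (.node (.leaf 0) (.leaf (-1)))) (.node (.node (.leaf 1) (.leaf 0)) (.node (.leaf 0) (.leaf 0))))) (.node (.node (.node (.node (.leaf 0) (.leaf 0)) (.node (.leaf 0) (.leaf 0))) (.node (.node (.leaf (-1)) (.leaf (-1))) (.node (.leaf (-1)) (.leaf (-1))))) (.node (.node (.node (.leaf 1) (.leaf 1)) (.node (.leaf 1) (.leaf 0))) (.node (.node (.leaf 0) (.leaf 0)) (.node (.leaf 0) (.leaf 0)))))) (.node (.node (.node (.node (.node (.leaf 0) (.leaf 1)) (.node (.leaf 0) (.leaf 1))) (.node (.node (.leaf 0) (.leaf 0)) (.node (.leaf 0) (.leaf (-1))))) (.node (.node (.node (.leaf (-1)) (.leaf (-1))) (.node (.leaf (-1)) (.leaf 1))) (.node (.node (.leaf 0) (.leaf 0)) (.node (.leaf 0) (.leaf 0))))) (.node (.node (.node (.node (.leaf 0) (.leaf 1)) (.node (.leaf 0) (.leaf 0))) (.node (.node (.leaf 1) (.leaf 1)) (.node (.leaf 1) (.leaf 0)))) (.node (.node (.node (.leaf 0) (.leaf 0)) (.node (.leaf 0) (.leaf 0))) (.node (.node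 (.leaf (-1)) (.leaf (-1))) (.node (.leaf (-1)) (.leaf 0)))))))) (.node (.node (.node (.node (.node (.node (.node (.leaf 0) (.leaf (-1))) (.node (.leaf (-1)) (.leaf (-1)))) (.node (.node (.leaf 0) (.leaf 0)) (.node (.leaf (-1)) (.leaf 0)))) (.node (.node (.node (.leaf 0) (.leaf 0)) (.node (.leaf 0) (.leaf 0))) (.node (.node (.leaf 1) (.leaf 1)) (.node (.leaf 1) (.leaf 0))))) (.node (.node (.node (.node (.leaf 1) (.leaf 0)) (.node (.leaf 0) (.leaf 0))) (.node (.node (.leaf (-1)) (.leaf 0)) (.node (.leaf (-1)) (.leaf 0)))) (.node (.node (.node (.leaf (-1)) (.leaf 1)) (.node (.leaf 1) (.leaf 1))) (.node (.node (.leaf 0) (.leaf 0)) (.node (.leaf 0) (.leaf 0)))))) (.node (.node (.node (.node (.node (.leaf 1) (.leaf 1)) (.node (.leaf 1) (.leaf 1))) (.node (.node (.leaf 0) (.leaf 0)) (.node (.leaf 0) (.leaf 0)))) (.node (.node (.node (.leaf 0) (.leaf (-1))) (.node (.leaf (-1)) (.leaf (-1)))) (.node (.node (.leaf 0) (.leaf 0)) (.node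 (.leaf 0) (.leaf 0))))) (.node (.node (.node (.node (.leaf 0) (.leaf (-1))) (.node (.leaf 0) (.leaf 0))) (.node (.node (.leaf (-1)) (.leaf (-1))) (.node (.leaf (-2)) (.leaf 0)))) (.node (.node (.node (.leaf 1) (.leaf 0)) (.node (.leaf 0) (.leaf 0))) (.node (.node (.leaf 0) (.leaf (-1))) (.node (.leaf 0) (.leaf 0))))))) (.node (.node (.node (.node (.node (.node (.leaf 0) (.leaf 1)) (.node (.leaf 1) (.leaf 1))) (.node (.node (.leaf 0) (.leaf (-1))) (.node (.leaf 0) (.leaf 0)))) (.node (.node (.node (.leaf 0) (.leaf 0)) (.node (.leaf 0) (.leaf (-1)))) (.node (.node (.leaf 1) (.leaf 0)) (.node (.leaf 0) (.leaf 0))))) (.node (.node (.node (.node (.leaf 0) (.leaf 0)) (.node (.leaf (-1)) (.leaf 0))) (.node (.node (.leaf (-1)) (.leaf (-1))) (.node (.leaf (-1)) (.leaf 1)))) (.node (.node (.node (.leaf 1) (.leaf 1)) (.node (.leaf 1) (.leaf 0))) (.node (.node (.leaf 0) (.leaf 0)) (.node (.leaf 0) (.leaf 0)))))) (.node (.node (.node (.node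 (.node (.leaf 0) (.leaf (-1))) (.node (.leaf 0) (.leaf 1))) (.node (.node (.leaf 0) (.leaf 0)) (.node (.leaf (-1)) (.leaf 1)))) (.node (.node (.node (.leaf (-1)) (.leaf (-1))) (.node (.leaf (-1)) (.leaf 1))) (.node (.node (.leaf 0) (.leaf 0)) (.node (.leaf 0) (.leaf 0))))) (.node (.node (.node (.node (.leaf (-1)) (.leaf 0)) (.node (.leaf 0) (.leaf 0))) (.node (.node (.leaf 1) (.leaf 1)) (.node (.leaf 1) (.leaf 0)))) (.node (.node (.node (.leaf 0) (.leaf 0)) (.node (.leaf 0) (.leaf (-1)))) (.node (.node (.leaf (-1)) (.leaf (-1))) (.node (.leaf (-1)) (.leaf 0))))))))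

noncomputable def pos3 : Trie (ℕ) := .node (.node (.node (.node (.node (.node (.node (.node (.leaf 14) (.leaf 1230)) (.node (.leaf 1150) (.leaf 1371))) (.node (.node (.leaf 206) (.leaf 681)) (.node (.leaf 503) (.leaf 1887)))) (.node (.node (.node (.leaf 1472) (.leaf 662)) (.node (.leaf 227) (.leaf 851))) (.node (.node (.leaf 1511) (.leaf 1748)) (.node (.leaf 1682) (.leaf 940))))) (.node (.node (.node (.node (.leaf 1023) (.leaf 1684)) (.node (.leaf 489) (.leaf 685))) (.node (.node (.leaf 1059) (.leaf 676)) (.node (.leaf 1674) (.leaf 936)))) (.node (.node (.node (.leaf 1027) (.leaf 1736)) (.node (.leaf 1591) (.leaf 1875))) (.node (.node (.leaf 193) (.leaf 839)) (.node (.leaf 494) (.leaf 940)))))) (.node (.node (.node (.node (.node (.leaf 1022) (.leaf 1677)) (.node (.leaf 1598) (.leaf 1816))) (.node (.node (.leaf 65) (.leaf 1685)) (.node (.leaf 490) (.leaf 867)))) (.node (.node (.node (.leaf 74) (.leaf 1288)) (.node (.leaf 1143)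 (.leaf 1427))) (.node (.node (.leaf 480) (.leaf 680)) (.node (.leaf 547) (.leaf 940))))) (.node (.node (.node (.node (.leaf 70) (.leaf 667)) (.node (.leaf 1673) (.leaf 843))) (.node (.node (.leaf 1066) (.leaf 1300)) (.node (.leaf 1235) (.leaf 937)))) (.node (.node (.node (.leaf 1475) (.leaf 671)) (.node (.leaf 668) (.leaf 855))) (.node (.node (.leaf 226) (.leaf 1366)) (.node (.leaf 554) (.leaf 940))))))) (.node (.node (.node (.node (.node (.node (.leaf 16) (.leaf 0)) (.node (.leaf 1587) (.leaf 1814))) (.node (.node (.leaf 224) (.leaf 669)) (.node (.leaf 1675) (.leaf 865)))) (.node (.node (.node (.leaf 68) (.leaf 666)) (.node (.leaf 267) (.leaf 1421))) (.node (.node (.leaf 1514) (.leaf 677)) (.node (.leaf 484) (.leaf 940))))) (.node (.node (.node (.node (.leaf 61) (.leaf 663)) (.node (.leaf 551) (.leaf 688))) (.node (.node (.leaf 1063) (.leaf 1297)) (.node (.leaf 1233) (.leaf 1451)))) (.node (.node (.node (.leaf 1473) (.leaf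 1740)) (.node (.leaf 1602) (.leaf 690))) (.node (.node (.leaf 209) (.leaf 841)) (.node (.leaf 549) (.leaf 940)))))) (.node (.node (.node (.node (.node (.leaf 18) (.leaf 1679)) (.node (.leaf 658) (.leaf 1819))) (.node (.node (.leaf 72) (.leaf 672)) (.node (.leaf 552) (.leaf 1440)))) (.node (.node (.node (.leaf 1025) (.leaf 1292)) (.node (.leaf 1154) (.leaf 1869))) (.node (.node (.leaf 544) (.leaf 683)) (.node (.leaf 493) (.leaf 940))))) (.node (.node (.node (.node (.leaf 19) (.leaf 1686)) (.node (.leaf 195) (.leaf 847))) (.node (.node (.leaf 1507) (.leaf 1745)) (.node (.leaf 1680) (.leaf 939)))) (.node (.node (.node (.leaf 191) (.leaf 675)) (.node (.leaf 491) (.leaf 861))) (.node (.node (.leaf 1139) (.leaf 1368)) (.node (.leaf 1228) (.leaf 940)))))))) (.node (.node (.node (.node (.node (.node (.node (.leaf 15) (.leaf 1231)) (.node (.leaf 1158) (.leaf 1372))) (.node (.node (.leaf 220) (.leaf 684)) (.node (.leaf 1227) (.leaf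 863)))) (.node (.node (.node (.leaf 63) (.leaf 664)) (.node (.leaf 263) (.leaf 857))) (.node (.node (.leaf 1513) (.leaf 1749)) (.node (.leaf 1683) (.leaf 940))))) (.node (.node (.node (.node (.leaf 1471) (.leaf 660)) (.node (.leaf 545) (.leaf 686))) (.node (.node (.leaf 1061) (.leaf 838)) (.node (.leaf 1232) (.leaf 869)))) (.node (.node (.node (.leaf 1028) (.leaf 1738)) (.node (.leaf 1593) (.leaf 1876))) (.node (.node (.leaf 203) (.leaf 840)) (.node (.leaf 548) (.leaf 940)))))) (.node (.node (.node (.node (.node (.leaf 1470) (.leaf 1678)) (.node (.leaf 1606) (.leaf 1818))) (.node (.node (.leaf 69) (.leaf 670)) (.node (.leaf 546) (.leaf 868)))) (.node (.node (.node (.leaf 20) (.leaf 1290)) (.node (.leaf 1145) (.leaf 1428))) (.node (.node (.leaf 488) (.leaf 682)) (.node (.leaf 485) (.leaf 940))))) (.node (.node (.node (.node (.leaf 73) (.leaf 1238)) (.node (.leaf 659) (.leaf 845))) (.node (.node (.leaf 1067) (.leaf 1301)) (.node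 (.leaf 0) (.leaf 938)))) (.node (.node (.node (.leaf 1476) (.leaf 673)) (.node (.leaf 483) (.leaf 859))) (.node (.node (.leaf 238) (.leaf 1367)) (.node (.leaf 555) (.leaf 940))))))) (.node (.node (.node (.node (.node (.node (.leaf 17) (.leaf 1676)) (.node (.leaf 1589) (.leaf 1815))) (.node (.node (.leaf 236) (.leaf 1237)) (.node (.leaf 482) (.leaf 866)))) (.node (.node (.node (.leaf 71) (.leaf 837)) (.node (.leaf 273) (.leaf 1422))) (.node (.node (.leaf 1515) (.leaf 678)) (.node (.leaf 492) (.leaf 940))))) (.node (.node (.node (.node (.leaf 67) (.leaf 665)) (.node (.leaf 1225) (.leaf 689))) (.node (.node (.leaf 1065) (.leaf 1299)) (.node (.leaf 1234) (.leaf 1899)))) (.node (.node (.node (.leaf 1474) (.leaf 1742)) (.node (.leaf 1626) (.leaf 853))) (.node (.node (.leaf 222) (.leaf 842)) (.node (.leaf 553) (.leaf 940)))))) (.node (.node (.node (.node (.node (.leaf 59) (.leaf 1236)) (.node (.leaf 481) (.leaf 1820))) (.node (.node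 (.leaf 75) (.leaf 674)) (.node (.leaf 1226) (.leaf 1888)))) (.node (.node (.node (.leaf 1026) (.leaf 1294)) (.node (.leaf 1178) (.leaf 1870))) (.node (.node (.leaf 550) (.leaf 687)) (.node (.leaf 486) (.leaf 940))))) (.node (.node (.node (.node (.leaf 1024) (.leaf 661)) (.node (.leaf 216) (.leaf 849))) (.node (.node (.leaf 1509) (.leaf 1747)) (.node (.leaf 1681) (.leaf 940)))) (.node (.node (.node (.leaf 200) (.leaf 679)) (.node (.leaf 495) (.leaf 1439))) (.node (.node (.leaf 1141) (.leaf 1370)) (.node (.leaf 1229) (.leaf 940))))))))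

noncomputable def pi4 : Trie (ℕ) := .node (.node (.node (.node (.node (.node (.node (.node (.leaf 0) (.leaf 124)) (.node (.leaf 61) (.leaf 192))) (.node (.node (.leaf 29) (.leaf 160)) (.node (.leaf 97) (.leaf 224)))) (.node (.node (.node (.leaf 17) (.leaf 144)) (.node (.leaf 80) (.leaf 211))) (.node (.node (.leaf 48) (.leaf 179)) (.node (.leaf 116) (.leaf 239))))) (.node (.node (.node (.node (.leaf 8) (.leaf 137)) (.node (.leaf 72) (.leaf 197))) (.node (.node (.leaf 37) (.leaf 168)) (.node (.leaf 104) (.leaf 232)))) (.node (.node (.node (.leaf 24) (.leaf 152)) (.node (.leaf 88) (.leaf 216))) (.node (.node (.leaf 56) (.leaf 184)) (.node (.leaf 120) (.leaf 239)))))) (.node (.node (.node (.node (.node (.leaf 3) (.leaf 132)) (.node (.leaf 68) (.leaf 196))) (.node (.node (.leaf 36) (.leaf 165)) (.node (.leaf 100) (.leaf 228)))) (.node (.node (.node (.leaf 20) (.leaf 147)) (.node (.leaf 81) (.leaf 209))) (.node (.node (.leaf 49)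 (.leaf 177)) (.node (.leaf 112) (.leaf 239))))) (.node (.node (.node (.node (.leaf 12) (.leaf 140)) (.node (.leaf 76) (.leaf 204))) (.node (.node (.leaf 44) (.leaf 172)) (.node (.leaf 109) (.leaf 235)))) (.node (.node (.node (.leaf 31) (.leaf 153)) (.node (.leaf 91) (.leaf 220))) (.node (.node (.leaf 63) (.leaf 185)) (.node (.leaf 128) (.leaf 239))))))) (.node (.node (.node (.node (.node (.node (.leaf 2) (.leaf 131)) (.node (.leaf 66) (.leaf 194))) (.node (.node (.leaf 34) (.leaf 162)) (.node (.leaf 98) (.leaf 226)))) (.node (.node (.node (.leaf 18) (.leaf 146)) (.node (.leaf 85) (.leaf 207))) (.node (.node (.leaf 53) (.leaf 175)) (.node (.leaf 110) (.leaf 239))))) (.node (.node (.node (.node (.leaf 9) (.leaf 138)) (.node (.leaf 75) (.leaf 199))) (.node (.node (.leaf 39) (.leaf 169)) (.node (.leaf 106) (.leaf 234)))) (.node (.node (.node (.leaf 26) (.leaf 157)) (.node (.leaf 90) (.leaf 217))) (.node (.node (.leaf 58) (.leaf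 189)) (.node (.leaf 122) (.leaf 239)))))) (.node (.node (.node (.node (.node (.leaf 6) (.leaf 134)) (.node (.leaf 69) (.leaf 201))) (.node (.node (.leaf 41) (.leaf 166)) (.node (.leaf 103) (.leaf 229)))) (.node (.node (.node (.leaf 21) (.leaf 150)) (.node (.leaf 83) (.leaf 214))) (.node (.node (.leaf 51) (.leaf 182)) (.node (.leaf 118) (.leaf 239))))) (.node (.node (.node (.node (.leaf 14) (.leaf 143)) (.node (.leaf 78) (.leaf 206))) (.node (.node (.leaf 46) (.leaf 174)) (.node (.leaf 114) (.leaf 238)))) (.node (.node (.node (.leaf 27) (.leaf 155)) (.node (.leaf 94) (.leaf 223))) (.node (.node (.leaf 59) (.leaf 187)) (.node (.leaf 113) (.leaf 239)))))))) (.node (.node (.node (.node (.node (.node (.node (.leaf 1) (.leaf 125)) (.node (.leaf 65) (.leaf 193))) (.node (.node (.leaf 33) (.leaf 161)) (.node (.leaf 96) (.leaf 225)))) (.node (.node (.node (.leaf 16) (.leaf 145)) (.node (.leaf 84) (.leaf 212))) (.node (.node (.leaf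 52) (.leaf 180)) (.node (.leaf 126) (.leaf 239))))) (.node (.node (.node (.node (.leaf 10) (.leaf 136)) (.node (.leaf 73) (.leaf 198))) (.node (.node (.leaf 38) (.leaf 170)) (.node (.leaf 105) (.leaf 233)))) (.node (.node (.node (.leaf 25) (.leaf 156)) (.node (.leaf 89) (.leaf 218))) (.node (.node (.leaf 57) (.leaf 188)) (.node (.leaf 121) (.leaf 239)))))) (.node (.node (.node (.node (.node (.leaf 5) (.leaf 133)) (.node (.leaf 70) (.leaf 200))) (.node (.node (.leaf 40) (.leaf 164)) (.node (.leaf 101) (.leaf 230)))) (.node (.node (.node (.leaf 22) (.leaf 149)) (.node (.leaf 82) (.leaf 213))) (.node (.node (.leaf 50) (.leaf 181)) (.node (.leaf 117) (.leaf 239))))) (.node (.node (.node (.node (.leaf 13) (.leaf 141)) (.node (.leaf 77) (.leaf 205))) (.node (.node (.leaf 45) (.leaf 173)) (.node (.leaf 108) (.leaf 237)))) (.node (.node (.node (.leaf 32) (.leaf 154)) (.node (.leaf 93) (.leaf 221))) (.node (.node (.leaf 64) (.leaf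 186)) (.node (.leaf 129) (.leaf 239))))))) (.node (.node (.node (.node (.node (.node (.leaf 4) (.leaf 130)) (.node (.leaf 67) (.leaf 195))) (.node (.node (.leaf 35) (.leaf 163)) (.node (.leaf 99) (.leaf 227)))) (.node (.node (.node (.leaf 19) (.leaf 148)) (.node (.leaf 86) (.leaf 208))) (.node (.node (.leaf 54) (.leaf 176)) (.node (.leaf 111) (.leaf 239))))) (.node (.node (.node (.node (.leaf 11) (.leaf 139)) (.node (.leaf 74) (.leaf 203))) (.node (.node (.leaf 43) (.leaf 171)) (.node (.leaf 107) (.leaf 236)))) (.node (.node (.node (.leaf 30) (.leaf 158)) (.node (.leaf 92) (.leaf 219))) (.node (.node (.leaf 62) (.leaf 190)) (.node (.leaf 127) (.leaf 239)))))) (.node (.node (.node (.node (.node (.leaf 7) (.leaf 135)) (.node (.leaf 71) (.leaf 202))) (.node (.node (.leaf 42) (.leaf 167)) (.node (.leaf 102) (.leaf 231)))) (.node (.node (.node (.leaf 23) (.leaf 151)) (.node (.leaf 87) (.leaf 215))) (.node (.node (.leaf 55) (.leaf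 183)) (.node (.leaf 119) (.leaf 239))))) (.node (.node (.node (.node (.leaf 15) (.leaf 142)) (.node (.leaf 79) (.leaf 210))) (.node (.node (.leaf 47) (.leaf 178)) (.node (.leaf 115) (.leaf 239)))) (.node (.node (.node (.leaf 28) (.leaf 159)) (.node (.leaf 95) (.leaf 222))) (.node (.node (.leaf 60) (.leaf 191)) (.node (.leaf 123) (.leaf 239))))))))

noncomputable def eta4 : Trie (ℤ) := .node (.node (.node (.node (.node (.node (.node (.node (.leaf 1) (.leaf 1)) (.node (.leaf 1) (.leaf 1))) (.node (.node (.leaf 1) (.leaf 1)) (.node (.leaf (-1)) (.leaf 1)))) (.node (.node (.node (.leaf (-1)) (.leaf 1)) (.node (.leaf 1) (.leaf 1))) (.node (.node (.leaf 1) (.leaf 1)) (.node (.leaf 1) (.leaf 1))))) (.node (.node (.node (.node (.leaf 1) (.leaf 1)) (.node (.leaf 1) (.leaf (-1)))) (.node (.node (.leaf 1) (.leaf 1)) (.node (.leaf 1) (.leaf 1)))) (.node (.node (.node (.leaf 1) (.leaf 1)) (.node (.leaf 1) (.leaf 1))) (.node (.node (.leaf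 1) (.leaf 1)) (.node (.leaf 1) (.leaf 1)))))) (.node (.node (.node (.node (.node (.leaf 1) (.leaf 1)) (.node (.leaf 1) (.leaf 1))) (.node (.node (.leaf 1) (.leaf 1)) (.node (.leaf 1) (.leaf 1)))) (.node (.node (.node (.leaf 1) (.leaf (-1))) (.node (.leaf 1) (.leaf (-1)))) (.node (.node (.leaf 1) (.leaf (-1))) (.node (.leaf (-1)) (.leaf 1))))) (.node (.node (.node (.node (.leaf 1) (.leaf 1)) (.node (.leaf 1) (.leaf 1))) (.node (.node (.leaf 1) (.leaf 1)) (.node (.leaf (-1)) (.leaf (-1))))) (.node (.node (.node (.leaf (-1)) (.leaf (-1))) (.node (.leaf 1) (.leaf 1))) (.node (.node (.leaf (-1)) (.leaf (-1))) (.node (.leaf (-1)) (.leaf 1))))))) (.node (.node (.node (.node (.node (.node (.leaf 1) (.leaf 1)) (.node (.leaf 1) (.leaf 1))) (.node (.node (.leaf 1) (.leaf 1)) (.node (.leaf 1) (.leaf 1)))) (.node (.node (.node (.leaf 1) (.leaf 1)) (.node (.leaf (-1)) (.leaf (-1)))) (.node (.node (.leaf (-1)) (.leaf (-1))) (.node (.leaf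 (-1)) (.leaf 1))))) (.node (.node (.node (.node (.leaf 1) (.leaf 1)) (.node (.leaf (-1)) (.leaf (-1)))) (.node (.node (.leaf 1) (.leaf (-1))) (.node (.leaf 1) (.leaf 1)))) (.node (.node (.node (.leaf 1) (.leaf 1)) (.node (.leaf 1) (.leaf (-1)))) (.node (.node (.leaf 1) (.leaf 1)) (.node (.leaf 1) (.leaf 1)))))) (.node (.node (.node (.node (.node (.leaf 1) (.leaf 1)) (.node (.leaf 1) (.leaf 1))) (.node (.node (.leaf (-1)) (.leaf 1)) (.node (.leaf (-1)) (.leaf (-1))))) (.node (.node (.node (.leaf 1) (.leaf 1)) (.node (.leaf 1) (.leaf 1))) (.node (.node (.leaf 1) (.leaf 1)) (.node (.leaf 1) (.leaf 1))))) (.node (.node (.node (.node (.leaf 1) (.leaf 1)) (.node (.leaf 1) (.leaf 1))) (.node (.node (.leaf 1) (.leaf 1)) (.node (.leaf 1) (.leaf 1)))) (.node (.node (.node (.leaf 1) (.leaf (-1))) (.node (.leaf 1) (.leaf 1))) (.node (.node (.leaf 1) (.leaf (-1))) (.node (.leaf (-1)) (.leaf 1)))))))) (.node (.node (.node (.node (.node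 (.node (.node (.leaf 1) (.leaf 1)) (.node (.leaf 1) (.leaf 1))) (.node (.node (.leaf 1) (.leaf 1)) (.node (.leaf 1) (.leaf 1)))) (.node (.node (.node (.leaf 1) (.leaf 1)) (.node (.leaf (-1)) (.leaf 1))) (.node (.node (.leaf (-1)) (.leaf 1)) (.node (.leaf (-1)) (.leaf 1))))) (.node (.node (.node (.node (.leaf (-1)) (.leaf (-1))) (.node (.leaf 1) (.leaf (-1)))) (.node (.node (.leaf 1) (.leaf 1)) (.node (.leaf 1) (.leaf 1)))) (.node (.node (.node (.leaf 1) (.leaf 1)) (.node (.leaf 1) (.leaf 1))) (.node (.node (.leaf 1) (.leaf 1)) (.node (.leaf 1) (.leaf 1)))))) (.node (.node (.node (.node (.node (.leaf 1) (.leaf 1)) (.node (.leaf (-1)) (.leaf 1))) (.node (.node (.leaf (-1)) (.leaf (-1))) (.node (.leaf 1) (.leaf 1)))) (.node (.node (.node (.leaf (-1)) (.leaf 1)) (.node (.leaf 1) (.leaf 1))) (.node (.node (.leaf 1) (.leaf 1)) (.node (.leaf 1) (.leaf 1))))) (.node (.node (.node (.node (.leaf 1) (.leaf 1)) (.node (.leaf 1) (.leaf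 1))) (.node (.node (.leaf 1) (.leaf 1)) (.node (.leaf 1) (.leaf 1)))) (.node (.node (.node (.leaf (-1)) (.leaf (-1))) (.node (.leaf 1) (.leaf 1))) (.node (.node (.leaf (-1)) (.leaf (-1))) (.node (.leaf (-1)) (.leaf 1))))))) (.node (.node (.node (.node (.node (.node (.leaf (-1)) (.leaf (-1))) (.node (.leaf 1) (.leaf 1))) (.node (.node (.leaf 1) (.leaf 1)) (.node (.leaf 1) (.leaf 1)))) (.node (.node (.node (.leaf 1) (.leaf 1)) (.node (.leaf (-1)) (.leaf (-1)))) (.node (.node (.leaf (-1)) (.leaf (-1))) (.node (.leaf (-1)) (.leaf 1))))) (.node (.node (.node (.node (.leaf 1) (.leaf 1)) (.node (.leaf 1) (.leaf 1))) (.node (.node (.leaf 1) (.leaf 1)) (.node (.leaf 1) (.leaf 1)))) (.node (.node (.node (.leaf (-1)) (.leaf 1)) (.node (.leaf (-1)) (.leaf 1))) (.node (.node (.leaf (-1)) (.leaf 1)) (.node (.leaf (-1)) (.leaf 1)))))) (.node (.node (.node (.node (.node (.leaf 1) (.leaf 1)) (.node (.leaf 1) (.leaf 1))) (.node (.node (.leaf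 (-1)) (.leaf 1)) (.node (.leaf 1) (.leaf 1)))) (.node (.node (.node (.leaf 1) (.leaf 1)) (.node (.leaf 1) (.leaf 1))) (.node (.node (.leaf 1) (.leaf 1)) (.node (.leaf 1) (.leaf 1))))) (.node (.node (.node (.node (.leaf 1) (.leaf (-1))) (.node (.leaf 1) (.leaf 1))) (.node (.node (.leaf 1) (.leaf 1)) (.node (.leaf 1) (.leaf 1)))) (.node (.node (.node (.leaf 1) (.leaf 1)) (.node (.leaf 1) (.leaf (-1)))) (.node (.node (.leaf 1) (.leaf 1)) (.node (.leaf 1) (.leaf 1))))))))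

noncomputable def car4 : Trie (ℤ) := .node (.node (.node (.node (.node (.node (.node (.node (.leaf 0) (.leaf 1)) (.node (.leaf 1) (.leaf 0))) (.node (.node (.leaf 1) (.leaf 0)) (.node (.leaf (-1)) (.leaf 0)))) (.node (.node (.node (.leaf (-1)) (.leaf 0)) (.node (.leaf 0) (.leaf (-1)))) (.node (.node (.leaf 0) (.leaf (-1))) (.node (.leaf (-1)) (.leaf 0))))) (.node (.node (.node (.node (.leaf 0) (.leaf (-1))) (.node (.leaf 0) (.leaf 1))) (.node (.node (.leaf 1) (.leaf 0)) (.node (.leaf 0) (.leaf 0)))) (.node (.node (.node (.leaf 0) (.leaf 0)) (.node (.leaf 0) (.leaf 0))) (.node (.node (.leaf 0) (.leaf 0)) (.node (.leaf 0) (.leaf 0)))))) (.node (.node (.node (.node (.node (.leaf 1) (.leaf 0)) (.node (.leaf 0) (.leaf 0))) (.node (.node (.leaf 0) (.leaf (-1))) (.node (.leaf 0) (.leaf 0)))) (.node (.node (.node (.leaf 0) (.leaf 1)) (.node (.leaf 1) (.leaf 1))) (.node (.node (.leaf 1) (.leaf 1)) (.node (.leaf 1) (.leaf 0))))) (.node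 (.node (.node (.node (.leaf 0) (.leaf 0)) (.node (.leaf 0) (.leaf 0))) (.node (.node (.leaf 0) (.leaf 0)) (.node (.leaf (-1)) (.leaf 1)))) (.node (.node (.node (.leaf (-1)) (.leaf 1)) (.node (.leaf 1) (.leaf 0))) (.node (.node (.leaf (-1)) (.leaf 1)) (.node (.leaf (-1)) (.leaf 0))))))) (.node (.node (.node (.node (.node (.node (.leaf 0) (.leaf (-1))) (.node (.leaf 0) (.leaf 0))) (.node (.node (.leaf 0) (.leaf 0)) (.node (.leaf 0) (.leaf 0)))) (.node (.node (.node (.leaf 0) (.leaf 0)) (.node (.leaf (-1)) (.leaf 1))) (.node (.node (.leaf (-1)) (.leaf 1)) (.node (.leaf 1) (.leaf 0))))) (.node (.node (.node (.node (.leaf 1) (.leaf 0)) (.node (.leaf (-1)) (.leaf 1))) (.node (.node (.leaf 1) (.leaf 1)) (.node (.leaf 0) (.leaf 0)))) (.node (.node (.node (.leaf 0) (.leaf (-1))) (.node (.leaf 0) (.leaf 1))) (.node (.node (.leaf 0) (.leaf (-1))) (.node (.leaf 0) (.leaf 0)))))) (.node (.node (.node (.node (.node (.leaf 0) (.leaf 0))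 (.node (.leaf 1) (.leaf (-1)))) (.node (.node (.leaf (-1)) (.leaf 0)) (.node (.leaf (-1)) (.leaf 1)))) (.node (.node (.node (.leaf 1) (.leaf 0)) (.node (.leaf 1) (.leaf 0))) (.node (.node (.leaf 1) (.leaf 0)) (.node (.leaf 0) (.leaf 0))))) (.node (.node (.node (.node (.leaf 0) (.leaf (-1))) (.node (.leaf 0) (.leaf 0))) (.node (.node (.leaf 0) (.leaf 0)) (.node (.leaf (-1)) (.leaf 0)))) (.node (.node (.node (.leaf 1) (.leaf 1)) (.node (.leaf 0) (.leaf (-1)))) (.node (.node (.leaf 1) (.leaf 1)) (.node (.leaf 2) (.leaf 0)))))))) (.node (.node (.node (.node (.node (.node (.node (.leaf 0) (.leaf 1)) (.node (.leaf 0) (.leaf 0))) (.node (.node (.leaf 0) (.leaf 0)) (.node (.leaf 1) (.leaf 0)))) (.node (.node (.node (.leaf 1) (.leaf 0)) (.node (.leaf (-1)) (.leaf (-1)))) (.node (.node (.leaf (-1)) (.leaf (-1))) (.node (.leaf (-2)) (.leaf 0))))) (.node (.node (.node (.node (.leaf (-1)) (.leaf 1)) (.node (.leaf 0) (.leaf 1))) (.node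 (.node (.leaf 1) (.leaf (-1))) (.node (.leaf 0) (.leaf 0)))) (.node (.node (.node (.leaf 0) (.leaf (-1))) (.node (.leaf 0) (.leaf (-1)))) (.node (.node (.leaf 0) (.leaf (-1))) (.node (.leaf 0) (.leaf 0)))))) (.node (.node (.node (.node (.node (.leaf 0) (.leaf 0)) (.node (.leaf (-1)) (.leaf (-1)))) (.node (.node (.leaf (-1)) (.leaf 1)) (.node (.leaf 0) (.leaf (-1))))) (.node (.node (.node (.leaf (-1)) (.leaf 0)) (.node (.leaf 1) (.leaf 0))) (.node (.node (.leaf 1) (.leaf 0)) (.node (.leaf 0) (.leaf 0))))) (.node (.node (.node (.node (.leaf 0) (.leaf 0)) (.node (.leaf 0) (.leaf 0))) (.node (.node (.leaf 0) (.leaf 0)) (.node (.leaf 1) (.leaf 0)))) (.node (.node (.node (.leaf (-1)) (.leaf 1)) (.node (.leaf 0) (.leaf 0))) (.node (.node (.leaf (-1)) (.leaf 1)) (.node (.leaf (-1)) (.leaf 0))))))) (.node (.node (.node (.node (.node (.node (.leaf (-1)) (.leaf 1)) (.node (.leaf 0) (.leaf 0))) (.node (.node (.leaf 0) (.leaf 0)) (.node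 (.leaf 0) (.leaf 0)))) (.node (.node (.node (.leaf 0) (.leaf (-1))) (.node (.leaf (-1)) (.leaf 1))) (.node (.node (.leaf (-1)) (.leaf 1)) (.node (.leaf 1) (.leaf 0))))) (.node (.node (.node (.node (.leaf 0) (.leaf 0)) (.node (.leaf 1) (.leaf 0))) (.node (.node (.leaf 0) (.leaf 0)) (.node (.leaf 0) (.leaf (-1))))) (.node (.node (.node (.leaf (-1)) (.leaf (-1))) (.node (.leaf (-1)) (.leaf 0))) (.node (.node (.leaf (-1)) (.leaf (-1))) (.node (.leaf (-1)) (.leaf 0)))))) (.node (.node (.node (.node (.node (.leaf 0) (.leaf 0)) (.node (.leaf 0) (.leaf (-1)))) (.node (.node (.leaf (-1)) (.leaf 0)) (.node (.leaf 1) (.leaf 0)))) (.node (.node (.node (.leaf 0) (.leaf 0)) (.node (.leaf 0) (.leaf 0))) (.node (.node (.leaf 0) (.leaf 0)) (.node (.leaf 0) (.leaf 0))))) (.node (.node (.node (.node (.leaf 0) (.leaf 1)) (.node (.leaf 0) (.leaf (-1)))) (.node (.node (.leaf 0) (.leaf (-1))) (.node (.leaf (-1)) (.leaf 0)))) (.node (.node (.node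 (.leaf 1) (.leaf 0)) (.node (.leaf 0) (.leaf 1))) (.node (.node (.leaf 1) (.leaf 0)) (.node (.leaf 1) (.leaf 0))))))))

noncomputable def pos4 : Trie (ℕ) := .node (.node (.node (.node (.node (.node (.node (.node (.leaf 22) (.leaf 1654)) (.node (.leaf 1554) (.leaf 613))) (.node (.node (.leaf 1490) (.leaf 608)) (.node (.leaf 1203) (.leaf 895)))) (.node (.node (.node (.leaf 1034) (.leaf 589)) (.node (.leaf 145) (.leaf 1408))) (.node (.node (.leaf 114) (.leaf 1331)) (.node (.leaf 1252) (.leaf 973))))) (.node (.node (.node (.node (.leaf 38) (.leaf 1255)) (.node (.leaf 393) (.leaf 1848))) (.node (.node (.leaf 1492) (.leaf 603)) (.node (.leaf 581) (.leaf 912)))) (.node (.node (.node (.leaf 127) (.leaf 880)) (.node (.leaf 368) (.leaf 893))) (.node (.node (.leaf 120) (.leaf 882)) (.node (.leaf 403) (.leaf 973)))))) (.node (.node (.node (.node (.node (.leaf 1478) (.leaf 582)) (.node (.leaf 372) (.leaf 885))) (.node (.node (.leaf 42)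 (.leaf 1257)) (.node (.leaf 395) (.leaf 902)))) (.node (.node (.node (.leaf 112) (.leaf 1716)) (.node (.leaf 1547) (.leaf 1866))) (.node (.node (.leaf 1536) (.leaf 1781)) (.node (.leaf 1700) (.leaf 973))))) (.node (.node (.node (.node (.leaf 104) (.leaf 594)) (.node (.leaf 580) (.leaf 886))) (.node (.node (.leaf 391) (.leaf 605)) (.node (.leaf 1204) (.leaf 1900)))) (.node (.node (.node (.leaf 1040) (.leaf 1770)) (.node (.leaf 1648) (.leaf 892))) (.node (.node (.leaf 1097) (.leaf 1787)) (.node (.leaf 1206) (.leaf 973))))))) (.node (.node (.node (.node (.node (.node (.leaf 26) (.leaf 1253)) (.node (.leaf 360) (.leaf 883))) (.node (.node (.leaf 362) (.leaf 596)) (.node (.leaf 578) (.leaf 898)))) (.node (.node (.node (.leaf 100) (.leaf 593)) (.node (.leaf 1101) (.leaf 1854))) (.node (.node (.leaf 1090) (.leaf 1777)) (.node (.leaf 1698) (.leaf 973))))) (.node (.node (.node (.node (.leaf 1480) (.leaf 590)) (.node (.leaf 1201) (.leaf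 1852))) (.node (.node (.leaf 1496) (.leaf 1718)) (.node (.leaf 399) (.leaf 913)))) (.node (.node (.node (.leaf 34) (.leaf 1323)) (.node (.leaf 390) (.leaf 1879))) (.node (.node (.leaf 133) (.leaf 1344)) (.node (.leaf 474) (.leaf 973)))))) (.node (.node (.node (.node (.node (.leaf 30) (.leaf 584)) (.node (.leaf 1647) (.leaf 1402))) (.node (.node (.leaf 1046) (.leaf 599)) (.node (.leaf 1202) (.leaf 1881)))) (.node (.node (.node (.leaf 1484) (.leaf 600)) (.node (.leaf 1557) (.leaf 889))) (.node (.node (.leaf 1540) (.leaf 610)) (.node (.leaf 401) (.leaf 973))))) (.node (.node (.node (.node (.leaf 32) (.leaf 1259)) (.node (.leaf 122) (.leaf 888))) (.node (.node (.leaf 102) (.leaf 881)) (.node (.leaf 1250) (.leaf 971)))) (.node (.node (.node (.leaf 1486) (.leaf 1772)) (.node (.leaf 397) (.leaf 1432))) (.node (.node (.leaf 1543) (.leaf 1793)) (.node (.leaf 0) (.leaf 973)))))))) (.node (.node (.node (.node (.node (.node (.node (.leaf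 24) (.leaf 1657)) (.node (.leaf 585) (.leaf 615))) (.node (.node (.leaf 358) (.leaf 611)) (.node (.leaf 1651) (.leaf 896)))) (.node (.node (.node (.leaf 1482) (.leaf 591)) (.node (.leaf 1099) (.leaf 1418))) (.node (.node (.leaf 1088) (.leaf 1333)) (.node (.leaf 0) (.leaf 973))))) (.node (.node (.node (.node (.leaf 1032) (.leaf 1703)) (.node (.leaf 466) (.leaf 1850))) (.node (.node (.leaf 1494) (.leaf 1270)) (.node (.leaf 377) (.leaf 906)))) (.node (.node (.node (.leaf 131) (.leaf 1322)) (.node (.leaf 386) (.leaf 1431))) (.node (.node (.leaf 129) (.leaf 1339)) (.node (.leaf 473) (.leaf 973)))))) (.node (.node (.node (.node (.node (.leaf 28) (.leaf 583)) (.node (.leaf 1199) (.leaf 1400))) (.node (.node (.leaf 1044) (.leaf 1705)) (.node (.leaf 470) (.leaf 1433)))) (.node (.node (.node (.leaf 1036) (.leaf 598)) (.node (.leaf 1549) (.leaf 617))) (.node (.node (.leaf 1538) (.leaf 609)) (.node (.leaf 378) (.leaf 973))))) (.node (.node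 (.node (.node (.leaf 110) (.leaf 588)) (.node (.leaf 586) (.leaf 887))) (.node (.node (.leaf 464) (.leaf 607)) (.node (.leaf 1652) (.leaf 969)))) (.node (.node (.node (.leaf 1042) (.leaf 1771)) (.node (.leaf 376) (.leaf 894))) (.node (.node (.leaf 1106) (.leaf 1792)) (.node (.leaf 1209) (.leaf 973))))))) (.node (.node (.node (.node (.node (.node (.leaf 1030) (.leaf 1701)) (.node (.leaf 364) (.leaf 884))) (.node (.node (.leaf 370) (.leaf 597)) (.node (.leaf 375) (.leaf 900)))) (.node (.node (.node (.leaf 106) (.leaf 1268)) (.node (.leaf 1109) (.leaf 1856))) (.node (.node (.leaf 1092) (.leaf 1779)) (.node (.leaf 1699) (.leaf 973))))) (.node (.node (.node (.node (.leaf 98) (.leaf 592)) (.node (.leaf 1649) (.leaf 616))) (.node (.node (.leaf 373) (.leaf 604)) (.node (.leaf 472) (.leaf 1452)))) (.node (.node (.node (.leaf 1038) (.leaf 1324)) (.node (.leaf 1200) (.leaf 891))) (.node (.node (.leaf 1095) (.leaf 1345)) (.node (.leaf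 1205) (.leaf 973)))))) (.node (.node (.node (.node (.node (.leaf 36) (.leaf 587)) (.node (.leaf 374) (.leaf 1404))) (.node (.node (.leaf 1048) (.leaf 601)) (.node (.leaf 1650) (.leaf 904)))) (.node (.node (.node (.leaf 118) (.leaf 602)) (.node (.leaf 595) (.leaf 890))) (.node (.node (.leaf 579) (.leaf 614)) (.node (.leaf 379) (.leaf 973))))) (.node (.node (.node (.node (.leaf 40) (.leaf 1707)) (.node (.leaf 139) (.leaf 1406))) (.node (.node (.leaf 108) (.leaf 1329)) (.node (.leaf 1251) (.leaf 973)))) (.node (.node (.node (.leaf 1488) (.leaf 606)) (.node (.leaf 471) (.leaf 1880))) (.node (.node (.leaf 1545) (.leaf 612)) (.node (.leaf 1653) (.leaf 973))))))))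

noncomputable def pi5 : Trie (ℕ) := .node (.node (.node (.node (.node (.node (.node (.node (.leaf 0) (.leaf 128)) (.node (.leaf 65) (.leaf 190))) (.node (.node (.leaf 34) (.leaf 158)) (.node (.leaf 95) (.leaf 224)))) (.node (.node (.node (.leaf 16) (.leaf 143)) (.node (.leaf 82) (.leaf 206))) (.node (.node (.leaf 50) (.leaf 176)) (.node (.leaf 113) (.leaf 239))))) (.node (.node (.node (.node (.leaf 8) (.leaf 136)) (.node (.leaf 72) (.leaf 200))) (.node (.node (.leaf 40) (.leaf 168)) (.node (.leaf 104) (.leaf 232)))) (.node (.node (.node (.leaf 24) (.leaf 153)) (.node (.leaf 88) (.leaf 217))) (.node (.node (.leaf 56) (.leaf 185)) (.node (.leaf 120) (.leaf 239)))))) (.node (.node (.node (.node (.node (.leaf 4) (.leaf 131)) (.node (.leaf 69) (.leaf 198))) (.node (.node (.leaf 37) (.leaf 164)) (.node (.leaf 100) (.leaf 229)))) (.node (.node (.node (.leaf 20) (.leaf 149)) (.node (.leaf 84) (.leaf 213))) (.node (.node (.leaf 52)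 (.leaf 182)) (.node (.leaf 123) (.leaf 239))))) (.node (.node (.node (.node (.leaf 12) (.leaf 140)) (.node (.leaf 76) (.leaf 204))) (.node (.node (.leaf 42) (.leaf 172)) (.node (.leaf 107) (.leaf 237)))) (.node (.node (.node (.leaf 28) (.leaf 156)) (.node (.leaf 92) (.leaf 220))) (.node (.node (.leaf 58) (.leaf 188)) (.node (.leaf 121) (.leaf 239))))))) (.node (.node (.node (.node (.node (.node (.leaf 3) (.leaf 130)) (.node (.leaf 66) (.leaf 194))) (.node (.node (.leaf 32) (.leaf 162)) (.node (.leaf 98) (.leaf 226)))) (.node (.node (.node (.leaf 17) (.leaf 146)) (.node (.leaf 80) (.leaf 210))) (.node (.node (.leaf 48) (.leaf 178)) (.node (.leaf 117) (.leaf 239))))) (.node (.node (.node (.node (.leaf 11) (.leaf 137)) (.node (.leaf 73) (.leaf 203))) (.node (.node (.leaf 44) (.leaf 171)) (.node (.leaf 106) (.leaf 234)))) (.node (.node (.node (.leaf 27) (.leaf 154)) (.node (.leaf 91) (.leaf 218))) (.node (.node (.leaf 60) (.leaf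 186)) (.node (.leaf 125) (.leaf 239)))))) (.node (.node (.node (.node (.node (.leaf 6) (.leaf 134)) (.node (.leaf 70) (.leaf 196))) (.node (.node (.leaf 38) (.leaf 165)) (.node (.leaf 101) (.leaf 230)))) (.node (.node (.node (.leaf 23) (.leaf 150)) (.node (.leaf 87) (.leaf 214))) (.node (.node (.leaf 55) (.leaf 180)) (.node (.leaf 115) (.leaf 239))))) (.node (.node (.node (.node (.leaf 14) (.leaf 142)) (.node (.leaf 78) (.leaf 208))) (.node (.node (.leaf 46) (.leaf 175)) (.node (.leaf 110) (.leaf 238)))) (.node (.node (.node (.leaf 30) (.leaf 160)) (.node (.leaf 94) (.leaf 221))) (.node (.node (.leaf 62) (.leaf 192)) (.node (.leaf 127) (.leaf 239)))))))) (.node (.node (.node (.node (.node (.node (.node (.leaf 1) (.leaf 129)) (.node (.leaf 64) (.leaf 193))) (.node (.node (.leaf 31) (.leaf 161)) (.node (.leaf 97) (.leaf 225)))) (.node (.node (.node (.leaf 18) (.leaf 145)) (.node (.leaf 79) (.leaf 209))) (.node (.node (.leaf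 47) (.leaf 177)) (.node (.leaf 112) (.leaf 239))))) (.node (.node (.node (.node (.leaf 9) (.leaf 138)) (.node (.leaf 74) (.leaf 201))) (.node (.node (.leaf 43) (.leaf 169)) (.node (.leaf 105) (.leaf 233)))) (.node (.node (.node (.leaf 25) (.leaf 152)) (.node (.leaf 89) (.leaf 216))) (.node (.node (.leaf 59) (.leaf 184)) (.node (.leaf 124) (.leaf 239)))))) (.node (.node (.node (.node (.node (.leaf 5) (.leaf 133)) (.node (.leaf 68) (.leaf 195))) (.node (.node (.leaf 36) (.leaf 166)) (.node (.leaf 102) (.leaf 228)))) (.node (.node (.node (.leaf 21) (.leaf 148)) (.node (.leaf 85) (.leaf 212))) (.node (.node (.leaf 53) (.leaf 179)) (.node (.leaf 114) (.leaf 239))))) (.node (.node (.node (.node (.leaf 13) (.leaf 141)) (.node (.leaf 77) (.leaf 207))) (.node (.node (.leaf 45) (.leaf 173)) (.node (.leaf 109) (.leaf 236)))) (.node (.node (.node (.leaf 29) (.leaf 159)) (.node (.leaf 93) (.leaf 222))) (.node (.node (.leaf 61) (.leaf 191))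 (.node (.leaf 122) (.leaf 239))))))) (.node (.node (.node (.node (.node (.node (.leaf 2) (.leaf 132)) (.node (.leaf 67) (.leaf 197))) (.node (.node (.leaf 35) (.leaf 163)) (.node (.leaf 99) (.leaf 227)))) (.node (.node (.node (.leaf 19) (.leaf 147)) (.node (.leaf 83) (.leaf 211))) (.node (.node (.leaf 51) (.leaf 181)) (.node (.leaf 118) (.leaf 239))))) (.node (.node (.node (.node (.leaf 10) (.leaf 139)) (.node (.leaf 75) (.leaf 202))) (.node (.node (.leaf 41) (.leaf 170)) (.node (.leaf 108) (.leaf 235)))) (.node (.node (.node (.leaf 26) (.leaf 155)) (.node (.leaf 90) (.leaf 219))) (.node (.node (.leaf 57) (.leaf 187)) (.node (.leaf 116) (.leaf 239)))))) (.node (.node (.node (.node (.node (.leaf 7) (.leaf 135)) (.node (.leaf 71) (.leaf 199))) (.node (.node (.leaf 39) (.leaf 167)) (.node (.leaf 103) (.leaf 231)))) (.node (.node (.node (.leaf 22) (.leaf 151)) (.node (.leaf 86) (.leaf 215))) (.node (.node (.leaf 54) (.leaf 183))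 (.node (.leaf 119) (.leaf 239))))) (.node (.node (.node (.node (.leaf 15) (.leaf 144)) (.node (.leaf 81) (.leaf 205))) (.node (.node (.leaf 49) (.leaf 174)) (.node (.leaf 111) (.leaf 239)))) (.node (.node (.node (.leaf 33) (.leaf 157)) (.node (.leaf 96) (.leaf 223))) (.node (.node (.leaf 63) (.leaf 189)) (.node (.leaf 126) (.leaf 239))))))))

noncomputable def eta5 : Trie (ℤ) := .node (.node (.node (.node (.node (.node (.node (.node (.leaf 1) (.leaf 1)) (.node (.leaf (-1)) (.leaf (-1)))) (.node (.node (.leaf (-1)) (.leaf (-1))) (.node (.leaf 1) (.leaf 1)))) (.node (.node (.node (.leaf 1) (.leaf (-1))) (.node (.leaf (-1)) (.leaf (-1)))) (.node (.node (.leaf (-1)) (.leaf 1)) (.node (.leaf (-1)) (.leaf 1))))) (.node (.node (.node (.node (.leaf 1) (.leaf 1)) (.node (.leaf 1) (.leaf 1))) (.node (.node (.leaf 1) (.leaf 1)) (.node (.leaf 1) (.leaf 1)))) (.node (.node (.node (.leaf 1) (.leaf 1)) (.node (.leaf 1) (.leaf 1))) (.node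 (.node (.leaf 1) (.leaf 1)) (.node (.leaf 1) (.leaf 1)))))) (.node (.node (.node (.node (.node (.leaf 1) (.leaf (-1))) (.node (.leaf (-1)) (.leaf 1))) (.node (.node (.leaf (-1)) (.leaf 1)) (.node (.leaf 1) (.leaf 1)))) (.node (.node (.node (.leaf 1) (.leaf 1)) (.node (.leaf 1) (.leaf 1))) (.node (.node (.leaf 1) (.leaf 1)) (.node (.leaf (-1)) (.leaf 1))))) (.node (.node (.node (.node (.leaf 1) (.leaf 1)) (.node (.leaf 1) (.leaf 1))) (.node (.node (.leaf 1) (.leaf 1)) (.node (.leaf 1) (.leaf 1)))) (.node (.node (.node (.leaf 1) (.leaf 1)) (.node (.leaf 1) (.leaf 1))) (.node (.node (.leaf 1) (.leaf 1)) (.node (.leaf 1) (.leaf 1))))))) (.node (.node (.node (.node (.node (.node (.leaf (-1)) (.leaf 1)) (.node (.leaf 1) (.leaf 1))) (.node (.node (.leaf 1) (.leaf 1)) (.node (.leaf 1) (.leaf 1)))) (.node (.node (.node (.leaf 1) (.leaf 1)) (.node (.leaf 1) (.leaf 1))) (.node (.node (.leaf 1) (.leaf 1)) (.node (.leaf 1) (.leaf 1)))))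 (.node (.node (.node (.node (.leaf (-1)) (.leaf (-1))) (.node (.leaf 1) (.leaf 1))) (.node (.node (.leaf (-1)) (.leaf 1)) (.node (.leaf 1) (.leaf 1)))) (.node (.node (.node (.leaf (-1)) (.leaf 1)) (.node (.leaf (-1)) (.leaf 1))) (.node (.node (.leaf (-1)) (.leaf 1)) (.node (.leaf (-1)) (.leaf 1)))))) (.node (.node (.node (.node (.node (.leaf 1) (.leaf 1)) (.node (.leaf 1) (.leaf (-1)))) (.node (.node (.leaf 1) (.leaf (-1))) (.node (.leaf 1) (.leaf 1)))) (.node (.node (.node (.leaf (-1)) (.leaf 1)) (.node (.leaf (-1)) (.leaf 1))) (.node (.node (.leaf (-1)) (.leaf (-1))) (.node (.leaf (-1)) (.leaf 1))))) (.node (.node (.node (.node (.leaf 1) (.leaf 1)) (.node (.leaf 1) (.leaf 1))) (.node (.node (.leaf 1) (.leaf 1)) (.node (.leaf 1) (.leaf 1)))) (.node (.node (.node (.leaf 1) (.leaf 1)) (.node (.leaf 1) (.leaf (-1)))) (.node (.node (.leaf 1) (.leaf 1)) (.node (.leaf 1) (.leaf 1)))))))) (.node (.node (.node (.node (.node (.node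 (.node (.leaf 1) (.leaf 1)) (.node (.leaf 1) (.leaf 1))) (.node (.node (.leaf 1) (.leaf 1)) (.node (.leaf 1) (.leaf 1)))) (.node (.node (.node (.leaf (-1)) (.leaf 1)) (.node (.leaf 1) (.leaf 1))) (.node (.node (.leaf 1) (.leaf 1)) (.node (.leaf 1) (.leaf 1))))) (.node (.node (.node (.node (.leaf 1) (.leaf 1)) (.node (.leaf (-1)) (.leaf 1))) (.node (.node (.leaf (-1)) (.leaf 1)) (.node (.leaf 1) (.leaf 1)))) (.node (.node (.node (.leaf 1) (.leaf (-1))) (.node (.leaf 1) (.leaf (-1)))) (.node (.node (.leaf (-1)) (.leaf (-1))) (.node (.leaf (-1)) (.leaf 1)))))) (.node (.node (.node (.node (.node (.leaf 1) (.leaf 1)) (.node (.leaf 1) (.leaf (-1)))) (.node (.node (.leaf 1) (.leaf 1)) (.node (.leaf (-1)) (.leaf (-1))))) (.node (.node (.node (.leaf 1) (.leaf (-1))) (.node (.leaf 1) (.leaf (-1)))) (.node (.node (.leaf 1) (.leaf (-1))) (.node (.leaf (-1)) (.leaf 1))))) (.node (.node (.node (.node (.leaf 1) (.leaf 1)) (.node (.leaf 1)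 (.leaf 1))) (.node (.node (.leaf 1) (.leaf 1)) (.node (.leaf 1) (.leaf (-1))))) (.node (.node (.node (.leaf 1) (.leaf 1)) (.node (.leaf 1) (.leaf 1))) (.node (.node (.leaf 1) (.leaf 1)) (.node (.leaf 1) (.leaf 1))))))) (.node (.node (.node (.node (.node (.node (.leaf 1) (.leaf 1)) (.node (.leaf 1) (.leaf 1))) (.node (.node (.leaf 1) (.leaf 1)) (.node (.leaf 1) (.leaf 1)))) (.node (.node (.node (.leaf 1) (.leaf 1)) (.node (.leaf 1) (.leaf 1))) (.node (.node (.leaf 1) (.leaf 1)) (.node (.leaf 1) (.leaf 1))))) (.node (.node (.node (.node (.leaf 1) (.leaf 1)) (.node (.leaf 1) (.leaf (-1)))) (.node (.node (.leaf 1) (.leaf (-1))) (.node (.leaf (-1)) (.leaf 1)))) (.node (.node (.node (.leaf 1) (.leaf 1)) (.node (.leaf 1) (.leaf 1))) (.node (.node (.leaf 1) (.leaf 1)) (.node (.leaf (-1)) (.leaf 1)))))) (.node (.node (.node (.node (.node (.leaf 1) (.leaf 1)) (.node (.leaf 1) (.leaf 1))) (.node (.node (.leaf 1) (.leaf 1)) (.node (.leaf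 1) (.leaf 1)))) (.node (.node (.node (.leaf 1) (.leaf 1)) (.node (.leaf 1) (.leaf 1))) (.node (.node (.leaf 1) (.leaf 1)) (.node (.leaf 1) (.leaf 1))))) (.node (.node (.node (.node (.leaf 1) (.leaf 1)) (.node (.leaf (-1)) (.leaf (-1)))) (.node (.node (.leaf (-1)) (.leaf (-1))) (.node (.leaf 1) (.leaf 1)))) (.node (.node (.node (.leaf (-1)) (.leaf (-1))) (.node (.leaf (-1)) (.leaf 1))) (.node (.node (.leaf 1) (.leaf (-1))) (.node (.leaf (-1)) (.leaf 1))))))))

noncomputable def car5 : Trie (ℤ) := .node (.node (.node (.node (.node (.node (.node (.node (.leaf 0) (.leaf 0)) (.node (.leaf (-1)) (.leaf 1))) (.node (.node (.leaf (-1)) (.leaf 1)) (.node (.leaf 1) (.leaf 0)))) (.node (.node (.node (.leaf 0) (.leaf 1)) (.node (.leaf (-1)) (.leaf 1))) (.node (.node (.leaf (-1)) (.leaf 0)) (.node (.leaf (-1)) (.leaf 0))))) (.node (.node (.node (.node (.leaf 0) (.leaf 0)) (.node (.leaf 0) (.leaf 0))) (.node (.node (.leaf 0) (.leaf 0))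 (.node (.leaf 0) (.leaf 0)))) (.node (.node (.node (.leaf 0) (.leaf (-1))) (.node (.leaf 0) (.leaf (-1)))) (.node (.node (.leaf 0) (.leaf (-1))) (.node (.leaf 0) (.leaf 0)))))) (.node (.node (.node (.node (.node (.leaf 0) (.leaf 1)) (.node (.leaf (-1)) (.leaf (-1)))) (.node (.node (.leaf (-1)) (.leaf 0)) (.node (.leaf 0) (.leaf (-1))))) (.node (.node (.node (.leaf 0) (.leaf (-1))) (.node (.leaf 0) (.leaf (-1)))) (.node (.node (.leaf 0) (.leaf (-1))) (.node (.leaf (-2)) (.leaf 0))))) (.node (.node (.node (.node (.leaf 0) (.leaf 0)) (.node (.leaf 0) (.leaf 0))) (.node (.node (.leaf 1) (.leaf 0)) (.node (.leaf 1) (.leaf (-1))))) (.node (.node (.node (.leaf 0) (.leaf 0)) (.node (.leaf 0) (.leaf 0))) (.node (.node (.leaf 1) (.leaf 0)) (.node (.leaf 1) (.leaf 0))))))) (.node (.node (.node (.node (.node (.node (.leaf (-1)) (.leaf 0)) (.node (.leaf 0) (.leaf 0))) (.node (.node (.leaf 1) (.leaf 0)) (.node (.leaf 0) (.leaf 0)))) (.node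 (.node (.node (.leaf 1) (.leaf 0)) (.node (.leaf 1) (.leaf 0))) (.node (.node (.leaf 1) (.leaf 0)) (.node (.leaf (-1)) (.leaf 0))))) (.node (.node (.node (.node (.leaf (-1)) (.leaf 1)) (.node (.leaf 1) (.leaf (-1)))) (.node (.node (.leaf (-1)) (.leaf (-1))) (.node (.leaf 0) (.leaf 0)))) (.node (.node (.node (.leaf (-1)) (.leaf 0)) (.node (.leaf (-1)) (.leaf 0))) (.node (.node (.leaf (-1)) (.leaf 0)) (.node (.leaf (-1)) (.leaf 0)))))) (.node (.node (.node (.node (.node (.leaf 0) (.leaf 0)) (.node (.leaf 0) (.leaf 1))) (.node (.node (.leaf 0) (.leaf 1)) (.node (.leaf 1) (.leaf 0)))) (.node (.node (.node (.leaf (-1)) (.leaf 0)) (.node (.leaf (-1)) (.leaf 0))) (.node (.node (.leaf (-1)) (.leaf 1)) (.node (.leaf 1) (.leaf 0))))) (.node (.node (.node (.node (.leaf 0) (.leaf 0)) (.node (.leaf 0) (.leaf (-1)))) (.node (.node (.leaf 0) (.leaf (-1))) (.node (.leaf 0) (.leaf 0)))) (.node (.node (.node (.leaf 0) (.leaf (-1))) (.node (.leaf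 0) (.leaf 1))) (.node (.node (.leaf 0) (.leaf (-1))) (.node (.leaf (-1)) (.leaf 0)))))))) (.node (.node (.node (.node (.node (.node (.node (.leaf 0) (.leaf 0)) (.node (.leaf 1) (.leaf 0))) (.node (.node (.leaf 1) (.leaf 0)) (.node (.leaf 0) (.leaf 0)))) (.node (.node (.node (.leaf (-1)) (.leaf 0)) (.node (.leaf 1) (.leaf 0))) (.node (.node (.leaf 1) (.leaf 0)) (.node (.leaf 1) (.leaf 0))))) (.node (.node (.node (.node (.leaf 0) (.leaf (-1))) (.node (.leaf (-1)) (.leaf 0))) (.node (.node (.leaf (-1)) (.leaf 0)) (.node (.leaf 0) (.leaf 0)))) (.node (.node (.node (.leaf 0) (.leaf 1)) (.node (.leaf 0) (.leaf 1))) (.node (.node (.leaf (-1)) (.leaf 1)) (.node (.leaf (-1)) (.leaf 0)))))) (.node (.node (.node (.node (.node (.leaf 0) (.leaf 0)) (.node (.leaf 1) (.leaf 1))) (.node (.node (.leaf 1) (.leaf (-1))) (.node (.leaf (-1)) (.leaf 1)))) (.node (.node (.node (.leaf 0) (.leaf 1)) (.node (.leaf 0) (.leaf 1))) (.node (.node (.leaf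 0) (.leaf 1)) (.node (.leaf 1) (.leaf 0))))) (.node (.node (.node (.node (.leaf 0) (.leaf 0)) (.node (.leaf 0) (.leaf (-1)))) (.node (.node (.leaf 0) (.leaf 0)) (.node (.leaf 0) (.leaf 1)))) (.node (.node (.node (.leaf 0) (.leaf (-1))) (.node (.leaf 0) (.leaf (-1)))) (.node (.node (.leaf 0) (.leaf (-1))) (.node (.leaf 1) (.leaf 0))))))) (.node (.node (.node (.node (.node (.node (.leaf 1) (.leaf (-1))) (.node (.leaf 0) (.leaf (-1)))) (.node (.node (.leaf 0) (.leaf 0)) (.node (.leaf 0) (.leaf 0)))) (.node (.node (.node (.leaf 0) (.leaf 0)) (.node (.leaf 0) (.leaf 0))) (.node (.node (.leaf 0) (.leaf (-1))) (.node (.leaf (-1)) (.leaf 0))))) (.node (.node (.node (.node (.leaf 1) (.leaf 0)) (.node (.leaf 0) (.leaf 1))) (.node (.node (.leaf 1) (.leaf 1)) (.node (.leaf (-1)) (.leaf 0)))) (.node (.node (.node (.leaf 1) (.leaf 0)) (.node (.leaf 1) (.leaf 0))) (.node (.node (.leaf 1) (.leaf 0)) (.node (.leaf 2) (.leaf 0)))))) (.node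 (.node (.node (.node (.node (.leaf 0) (.leaf 0)) (.node (.leaf 0) (.leaf 0))) (.node (.node (.leaf 0) (.leaf 0)) (.node (.leaf 0) (.leaf 0)))) (.node (.node (.node (.leaf 1) (.leaf 0)) (.node (.leaf 1) (.leaf 0))) (.node (.node (.leaf 1) (.leaf 0)) (.node (.leaf 0) (.leaf 0))))) (.node (.node (.node (.node (.leaf 0) (.leaf (-1))) (.node (.leaf (-1)) (.leaf 1))) (.node (.node (.leaf (-1)) (.leaf 1)) (.node (.leaf 0) (.leaf 0)))) (.node (.node (.node (.leaf (-1)) (.leaf 1)) (.node (.leaf (-1)) (.leaf 0))) (.node (.node (.leaf 0) (.leaf 1)) (.node (.leaf 1) (.leaf 0))))))))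

noncomputable def pos5 : Trie (ℕ) := .node (.node (.node (.node (.node (.node (.node (.node (.leaf 52) (.leaf 501)) (.node (.leaf 1151) (.leaf 1822))) (.node (.node (.leaf 1058) (.leaf 1807)) (.node (.leaf 1615) (.leaf 929)))) (.node (.node (.node (.leaf 77) (.leaf 1735)) (.node (.leaf 1073) (.leaf 1835))) (.node (.node (.leaf 1069) (.leaf 535)) (.node (.leaf 1171) (.leaf 1001))))) (.node (.node (.node (.node (.leaf 62) (.leaf 516)) (.node (.leaf 276) (.leaf 918))) (.node (.node (.leaf 66) (.leaf 529)) (.node (.leaf 506) (.leaf 941)))) (.node (.node (.node (.leaf 201) (.leaf 1306)) (.node (.leaf 233) (.leaf 1424))) (.node (.node (.leaf 80) (.leaf 1311)) (.node (.leaf 286) (.leaf 1001)))))) (.node (.node (.node (.node (.node (.leaf 54) (.leaf 1731)) (.node (.leaf 1159) (.leaf 1382))) (.node (.node (.leaf 1060) (.leaf 525)) (.node (.leaf 278) (.leaf 1426)))) (.node (.node (.node (.leaf 185) (.leaf 1296)) (.node (.leaf 217)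 (.leaf 1423))) (.node (.node (.leaf 181) (.leaf 1363)) (.node (.leaf 0) (.leaf 1001))))) (.node (.node (.node (.node (.leaf 177) (.leaf 520)) (.node (.leaf 505) (.leaf 920))) (.node (.node (.leaf 1512) (.leaf 531)) (.node (.leaf 1617) (.leaf 1453)))) (.node (.node (.node (.leaf 229) (.leaf 914)) (.node (.leaf 487) (.leaf 926))) (.node (.node (.leaf 1519) (.leaf 916)) (.node (.leaf 1621) (.leaf 1001))))))) (.node (.node (.node (.node (.node (.node (.leaf 1052) (.leaf 508)) (.node (.leaf 231) (.leaf 917))) (.node (.node (.leaf 1506) (.leaf 522)) (.node (.leaf 507) (.leaf 931)))) (.node (.node (.node (.leaf 1502) (.leaf 519)) (.node (.leaf 1521) (.leaf 921))) (.node (.node (.leaf 1517) (.leaf 915)) (.node (.leaf 1280) (.leaf 1001))))) (.node (.node (.node (.node (.leaf 1053) (.leaf 1732)) (.node (.leaf 1611) (.leaf 1420))) (.node (.node (.leaf 1064) (.leaf 1298)) (.node (.leaf 282) (.leaf 942)))) (.node (.node (.node (.leaf 1056)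 (.leaf 532)) (.node (.leaf 1161) (.leaf 927))) (.node (.node (.leaf 1071) (.leaf 538)) (.node (.leaf 1180) (.leaf 1001)))))) (.node (.node (.node (.node (.node (.leaf 56) (.leaf 510)) (.node (.leaf 479) (.leaf 1830))) (.node (.node (.leaf 239) (.leaf 1733)) (.node (.leaf 1613) (.leaf 933)))) (.node (.node (.node (.leaf 1055) (.leaf 526)) (.node (.leaf 1155) (.leaf 923))) (.node (.node (.leaf 1136) (.leaf 1811)) (.node (.leaf 1729) (.leaf 1001))))) (.node (.node (.node (.node (.leaf 57) (.leaf 515)) (.node (.leaf 81) (.leaf 1387))) (.node (.node (.leaf 78) (.leaf 1307)) (.node (.leaf 249) (.leaf 1000)))) (.node (.node (.node (.leaf 58) (.leaf 1359)) (.node (.leaf 280) (.leaf 1873))) (.node (.node (.leaf 204) (.leaf 1374)) (.node (.leaf 1282) (.leaf 1001)))))))) (.node (.node (.node (.node (.node (.node (.node (.leaf 53) (.leaf 502)) (.node (.leaf 1599) (.leaf 541))) (.node (.node (.leaf 1505) (.leaf 537)) (.node (.leaf 499)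 (.leaf 930)))) (.node (.node (.node (.leaf 1054) (.leaf 517)) (.node (.leaf 1520) (.leaf 543))) (.node (.node (.leaf 1516) (.leaf 536)) (.node (.leaf 1619) (.leaf 1001))))) (.node (.node (.node (.node (.leaf 76) (.leaf 1284)) (.node (.leaf 1163) (.leaf 919))) (.node (.node (.leaf 1062) (.leaf 530)) (.node (.leaf 247) (.leaf 935)))) (.node (.node (.node (.leaf 207) (.leaf 1754)) (.node (.leaf 268) (.leaf 1872))) (.node (.node (.leaf 1070) (.leaf 1759)) (.node (.leaf 1173) (.leaf 1001)))))) (.node (.node (.node (.node (.node (.leaf 55) (.leaf 509)) (.node (.leaf 1607) (.leaf 1826))) (.node (.node (.leaf 1508) (.leaf 1285)) (.node (.leaf 1165) (.leaf 1874)))) (.node (.node (.node (.leaf 79) (.leaf 1744)) (.node (.leaf 228) (.leaf 1871))) (.node (.node (.leaf 187) (.leaf 1810)) (.node (.leaf 1728) (.leaf 1001))))) (.node (.node (.node (.node (.leaf 183) (.leaf 514)) (.node (.leaf 512) (.leaf 1380))) (.node (.node (.leaf 496) (.leaf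 533)) (.node (.leaf 500) (.leaf 1901)))) (.node (.node (.node (.leaf 255) (.leaf 1358)) (.node (.leaf 245) (.leaf 1425))) (.node (.node (.leaf 511) (.leaf 1373)) (.node (.leaf 1628) (.leaf 1001))))))) (.node (.node (.node (.node (.node (.node (.leaf 1500) (.leaf 1283)) (.node (.leaf 257) (.leaf 1378))) (.node (.node (.leaf 478) (.leaf 523)) (.node (.leaf 243) (.leaf 932)))) (.node (.node (.node (.leaf 179) (.leaf 524)) (.node (.leaf 521) (.leaf 922))) (.node (.node (.leaf 504) (.leaf 1362)) (.node (.leaf 1281) (.leaf 1001))))) (.node (.node (.node (.node (.leaf 1501) (.leaf 518)) (.node (.leaf 497) (.leaf 1868))) (.node (.node (.leaf 1510) (.leaf 1746)) (.node (.leaf 1169) (.leaf 943)))) (.node (.node (.node (.leaf 1504) (.leaf 534)) (.node (.leaf 1609) (.leaf 925))) (.node (.node (.leaf 1518) (.leaf 539)) (.node (.leaf 0) (.leaf 1001)))))) (.node (.node (.node (.node (.node (.leaf 60) (.leaf 513)) (.node (.leaf 241) (.leaf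 542))) (.node (.node (.leaf 274) (.leaf 527)) (.node (.leaf 498) (.leaf 934)))) (.node (.node (.node (.leaf 1503) (.leaf 528)) (.node (.leaf 1603) (.leaf 924))) (.node (.node (.leaf 1584) (.leaf 540)) (.node (.leaf 251) (.leaf 1001))))) (.node (.node (.node (.node (.leaf 64) (.leaf 1287)) (.node (.leaf 1072) (.leaf 1828))) (.node (.node (.leaf 1068) (.leaf 1755)) (.node (.leaf 284) (.leaf 1001)))) (.node (.node (.node (.leaf 1057) (.leaf 1806)) (.node (.leaf 1167) (.leaf 928))) (.node (.node (.leaf 210) (.leaf 1821)) (.node (.leaf 1730) (.leaf 1001))))))))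

noncomputable def pi6 : Trie (ℕ) := .node (.node (.node (.node (.node (.node (.node (.node (.leaf 0) (.leaf 127)) (.node (.leaf 63) (.leaf 193))) (.node (.node (.leaf 32) (.leaf 161)) (.node (.leaf 96) (.leaf 224)))) (.node (.node (.node (.leaf 16) (.leaf 145)) (.node (.leaf 80) (.leaf 209))) (.node (.node (.leaf 48) (.leaf 175)) (.node (.leaf 111) (.leaf 239))))) (.node (.node (.node (.node (.leaf 8) (.leaf 136)) (.node (.leaf 73) (.leaf 200))) (.node (.node (.leaf 41) (.leaf 168)) (.node (.leaf 104) (.leaf 232)))) (.node (.node (.node (.leaf 23) (.leaf 152)) (.node (.leaf 88) (.leaf 215))) (.node (.node (.leaf 57) (.leaf 184)) (.node (.leaf 122) (.leaf 239)))))) (.node (.node (.node (.node (.node (.leaf 4) (.leaf 133)) (.node (.leaf 67) (.leaf 196))) (.node (.node (.leaf 36) (.leaf 164)) (.node (.leaf 101) (.leaf 227)))) (.node (.node (.node (.leaf 20) (.leaf 148)) (.node (.leaf 84) (.leaf 211))) (.node (.node (.leaf 52)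 (.leaf 180)) (.node (.leaf 115) (.leaf 239))))) (.node (.node (.node (.node (.leaf 11) (.leaf 140)) (.node (.leaf 76) (.leaf 205))) (.node (.node (.leaf 45) (.leaf 171)) (.node (.leaf 108) (.leaf 236)))) (.node (.node (.node (.leaf 27) (.leaf 157)) (.node (.leaf 92) (.leaf 221))) (.node (.node (.leaf 61) (.leaf 189)) (.node (.leaf 123) (.leaf 239))))))) (.node (.node (.node (.node (.node (.node (.leaf 1) (.leaf 130)) (.node (.leaf 66) (.leaf 195))) (.node (.node (.leaf 35) (.leaf 162)) (.node (.leaf 98) (.leaf 226)))) (.node (.node (.node (.leaf 19) (.leaf 146)) (.node (.leaf 83) (.leaf 210))) (.node (.node (.leaf 51) (.leaf 179)) (.node (.leaf 114) (.leaf 239))))) (.node (.node (.node (.node (.leaf 10) (.leaf 139)) (.node (.leaf 74) (.leaf 201))) (.node (.node (.leaf 42) (.leaf 170)) (.node (.leaf 107) (.leaf 234)))) (.node (.node (.node (.leaf 26) (.leaf 153)) (.node (.leaf 89) (.leaf 218))) (.node (.node (.leaf 58) (.leaf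 185)) (.node (.leaf 120) (.leaf 239)))))) (.node (.node (.node (.node (.node (.leaf 6) (.leaf 134)) (.node (.leaf 70) (.leaf 199))) (.node (.node (.leaf 37) (.leaf 167)) (.node (.leaf 102) (.leaf 230)))) (.node (.node (.node (.leaf 22) (.leaf 149)) (.node (.leaf 85) (.leaf 214))) (.node (.node (.leaf 53) (.leaf 183)) (.node (.leaf 121) (.leaf 239))))) (.node (.node (.node (.node (.leaf 14) (.leaf 142)) (.node (.leaf 79) (.leaf 206))) (.node (.node (.leaf 47) (.leaf 174)) (.node (.leaf 110) (.leaf 237)))) (.node (.node (.node (.leaf 31) (.leaf 158)) (.node (.leaf 95) (.leaf 222))) (.node (.node (.leaf 62) (.leaf 190)) (.node (.leaf 126) (.leaf 239)))))))) (.node (.node (.node (.node (.node (.node (.node (.leaf 2) (.leaf 129)) (.node (.leaf 65) (.leaf 192))) (.node (.node (.leaf 33) (.leaf 160)) (.node (.leaf 97) (.leaf 225)))) (.node (.node (.node (.leaf 17) (.leaf 144)) (.node (.leaf 81) (.leaf 208))) (.node (.node (.leaf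 49) (.leaf 177)) (.node (.leaf 113) (.leaf 239))))) (.node (.node (.node (.node (.leaf 9) (.leaf 137)) (.node (.leaf 72) (.leaf 202))) (.node (.node (.leaf 40) (.leaf 169)) (.node (.leaf 105) (.leaf 233)))) (.node (.node (.node (.leaf 25) (.leaf 154)) (.node (.leaf 90) (.leaf 217))) (.node (.node (.leaf 56) (.leaf 186)) (.node (.leaf 118) (.leaf 239)))))) (.node (.node (.node (.node (.node (.leaf 5) (.leaf 132)) (.node (.leaf 69) (.leaf 197))) (.node (.node (.leaf 38) (.leaf 165)) (.node (.leaf 100) (.leaf 229)))) (.node (.node (.node (.leaf 21) (.leaf 150)) (.node (.leaf 86) (.leaf 213))) (.node (.node (.leaf 54) (.leaf 181)) (.node (.leaf 119) (.leaf 239))))) (.node (.node (.node (.node (.leaf 13) (.leaf 141)) (.node (.leaf 77) (.leaf 204))) (.node (.node (.leaf 44) (.leaf 173)) (.node (.leaf 109) (.leaf 238)))) (.node (.node (.node (.leaf 29) (.leaf 156)) (.node (.leaf 93) (.leaf 220))) (.node (.node (.leaf 60) (.leaf 188))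 (.node (.leaf 125) (.leaf 239))))))) (.node (.node (.node (.node (.node (.node (.leaf 3) (.leaf 131)) (.node (.leaf 68) (.leaf 194))) (.node (.node (.leaf 34) (.leaf 163)) (.node (.leaf 99) (.leaf 228)))) (.node (.node (.node (.leaf 18) (.leaf 147)) (.node (.leaf 82) (.leaf 212))) (.node (.node (.leaf 50) (.leaf 178)) (.node (.leaf 116) (.leaf 239))))) (.node (.node (.node (.node (.leaf 12) (.leaf 138)) (.node (.leaf 75) (.leaf 203))) (.node (.node (.leaf 43) (.leaf 172)) (.node (.leaf 106) (.leaf 235)))) (.node (.node (.node (.leaf 28) (.leaf 155)) (.node (.leaf 91) (.leaf 219))) (.node (.node (.leaf 59) (.leaf 187)) (.node (.leaf 124) (.leaf 239)))))) (.node (.node (.node (.node (.node (.leaf 7) (.leaf 135)) (.node (.leaf 71) (.leaf 198))) (.node (.node (.leaf 39) (.leaf 166)) (.node (.leaf 103) (.leaf 231)))) (.node (.node (.node (.leaf 24) (.leaf 151)) (.node (.leaf 87) (.leaf 216))) (.node (.node (.leaf 55) (.leaf 182))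 (.node (.leaf 117) (.leaf 239))))) (.node (.node (.node (.node (.leaf 15) (.leaf 143)) (.node (.leaf 78) (.leaf 207))) (.node (.node (.leaf 46) (.leaf 176)) (.node (.leaf 112) (.leaf 239)))) (.node (.node (.node (.leaf 30) (.leaf 159)) (.node (.leaf 94) (.leaf 223))) (.node (.node (.leaf 64) (.leaf 191)) (.node (.leaf 128) (.leaf 239))))))))

noncomputable def eta6 : Trie (ℤ) := .node (.node (.node (.node (.node (.node (.node (.node (.leaf 1) (.leaf (-1))) (.node (.leaf 1) (.leaf 1))) (.node (.node (.leaf 1) (.leaf 1)) (.node (.leaf 1) (.leaf 1)))) (.node (.node (.node (.leaf 1) (.leaf 1)) (.node (.leaf 1) (.leaf 1))) (.node (.node (.leaf 1) (.leaf (-1))) (.node (.leaf 1) (.leaf 1))))) (.node (.node (.node (.node (.leaf 1) (.leaf 1)) (.node (.leaf (-1)) (.leaf 1))) (.node (.node (.leaf (-1)) (.leaf 1)) (.node (.leaf 1) (.leaf 1)))) (.node (.node (.node (.leaf 1) (.leaf 1)) (.node (.leaf 1) (.leaf (-1)))) (.node (.node (.leaf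 (-1)) (.leaf 1)) (.node (.leaf (-1)) (.leaf 1)))))) (.node (.node (.node (.node (.node (.leaf 1) (.leaf 1)) (.node (.leaf 1) (.leaf 1))) (.node (.node (.leaf 1) (.leaf 1)) (.node (.leaf (-1)) (.leaf (-1))))) (.node (.node (.node (.leaf 1) (.leaf 1)) (.node (.leaf 1) (.leaf (-1)))) (.node (.node (.leaf 1) (.leaf 1)) (.node (.leaf 1) (.leaf 1))))) (.node (.node (.node (.node (.leaf 1) (.leaf 1)) (.node (.leaf 1) (.leaf 1))) (.node (.node (.leaf (-1)) (.leaf (-1))) (.node (.leaf 1) (.leaf 1)))) (.node (.node (.node (.leaf 1) (.leaf 1)) (.node (.leaf 1) (.leaf 1))) (.node (.node (.leaf (-1)) (.leaf 1)) (.node (.leaf (-1)) (.leaf 1))))))) (.node (.node (.node (.node (.node (.node (.leaf 1) (.leaf 1)) (.node (.leaf 1) (.leaf 1))) (.node (.node (.leaf (-1)) (.leaf 1)) (.node (.leaf 1) (.leaf 1)))) (.node (.node (.node (.leaf (-1)) (.leaf 1)) (.node (.leaf (-1)) (.leaf 1))) (.node (.node (.leaf (-1)) (.leaf 1)) (.node (.leaf 1) (.leaf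 1))))) (.node (.node (.node (.node (.leaf 1) (.leaf 1)) (.node (.leaf 1) (.leaf (-1)))) (.node (.node (.leaf 1) (.leaf 1)) (.node (.leaf (-1)) (.leaf 1)))) (.node (.node (.node (.leaf 1) (.leaf (-1))) (.node (.leaf 1) (.leaf 1))) (.node (.node (.leaf 1) (.leaf (-1))) (.node (.leaf 1) (.leaf 1)))))) (.node (.node (.node (.node (.node (.leaf 1) (.leaf 1)) (.node (.leaf 1) (.leaf 1))) (.node (.node (.leaf 1) (.leaf 1)) (.node (.leaf 1) (.leaf 1)))) (.node (.node (.node (.leaf 1) (.leaf (-1))) (.node (.leaf 1) (.leaf 1))) (.node (.node (.leaf 1) (.leaf 1)) (.node (.leaf (-1)) (.leaf 1))))) (.node (.node (.node (.node (.leaf 1) (.leaf 1)) (.node (.leaf (-1)) (.leaf 1))) (.node (.node (.leaf (-1)) (.leaf 1)) (.node (.leaf 1) (.leaf (-1))))) (.node (.node (.node (.leaf (-1)) (.leaf 1)) (.node (.leaf (-1)) (.leaf 1))) (.node (.node (.leaf 1) (.leaf 1)) (.node (.leaf 1) (.leaf 1)))))))) (.node (.node (.node (.node (.node (.node (.node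 (.leaf (-1)) (.leaf 1)) (.node (.leaf 1) (.leaf (-1)))) (.node (.node (.leaf 1) (.leaf (-1))) (.node (.leaf 1) (.leaf 1)))) (.node (.node (.node (.leaf 1) (.leaf (-1))) (.node (.leaf 1) (.leaf (-1)))) (.node (.node (.leaf 1) (.leaf 1)) (.node (.leaf 1) (.leaf 1))))) (.node (.node (.node (.node (.leaf 1) (.leaf 1)) (.node (.leaf 1) (.leaf 1))) (.node (.node (.leaf 1) (.leaf 1)) (.node (.leaf 1) (.leaf 1)))) (.node (.node (.node (.leaf 1) (.leaf 1)) (.node (.leaf (-1)) (.leaf 1))) (.node (.node (.leaf 1) (.leaf 1)) (.node (.leaf (-1)) (.leaf 1)))))) (.node (.node (.node (.node (.node (.leaf 1) (.leaf (-1))) (.node (.leaf 1) (.leaf 1))) (.node (.node (.leaf (-1)) (.leaf 1)) (.node (.leaf 1) (.leaf 1)))) (.node (.node (.node (.leaf 1) (.leaf 1)) (.node (.leaf (-1)) (.leaf 1))) (.node (.node (.leaf (-1)) (.leaf 1)) (.node (.leaf 1) (.leaf 1))))) (.node (.node (.node (.node (.leaf 1) (.leaf 1)) (.node (.leaf 1) (.leaf (-1)))) (.node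 (.node (.leaf 1) (.leaf 1)) (.node (.leaf 1) (.leaf 1)))) (.node (.node (.node (.leaf 1) (.leaf (-1))) (.node (.leaf 1) (.leaf (-1)))) (.node (.node (.leaf 1) (.leaf (-1))) (.node (.leaf 1) (.leaf 1))))))) (.node (.node (.node (.node (.node (.node (.leaf 1) (.leaf 1)) (.node (.leaf (-1)) (.leaf (-1)))) (.node (.node (.leaf 1) (.leaf 1)) (.node (.leaf 1) (.leaf 1)))) (.node (.node (.node (.leaf 1) (.leaf 1)) (.node (.leaf 1) (.leaf 1))) (.node (.node (.leaf 1) (.leaf (-1))) (.node (.leaf (-1)) (.leaf 1))))) (.node (.node (.node (.node (.leaf (-1)) (.leaf (-1))) (.node (.leaf 1) (.leaf 1))) (.node (.node (.leaf 1) (.leaf 1)) (.node (.leaf 1) (.leaf 1)))) (.node (.node (.node (.leaf (-1)) (.leaf 1)) (.node (.leaf 1) (.leaf 1))) (.node (.node (.leaf 1) (.leaf 1)) (.node (.leaf 1) (.leaf 1)))))) (.node (.node (.node (.node (.node (.leaf 1) (.leaf 1)) (.node (.leaf 1) (.leaf (-1)))) (.node (.node (.leaf 1) (.leaf (-1))) (.node (.leaf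 1) (.leaf 1)))) (.node (.node (.node (.leaf (-1)) (.leaf 1)) (.node (.leaf 1) (.leaf 1))) (.node (.node (.leaf 1) (.leaf (-1))) (.node (.leaf (-1)) (.leaf 1))))) (.node (.node (.node (.node (.leaf 1) (.leaf 1)) (.node (.leaf 1) (.leaf 1))) (.node (.node (.leaf 1) (.leaf 1)) (.node (.leaf (-1)) (.leaf 1)))) (.node (.node (.node (.leaf 1) (.leaf 1)) (.node (.leaf 1) (.leaf 1))) (.node (.node (.leaf (-1)) (.leaf 1)) (.node (.leaf 1) (.leaf 1))))))))

noncomputable def car6 : Trie (ℤ) := .node (.node (.node (.node (.node (.node (.node (.node (.leaf 0) (.leaf 1)) (.node (.leaf 1) (.leaf (-1)))) (.node (.node (.leaf 0) (.leaf (-1))) (.node (.leaf 0) (.leaf 0)))) (.node (.node (.node (.leaf 0) (.leaf (-1))) (.node (.leaf 0) (.leaf (-1)))) (.node (.node (.leaf 0) (.leaf 1)) (.node (.leaf 1) (.leaf 0))))) (.node (.node (.node (.node (.leaf 0) (.leaf 0)) (.node (.leaf (-1)) (.leaf 0))) (.node (.node (.leaf (-1)) (.leaf 0)) (.node (.leaf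 0) (.leaf 0)))) (.node (.node (.node (.leaf 1) (.leaf 0)) (.node (.leaf 0) (.leaf 1))) (.node (.node (.leaf (-1)) (.leaf 0)) (.node (.leaf (-1)) (.leaf 0)))))) (.node (.node (.node (.node (.node (.leaf 0) (.leaf (-1))) (.node (.leaf 1) (.leaf 0))) (.node (.node (.leaf 0) (.leaf 0)) (.node (.leaf (-1)) (.leaf 1)))) (.node (.node (.node (.leaf 0) (.leaf 0)) (.node (.leaf 0) (.leaf 1))) (.node (.node (.leaf 0) (.leaf 0)) (.node (.leaf 1) (.leaf 0))))) (.node (.node (.node (.node (.leaf 1) (.leaf 0)) (.node (.leaf 0) (.leaf (-1)))) (.node (.node (.leaf (-1)) (.leaf 1)) (.node (.leaf 0) (.leaf 0)))) (.node (.node (.node (.leaf 1) (.leaf (-1))) (.node (.leaf 0) (.leaf (-1)))) (.node (.node (.leaf (-1)) (.leaf (-1))) (.node (.leaf 1) (.leaf 0))))))) (.node (.node (.node (.node (.node (.node (.leaf 1) (.leaf 0)) (.node (.leaf 0) (.leaf (-1)))) (.node (.node (.leaf (-1)) (.leaf 0)) (.node (.leaf 0) (.leaf 0)))) (.node (.node (.node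 (.leaf (-1)) (.leaf 0)) (.node (.leaf (-1)) (.leaf 0))) (.node (.node (.leaf (-1)) (.leaf (-1))) (.node (.leaf 0) (.leaf 0))))) (.node (.node (.node (.node (.leaf 0) (.leaf (-1))) (.node (.leaf 0) (.leaf 1))) (.node (.node (.leaf 0) (.leaf 0)) (.node (.leaf (-1)) (.leaf 0)))) (.node (.node (.node (.leaf 0) (.leaf 1)) (.node (.leaf 1) (.leaf 0))) (.node (.node (.leaf 0) (.leaf 1)) (.node (.leaf 1) (.leaf 0)))))) (.node (.node (.node (.node (.node (.leaf 0) (.leaf 0)) (.node (.leaf 0) (.leaf (-1)))) (.node (.node (.leaf 1) (.leaf (-1))) (.node (.leaf 0) (.leaf 0)))) (.node (.node (.node (.leaf 0) (.leaf 1)) (.node (.leaf 1) (.leaf 0))) (.node (.node (.leaf 1) (.leaf (-1))) (.node (.leaf (-2)) (.leaf 0))))) (.node (.node (.node (.node (.leaf 0) (.leaf 0)) (.node (.leaf (-1)) (.leaf 0))) (.node (.node (.leaf (-1)) (.leaf 0)) (.node (.leaf 0) (.leaf 1)))) (.node (.node (.node (.leaf (-1)) (.leaf 0)) (.node (.leaf (-1)) (.leaf 0)))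 (.node (.node (.leaf 0) (.leaf 0)) (.node (.leaf 0) (.leaf 0)))))))) (.node (.node (.node (.node (.node (.node (.node (.leaf (-1)) (.leaf 0)) (.node (.leaf 0) (.leaf 1))) (.node (.node (.leaf 0) (.leaf 1)) (.node (.leaf 0) (.leaf 0)))) (.node (.node (.node (.leaf 0) (.leaf 1)) (.node (.leaf 0) (.leaf 1))) (.node (.node (.leaf 0) (.leaf 0)) (.node (.leaf 0) (.leaf 0))))) (.node (.node (.node (.node (.leaf 0) (.leaf 0)) (.node (.leaf 1) (.leaf (-1)))) (.node (.node (.leaf 1) (.leaf 0)) (.node (.leaf 0) (.leaf 0)))) (.node (.node (.node (.leaf 0) (.leaf (-1))) (.node (.leaf (-1)) (.leaf 0))) (.node (.node (.leaf 1) (.leaf (-1))) (.node (.leaf 2) (.leaf 0)))))) (.node (.node (.node (.node (.node (.leaf 0) (.leaf 1)) (.node (.leaf 0) (.leaf 0))) (.node (.node (.leaf (-1)) (.leaf 0)) (.node (.leaf 1) (.leaf 0)))) (.node (.node (.node (.leaf 0) (.leaf (-1))) (.node (.leaf (-1)) (.leaf 0))) (.node (.node (.leaf (-1)) (.leaf 0)) (.node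 (.leaf (-1)) (.leaf 0))))) (.node (.node (.node (.node (.leaf 0) (.leaf 0)) (.node (.leaf 0) (.leaf 1))) (.node (.node (.leaf 1) (.leaf 0)) (.node (.leaf 0) (.leaf (-1))))) (.node (.node (.node (.leaf 0) (.leaf 1)) (.node (.leaf 0) (.leaf 1))) (.node (.node (.leaf 1) (.leaf 1)) (.node (.leaf 0) (.leaf 0))))))) (.node (.node (.node (.node (.node (.node (.leaf 0) (.leaf 0)) (.node (.leaf (-1)) (.leaf 1))) (.node (.node (.leaf 1) (.leaf 0)) (.node (.leaf 0) (.leaf (-1))))) (.node (.node (.node (.leaf 1) (.leaf 0)) (.node (.leaf 1) (.leaf (-1)))) (.node (.node (.leaf 1) (.leaf 1)) (.node (.leaf (-1)) (.leaf 0))))) (.node (.node (.node (.node (.leaf (-1)) (.leaf 1)) (.node (.leaf 0) (.leaf 0))) (.node (.node (.leaf 0) (.leaf (-1))) (.node (.leaf 1) (.leaf 0)))) (.node (.node (.node (.leaf (-1)) (.leaf 0)) (.node (.leaf 0) (.leaf 0))) (.node (.node (.leaf 0) (.leaf 0)) (.node (.leaf (-1)) (.leaf 0)))))) (.node (.node (.node (.node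 (.node (.leaf 0) (.leaf 0)) (.node (.leaf 0) (.leaf 1))) (.node (.node (.leaf 0) (.leaf 1)) (.node (.leaf 0) (.leaf 0)))) (.node (.node (.node (.leaf (-1)) (.leaf 0)) (.node (.leaf 0) (.leaf (-1)))) (.node (.node (.leaf 0) (.leaf 1)) (.node (.leaf 1) (.leaf 0))))) (.node (.node (.node (.node (.leaf 0) (.leaf 0)) (.node (.leaf 1) (.leaf 0))) (.node (.node (.leaf 1) (.leaf (-1))) (.node (.leaf (-1)) (.leaf 0)))) (.node (.node (.node (.leaf 1) (.leaf 0)) (.node (.leaf 1) (.leaf 0))) (.node (.node (.leaf (-1)) (.leaf 0)) (.node (.leaf (-1)) (.leaf 0))))))))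

noncomputable def pos6 : Trie (ℕ) := .node (.node (.node (.node (.node (.node (.node (.node (.leaf 82) (.leaf 1765)) (.node (.leaf 1556) (.leaf 1405))) (.node (.node (.leaf 407) (.leaf 1394)) (.node (.leaf 398) (.leaf 959)))) (.node (.node (.node (.leaf 116) (.leaf 1321)) (.node (.leaf 436) (.leaf 1409))) (.node (.node (.leaf 419) (.leaf 1783)) (.node (.leaf 1566) (.leaf 1007))))) (.node (.node (.node (.node (.leaf 92) (.leaf 431)) (.node (.leaf 1114) (.leaf 948))) (.node (.node (.leaf 1084) (.leaf 444)) (.node (.leaf 421) (.leaf 974)))) (.node (.node (.node (.leaf 1525) (.leaf 447)) (.node (.leaf 148) (.leaf 1860))) (.node (.node (.leaf 1096) (.leaf 453)) (.node (.leaf 1210) (.leaf 1007)))))) (.node (.node (.node (.node (.node (.leaf 84) (.leaf 1318)) (.node (.leaf 1560) (.leaf 457))) (.node (.node (.leaf 151) (.leaf 440)) (.node (.leaf 1115) (.leaf 1862)))) (.node (.node (.node (.leaf 343) (.leaf 441)) (.node (.leaf 140)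 (.leaf 1859))) (.node (.node (.leaf 136) (.leaf 455)) (.node (.leaf 1567) (.leaf 1007))))) (.node (.node (.node (.node (.leaf 1523) (.leaf 435)) (.node (.leaf 420) (.leaf 1350))) (.node (.node (.leaf 1086) (.leaf 1775)) (.node (.leaf 400) (.leaf 977)))) (.node (.node (.node (.leaf 1526) (.leaf 1346)) (.node (.leaf 409) (.leaf 1413))) (.node (.node (.leaf 1098) (.leaf 1348)) (.node (.leaf 1764) (.leaf 1007))))))) (.node (.node (.node (.node (.node (.node (.leaf 1522) (.leaf 423)) (.node (.leaf 147) (.leaf 1349))) (.node (.node (.leaf 1080) (.leaf 437)) (.node (.leaf 422) (.leaf 961)))) (.node (.node (.node (.leaf 1076) (.leaf 434)) (.node (.leaf 1102) (.leaf 951))) (.node (.node (.leaf 1094) (.leaf 1347)) (.node (.leaf 157) (.leaf 1007))))) (.node (.node (.node (.node (.leaf 134) (.leaf 1319)) (.node (.leaf 394) (.leaf 1858))) (.node (.node (.leaf 411) (.leaf 446)) (.node (.leaf 1117) (.leaf 975)))) (.node (.node (.node (.leaf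 146) (.leaf 1782)) (.node (.leaf 1561) (.leaf 957))) (.node (.node (.leaf 426) (.leaf 1788)) (.node (.leaf 1658) (.leaf 1007)))))) (.node (.node (.node (.node (.node (.leaf 86) (.leaf 425)) (.node (.leaf 408) (.leaf 1407))) (.node (.node (.leaf 1530) (.leaf 1320)) (.node (.leaf 396) (.leaf 963)))) (.node (.node (.node (.leaf 137) (.leaf 1773)) (.node (.leaf 1558) (.leaf 953))) (.node (.node (.leaf 1555) (.leaf 1395)) (.node (.leaf 0) (.leaf 1007))))) (.node (.node (.node (.node (.leaf 87) (.leaf 430)) (.node (.leaf 1100) (.leaf 458))) (.node (.node (.leaf 1093) (.leaf 450)) (.node (.leaf 156) (.leaf 1902)))) (.node (.node (.node (.leaf 1079) (.leaf 452)) (.node (.leaf 1116) (.leaf 956))) (.node (.node (.leaf 138) (.leaf 456)) (.node (.leaf 416) (.leaf 1007)))))))) (.node (.node (.node (.node (.node (.node (.node (.leaf 1074) (.leaf 417)) (.node (.leaf 354) (.leaf 1853))) (.node (.node (.leaf 88) (.leaf 1842)) (.node (.leaf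 414) (.leaf 960)))) (.node (.node (.node (.leaf 135) (.leaf 1769)) (.node (.leaf 123) (.leaf 1857))) (.node (.node (.leaf 117) (.leaf 451)) (.node (.leaf 402) (.leaf 1007))))) (.node (.node (.node (.node (.leaf 115) (.leaf 433)) (.node (.leaf 1562) (.leaf 1410))) (.node (.node (.leaf 1532) (.leaf 445)) (.node (.leaf 155) (.leaf 965)))) (.node (.node (.node (.leaf 352) (.leaf 1334)) (.node (.leaf 1113) (.leaf 954))) (.node (.node (.leaf 1544) (.leaf 1340)) (.node (.leaf 0) (.leaf 1007)))))) (.node (.node (.node (.node (.node (.leaf 85) (.leaf 1766)) (.node (.leaf 381) (.leaf 947))) (.node (.node (.leaf 1082) (.leaf 442)) (.node (.leaf 1563) (.leaf 962)))) (.node (.node (.node (.leaf 119) (.leaf 1325)) (.node (.leaf 1110) (.leaf 952))) (.node (.node (.leaf 1107) (.leaf 945)) (.node (.leaf 1315) (.leaf 1007))))) (.node (.node (.node (.node (.leaf 342) (.leaf 429)) (.node (.leaf 427) (.leaf 1798))) (.node (.node (.leaf 1534) (.leaf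 448)) (.node (.leaf 415) (.leaf 1454)))) (.node (.node (.node (.leaf 380) (.leaf 1794)) (.node (.leaf 154) (.leaf 1861))) (.node (.node (.leaf 1546) (.leaf 1796)) (.node (.leaf 404) (.leaf 1007))))))) (.node (.node (.node (.node (.node (.node (.leaf 83) (.leaf 424)) (.node (.leaf 1112) (.leaf 1797))) (.node (.node (.leaf 1528) (.leaf 438)) (.node (.leaf 153) (.leaf 1414)))) (.node (.node (.node (.leaf 1524) (.leaf 439)) (.node (.leaf 1550) (.leaf 1411))) (.node (.node (.leaf 1542) (.leaf 1795)) (.node (.leaf 1119) (.leaf 1007))))) (.node (.node (.node (.node (.leaf 1075) (.leaf 1767)) (.node (.leaf 412) (.leaf 949))) (.node (.node (.leaf 96) (.leaf 1327)) (.node (.leaf 1565) (.leaf 976)))) (.node (.node (.node (.leaf 1078) (.leaf 449)) (.node (.leaf 387) (.leaf 955))) (.node (.node (.leaf 121) (.leaf 454)) (.node (.leaf 1316) (.leaf 1007)))))) (.node (.node (.node (.node (.node (.leaf 90) (.leaf 428)) (.node (.leaf 152) (.leaf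 1855))) (.node (.node (.leaf 392) (.leaf 1768)) (.node (.leaf 413) (.leaf 964)))) (.node (.node (.node (.leaf 1077) (.leaf 443)) (.node (.leaf 367) (.leaf 1412))) (.node (.node (.leaf 344) (.leaf 1843)) (.node (.leaf 1763) (.leaf 1007))))) (.node (.node (.node (.node (.leaf 94) (.leaf 432)) (.node (.leaf 1548) (.leaf 950))) (.node (.node (.leaf 1541) (.leaf 1335)) (.node (.leaf 1118) (.leaf 1007)))) (.node (.node (.node (.leaf 1527) (.leaf 944)) (.node (.leaf 1564) (.leaf 958))) (.node (.node (.leaf 1108) (.leaf 946)) (.node (.leaf 1317) (.leaf 1007))))))))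

noncomputable def pi7 : Trie (ℕ) := .node (.node (.node (.node (.node (.node (.node (.node (.leaf 1) (.leaf 129)) (.node (.leaf 64) (.leaf 191))) (.node (.node (.leaf 31) (.leaf 159)) (.node (.leaf 96) (.leaf 224)))) (.node (.node (.node (.leaf 16) (.leaf 144)) (.node (.leaf 79) (.leaf 207))) (.node (.node (.leaf 47) (.leaf 177)) (.node (.leaf 112) (.leaf 238))))) (.node (.node (.node (.node (.leaf 8) (.leaf 136)) (.node (.leaf 71) (.leaf 201))) (.node (.node (.leaf 40) (.leaf 167)) (.node (.leaf 104) (.leaf 232)))) (.node (.node (.node (.leaf 25) (.leaf 152)) (.node (.leaf 89) (.leaf 216))) (.node (.node (.leaf 56) (.leaf 184)) (.node (.leaf 119) (.leaf 238)))))) (.node (.node (.node (.node (.node (.leaf 4) (.leaf 132)) (.node (.leaf 68) (.leaf 195))) (.node (.node (.leaf 36) (.leaf 164)) (.node (.leaf 99) (.leaf 228)))) (.node (.node (.node (.leaf 19) (.leaf 148)) (.node (.leaf 85) (.leaf 212))) (.node (.node (.leaf 53)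 (.leaf 179)) (.node (.leaf 116) (.leaf 238))))) (.node (.node (.node (.node (.leaf 13) (.leaf 139)) (.node (.leaf 76) (.leaf 204))) (.node (.node (.leaf 43) (.leaf 173)) (.node (.leaf 108) (.leaf 236)))) (.node (.node (.node (.leaf 29) (.leaf 156)) (.node (.leaf 92) (.leaf 219))) (.node (.node (.leaf 59) (.leaf 188)) (.node (.leaf 125) (.leaf 238))))))) (.node (.node (.node (.node (.node (.node (.leaf 2) (.leaf 130)) (.node (.leaf 67) (.leaf 194))) (.node (.node (.leaf 33) (.leaf 162)) (.node (.leaf 98) (.leaf 227)))) (.node (.node (.node (.leaf 18) (.leaf 145)) (.node (.leaf 81) (.leaf 211))) (.node (.node (.leaf 49) (.leaf 178)) (.node (.leaf 115) (.leaf 238))))) (.node (.node (.node (.node (.leaf 10) (.leaf 138)) (.node (.leaf 74) (.leaf 202))) (.node (.node (.leaf 41) (.leaf 170)) (.node (.leaf 105) (.leaf 234)))) (.node (.node (.node (.leaf 26) (.leaf 155)) (.node (.leaf 90) (.leaf 218))) (.node (.node (.leaf 57) (.leaf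 187)) (.node (.leaf 121) (.leaf 238)))))) (.node (.node (.node (.node (.node (.leaf 6) (.leaf 133)) (.node (.leaf 70) (.leaf 197))) (.node (.node (.leaf 39) (.leaf 166)) (.node (.leaf 102) (.leaf 230)))) (.node (.node (.node (.leaf 22) (.leaf 151)) (.node (.leaf 86) (.leaf 215))) (.node (.node (.leaf 54) (.leaf 181)) (.node (.leaf 117) (.leaf 238))))) (.node (.node (.node (.node (.leaf 14) (.leaf 142)) (.node (.leaf 78) (.leaf 205))) (.node (.node (.leaf 46) (.leaf 174)) (.node (.leaf 111) (.leaf 239)))) (.node (.node (.node (.leaf 30) (.leaf 157)) (.node (.leaf 93) (.leaf 222))) (.node (.node (.leaf 63) (.leaf 189)) (.node (.leaf 126) (.leaf 238)))))))) (.node (.node (.node (.node (.node (.node (.node (.leaf 0) (.leaf 128)) (.node (.leaf 65) (.leaf 193))) (.node (.node (.leaf 34) (.leaf 161)) (.node (.leaf 97) (.leaf 225)))) (.node (.node (.node (.leaf 17) (.leaf 146)) (.node (.leaf 82) (.leaf 209))) (.node (.node (.leaf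 50) (.leaf 176)) (.node (.leaf 113) (.leaf 238))))) (.node (.node (.node (.node (.leaf 9) (.leaf 137)) (.node (.leaf 73) (.leaf 200))) (.node (.node (.leaf 42) (.leaf 169)) (.node (.leaf 106) (.leaf 233)))) (.node (.node (.node (.leaf 24) (.leaf 153)) (.node (.leaf 88) (.leaf 217))) (.node (.node (.leaf 58) (.leaf 185)) (.node (.leaf 122) (.leaf 238)))))) (.node (.node (.node (.node (.node (.leaf 5) (.leaf 134)) (.node (.leaf 69) (.leaf 198))) (.node (.node (.leaf 37) (.leaf 165)) (.node (.leaf 101) (.leaf 229)))) (.node (.node (.node (.leaf 21) (.leaf 149)) (.node (.leaf 84) (.leaf 213))) (.node (.node (.leaf 52) (.leaf 182)) (.node (.leaf 118) (.leaf 238))))) (.node (.node (.node (.node (.leaf 12) (.leaf 141)) (.node (.leaf 77) (.leaf 206))) (.node (.node (.leaf 45) (.leaf 172)) (.node (.leaf 109) (.leaf 237)))) (.node (.node (.node (.leaf 28) (.leaf 158)) (.node (.leaf 94) (.leaf 221))) (.node (.node (.leaf 61) (.leaf 190))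 (.node (.leaf 124) (.leaf 238))))))) (.node (.node (.node (.node (.node (.node (.leaf 3) (.leaf 131)) (.node (.leaf 66) (.leaf 196))) (.node (.node (.leaf 35) (.leaf 163)) (.node (.leaf 100) (.leaf 226)))) (.node (.node (.node (.leaf 20) (.leaf 147)) (.node (.leaf 83) (.leaf 210))) (.node (.node (.leaf 51) (.leaf 180)) (.node (.leaf 114) (.leaf 238))))) (.node (.node (.node (.node (.leaf 11) (.leaf 140)) (.node (.leaf 75) (.leaf 203))) (.node (.node (.leaf 44) (.leaf 171)) (.node (.leaf 107) (.leaf 235)))) (.node (.node (.node (.leaf 27) (.leaf 154)) (.node (.leaf 91) (.leaf 220))) (.node (.node (.leaf 60) (.leaf 186)) (.node (.leaf 123) (.leaf 238)))))) (.node (.node (.node (.node (.node (.leaf 7) (.leaf 135)) (.node (.leaf 72) (.leaf 199))) (.node (.node (.leaf 38) (.leaf 168)) (.node (.leaf 103) (.leaf 231)))) (.node (.node (.node (.leaf 23) (.leaf 150)) (.node (.leaf 87) (.leaf 214))) (.node (.node (.leaf 55) (.leaf 183))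 (.node (.leaf 120) (.leaf 238))))) (.node (.node (.node (.node (.leaf 15) (.leaf 143)) (.node (.leaf 80) (.leaf 208))) (.node (.node (.leaf 48) (.leaf 175)) (.node (.leaf 110) (.leaf 238)))) (.node (.node (.node (.leaf 32) (.leaf 160)) (.node (.leaf 95) (.leaf 223))) (.node (.node (.leaf 62) (.leaf 192)) (.node (.leaf 127) (.leaf 238))))))))

noncomputable def eta7 : Trie (ℤ) := .node (.node (.node (.node (.node (.node (.node (.node (.leaf (-1)) (.leaf 1)) (.node (.leaf 1) (.leaf (-1)))) (.node (.node (.leaf 1) (.leaf (-1))) (.node (.leaf 1) (.leaf 1)))) (.node (.node (.node (.leaf 1) (.leaf 1)) (.node (.leaf 1) (.leaf (-1)))) (.node (.node (.leaf 1) (.leaf 1)) (.node (.leaf 1) (.leaf (-1)))))) (.node (.node (.node (.node (.leaf 1) (.leaf 1)) (.node (.leaf 1) (.leaf 1))) (.node (.node (.leaf 1) (.leaf (-1))) (.node (.leaf 1) (.leaf 1)))) (.node (.node (.node (.leaf (-1)) (.leaf 1)) (.node (.leaf (-1)) (.leaf 1))) (.node (.node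 (.leaf 1) (.leaf 1)) (.node (.leaf (-1)) (.leaf (-1))))))) (.node (.node (.node (.node (.node (.leaf 1) (.leaf 1)) (.node (.leaf 1) (.leaf (-1)))) (.node (.node (.leaf 1) (.leaf 1)) (.node (.leaf 1) (.leaf 1)))) (.node (.node (.node (.leaf 1) (.leaf 1)) (.node (.leaf (-1)) (.leaf 1))) (.node (.node (.leaf (-1)) (.leaf (-1))) (.node (.leaf 1) (.leaf (-1)))))) (.node (.node (.node (.node (.leaf (-1)) (.leaf (-1))) (.node (.leaf 1) (.leaf 1))) (.node (.node (.leaf 1) (.leaf 1)) (.node (.leaf 1) (.leaf 1)))) (.node (.node (.node (.leaf (-1)) (.leaf 1)) (.node (.leaf 1) (.leaf (-1)))) (.node (.node (.leaf 1) (.leaf 1)) (.node (.leaf 1) (.leaf (-1)))))))) (.node (.node (.node (.node (.node (.node (.leaf 1) (.leaf 1)) (.node (.leaf (-1)) (.leaf 1))) (.node (.node (.leaf 1) (.leaf 1)) (.node (.leaf 1) (.leaf 1)))) (.node (.node (.node (.leaf 1) (.leaf (-1))) (.node (.leaf 1) (.leaf 1))) (.node (.node (.leaf 1) (.leaf 1)) (.node (.leaf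 (-1)) (.leaf (-1)))))) (.node (.node (.node (.node (.leaf 1) (.leaf 1)) (.node (.leaf 1) (.leaf 1))) (.node (.node (.leaf 1) (.leaf 1)) (.node (.leaf 1) (.leaf 1)))) (.node (.node (.node (.leaf 1) (.leaf 1)) (.node (.leaf 1) (.leaf 1))) (.node (.node (.leaf 1) (.leaf 1)) (.node (.leaf (-1)) (.leaf (-1))))))) (.node (.node (.node (.node (.node (.leaf 1) (.leaf (-1))) (.node (.leaf 1) (.leaf (-1)))) (.node (.node (.leaf (-1)) (.leaf 1)) (.node (.leaf 1) (.leaf 1)))) (.node (.node (.node (.leaf 1) (.leaf 1)) (.node (.leaf 1) (.leaf 1))) (.node (.node (.leaf 1) (.leaf (-1))) (.node (.leaf 1) (.leaf (-1)))))) (.node (.node (.node (.node (.leaf 1) (.leaf 1)) (.node (.leaf 1) (.leaf (-1)))) (.node (.node (.leaf 1) (.leaf 1)) (.node (.leaf (-1)) (.leaf 1)))) (.node (.node (.node (.leaf 1) (.leaf (-1))) (.node (.leaf 1) (.leaf 1))) (.node (.node (.leaf (-1)) (.leaf (-1))) (.node (.leaf 1) (.leaf (-1))))))))) (.node (.node (.node (.node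 (.node (.node (.node (.leaf 1) (.leaf (-1))) (.node (.leaf 1) (.leaf 1))) (.node (.node (.leaf (-1)) (.leaf 1)) (.node (.leaf 1) (.leaf 1)))) (.node (.node (.node (.leaf 1) (.leaf 1)) (.node (.leaf (-1)) (.leaf 1))) (.node (.node (.leaf (-1)) (.leaf (-1))) (.node (.leaf 1) (.leaf (-1)))))) (.node (.node (.node (.node (.leaf 1) (.leaf 1)) (.node (.leaf 1) (.leaf (-1)))) (.node (.node (.leaf (-1)) (.leaf 1)) (.node (.leaf (-1)) (.leaf 1)))) (.node (.node (.node (.leaf 1) (.leaf 1)) (.node (.leaf 1) (.leaf 1))) (.node (.node (.leaf (-1)) (.leaf 1)) (.node (.leaf 1) (.leaf (-1))))))) (.node (.node (.node (.node (.node (.leaf 1) (.leaf 1)) (.node (.leaf 1) (.leaf 1))) (.node (.node (.leaf 1) (.leaf 1)) (.node (.leaf 1) (.leaf 1)))) (.node (.node (.node (.leaf 1) (.leaf 1)) (.node (.leaf 1) (.leaf 1))) (.node (.node (.leaf 1) (.leaf 1)) (.node (.leaf (-1)) (.leaf (-1)))))) (.node (.node (.node (.node (.leaf 1) (.leaf 1)) (.node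 (.leaf 1) (.leaf 1))) (.node (.node (.leaf 1) (.leaf (-1))) (.node (.leaf 1) (.leaf 1)))) (.node (.node (.node (.leaf 1) (.leaf 1)) (.node (.leaf (-1)) (.leaf 1))) (.node (.node (.leaf 1) (.leaf 1)) (.node (.leaf (-1)) (.leaf (-1)))))))) (.node (.node (.node (.node (.node (.node (.leaf 1) (.leaf 1)) (.node (.leaf 1) (.leaf 1))) (.node (.node (.leaf 1) (.leaf 1)) (.node (.leaf (-1)) (.leaf (-1))))) (.node (.node (.node (.leaf (-1)) (.leaf 1)) (.node (.leaf 1) (.leaf (-1)))) (.node (.node (.leaf 1) (.leaf 1)) (.node (.leaf 1) (.leaf (-1)))))) (.node (.node (.node (.node (.leaf 1) (.leaf 1)) (.node (.leaf 1) (.leaf 1))) (.node (.node (.leaf (-1)) (.leaf 1)) (.node (.leaf 1) (.leaf 1)))) (.node (.node (.node (.leaf 1) (.leaf (-1))) (.node (.leaf 1) (.leaf 1))) (.node (.node (.leaf (-1)) (.leaf (-1))) (.node (.leaf 1) (.leaf (-1))))))) (.node (.node (.node (.node (.node (.leaf 1) (.leaf 1)) (.node (.leaf (-1)) (.leaf 1))) (.node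 (.node (.leaf 1) (.leaf 1)) (.node (.leaf 1) (.leaf 1)))) (.node (.node (.node (.leaf 1) (.leaf (-1))) (.node (.leaf 1) (.leaf (-1)))) (.node (.node (.leaf 1) (.leaf 1)) (.node (.leaf (-1)) (.leaf (-1)))))) (.node (.node (.node (.node (.leaf 1) (.leaf 1)) (.node (.leaf (-1)) (.leaf 1))) (.node (.node (.leaf (-1)) (.leaf 1)) (.node (.leaf 1) (.leaf (-1))))) (.node (.node (.node (.leaf (-1)) (.leaf 1)) (.node (.leaf 1) (.leaf 1))) (.node (.node (.leaf 1) (.leaf 1)) (.node (.leaf 1) (.leaf (-1)))))))))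

noncomputable def car7 : Trie (ℤ) := .node (.node (.node (.node (.node (.node (.node (.node (.leaf (-1)) (.leaf (-1))) (.node (.leaf 0) (.leaf 1))) (.node (.node (.leaf 1) (.leaf 1)) (.node (.leaf 0) (.leaf 0)))) (.node (.node (.node (.leaf 0) (.leaf 0)) (.node (.leaf 1) (.leaf 1))) (.node (.node (.leaf 1) (.leaf (-1))) (.node (.leaf 0) (.leaf 1))))) (.node (.node (.node (.node (.leaf 0) (.leaf 0)) (.node (.leaf 1) (.leaf (-1)))) (.node (.node (.leaf 0) (.leaf 1)) (.node (.leaf 0) (.leaf 0)))) (.node (.node (.node (.leaf (-1)) (.leaf 0)) (.node (.leaf (-1)) (.leaf 0))) (.node (.node (.leaf 0) (.leaf 0)) (.node (.leaf 2) (.leaf 1)))))) (.node (.node (.node (.node (.node (.leaf 0) (.leaf 0)) (.node (.leaf 0) (.leaf 1))) (.node (.node (.leaf 0) (.leaf 0)) (.node (.leaf 1) (.leaf 0)))) (.node (.node (.node (.leaf 1) (.leaf 0)) (.node (.leaf (-1)) (.leaf 0))) (.node (.node (.leaf (-1)) (.leaf 1)) (.node (.leaf 0) (.leaf 1)))))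 (.node (.node (.node (.node (.leaf (-1)) (.leaf 1)) (.node (.leaf 0) (.leaf 0))) (.node (.node (.leaf 1) (.leaf (-1))) (.node (.leaf 0) (.leaf 0)))) (.node (.node (.node (.leaf (-1)) (.leaf 0)) (.node (.leaf 0) (.leaf 1))) (.node (.node (.leaf 1) (.leaf 0)) (.node (.leaf (-1)) (.leaf 1))))))) (.node (.node (.node (.node (.node (.node (.leaf 0) (.leaf 0)) (.node (.leaf (-1)) (.leaf 0))) (.node (.node (.leaf 1) (.leaf 0)) (.node (.leaf 0) (.leaf (-1))))) (.node (.node (.node (.leaf 0) (.leaf 1)) (.node (.leaf 1) (.leaf (-1)))) (.node (.node (.leaf 1) (.leaf 0)) (.node (.leaf (-1)) (.leaf 1))))) (.node (.node (.node (.node (.leaf 0) (.leaf 0)) (.node (.leaf 0) (.leaf 0))) (.node (.node (.leaf 1) (.leaf 0)) (.node (.leaf 1) (.leaf 0)))) (.node (.node (.node (.leaf 0) (.leaf (-1))) (.node (.leaf 0) (.leaf 0))) (.node (.node (.leaf 1) (.leaf (-1))) (.node (.leaf 1) (.leaf 1)))))) (.node (.node (.node (.node (.node (.leaf 0) (.leaf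 1)) (.node (.leaf 0) (.leaf 1))) (.node (.node (.leaf (-1)) (.leaf 0)) (.node (.leaf 0) (.leaf 0)))) (.node (.node (.node (.leaf 0) (.leaf (-1))) (.node (.leaf 0) (.leaf (-1)))) (.node (.node (.leaf 0) (.leaf 1)) (.node (.leaf 1) (.leaf 1))))) (.node (.node (.node (.node (.leaf 0) (.leaf 0)) (.node (.leaf 0) (.leaf 1))) (.node (.node (.leaf 0) (.leaf 0)) (.node (.leaf (-1)) (.leaf (-1))))) (.node (.node (.node (.leaf 0) (.leaf 1)) (.node (.leaf 1) (.leaf 0))) (.node (.node (.leaf (-1)) (.leaf 1)) (.node (.leaf 0) (.leaf 1)))))))) (.node (.node (.node (.node (.node (.node (.node (.leaf 1) (.leaf 1)) (.node (.leaf 0) (.leaf 0))) (.node (.node (.leaf (-1)) (.leaf 0)) (.node (.leaf 0) (.leaf 0)))) (.node (.node (.node (.leaf 0) (.leaf (-1))) (.node (.leaf (-1)) (.leaf 0))) (.node (.node (.leaf (-1)) (.leaf 1)) (.node (.leaf 0) (.leaf 1))))) (.node (.node (.node (.node (.leaf 0) (.leaf 0)) (.node (.leaf 0) (.leaf 1))) (.node (.node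 (.leaf (-1)) (.leaf 0)) (.node (.leaf (-1)) (.leaf 0)))) (.node (.node (.node (.leaf 1) (.leaf 0)) (.node (.leaf 1) (.leaf 0))) (.node (.node (.leaf (-1)) (.leaf 0)) (.node (.leaf (-1)) (.leaf 1)))))) (.node (.node (.node (.node (.node (.leaf 0) (.leaf (-1))) (.node (.leaf 0) (.leaf (-1)))) (.node (.node (.leaf 0) (.leaf 0)) (.node (.leaf 0) (.leaf 0)))) (.node (.node (.node (.leaf 0) (.leaf 0)) (.node (.leaf 1) (.leaf 0))) (.node (.node (.leaf 1) (.leaf (-1))) (.node (.leaf (-1)) (.leaf 1))))) (.node (.node (.node (.node (.leaf 1) (.leaf 0)) (.node (.leaf 0) (.leaf (-1)))) (.node (.node (.leaf 0) (.leaf 1)) (.node (.leaf 0) (.leaf 0)))) (.node (.node (.node (.leaf 1) (.leaf (-1))) (.node (.leaf (-1)) (.leaf 0))) (.node (.node (.leaf 0) (.leaf (-1))) (.node (.leaf 1) (.leaf 1))))))) (.node (.node (.node (.node (.node (.node (.leaf 0) (.leaf 0)) (.node (.leaf 1) (.leaf (-1)))) (.node (.node (.leaf 0) (.leaf 0)) (.node (.leaf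 (-1)) (.leaf 1)))) (.node (.node (.node (.leaf (-1)) (.leaf 0)) (.node (.leaf 0) (.leaf 1))) (.node (.node (.leaf 0) (.leaf (-1))) (.node (.leaf 1) (.leaf 1))))) (.node (.node (.node (.node (.leaf 0) (.leaf (-1))) (.node (.leaf 0) (.leaf 0))) (.node (.node (.leaf (-1)) (.leaf 0)) (.node (.leaf 0) (.leaf 0)))) (.node (.node (.node (.leaf 0) (.leaf 1)) (.node (.leaf 0) (.leaf (-1)))) (.node (.node (.leaf (-1)) (.leaf 1)) (.node (.leaf 0) (.leaf 1)))))) (.node (.node (.node (.node (.node (.leaf 0) (.leaf 0)) (.node (.leaf (-1)) (.leaf 0))) (.node (.node (.leaf 1) (.leaf (-1))) (.node (.leaf 0) (.leaf 0)))) (.node (.node (.node (.leaf 0) (.leaf 1)) (.node (.leaf 0) (.leaf 1))) (.node (.node (.leaf 0) (.leaf 0)) (.node (.leaf (-2)) (.leaf 1))))) (.node (.node (.node (.node (.leaf 0) (.leaf 0)) (.node (.leaf (-1)) (.leaf (-1)))) (.node (.node (.leaf (-1)) (.leaf 0)) (.node (.leaf 1) (.leaf 1)))) (.node (.node (.node (.leaf (-1))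 (.leaf (-1))) (.node (.leaf 0) (.leaf 0))) (.node (.node (.leaf 1) (.leaf (-1))) (.node (.leaf 0) (.leaf 1))))))))

noncomputable def pos7 : Trie (ℕ) := .node (.node (.node (.node (.node (.node (.node (.node (.leaf 1120) (.leaf 1353)) (.node (.leaf 215) (.leaf 1833))) (.node (.node (.leaf 1573) (.leaf 1831)) (.node (.leaf 281) (.leaf 993)))) (.node (.node (.node (.leaf 189) (.leaf 317)) (.node (.leaf 1592) (.leaf 1836))) (.node (.node (.leaf 1585) (.leaf 1365)) (.node (.leaf 250) (.leaf 1903))))) (.node (.node (.node (.node (.leaf 168) (.leaf 314)) (.node (.leaf 1612) (.leaf 1389))) (.node (.node (.leaf 294) (.leaf 1804)) (.node (.leaf 304) (.leaf 1002)))) (.node (.node (.node (.leaf 1123) (.leaf 330)) (.node (.leaf 1162) (.leaf 987))) (.node (.node (.leaf 309) (.leaf 336)) (.node (.leaf 0) (.leaf 1903)))))) (.node (.node (.node (.node (.node (.leaf 160) (.leaf 308)) (.node (.leaf 232) (.leaf 1827))) (.node (.node (.leaf 240)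 (.leaf 323)) (.node (.leaf 1614) (.leaf 995)))) (.node (.node (.node (.leaf 1570) (.leaf 324)) (.node (.leaf 1156) (.leaf 985))) (.node (.node (.leaf 1152) (.leaf 1824)) (.node (.leaf 252) (.leaf 1903))))) (.node (.node (.node (.node (.leaf 1121) (.leaf 1803)) (.node (.leaf 303) (.leaf 341))) (.node (.node (.leaf 1580) (.leaf 1361)) (.node (.leaf 283) (.leaf 1005)))) (.node (.node (.node (.leaf 1124) (.leaf 335)) (.node (.leaf 292) (.leaf 1840))) (.node (.node (.leaf 1590) (.leaf 339)) (.node (.leaf 1352) (.leaf 1903))))))) (.node (.node (.node (.node (.node (.node (.leaf 158) (.leaf 306)) (.node (.leaf 1160) (.leaf 340))) (.node (.node (.leaf 1574) (.leaf 320)) (.node (.leaf 305) (.leaf 1393)))) (.node (.node (.node (.leaf 259) (.leaf 1805)) (.node (.leaf 1594) (.leaf 1390))) (.node (.node (.leaf 1586) (.leaf 338)) (.node (.leaf 1174) (.leaf 1903))))) (.node (.node (.node (.node (.leaf 211) (.leaf 318)) (.node (.leaf 277)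 (.leaf 982))) (.node (.node (.leaf 1578) (.leaf 329)) (.node (.leaf 1618) (.leaf 1003)))) (.node (.node (.node (.leaf 230) (.leaf 1364)) (.node (.leaf 234) (.leaf 991))) (.node (.node (.leaf 1588) (.leaf 1369)) (.node (.leaf 1799) (.leaf 1903)))))) (.node (.node (.node (.node (.node (.leaf 162) (.leaf 1802)) (.node (.leaf 291) (.leaf 1834))) (.node (.node (.leaf 1128) (.leaf 327)) (.node (.leaf 279) (.leaf 997)))) (.node (.node (.node (.leaf 214) (.leaf 1360)) (.node (.leaf 218) (.leaf 1391))) (.node (.node (.leaf 213) (.leaf 1832)) (.node (.leaf 1629) (.leaf 1903))))) (.node (.node (.node (.node (.leaf 163) (.leaf 313)) (.node (.leaf 319) (.leaf 1829))) (.node (.node (.leaf 302) (.leaf 333)) (.node (.leaf 1172) (.leaf 1455)))) (.node (.node (.node (.leaf 290) (.leaf 1823)) (.node (.leaf 1616) (.leaf 990))) (.node (.node (.leaf 1153) (.leaf 1825)) (.node (.leaf 299) (.leaf 1903)))))))) (.node (.node (.node (.node (.node (.node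 (.node (.leaf 1568) (.leaf 1801)) (.node (.leaf 262) (.leaf 980))) (.node (.node (.leaf 1126) (.leaf 978)) (.node (.leaf 297) (.leaf 994)))) (.node (.node (.node (.leaf 212) (.leaf 1357)) (.node (.leaf 1146) (.leaf 984))) (.node (.node (.leaf 1138) (.leaf 1813)) (.node (.leaf 285) (.leaf 1903))))) (.node (.node (.node (.node (.leaf 188) (.leaf 316)) (.node (.leaf 242) (.leaf 1837))) (.node (.node (.leaf 1130) (.leaf 328)) (.node (.leaf 1170) (.leaf 999)))) (.node (.node (.node (.leaf 1571) (.leaf 332)) (.node (.leaf 1610) (.leaf 988))) (.node (.node (.leaf 1140) (.leaf 337)) (.node (.leaf 1351) (.leaf 1903)))))) (.node (.node (.node (.node (.node (.leaf 161) (.leaf 1354)) (.node (.leaf 270) (.leaf 1386))) (.node (.node (.leaf 275) (.leaf 325)) (.node (.leaf 244) (.leaf 996)))) (.node (.node (.node (.leaf 192) (.leaf 326)) (.node (.leaf 1604) (.leaf 986))) (.node (.node (.leaf 1600) (.leaf 1384)) (.node (.leaf 1181) (.leaf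 1903))))) (.node (.node (.node (.node (.leaf 1569) (.leaf 312)) (.node (.leaf 310) (.leaf 1381))) (.node (.node (.leaf 172) (.leaf 1809)) (.node (.leaf 298) (.leaf 1006)))) (.node (.node (.node (.leaf 1572) (.leaf 1375)) (.node (.leaf 1168) (.leaf 989))) (.node (.node (.leaf 194) (.leaf 1377)) (.node (.leaf 1800) (.leaf 1903))))))) (.node (.node (.node (.node (.node (.node (.leaf 159) (.leaf 307)) (.node (.leaf 1608) (.leaf 1379))) (.node (.node (.leaf 164) (.leaf 321)) (.node (.leaf 1166) (.leaf 1841)))) (.node (.node (.node (.leaf 1122) (.leaf 322)) (.node (.leaf 196) (.leaf 1838))) (.node (.node (.leaf 190) (.leaf 1376)) (.node (.leaf 1622) (.leaf 1903))))) (.node (.node (.node (.node (.leaf 258) (.leaf 1355)) (.node (.leaf 295) (.leaf 983))) (.node (.node (.leaf 1132) (.leaf 331)) (.node (.leaf 248) (.leaf 1004)))) (.node (.node (.node (.leaf 269) (.leaf 1812)) (.node (.leaf 271) (.leaf 1392))) (.node (.node (.leaf 1142)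 (.leaf 1817)) (.node (.leaf 287) (.leaf 1903)))))) (.node (.node (.node (.node (.node (.leaf 166) (.leaf 311)) (.node (.leaf 1164) (.leaf 981))) (.node (.node (.leaf 1576) (.leaf 1356)) (.node (.leaf 296) (.leaf 998)))) (.node (.node (.node (.leaf 261) (.leaf 1808)) (.node (.leaf 264) (.leaf 1839))) (.node (.node (.leaf 260) (.leaf 979)) (.node (.leaf 0) (.leaf 1903))))) (.node (.node (.node (.node (.leaf 170) (.leaf 315)) (.node (.leaf 1144) (.leaf 1388))) (.node (.node (.leaf 1137) (.leaf 334)) (.node (.leaf 1620) (.leaf 1903)))) (.node (.node (.node (.leaf 1125) (.leaf 1383)) (.node (.leaf 246) (.leaf 992))) (.node (.node (.leaf 1601) (.leaf 1385)) (.node (.leaf 300) (.leaf 1903))))))))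

/-- The tables. -/
noncomputable def tbl : Tbl where
  l := 8
  n := 240
  vec := vec
  wt := [62748517, 4826809, 371293, 28561, 2197, 169, 13, 1]
  pi := [pi0, pi1, pi2, pi3, pi4, pi5, pi6, pi7]
  eta := [eta0, eta1, eta2, eta3, eta4, eta5, eta6, eta7]
  rows := rows
  cor := cor
  car := [car0, car1, car2, car3, car4, car5, car6, car7]
  simple := [162, 141, 135, 130, 126, 123, 121, 120]
  bez := bez
  dsc := dsc
  reps := [(162, 0), (162, 6), (162, 14)]
  cert := cert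
  ncert := 1904
  pos := [pos0, pos1, pos2, pos3, pos4, pos5, pos6, pos7]

end CfsgLib.Chev.DataE8
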