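import Cfsg.Agent.Chev.Engine

/-! Tables of the datum of type G2, generated from the definition; verified in `Chev.InstG2`. -/

set_option autoImplicit false
set_option maxRecDepth 100000
set_option linter.style.longLine false

namespace CfsgLib.Chev.DataG2

open CfsgLib.Chev

noncomputable def vec : Trie (List ℤ) := .node (.node (.node (.node (.leaf [-3, -2]) (.leaf [1, 1])) (.node (.leaf [-1, 0]) (.leaf [3, 2]))) (.node (.node (.leaf [-2, -1]) (.leaf [3, 1])) (.node (.leaf [0, 1]) (.leaf [3, 2])))) (.node (.node (.node (.leaf [-3, -1]) (.leaf [2, 1])) (.node (.leaf [0, -1]) (.leaf [3, 2]))) (.node (.node (.leaf [-1, -1]) (.leaf [3, 2])) (.node (.leaf [1, 0]) (.leaf [3, 2]))))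

noncomputable def rows : Trie (List (ℕ × List (ℕ × ℤ))) := .node (.node (.node (.node (.leaf [(6, [(1, 1)]), (8, [(2, 1)]), (9, [(3, -1)]), (10, [(5, -1)])]) (.leaf [(0, [(2, -1), (4, 1), (6, 1)]), (2, [(4, -2), (6, -3)]), (4, [(6, 3)]), (5, [(7, -1), (9, -1), (11, -1)]), (7, [(9, 2), (11, 3)]), (9, [(11, 3)])])) (.node (.leaf [(2, [(1, -3)]), (3, [(2, 2), (1, -3)]), (5, [(3, 1), (2, 1), (1, -1)]), (8, [(6, -3)]), (9, [(8, -2), (6, 3)]), (10, [(9, 1), (8, -1), (6, 1)])]) (.leaf [(1, [(6, 1)]), (2, [(8, 1)]), (3, [(9, -1)]), (5, [(10, -1)])]))) (.node (.node (.leaf [(3, [(0, 3)]), (4, [(1, 3)]), (7, [(3, -2), (0, -3)]), (8, [(4, 2), (1, 3)]), (10, [(7, -1), (3, 1), (0, 1)]), (11, [(8, -1), (4, -1), (1, -1)])]) (.leaf [(0, [(5, 1)]), (2, [(7, 1)]), (4, [(9, -1)]), (6, [(11, -1)])])) (.node (.leaf [(0, [(1, -1)]), (3, [(4, -1)]), (7, [(8, 1)]), (10, [(11, 1)])]) (.leaf [(1, [(6, 1)]), (2, [(8,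 1)]), (3, [(9, -1)]), (5, [(10, -1)])])))) (.node (.node (.node (.leaf [(5, [(0, 1)]), (7, [(2, 1)]), (9, [(4, -1)]), (11, [(6, -1)])]) (.leaf [(0, [(3, 1), (7, -1), (10, 1)]), (1, [(4, 1), (8, 1), (11, -1)]), (3, [(7, -2), (10, 3)]), (4, [(8, 2), (11, -3)]), (7, [(10, -3)]), (8, [(11, -3)])])) (.node (.leaf [(1, [(0, -1)]), (4, [(3, -1)]), (8, [(7, 1)]), (11, [(10, 1)])]) (.leaf [(1, [(6, 1)]), (2, [(8, 1)]), (3, [(9, -1)]), (5, [(10, -1)])]))) (.node (.node (.leaf [(2, [(0, -3)]), (4, [(2, -2), (0, 3)]), (6, [(4, 1), (2, -1), (0, 1)]), (7, [(5, -3)]), (9, [(7, 2), (5, -3)]), (11, [(9, 1), (7, 1), (5, -1)])]) (.leaf [(1, [(6, 1)]), (2, [(8, 1)]), (3, [(9, -1)]), (5, [(10, -1)])])) (.node (.leaf [(1, [(2, -1), (3, -1), (5, -1)]), (2, [(3, 2), (5, 3)]), (3, [(5, 3)]), (6, [(8, -1), (9, 1), (10, 1)]), (8, [(9, -2), (10, -3)]), (9, [(10, 3)])]) (.leaf [(1, [(6, 1)]), (2, [(8, 1)]), (3, [(9,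 -1)]), (5, [(10, -1)])]))))

noncomputable def cor : Trie (List ℤ) := .node (.node (.node (.node (.leaf [-1, -2]) (.leaf [1, 3])) (.node (.leaf [-1, 0]) (.leaf [1, 2]))) (.node (.node (.leaf [-2, -3]) (.leaf [1, 1])) (.node (.leaf [0, 1]) (.leaf [1, 2])))) (.node (.node (.node (.leaf [-1, -1]) (.leaf [2, 3])) (.node (.leaf [0, -1]) (.leaf [1, 2]))) (.node (.node (.leaf [-1, -3]) (.leaf [1, 2])) (.node (.leaf [1, 0]) (.leaf [1, 2]))))

noncomputable def bez : Trie (List ℤ) := .node (.node (.node (.node (.leaf [1, -1]) (.leaf [1, 0])) (.node (.leaf [-1, 0]) (.leaf [1, 0]))) (.node (.node (.leaf [1, -1]) (.leaf [0, 1])) (.node (.leaf [0, 1]) (.leaf [1, 0])))) (.node (.node (.node (.leaf [0, -1]) (.leaf [-1, 1])) (.node (.leaf [0, -1]) (.leaf [1, 0]))) (.node (.node (.leaf [-1, 0]) (.leaf [1, 0])) (.node (.leaf [1, 0]) (.leaf [1, 0]))))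

noncomputable def dsc : Trie (ℕ) := .node (.node (.node (.node (.leaf 1) (.leaf 1)) (.node (.leaf 0) (.leaf 1))) (.node (.node (.leaf 0) (.leaf 0)) (.node (.leaf 0) (.leaf 1)))) (.node (.node (.node (.leaf 0) (.leaf 0)) (.node (.leaf 1) (.leaf 1))) (.node (.node (.leaf 1) (.leaf 1)) (.node (.leaf 0) (.leaf 1))))

noncomputable def cert : Trie (ℕ × ℕ × List ℕ × ℕ) := .node (.node (.node (.node (.node (.leaf (7, 0, [], 0)) (.leaf (6, 3, [], 0))) (.node (.leaf (7, 5, [], 0)) (.leaf (6, 8, [0, 1, 0, 1, 0], 18)))) (.node (.node (.leaf (7, 2, [], 0)) (.leaf (6, 8, [0, 1, 0, 1, 0], 18))) (.node (.leaf (6, 1, [], 0)) (.leaf (6, 8, [0, 1, 0, 1, 0], 18))))) (.node (.node (.node (.leaf (7, 1, [], 0)) (.leaf (6, 4, [], 0))) (.node (.leaf (6, 0, [], 0)) (.leaf (6, 8, [0, 1, 0, 1, 0], 18)))) (.node (.node (.leaf (7, 3, [], 0)) (.leaf (6, 8, [0, 1, 0, 1, 0], 18))) (.node (.leaf (6, 2, [], 0)) (.leaf (6,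 8, [0, 1, 0, 1, 0], 18)))))) (.node (.node (.node (.node (.leaf (7, 11, [1, 0, 1, 0, 1], 0)) (.leaf (6, 7, [0, 1, 0, 1, 0], 16))) (.node (.leaf (7, 10, [1, 0, 1, 0, 1], 8)) (.leaf (6, 8, [0, 1, 0, 1, 0], 18)))) (.node (.node (.leaf (7, 8, [1, 0, 1, 0, 1], 4)) (.leaf (6, 8, [0, 1, 0, 1, 0], 18))) (.node (.leaf (6, 11, [0, 1, 0, 1, 0], 12)) (.leaf (6, 8, [0, 1, 0, 1, 0], 18))))) (.node (.node (.node (.leaf (7, 6, [1, 0, 1, 0, 1], 2)) (.leaf (6, 8, [0, 1, 0, 1, 0], 18))) (.node (.leaf (6, 10, [0, 1, 0, 1, 0], 10)) (.leaf (6, 8, [0, 1, 0, 1, 0], 18)))) (.node (.node (.leaf (7, 9, [1, 0, 1, 0, 1], 6)) (.leaf (6, 8, [0, 1, 0, 1, 0], 18))) (.node (.leaf (6, 9, [0, 1, 0, 1, 0], 14)) (.leaf (6, 8, [0, 1, 0, 1, 0], 18))))))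

noncomputable def pi0 : Trie (ℕ) := .node (.node (.node (.node (.leaf 0) (.leaf 9)) (.node (.leaf 7) (.leaf 11))) (.node (.node (.leaf 3) (.leaf 6)) (.node (.leaf 10) (.leaf 11)))) (.node (.node (.node (.leaf 5) (.leaf 8)) (.node (.leaf 1) (.leaf 11))) (.node (.node (.leaf 2) (.leaf 11)) (.node (.leaf 4) (.leaf 11))))

noncomputable def eta0 : Trie (ℤ) := .node (.node (.node (.node (.leaf 1) (.leaf 1)) (.node (.leaf (-1)) (.leaf 1))) (.node (.node (.leaf (-1)) (.leaf (-1))) (.node (.leaf 1) (.leaf 1)))) (.node (.node (.node (.leaf (-1)) (.leaf (-1))) (.node (.leaf 1) (.leaf 1))) (.node (.node (.leaf 1) (.leaf 1)) (.node (.leaf (-1)) (.leaf 1))))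

noncomputable def car0 : Trie (ℤ) := .node (.node (.node (.node (.leaf 0) (.leaf (-1))) (.node (.leaf (-2)) (.leaf 0))) (.node (.node (.leaf (-1)) (.leaf 3)) (.node (.leaf (-3)) (.leaf 0)))) (.node (.node (.node (.leaf (-3)) (.leaf 1)) (.node (.leaf 3) (.leaf 0))) (.node (.node (.leaf 1) (.leaf 0)) (.node (.leaf 2) (.leaf 0))))

noncomputable def pos0 : Trie (ℕ) := .node (.node (.node (.node (.leaf 0) (.leaf 5)) (.node (.leaf 0) (.leaf 1))) (.node (.node (.leaf 4) (.leaf 9)) (.node (.leaf 3) (.leaf 1)))) (.node (.node (.node (.leaf 2) (.leaf 7)) (.node (.leaf 8) (.leaf 1))) (.node (.node (.leaf 6) (.leaf 1)) (.node (.leaf 0) (.leaf 1))))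

noncomputable def pi1 : Trie (ℕ) := .node (.node (.node (.node (.leaf 1) (.leaf 7)) (.node (.leaf 3) (.leaf 10))) (.node (.node (.leaf 2) (.leaf 11)) (.node (.leaf 5) (.leaf 10)))) (.node (.node (.node (.leaf 0) (.leaf 9)) (.node (.leaf 6) (.leaf 10))) (.node (.node (.leaf 4) (.leaf 10)) (.node (.leaf 8) (.leaf 10))))

noncomputable def eta1 : Trie (ℤ) := .node (.node (.node (.node (.leaf (-1)) (.leaf (-1))) (.node (.leaf 1) (.leaf (-1)))) (.node (.node (.leaf 1) (.leaf 1)) (.node (.leaf (-1)) (.leaf (-1))))) (.node (.node (.node (.leaf 1) (.leaf 1)) (.node (.leaf (-1)) (.leaf (-1)))) (.node (.node (.leaf (-1)) (.leaf (-1))) (.node (.leaf 1) (.leaf (-1)))))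

noncomputable def car1 : Trie (ℤ) := .node (.node (.node (.node (.leaf (-1)) (.leaf 1)) (.node (.leaf 1) (.leaf 1))) (.node (.node (.leaf 0) (.leaf (-1))) (.node (.leaf 2) (.leaf 1)))) (.node (.node (.node (.leaf 1) (.leaf 0)) (.node (.leaf (-2)) (.leaf 1))) (.node (.node (.leaf (-1)) (.leaf 1)) (.node (.leaf (-1)) (.leaf 1))))

noncomputable def pos1 : Trie (ℕ) := .node (.node (.node (.node (.leaf 10) (.leaf 19)) (.node (.leaf 18) (.leaf 13))) (.node (.node (.leaf 14) (.leaf 11)) (.node (.leaf 0) (.leaf 13)))) (.node (.node (.node (.leaf 12) (.leaf 15)) (.node (.leaf 0) (.leaf 13))) (.node (.node (.leaf 16) (.leaf 13)) (.node (.leaf 17) (.leaf 13))))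

/-- The tables. -/
noncomputable def tbl : Tbl where
  l := 2
  n := 12
  vec := vec
  wt := [13, 1]
  pi := [pi0, pi1]
  eta := [eta0, eta1]
  rows := rows
  cor := cor
  car := [car0, car1]
  simple := [7, 6]
  bez := bez
  dsc := dsc
  reps := [(7, 0), (7, 1), (7, 2), (7, 3), (7, 5), (6, 0), (6, 1), (6, 2), (6, 3), (6, 4)]
  cert := cert
  ncert := 20
  pos := [pos0, pos1]

end CfsgLib.Chev.DataG2
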