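import Cfsg.Agent.Chev.WeylPoincare
import Cfsg.Prelude.Def_ChevE8

/-! Orbit tables for the Poincaré polynomial of the Weyl group of type E8. -/

set_option autoImplicit false
set_option maxRecDepth 100000
set_option maxHeartbeats 2000000
set_option linter.style.longLine false

namespace CfsgLib.Chev.PoincareE8

open CfsgLib.Chev Cfsg.Lie

/-- Cartan integers. -/
def cart : List (List ℤ) := [[2, 0, -1, 0, 0, 0, 0, 0], [0, 2, 0, -1, 0, 0, 0, 0], [-1, 0, 2, -1, 0, 0, 0, 0], [0, -1, -1, 2, -1, 0, 0, 0], [0, 0, 0, -1, 2, -1, 0, 0], [0, 0, 0, 0, -1, 2, -1, 0], [0, 0, 0, 0, 0, -1, 2, -1], [0, 0, 0, 0, 0, 0, -1, 2]]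

/-- Orbit 0. -/
def orb0 : List (List ℤ × ℕ) := [([1, 0, 0, 0, 0, 0, 0, 0], 0),
  ([-1, 0, 1, 0, 0, 0, 0, 0], 1)]

theorem orb0_ok : orbOK 8 cart 0 orb0 = true := by decide +kernel

/-- Orbit 1. -/
def orb1 : List (List ℤ × ℕ) := [([0, 1, 0, 0, 0, 0, 0, 0], 0),
  ([0, -1, 0, 1, 0, 0, 0, 0], 1)]

theorem orb1_ok : orbOK 8 cart 1 orb1 = true := by decide +kernel

/-- Orbit 2. -/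
def orb2 : List (List ℤ × ℕ) := [([0, 0, 1, 0, 0, 0, 0, 0], 0),
  ([1, 0, -1, 1, 0, 0, 0, 0], 1),
  ([-1, 0, 0, 1, 0, 0, 0, 0], 2)]

theorem orb2_ok : orbOK 8 cart 2 orb2 = true := by decide +kernel

/-- Orbit 3. -/
def orb3 : List (List ℤ × ℕ) := [([0, 0, 0, 1, 0, 0, 0, 0], 0),
  ([0, 1, 1, -1, 1, 0, 0, 0], 1),
  ([0, -1, 1, 0, 1, 0, 0, 0], 2),
  ([1, 1, -1, 0, 1, 0, 0, 0], 2),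
  ([1, -1, -1, 1, 1, 0, 0, 0], 3),
  ([-1, 1, 0, 0, 1, 0, 0, 0], 3),
  ([-1, -1, 0, 1, 1, 0, 0, 0], 4),
  ([1, 0, 0, -1, 2, 0, 0, 0], 4),
  ([-1, 0, 1, -1, 2, 0, 0, 0], 5),
  ([0, 0, -1, 0, 2, 0, 0, 0], 6)]

theorem orb3_ok : orbOK 8 cart 3 orb3 = true := by decide +kernel

/-- Orbit 4. -/
def orb4 : List (List ℤ × ℕ) := [([0, 0, 0, 0, 1, 0, 0, 0], 0),
  ([0, 0, 0, 1, -1, 1, 0, 0], 1),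
  ([0, 1, 1, -1, 0, 1, 0, 0], 2),
  ([0, -1, 1, 0, 0, 1, 0, 0], 3),
  ([1, 1, -1, 0, 0, 1, 0, 0], 3),
  ([1, -1, -1, 1, 0, 1, 0, 0], 4),
  ([-1, 1, 0, 0, 0, 1, 0, 0], 4),
  ([-1, -1, 0, 1, 0, 1, 0, 0], 5),
  ([1, 0, 0, -1, 1, 1, 0, 0], 5),
  ([-1, 0, 1, -1, 1, 1, 0, 0], 6),
  ([1, 0, 0, 0, -1, 2, 0, 0], 6),
  ([0, 0, -1, 0, 1, 1, 0, 0], 7),
  ([-1, 0, 1, 0, -1, 2, 0, 0], 7),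
  ([0, 0, -1, 1, -1, 2, 0, 0], 8),
  ([0, 1, 0, -1, 0, 2, 0, 0], 9),
  ([0, -1, 0, 0, 0, 2, 0, 0], 10)]

theorem orb4_ok : orbOK 8 cart 4 orb4 = true := by decide +kernel

/-- Orbit 5. -/
def orb5 : List (List ℤ × ℕ) := [([0, 0, 0, 0, 0, 1, 0, 0], 0),
  ([0, 0, 0, 0, 1, -1, 1, 0], 1),
  ([0, 0, 0, 1, -1, 0, 1, 0], 2),
  ([0, 1, 1, -1, 0, 0, 1, 0], 3),
  ([0, -1, 1, 0, 0, 0, 1, 0], 4),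
  ([1, 1, -1, 0, 0, 0, 1, 0], 4),
  ([1, -1, -1, 1, 0, 0, 1, 0], 5),
  ([-1, 1, 0, 0, 0, 0, 1, 0], 5),
  ([-1, -1, 0, 1, 0, 0, 1, 0], 6),
  ([1, 0, 0, -1, 1, 0, 1, 0], 6),
  ([-1, 0, 1, -1, 1, 0, 1, 0], 7),
  ([1, 0, 0, 0, -1, 1, 1, 0], 7),
  ([0, 0, -1, 0, 1, 0, 1, 0], 8),
  ([-1, 0, 1, 0, -1, 1, 1, 0], 8),
  ([1, 0, 0, 0, 0, -1, 2, 0], 8),
  ([0, 0, -1, 1, -1, 1, 1, 0], 9),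
  ([-1, 0, 1, 0, 0, -1, 2, 0], 9),
  ([0, 1, 0, -1, 0, 1, 1, 0], 10),
  ([0, 0, -1, 1, 0, -1, 2, 0], 10),
  ([0, -1, 0, 0, 0, 1, 1, 0], 11),
  ([0, 1, 0, -1, 1, -1, 2, 0], 11),
  ([0, -1, 0, 0, 1, -1, 2, 0], 12),
  ([0, 1, 0, 0, -1, 0, 2, 0], 12),
  ([0, -1, 0, 1, -1, 0, 2, 0], 13),
  ([0, 0, 1, -1, 0, 0, 2, 0], 14),
  ([1, 0, -1, 0, 0, 0, 2, 0], 15),
  ([-1, 0, 0, 0, 0, 0, 2, 0], 16)]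

theorem orb5_ok : orbOK 8 cart 5 orb5 = true := by decide +kernel

/-- Orbit 6. -/
def orb6 : List (List ℤ × ℕ) := [([0, 0, 0, 0, 0, 0, 1, 0], 0),
  ([0, 0, 0, 0, 0, 1, -1, 1], 1),
  ([0, 0, 0, 0, 1, -1, 0, 1], 2),
  ([0, 0, 0, 1, -1, 0, 0, 1], 3),
  ([0, 1, 1, -1, 0, 0, 0, 1], 4),
  ([0, -1, 1, 0, 0, 0, 0, 1], 5),
  ([1, 1, -1, 0, 0, 0, 0, 1], 5),
  ([1, -1, -1, 1, 0, 0, 0, 1], 6),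
  ([-1, 1, 0, 0, 0, 0, 0, 1], 6),
  ([-1, -1, 0, 1, 0, 0, 0, 1], 7),
  ([1, 0, 0, -1, 1, 0, 0, 1], 7),
  ([-1, 0, 1, -1, 1, 0, 0, 1], 8),
  ([1, 0, 0, 0, -1, 1, 0, 1], 8),
  ([0, 0, -1, 0, 1, 0, 0, 1], 9),
  ([-1, 0, 1, 0, -1, 1, 0, 1], 9),
  ([1, 0, 0, 0, 0, -1, 1, 1], 9),
  ([0, 0, -1, 1, -1, 1, 0, 1], 10),
  ([-1, 0, 1, 0, 0, -1, 1, 1], 10),
  ([1, 0, 0, 0, 0, 0, -1, 2], 10),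
  ([0, 1, 0, -1, 0, 1, 0, 1], 11),
  ([0, 0, -1, 1, 0, -1, 1, 1], 11),
  ([-1, 0, 1, 0, 0, 0, -1, 2], 11),
  ([0, -1, 0, 0, 0, 1, 0, 1], 12),
  ([0, 1, 0, -1, 1, -1, 1, 1], 12),
  ([0, 0, -1, 1, 0, 0, -1, 2], 12),
  ([0, -1, 0, 0, 1, -1, 1, 1], 13),
  ([0, 1, 0, 0, -1, 0, 1, 1], 13),
  ([0, 1, 0, -1, 1, 0, -1, 2], 13),
  ([0, -1, 0, 1, -1, 0, 1, 1], 14),
  ([0, -1, 0, 0, 1, 0, -1, 2], 14),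
  ([0, 1, 0, 0, -1, 1, -1, 2], 14),
  ([0, 0, 1, -1, 0, 0, 1, 1], 15),
  ([0, -1, 0, 1, -1, 1, -1, 2], 15),
  ([0, 1, 0, 0, 0, -1, 0, 2], 15),
  ([1, 0, -1, 0, 0, 0, 1, 1], 16),
  ([0, 0, 1, -1, 0, 1, -1, 2], 16),
  ([0, -1, 0, 1, 0, -1, 0, 2], 16),
  ([-1, 0, 0, 0, 0, 0, 1, 1], 17),
  ([1, 0, -1, 0, 0, 1, -1, 2], 17),
  ([0, 0, 1, -1, 1, -1, 0, 2], 17),
  ([-1, 0, 0, 0, 0, 1, -1, 2], 18),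
  ([1, 0, -1, 0, 1, -1, 0, 2], 18),
  ([0, 0, 1, 0, -1, 0, 0, 2], 18),
  ([-1, 0, 0, 0, 1, -1, 0, 2], 19),
  ([1, 0, -1, 1, -1, 0, 0, 2], 19),
  ([-1, 0, 0, 1, -1, 0, 0, 2], 20),
  ([1, 1, 0, -1, 0, 0, 0, 2], 20),
  ([-1, 1, 1, -1, 0, 0, 0, 2], 21),
  ([1, -1, 0, 0, 0, 0, 0, 2], 21),
  ([-1, -1, 1, 0, 0, 0, 0, 2], 22),
  ([0, 1, -1, 0, 0, 0, 0, 2], 22),
  ([0, -1, -1, 1, 0, 0, 0, 2], 23),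
  ([0, 0, 0, -1, 1, 0, 0, 2], 24),
  ([0, 0, 0, 0, -1, 1, 0, 2], 25),
  ([0, 0, 0, 0, 0, -1, 1, 2], 26),
  ([0, 0, 0, 0, 0, 0, -1, 3], 27)]

theorem orb6_ok : orbOK 8 cart 6 orb6 = true := by decide +kernel

/-- Orbit 7. -/
def orb7 : List (List ℤ × ℕ) := [([0, 0, 0, 0, 0, 0, 0, 1], 0),
  ([0, 0, 0, 0, 0, 0, 1, -1], 1),
  ([0, 0, 0, 0, 0, 1, -1, 0], 2),
  ([0, 0, 0, 0, 1, -1, 0, 0], 3),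
  ([0, 0, 0, 1, -1, 0, 0, 0], 4),
  ([0, 1, 1, -1, 0, 0, 0, 0], 5),
  ([0, -1, 1, 0, 0, 0, 0, 0], 6),
  ([1, 1, -1, 0, 0, 0, 0, 0], 6),
  ([1, -1, -1, 1, 0, 0, 0, 0], 7),
  ([-1, 1, 0, 0, 0, 0, 0, 0], 7),
  ([-1, -1, 0, 1, 0, 0, 0, 0], 8),
  ([1, 0, 0, -1, 1, 0, 0, 0], 8),
  ([-1, 0, 1, -1, 1, 0, 0, 0], 9),
  ([1, 0, 0, 0, -1, 1, 0, 0], 9),
  ([0, 0, -1, 0, 1, 0, 0, 0], 10),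
  ([-1, 0, 1, 0, -1, 1, 0, 0], 10),
  ([1, 0, 0, 0, 0, -1, 1, 0], 10),
  ([0, 0, -1, 1, -1, 1, 0, 0], 11),
  ([-1, 0, 1, 0, 0, -1, 1, 0], 11),
  ([1, 0, 0, 0, 0, 0, -1, 1], 11),
  ([0, 1, 0, -1, 0, 1, 0, 0], 12),
  ([0, 0, -1, 1, 0, -1, 1, 0], 12),
  ([-1, 0, 1, 0, 0, 0, -1, 1], 12),
  ([1, 0, 0, 0, 0, 0, 0, -1], 12),
  ([0, -1, 0, 0, 0, 1, 0, 0], 13),
  ([0, 1, 0, -1, 1, -1, 1, 0], 13),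
  ([0, 0, -1, 1, 0, 0, -1, 1], 13),
  ([-1, 0, 1, 0, 0, 0, 0, -1], 13),
  ([0, -1, 0, 0, 1, -1, 1, 0], 14),
  ([0, 1, 0, 0, -1, 0, 1, 0], 14),
  ([0, 1, 0, -1, 1, 0, -1, 1], 14),
  ([0, 0, -1, 1, 0, 0, 0, -1], 14),
  ([0, -1, 0, 1, -1, 0, 1, 0], 15),
  ([0, -1, 0, 0, 1, 0, -1, 1], 15),
  ([0, 1, 0, 0, -1, 1, -1, 1], 15),
  ([0, 1, 0, -1, 1, 0, 0, -1], 15),
  ([0, 0, 1, -1, 0, 0, 1, 0], 16),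
  ([0, -1, 0, 1, -1, 1, -1, 1], 16),
  ([0, -1, 0, 0, 1, 0, 0, -1], 16),
  ([0, 1, 0, 0, 0, -1, 0, 1], 16),
  ([0, 1, 0, 0, -1, 1, 0, -1], 16),
  ([1, 0, -1, 0, 0, 0, 1, 0], 17),
  ([0, 0, 1, -1, 0, 1, -1, 1], 17),
  ([0, -1, 0, 1, 0, -1, 0, 1], 17),
  ([0, -1, 0, 1, -1, 1, 0, -1], 17),
  ([0, 1, 0, 0, 0, -1, 1, -1], 17),
  ([-1, 0, 0, 0, 0, 0, 1, 0], 18),
  ([1, 0, -1, 0, 0, 1, -1, 1], 18),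
  ([0, 0, 1, -1, 1, -1, 0, 1], 18),
  ([0, 0, 1, -1, 0, 1, 0, -1], 18),
  ([0, -1, 0, 1, 0, -1, 1, -1], 18),
  ([0, 1, 0, 0, 0, 0, -1, 0], 18),
  ([-1, 0, 0, 0, 0, 1, -1, 1], 19),
  ([1, 0, -1, 0, 1, -1, 0, 1], 19),
  ([1, 0, -1, 0, 0, 1, 0, -1], 19),
  ([0, 0, 1, 0, -1, 0, 0, 1], 19),
  ([0, 0, 1, -1, 1, -1, 1, -1], 19),
  ([0, -1, 0, 1, 0, 0, -1, 0], 19),
  ([-1, 0, 0, 0, 1, -1, 0, 1], 20),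
  ([-1, 0, 0, 0, 0, 1, 0, -1], 20),
  ([1, 0, -1, 1, -1, 0, 0, 1], 20),
  ([1, 0, -1, 0, 1, -1, 1, -1], 20),
  ([0, 0, 1, 0, -1, 0, 1, -1], 20),
  ([0, 0, 1, -1, 1, 0, -1, 0], 20),
  ([-1, 0, 0, 1, -1, 0, 0, 1], 21),
  ([-1, 0, 0, 0, 1, -1, 1, -1], 21),
  ([1, 1, 0, -1, 0, 0, 0, 1], 21),
  ([1, 0, -1, 1, -1, 0, 1, -1], 21),
  ([1, 0, -1, 0, 1, 0, -1, 0], 21),
  ([0, 0, 1, 0, -1, 1, -1, 0], 21),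
  ([-1, 1, 1, -1, 0, 0, 0, 1], 22),
  ([-1, 0, 0, 1, -1, 0, 1, -1], 22),
  ([-1, 0, 0, 0, 1, 0, -1, 0], 22),
  ([1, -1, 0, 0, 0, 0, 0, 1], 22),
  ([1, 1, 0, -1, 0, 0, 1, -1], 22),
  ([1, 0, -1, 1, -1, 1, -1, 0], 22),
  ([0, 0, 1, 0, 0, -1, 0, 0], 22),
  ([-1, -1, 1, 0, 0, 0, 0, 1], 23),
  ([0, 1, -1, 0, 0, 0, 0, 1], 23),
  ([-1, 1, 1, -1, 0, 0, 1, -1], 23),
  ([-1, 0, 0, 1, -1, 1, -1, 0], 23),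
  ([1, -1, 0, 0, 0, 0, 1, -1], 23),
  ([1, 1, 0, -1, 0, 1, -1, 0], 23),
  ([1, 0, -1, 1, 0, -1, 0, 0], 23),
  ([0, -1, -1, 1, 0, 0, 0, 1], 24),
  ([-1, -1, 1, 0, 0, 0, 1, -1], 24),
  ([0, 1, -1, 0, 0, 0, 1, -1], 24),
  ([-1, 1, 1, -1, 0, 1, -1, 0], 24),
  ([-1, 0, 0, 1, 0, -1, 0, 0], 24),
  ([1, -1, 0, 0, 0, 1, -1, 0], 24),
  ([1, 1, 0, -1, 1, -1, 0, 0], 24),
  ([0, 0, 0, -1, 1, 0, 0, 1], 25),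
  ([0, -1, -1, 1, 0, 0, 1, -1], 25),
  ([-1, -1, 1, 0, 0, 1, -1, 0], 25),
  ([0, 1, -1, 0, 0, 1, -1, 0], 25),
  ([-1, 1, 1, -1, 1, -1, 0, 0], 25),
  ([1, -1, 0, 0, 1, -1, 0, 0], 25),
  ([1, 1, 0, 0, -1, 0, 0, 0], 25),
  ([0, 0, 0, 0, -1, 1, 0, 1], 26),
  ([0, 0, 0, -1, 1, 0, 1, -1], 26),
  ([0, -1, -1, 1, 0, 1, -1, 0], 26),
  ([-1, -1, 1, 0, 1, -1, 0, 0], 26),
  ([0, 1, -1, 0, 1, -1, 0, 0], 26),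
  ([-1, 1, 1, 0, -1, 0, 0, 0], 26),
  ([1, -1, 0, 1, -1, 0, 0, 0], 26),
  ([0, 0, 0, 0, 0, -1, 1, 1], 27),
  ([0, 0, 0, 0, -1, 1, 1, -1], 27),
  ([0, 0, 0, -1, 1, 1, -1, 0], 27),
  ([0, -1, -1, 1, 1, -1, 0, 0], 27),
  ([-1, -1, 1, 1, -1, 0, 0, 0], 27),
  ([0, 1, -1, 1, -1, 0, 0, 0], 27),
  ([1, 0, 1, -1, 0, 0, 0, 0], 27),
  ([0, 0, 0, 0, 0, 0, -1, 2], 28),
  ([0, 0, 0, 0, 0, -1, 2, -1], 28),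
  ([0, 0, 0, 0, -1, 2, -1, 0], 28),
  ([0, 0, 0, -1, 2, -1, 0, 0], 28),
  ([0, -1, -1, 2, -1, 0, 0, 0], 28),
  ([-1, 0, 2, -1, 0, 0, 0, 0], 28),
  ([0, 2, 0, -1, 0, 0, 0, 0], 28),
  ([2, 0, -1, 0, 0, 0, 0, 0], 28),
  ([0, 0, 0, 0, 0, 0, 1, -2], 29),
  ([0, 0, 0, 0, 0, 1, -2, 1], 29),
  ([0, 0, 0, 0, 1, -2, 1, 0], 29),
  ([0, 0, 0, 1, -2, 1, 0, 0], 29),
  ([0, 1, 1, -2, 1, 0, 0, 0], 29),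
  ([1, 0, -2, 1, 0, 0, 0, 0], 29),
  ([0, -2, 0, 1, 0, 0, 0, 0], 29),
  ([-2, 0, 1, 0, 0, 0, 0, 0], 29),
  ([0, 0, 0, 0, 0, 1, -1, -1], 30),
  ([0, 0, 0, 0, 1, -1, -1, 1], 30),
  ([0, 0, 0, 1, -1, -1, 1, 0], 30),
  ([0, 1, 1, -1, -1, 1, 0, 0], 30),
  ([0, -1, 1, -1, 1, 0, 0, 0], 30),
  ([1, 1, -1, -1, 1, 0, 0, 0], 30),
  ([-1, 0, -1, 1, 0, 0, 0, 0], 30),
  ([0, 0, 0, 0, 1, -1, 0, -1], 31),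
  ([0, 0, 0, 1, -1, 0, -1, 1], 31),
  ([0, 1, 1, -1, 0, -1, 1, 0], 31),
  ([0, -1, 1, 0, -1, 1, 0, 0], 31),
  ([1, 1, -1, 0, -1, 1, 0, 0], 31),
  ([1, -1, -1, 0, 1, 0, 0, 0], 31),
  ([-1, 1, 0, -1, 1, 0, 0, 0], 31),
  ([0, 0, 0, 1, -1, 0, 0, -1], 32),
  ([0, 1, 1, -1, 0, 0, -1, 1], 32),
  ([0, -1, 1, 0, 0, -1, 1, 0], 32),
  ([1, 1, -1, 0, 0, -1, 1, 0], 32),
  ([1, -1, -1, 1, -1, 1, 0, 0], 32),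
  ([-1, 1, 0, 0, -1, 1, 0, 0], 32),
  ([-1, -1, 0, 0, 1, 0, 0, 0], 32),
  ([0, 1, 1, -1, 0, 0, 0, -1], 33),
  ([0, -1, 1, 0, 0, 0, -1, 1], 33),
  ([1, 1, -1, 0, 0, 0, -1, 1], 33),
  ([1, -1, -1, 1, 0, -1, 1, 0], 33),
  ([-1, 1, 0, 0, 0, -1, 1, 0], 33),
  ([-1, -1, 0, 1, -1, 1, 0, 0], 33),
  ([1, 0, 0, -1, 0, 1, 0, 0], 33),
  ([0, -1, 1, 0, 0, 0, 0, -1], 34),
  ([1, 1, -1, 0, 0, 0, 0, -1], 34),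
  ([1, -1, -1, 1, 0, 0, -1, 1], 34),
  ([-1, 1, 0, 0, 0, 0, -1, 1], 34),
  ([-1, -1, 0, 1, 0, -1, 1, 0], 34),
  ([1, 0, 0, -1, 1, -1, 1, 0], 34),
  ([-1, 0, 1, -1, 0, 1, 0, 0], 34),
  ([1, -1, -1, 1, 0, 0, 0, -1], 35),
  ([-1, 1, 0, 0, 0, 0, 0, -1], 35),
  ([-1, -1, 0, 1, 0, 0, -1, 1], 35),
  ([1, 0, 0, -1, 1, 0, -1, 1], 35),
  ([-1, 0, 1, -1, 1, -1, 1, 0], 35),
  ([1, 0, 0, 0, -1, 0, 1, 0], 35),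
  ([0, 0, -1, 0, 0, 1, 0, 0], 35),
  ([-1, -1, 0, 1, 0, 0, 0, -1], 36),
  ([1, 0, 0, -1, 1, 0, 0, -1], 36),
  ([-1, 0, 1, -1, 1, 0, -1, 1], 36),
  ([1, 0, 0, 0, -1, 1, -1, 1], 36),
  ([0, 0, -1, 0, 1, -1, 1, 0], 36),
  ([-1, 0, 1, 0, -1, 0, 1, 0], 36),
  ([-1, 0, 1, -1, 1, 0, 0, -1], 37),
  ([1, 0, 0, 0, -1, 1, 0, -1], 37),
  ([0, 0, -1, 0, 1, 0, -1, 1], 37),
  ([-1, 0, 1, 0, -1, 1, -1, 1], 37),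
  ([1, 0, 0, 0, 0, -1, 0, 1], 37),
  ([0, 0, -1, 1, -1, 0, 1, 0], 37),
  ([0, 0, -1, 0, 1, 0, 0, -1], 38),
  ([-1, 0, 1, 0, -1, 1, 0, -1], 38),
  ([1, 0, 0, 0, 0, -1, 1, -1], 38),
  ([0, 0, -1, 1, -1, 1, -1, 1], 38),
  ([-1, 0, 1, 0, 0, -1, 0, 1], 38),
  ([0, 1, 0, -1, 0, 0, 1, 0], 38),
  ([0, 0, -1, 1, -1, 1, 0, -1], 39),
  ([-1, 0, 1, 0, 0, -1, 1, -1], 39),
  ([1, 0, 0, 0, 0, 0, -1, 0], 39),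
  ([0, 1, 0, -1, 0, 1, -1, 1], 39),
  ([0, 0, -1, 1, 0, -1, 0, 1], 39),
  ([0, -1, 0, 0, 0, 0, 1, 0], 39),
  ([0, 1, 0, -1, 0, 1, 0, -1], 40),
  ([0, 0, -1, 1, 0, -1, 1, -1], 40),
  ([-1, 0, 1, 0, 0, 0, -1, 0], 40),
  ([0, -1, 0, 0, 0, 1, -1, 1], 40),
  ([0, 1, 0, -1, 1, -1, 0, 1], 40),
  ([0, -1, 0, 0, 0, 1, 0, -1], 41),
  ([0, 1, 0, -1, 1, -1, 1, -1], 41),
  ([0, 0, -1, 1, 0, 0, -1, 0], 41),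
  ([0, -1, 0, 0, 1, -1, 0, 1], 41),
  ([0, 1, 0, 0, -1, 0, 0, 1], 41),
  ([0, -1, 0, 0, 1, -1, 1, -1], 42),
  ([0, 1, 0, 0, -1, 0, 1, -1], 42),
  ([0, 1, 0, -1, 1, 0, -1, 0], 42),
  ([0, -1, 0, 1, -1, 0, 0, 1], 42),
  ([0, -1, 0, 1, -1, 0, 1, -1], 43),
  ([0, -1, 0, 0, 1, 0, -1, 0], 43),
  ([0, 1, 0, 0, -1, 1, -1, 0], 43),
  ([0, 0, 1, -1, 0, 0, 0, 1], 43),
  ([0, 0, 1, -1, 0, 0, 1, -1], 44),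
  ([0, -1, 0, 1, -1, 1, -1, 0], 44),
  ([0, 1, 0, 0, 0, -1, 0, 0], 44),
  ([1, 0, -1, 0, 0, 0, 0, 1], 44),
  ([1, 0, -1, 0, 0, 0, 1, -1], 45),
  ([0, 0, 1, -1, 0, 1, -1, 0], 45),
  ([0, -1, 0, 1, 0, -1, 0, 0], 45),
  ([-1, 0, 0, 0, 0, 0, 0, 1], 45),
  ([-1, 0, 0, 0, 0, 0, 1, -1], 46),
  ([1, 0, -1, 0, 0, 1, -1, 0], 46),
  ([0, 0, 1, -1, 1, -1, 0, 0], 46),
  ([-1, 0, 0, 0, 0, 1, -1, 0], 47),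
  ([1, 0, -1, 0, 1, -1, 0, 0], 47),
  ([0, 0, 1, 0, -1, 0, 0, 0], 47),
  ([-1, 0, 0, 0, 1, -1, 0, 0], 48),
  ([1, 0, -1, 1, -1, 0, 0, 0], 48),
  ([-1, 0, 0, 1, -1, 0, 0, 0], 49),
  ([1, 1, 0, -1, 0, 0, 0, 0], 49),
  ([-1, 1, 1, -1, 0, 0, 0, 0], 50),
  ([1, -1, 0, 0, 0, 0, 0, 0], 50),
  ([-1, -1, 1, 0, 0, 0, 0, 0], 51),
  ([0, 1, -1, 0, 0, 0, 0, 0], 51),
  ([0, -1, -1, 1, 0, 0, 0, 0], 52),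
  ([0, 0, 0, -1, 1, 0, 0, 0], 53),
  ([0, 0, 0, 0, -1, 1, 0, 0], 54),
  ([0, 0, 0, 0, 0, -1, 1, 0], 55),
  ([0, 0, 0, 0, 0, 0, -1, 1], 56),
  ([0, 0, 0, 0, 0, 0, 0, -1], 57)]

theorem orb7_ok : orbOK 8 cart 7 orb7 = true := by decide +kernel

/-- All orbits. -/
def orbs : List (List (List ℤ × ℕ)) := [orb0, orb1, orb2, orb3, orb4, orb5, orb6, orb7]

/-- The degrees. -/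
def degs : List ℕ := [2, 8, 12, 14, 18, 20, 24, 30]

theorem poly_ok : polyOK 8 orbs degs = true := by decide +kernel

theorem cart_ok : CartanOK chevE8 cart := by
  unfold CartanOK
  decide +kernel

theorem rank_eq : chevE8.rank = 8 := by decide +kernel

theorem poincare (S : Sys chevE8) (x : ℤ) :
    (x - 1) ^ 8 * ∑ w ∈ S.wfin chevE8.rank, x ^ Sys.wlen w = (degs.map fun d => x ^ d - 1).prod := by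
  have h := S.poincare_weyl cart_ok (orbs := orbs) (by rw [rank_eq]; rfl) (fun k hk => by
    rw [rank_eq] at hk ⊢
    match k, hk with
    | 0, _ => exact orb0_ok
    | 1, _ => exact orb1_ok
    | 2, _ => exact orb2_ok
    | 3, _ => exact orb3_ok
    | 4, _ => exact orb4_ok
    | 5, _ => exact orb5_ok
    | 6, _ => exact orb6_ok
    | 7, _ => exact orb7_ok
    | k + 8, hk => exact absurd hk (Nat.not_lt.2 (Nat.le_add_left 8 k)))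
    (degs := degs) (by rw [rank_eq]; exact poly_ok) x
  have hpow : (x - 1) ^ 8 = (x - 1) ^ chevE8.rank := by rw [rank_eq]
  rw [hpow]
  exact h

end CfsgLib.Chev.PoincareE8
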