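import Cfsg.Agent.Chev.WeaklyClosed
import Cfsg.Agent.Chev.GeoCert

/-! Witnesses for the classification of weakly closed subgroups of `U`. -/

set_option autoImplicit false
set_option maxRecDepth 100000

namespace CfsgLib.Chev

open Cfsg.Lie

/-- Commutator witnesses for the positive roots. -/
def wcWitG2 : List (ℕ × ℕ × ℕ) :=
  [(0, (0, 0)), (0, (0, 0)), (7, (6, 1)), (7, (6, 2)), (7, (6, 3)), (6, (10, 1))]

theorem wcOK_G2 : wcOK chevG2 true wcWitG2 = true := by decide +kernel

/-- Commutator witnesses for the positive roots. -/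
def wcWitB2 : List (ℕ × ℕ × ℕ) :=
  [(0, (0, 0)), (0, (0, 0)), (5, (4, 1)), (5, (4, 2))]

theorem wcOK_B2 : wcOK chevB2 true wcWitB2 = true := by decide +kernel

/-- Commutator witnesses for the positive roots. -/
def wcWitD4 : List (ℕ × ℕ × ℕ) :=
  [(0, (0, 0)), (0, (0, 0)), (0, (0, 0)), (14, (12, 1)), (14, (13, 1)), (13, (15, 1)), (0, (0, 0)), (18, (14, 1)), (18, (15, 1)), (18, (16, 1)), (18, (17, 1)), (14, (22, 1))]

theorem wcOK_D4 : wcOK chevD4 true wcWitD4 = true := by decide +kernel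

/-- Commutator witnesses for the positive roots. -/
def wcWitF4 : List (ℕ × ℕ × ℕ) :=
  [(0, (0, 0)), (0, (0, 0)), (25, (24, 1)), (0, (0, 0)), (27, (25, 1)), (27, (26, 1)), (27, (25, 2)), (24, (30, 1)), (25, (31, 1)), (0, (0, 0)), (33, (27, 1)), (33, (28, 1)), (33, (29, 1)), (33, (30, 1)), (33, (31, 1)), (33, (32, 1)), (27, (39, 1)), (33, (30, 2)), (24, (41, 1)), (25, (42, 1)), (33, (40, 1)), (27, (43, 2)), (25, (45, 1)), (24, (46, 1))]

theorem wcOK_F4 : wcOK chevF4 true wcWitF4 = true := by decide +kernel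

/-- Commutator witnesses for the positive roots. -/
def wcWitE6 : List (ℕ × ℕ × ℕ) :=
  [(0, (0, 0)), (0, (0, 0)), (37, (36, 1)), (0, (0, 0)), (39, (37, 1)), (39, (38, 1)), (0, (0, 0)), (42, (39, 1)), (42, (40, 1)), (42, (41, 1)), (0, (0, 0)), (46, (39, 1)), (46, (40, 1)), (46, (41, 1)), (46, (43, 1)), (46, (44, 1)), (46, (45, 1)), (39, (51, 1)), (39, (52, 1)), (37, (54, 1)), (0, (0, 0)), (56, (42, 1)), (56, (43, 1)), (56, (44, 1)), (56, (45, 1)), (56, (50, 1)), (56, (51, 1)), (56, (52, 1)), (56, (53, 1)), (56, (54, 1)), (56, (55, 1)), (42, (64, 1)), (42, (65, 1)), (42, (66, 1)), (39, (69, 1)), (46, (70, 1))]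

theorem wcOK_E6 : wcOK chevE6 false wcWitE6 = true := by decide +kernel

/-- Commutator witnesses for the positive roots. -/
def wcWitE7 : List (ℕ × ℕ × ℕ) :=
  [(0, (0, 0)), (0, (0, 0)), (64, (63, 1)), (0, (0, 0)), (66, (64, 1)), (66, (65, 1)), (0, (0, 0)), (69, (66, 1)), (69, (67, 1)), (69, (68, 1)), (0, (0, 0)), (73, (69, 1)), (73, (70, 1)), (73, (71, 1)), (73, (72, 1)), (0, (0, 0)), (78, (69, 1)), (78, (70, 1)), (78, (71, 1)), (78, (72, 1)), (78, (74, 1)), (78, (75, 1)), (78, (76, 1)), (78, (77, 1)), (69, (84, 1)), (69, (85, 1)), (69, (86, 1)), (66, (88, 1)), (66, (89, 1)), (64, (91, 1)), (0, (0, 0)), (93, (73, 1)), (93, (74, 1)), (93, (75, 1)), (93, (76, 1)), (93, (77, 1)), (93, (83, 1)), (93, (84, 1)), (93, (85, 1)), (93, (86, 1)), (93, (87, 1)), (93, (88, 1)), (93, (89, 1)), (93, (90, 1)), (93, (91, 1)), (93, (92, 1)), (73, (103, 1)), (73, (104, 1)), (73, (105, 1)), (73, (106, 1)), (73, (107, 1)), (73, (108, 1)), (69, (112, 1)), (69, (113, 1)),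 (69, (114, 1)), (66, (117, 1)), (78, (115, 1)), (78, (116, 1)), (78, (117, 1)), (78, (118, 1)), (69, (122, 1)), (73, (123, 1)), (93, (124, 1))]

theorem wcOK_E7 : wcOK chevE7 false wcWitE7 = true := by decide +kernel

/-- Commutator witnesses for the positive roots. -/
def wcWitE8 : List (ℕ × ℕ × ℕ) :=
  [(0, (0, 0)), (0, (0, 0)), (121, (120, 1)), (0, (0, 0)), (123, (121, 1)), (123, (122, 1)), (0, (0, 0)), (126, (123, 1)), (126, (124, 1)), (126, (125, 1)), (0, (0, 0)), (130, (126, 1)), (130, (127, 1)), (130, (128, 1)), (130, (129, 1)), (0, (0, 0)), (135, (130, 1)), (135, (131, 1)), (135, (132, 1)), (135, (133, 1)), (135, (134, 1)), (0, (0, 0)), (141, (130, 1)), (141, (131, 1)), (141, (132, 1)), (141, (133, 1)), (141, (134, 1)), (141, (136, 1)), (141, (137, 1)), (141, (138, 1)), (141, (139, 1)), (141, (140, 1)), (130, (148, 1)), (130, (149, 1)), (130, (150, 1)), (130, (151, 1)), (126, (153, 1)), (126, (154, 1)), (126, (155, 1)), (123, (157, 1)), (123, (158,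 1)), (121, (160, 1)), (0, (0, 0)), (162, (135, 1)), (162, (136, 1)), (162, (137, 1)), (162, (138, 1)), (162, (139, 1)), (162, (140, 1)), (162, (147, 1)), (162, (148, 1)), (162, (149, 1)), (162, (150, 1)), (162, (151, 1)), (162, (152, 1)), (162, (153, 1)), (162, (154, 1)), (162, (155, 1)), (162, (156, 1)), (162, (157, 1)), (162, (158, 1)), (162, (159, 1)), (162, (160, 1)), (162, (161, 1)), (135, (174, 1)), (135, (175, 1)), (135, (176, 1)), (135, (177, 1)), (135, (178, 1)), (135, (179, 1)), (135, (180, 1)), (135, (181, 1)), (135, (182, 1)), (135, (183, 1)), (130, (188, 1)), (130, (189, 1)), (130, (190, 1)), (130, (191, 1)), (130, (192, 1)), (130, (193, 1)), (126, (197, 1)), (126, (198, 1)), (126, (199, 1)), (123, (202, 1)), (141, (194, 1)), (141, (195, 1)), (141, (196, 1)), (141, (197, 1)), (141, (198, 1)), (141, (199, 1)), (141, (200, 1)), (141, (201, 1)), (141, (202, 1)), (141, (203, 1)), (130, (210, 1)), (130, (211, 1)), (130, (212, 1)), (130, (213, 1)),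 (126, (217, 1)), (135, (214, 1)), (135, (215, 1)), (135, (216, 1)), (135, (217, 1)), (135, (218, 1)), (130, (223, 1)), (141, (224, 1)), (162, (219, 1)), (162, (220, 1)), (162, (221, 1)), (162, (222, 1)), (162, (223, 1)), (162, (224, 1)), (135, (231, 1)), (162, (225, 1)), (141, (232, 1)), (130, (234, 1)), (126, (235, 1)), (123, (236, 1)), (121, (237, 1)), (120, (238, 1))]

theorem wcOK_E8 : wcOK chevE8 false wcWitE8 = true := by decide +kernel

end CfsgLib.Chev
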